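import Mathlib

/-!
# Primes of a local ring of a scheme and generizations (no integrality assumption)
-/

set_option autoImplicit false
universe u

open CategoryTheory AlgebraicGeometry TopologicalSpace Opposite

namespace Groth.Agent.Lib.Helper91.GenPrime

variable {X : Scheme.{u}}

theorem specializes_iff_primeIdealOf_le {U : X.Opens} (hU : IsAffineOpen U) {z z' : X}
    (hz : z ∈ U) (hz' : z' ∈ U) :
    z ⤳ z' ↔ (hU.primeIdealOf ⟨z, hz⟩).asIdeal ≤ (hU.primeIdealOf ⟨z', hz'⟩).asIdeal := by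
  have h1 : (hU.primeIdealOf ⟨z, hz⟩).asIdeal ≤ (hU.primeIdealOf ⟨z', hz'⟩).asIdeal ↔
      hU.primeIdealOf ⟨z, hz⟩ ⤳ hU.primeIdealOf ⟨z', hz'⟩ :=
    PrimeSpectrum.le_iff_specializes _ _
  have h2 := hU.fromSpec.isOpenEmbedding.isInducing.specializes_iff
    (x := hU.primeIdealOf ⟨z, hz⟩) (y := hU.primeIdealOf ⟨z', hz'⟩)
  rw [hU.fromSpec_primeIdealOf, hU.fromSpec_primeIdealOf] at h2
  rw [h1]
  exact h2

/-- the prime of `O_{X,x}` defined by a generization `ζ` of `x` -/
noncomputable def primeOf {ζ x : X} (h : ζ ⤳ x) : Ideal (X.presheaf.stalk x) :=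
  (IsLocalRing.maximalIdeal (X.presheaf.stalk ζ)).comap (X.presheaf.stalkSpecializes h).hom

instance {ζ x : X} (h : ζ ⤳ x) : (primeOf h).IsPrime := by
  unfold primeOf
  infer_instance

/-- **L1**: the local ring at a generization is the localization at the corresponding prime -/
theorem isLocalization_stalkSpecializes {ζ x : X} (h : ζ ⤳ x) :
    letI := (X.presheaf.stalkSpecializes h).hom.toAlgebra
    IsLocalization.AtPrime (X.presheaf.stalk ζ) (primeOf h) := by
  letI algxz := (X.presheaf.stalkSpecializes h).hom.toAlgebra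
  obtain ⟨_, ⟨W, hW, rfl⟩, hxW, -⟩ := (X.isBasis_affineOpens).exists_subset_of_mem_open
    (Set.mem_univ x) isOpen_univ
  have hzW : ζ ∈ W := h.mem_open W.isOpen hxW
  letI ax : Algebra Γ(X, W) (X.presheaf.stalk x) :=
    TopCat.Presheaf.algebra_section_stalk X.presheaf ⟨x, hxW⟩
  haveI lx : IsLocalization.AtPrime (X.presheaf.stalk x) (hW.primeIdealOf ⟨x, hxW⟩).asIdeal :=
    hW.isLocalization_stalk ⟨x, hxW⟩
  letI az : Algebra Γ(X, W) (X.presheaf.stalk ζ) :=
    TopCat.Presheaf.algebra_section_stalk X.presheaf ⟨ζ, hzW⟩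
  haveI lz : IsLocalization.AtPrime (X.presheaf.stalk ζ) (hW.primeIdealOf ⟨ζ, hzW⟩).asIdeal :=
    hW.isLocalization_stalk ⟨ζ, hzW⟩
  haveI tower : IsScalarTower Γ(X, W) (X.presheaf.stalk x) (X.presheaf.stalk ζ) := by
    apply IsScalarTower.of_algebraMap_eq'
    simp_rw [RingHom.algebraMap_toAlgebra]
    change _ = (X.presheaf.germ W x hxW ≫ X.presheaf.stalkSpecializes h).hom
    rw [X.presheaf.germ_stalkSpecializes]
  have hle : (hW.primeIdealOf ⟨ζ, hzW⟩).asIdeal ≤ (hW.primeIdealOf ⟨x, hxW⟩).asIdeal :=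
    (specializes_iff_primeIdealOf_le hW hzW hxW).mp h
  have hMN : (hW.primeIdealOf ⟨x, hxW⟩).asIdeal.primeCompl ≤
      (hW.primeIdealOf ⟨ζ, hzW⟩).asIdeal.primeCompl := fun a ha hmem => ha (hle hmem)
  haveI step1 := IsLocalization.isLocalization_of_submonoid_le (X.presheaf.stalk x)
    (X.presheaf.stalk ζ) (hW.primeIdealOf ⟨x, hxW⟩).asIdeal.primeCompl
    (hW.primeIdealOf ⟨ζ, hzW⟩).asIdeal.primeCompl hMN
  -- membership in `primeOf h`
  have hmem : ∀ a : Γ(X, W), algebraMap Γ(X, W) (X.presheaf.stalk x) a ∈ primeOf h ↔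
      a ∈ (hW.primeIdealOf ⟨ζ, hzW⟩).asIdeal := by
    intro a
    unfold primeOf
    rw [Ideal.mem_comap]
    have : (X.presheaf.stalkSpecializes h).hom (algebraMap Γ(X, W) (X.presheaf.stalk x) a) =
        algebraMap Γ(X, W) (X.presheaf.stalk ζ) a :=
      (IsScalarTower.algebraMap_apply Γ(X, W) (X.presheaf.stalk x) (X.presheaf.stalk ζ) a).symm
    rw [this, IsLocalization.AtPrime.to_map_mem_maximal_iff (X.presheaf.stalk ζ)
      (hW.primeIdealOf ⟨ζ, hzW⟩).asIdeal a]
  show IsLocalization (primeOf h).primeCompl (X.presheaf.stalk ζ)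
  refine IsLocalization.isLocalization_of_is_exists_mul_mem (X.presheaf.stalk ζ)
    ((hW.primeIdealOf ⟨ζ, hzW⟩).asIdeal.primeCompl.map (algebraMap Γ(X, W) (X.presheaf.stalk x)))
    (primeOf h).primeCompl ?_ ?_
  · rintro _ ⟨a, ha, rfl⟩
    show _ ∉ primeOf h
    rw [hmem]
    exact ha
  · rintro ⟨y, hy⟩
    obtain ⟨a, s, rfl⟩ := IsLocalization.exists_mk'_eq
      (hW.primeIdealOf ⟨x, hxW⟩).asIdeal.primeCompl y
    refine ⟨algebraMap Γ(X, W) (X.presheaf.stalk x) s, a, ?_, ?_⟩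
    · show a ∉ _
      intro ha
      apply hy
      have h1 : algebraMap Γ(X, W) (X.presheaf.stalk x) a ∈ primeOf h := (hmem a).mpr ha
      rw [← IsLocalization.mk'_spec (X.presheaf.stalk x) a s] at h1
      rcases (inferInstance : (primeOf h).IsPrime).mem_or_mem h1 with h2 | h2
      · exact h2
      · exfalso
        exact (inferInstance : (primeOf h).IsPrime).ne_top
          (Ideal.eq_top_of_isUnit_mem _ h2 (IsLocalization.map_units (X.presheaf.stalk x) s))
    · simp only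
      rw [mul_comm, IsLocalization.mk'_spec]

end Groth.Agent.Lib.Helper91.GenPrime
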