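import Mathlib
import Groth.Agent.Lib.Helper91.GenPrime

/-!
# Primes of a local ring of a scheme and generizations, II
-/

set_option autoImplicit false
universe u

open CategoryTheory AlgebraicGeometry TopologicalSpace Opposite

namespace Groth.Agent.Lib.Helper91.GenPrime

variable {X : Scheme.{u}}

/-- **L2**: every prime of `O_{X,x}` is the prime of a generization -/
theorem exists_specializes_primeOf_eq (x : X) (p : Ideal (X.presheaf.stalk x)) [hp : p.IsPrime] :
    ∃ (ζ : X) (h : ζ ⤳ x), primeOf h = p := by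
  have hζ : (X.fromSpecStalk x) (⟨p, hp⟩ : PrimeSpectrum (X.presheaf.stalk x)) ⤳ x := by
    have : (X.fromSpecStalk x) (⟨p, hp⟩ : PrimeSpectrum (X.presheaf.stalk x)) ∈
        Set.range (X.fromSpecStalk x) := ⟨_, rfl⟩
    rw [Scheme.range_fromSpecStalk] at this
    exact this
  refine ⟨_, hζ, ?_⟩
  have h1 := Scheme.SpecMap_stalkSpecializes_fromSpecStalk hζ
  have h2 : (X.fromSpecStalk x) (Spec.map (X.presheaf.stalkSpecializes hζ)
      (IsLocalRing.closedPoint _)) =
      (X.fromSpecStalk x) (⟨p, hp⟩ : PrimeSpectrum (X.presheaf.stalk x)) := by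
    rw [← Scheme.Hom.comp_apply, h1, Scheme.fromSpecStalk_closedPoint]
  have h3 := (X.fromSpecStalk x).isEmbedding.injective h2
  exact congrArg PrimeSpectrum.asIdeal h3

theorem ringKrullDim_stalk_eq_height {ζ x : X} (h : ζ ⤳ x) :
    ringKrullDim (X.presheaf.stalk ζ) = (primeOf h).height := by
  letI := (X.presheaf.stalkSpecializes h).hom.toAlgebra
  haveI := isLocalization_stalkSpecializes h
  exact IsLocalization.AtPrime.ringKrullDim_eq_height (primeOf h) (X.presheaf.stalk ζ)

theorem isDomain_of_specializes {ζ x : X} (h : ζ ⤳ x) [IsDomain (X.presheaf.stalk x)] :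
    IsDomain (X.presheaf.stalk ζ) := by
  letI := (X.presheaf.stalkSpecializes h).hom.toAlgebra
  haveI := isLocalization_stalkSpecializes h
  exact IsLocalization.isDomain_of_le_nonZeroDivisors (X.presheaf.stalk ζ)
    (primeOf h).primeCompl_le_nonZeroDivisors

end Groth.Agent.Lib.Helper91.GenPrime
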