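import Mathlib
import Groth.Agent.Lib.Helper91.GenPrime2
import Groth.Agent.Lib.Helper70.AffineStalk

/-!
# Primes of a local ring of a scheme and generizations, III: comparison with affine charts,
and the ideal of an integral closed subscheme
-/

set_option autoImplicit false
universe u

open CategoryTheory AlgebraicGeometry TopologicalSpace Opposite

namespace Groth.Agent.Lib.Helper91.GenPrime

variable {X : Scheme.{u}}

/-- the prime of `O_{X,x}` attached to a generization `ζ` is generated by the prime of `ζ` in an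
affine chart -/
theorem map_germ_primeIdealOf_eq_primeOf {U : X.Opens} (hU : IsAffineOpen U) {ζ x : X}
    (h : ζ ⤳ x) (hx : x ∈ U) :
    (hU.primeIdealOf ⟨ζ, h.mem_open U.isOpen hx⟩).asIdeal.map (X.presheaf.germ U x hx).hom =
      primeOf h := by
  have hzU : ζ ∈ U := h.mem_open U.isOpen hx
  letI ax : Algebra Γ(X, U) (X.presheaf.stalk x) :=
    TopCat.Presheaf.algebra_section_stalk X.presheaf ⟨x, hx⟩
  haveI lx : IsLocalization.AtPrime (X.presheaf.stalk x) (hU.primeIdealOf ⟨x, hx⟩).asIdeal :=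
    hU.isLocalization_stalk ⟨x, hx⟩
  letI az : Algebra Γ(X, U) (X.presheaf.stalk ζ) :=
    TopCat.Presheaf.algebra_section_stalk X.presheaf ⟨ζ, hzU⟩
  haveI lz : IsLocalization.AtPrime (X.presheaf.stalk ζ) (hU.primeIdealOf ⟨ζ, hzU⟩).asIdeal :=
    hU.isLocalization_stalk ⟨ζ, hzU⟩
  have hcomap : (primeOf h).comap (algebraMap Γ(X, U) (X.presheaf.stalk x)) =
      (hU.primeIdealOf ⟨ζ, hzU⟩).asIdeal := by
    have h1 := IsLocalization.AtPrime.comap_maximalIdeal (X.presheaf.stalk ζ)
      (hU.primeIdealOf ⟨ζ, hzU⟩).asIdeal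
    rw [← h1]
    unfold primeOf
    rw [Ideal.comap_comap]
    congr 1
    change (X.presheaf.germ U x hx ≫ X.presheaf.stalkSpecializes h).hom = _
    rw [X.presheaf.germ_stalkSpecializes]
    rfl
  have h2 := IsLocalization.map_comap (hU.primeIdealOf ⟨x, hx⟩).asIdeal.primeCompl
    (X.presheaf.stalk x) (primeOf h)
  have h3 : Ideal.under Γ(X, U) (primeOf h) = (hU.primeIdealOf ⟨ζ, hzU⟩).asIdeal := hcomap
  rw [h3] at h2
  exact h2

end Groth.Agent.Lib.Helper91.GenPrime
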