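import Mathlib
import Groth.Prelude.Def_CAlg

/-!
# Algebraic Hartogs: commutative algebra input

Elementary statements on depth (in the sense of `LocCoh.depth`) of localizations at associated
primes.
-/

set_option autoImplicit false

namespace Groth.Agent.Lib.Helper91.Hartogs

open IsLocalRing

section extract

variable {R : Type*} [CommRing R] [IsLocalRing R]

theorem maximalIdeal_smul_top_ne_top :
    maximalIdeal R • (⊤ : Submodule R R) ≠ ⊤ := by
  rw [smul_eq_mul, Ideal.mul_top]
  exact (maximalIdeal.isMaximal R).ne_top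

/-- a ring of depth `≥ 1` has a regular element in the maximal ideal -/
theorem exists_regular_of_depth (h : (1 : ℕ∞) ≤ LocCoh.depth R R) :
    ∃ r1 ∈ maximalIdeal R, ∀ c : R, r1 * c = 0 → c = 0 := by
  unfold LocCoh.depth LocCoh.idealDepth at h
  rw [if_neg maximalIdeal_smul_top_ne_top] at h
  by_contra hcon
  push Not at hcon
  have : (⨆ (rs : List R) (_ : RingTheory.Sequence.IsWeaklyRegular R rs ∧
      ∀ r ∈ rs, r ∈ maximalIdeal R), (rs.length : ℕ∞)) ≤ 0 := by
    apply iSup₂_le
    rintro rs ⟨hreg, hmem⟩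
    match rs, hreg, hmem with
    | [], _, _ => simp
    | r1 :: rest, hreg, hmem =>
      exfalso
      rw [RingTheory.Sequence.isWeaklyRegular_cons_iff] at hreg
      obtain ⟨h1, -⟩ := hreg
      obtain ⟨c, hc, hc0⟩ := hcon r1 (hmem r1 (by simp))
      apply hc0
      apply h1
      show r1 • c = r1 • 0
      rw [smul_eq_mul, hc, smul_zero]
  have h2 := h.trans this
  norm_num at h2

/-- a ring of depth `≥ 2` has a regular pair in the maximal ideal -/
theorem exists_regular_pair_of_depth (h : (2 : ℕ∞) ≤ LocCoh.depth R R) :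
    ∃ r1 ∈ maximalIdeal R, ∃ r2 ∈ maximalIdeal R, (∀ c : R, r1 * c = 0 → c = 0) ∧
      ∀ c : R, (∃ d, r2 * c = r1 * d) → ∃ e, c = r1 * e := by
  unfold LocCoh.depth LocCoh.idealDepth at h
  rw [if_neg maximalIdeal_smul_top_ne_top] at h
  by_contra hcon
  push Not at hcon
  have : (⨆ (rs : List R) (_ : RingTheory.Sequence.IsWeaklyRegular R rs ∧
      ∀ r ∈ rs, r ∈ maximalIdeal R), (rs.length : ℕ∞)) ≤ 1 := by
    apply iSup₂_le
    rintro rs ⟨hreg, hmem⟩
    match rs, hreg, hmem with
    | [], _, _ => simp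
    | [r], _, _ => simp
    | r1 :: r2 :: rest, hreg, hmem =>
      exfalso
      rw [RingTheory.Sequence.isWeaklyRegular_cons_iff] at hreg
      obtain ⟨h1, hreg'⟩ := hreg
      rw [RingTheory.Sequence.isWeaklyRegular_cons_iff] at hreg'
      obtain ⟨h2, -⟩ := hreg'
      have hr1 : ∀ c : R, r1 * c = 0 → c = 0 := by
        intro c hc
        apply h1
        show r1 • c = r1 • 0
        rw [smul_eq_mul, hc, smul_zero]
      obtain ⟨c, ⟨d, hd⟩, hc⟩ := hcon r1 (hmem r1 (by simp)) r2 (hmem r2 (by simp)) hr1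
      have hzero : (Submodule.Quotient.mk c : QuotSMulTop r1 R) = 0 := by
        apply h2
        show r2 • (Submodule.Quotient.mk c : QuotSMulTop r1 R) = r2 • 0
        rw [smul_zero, ← Submodule.Quotient.mk_smul, Submodule.Quotient.mk_eq_zero, smul_eq_mul,
          hd]
        exact Submodule.smul_mem_pointwise_smul d r1 ⊤ trivial
      rw [Submodule.Quotient.mk_eq_zero, Submodule.mem_smul_pointwise_iff_exists] at hzero
      obtain ⟨w, -, hw⟩ := hzero
      exact hc w hw.symm
  have h2 := h.trans this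
  norm_num at h2

end extract

end Groth.Agent.Lib.Helper91.Hartogs
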