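import Mathlib
import Groth.Prelude.Def_CAlg
import Groth.Agent.Lib.Helper91.HartogsAlg

/-!
# Algebraic Hartogs: depth of localizations at associated primes
-/

set_option autoImplicit false

namespace Groth.Agent.Lib.Helper91.Hartogs

open IsLocalRing

variable {A : Type*} [CommRing A] (q : Ideal A) [hq : q.IsPrime]
  (R : Type*) [CommRing R] [IsLocalRing R] [Algebra A R] [IsLocalization.AtPrime R q]

include hq in
/-- elements of the maximal ideal of the localization are fractions with numerator in `q` -/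
theorem exists_num_of_mem_maximalIdeal {r : R} (hr : r ∈ maximalIdeal R) :
    ∃ a ∈ q, ∃ s : A, s ∉ q ∧ r * algebraMap A R s = algebraMap A R a := by
  obtain ⟨a, s, rfl⟩ := IsLocalization.exists_mk'_eq q.primeCompl r
  refine ⟨a, ?_, s, s.2, IsLocalization.mk'_spec R a s⟩
  rw [← IsLocalization.AtPrime.to_map_mem_maximal_iff R q a, ← IsLocalization.mk'_spec R a s]
  exact Ideal.mul_mem_right _ _ hr

include hq in
theorem isUnit_algebraMap_of_notMem {s : A} (hs : s ∉ q) : IsUnit (algebraMap A R s) :=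
  IsLocalization.map_units R (⟨s, hs⟩ : q.primeCompl)

include hq in
theorem exists_notMem_mul_eq_of_algebraMap_eq {x y : A} (h : algebraMap A R x = algebraMap A R y) :
    ∃ t : A, t ∉ q ∧ t * x = t * y := by
  obtain ⟨t, ht⟩ := (IsLocalization.eq_iff_exists q.primeCompl R).mp h
  exact ⟨t, t.2, ht⟩

/-- **Lemma D0**: the localization at an associated prime has depth zero -/
theorem not_one_le_depth_of_ass (b : A) (hb : ∀ t : A, t * b = 0 ↔ t ∈ q) :
    ¬ (1 : ℕ∞) ≤ LocCoh.depth R R := by
  intro h
  obtain ⟨r1, hr1, hreg⟩ := exists_regular_of_depth h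
  obtain ⟨a, ha, s, hs, has⟩ := exists_num_of_mem_maximalIdeal q R hr1
  have hu := isUnit_algebraMap_of_notMem q R hs
  have h0 : r1 * algebraMap A R b = 0 := by
    apply hu.mul_left_injective
    simp only
    rw [zero_mul, mul_right_comm, has, ← map_mul, (hb a).mpr ha, map_zero]
  have h1 : algebraMap A R b = algebraMap A R 0 := by rw [hreg _ h0, map_zero]
  obtain ⟨t, ht, htb⟩ := exists_notMem_mul_eq_of_algebraMap_eq q R h1
  rw [mul_zero] at htb
  exact ht ((hb t).mp htb)

/-- **Lemma D1**: the localization at an associated prime of `A ⧸ g A`, `g` a non-zero-divisor, has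
depth at most one -/
theorem not_two_le_depth_of_ass_quot (g c : A) (hg : ∀ x : A, g * x = 0 → x = 0)
    (hc : ∀ t : A, (∃ d, t * c = g * d) ↔ t ∈ q) :
    ¬ (2 : ℕ∞) ≤ LocCoh.depth R R := by
  intro h
  obtain ⟨r1, hr1, r2, hr2, hreg1, hreg2⟩ := exists_regular_pair_of_depth h
  -- `g` is regular in `R`
  have hg' : ∀ x : R, algebraMap A R g * x = 0 → x = 0 := by
    intro x hx
    obtain ⟨a, s, rfl⟩ := IsLocalization.exists_mk'_eq q.primeCompl x
    have hu := isUnit_algebraMap_of_notMem q R s.2
    have e1 : algebraMap A R (g * a) = algebraMap A R 0 := by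
      rw [map_mul, map_zero, ← IsLocalization.mk'_spec R a s, ← mul_assoc, hx, zero_mul]
    obtain ⟨t, ht, hta⟩ := exists_notMem_mul_eq_of_algebraMap_eq q R e1
    rw [mul_zero, mul_left_comm] at hta
    have hta0 : t * a = 0 := hg _ hta
    apply hu.mul_left_injective
    simp only
    rw [IsLocalization.mk'_spec, zero_mul]
    have hut := isUnit_algebraMap_of_notMem q R ht
    apply hut.mul_right_injective
    simp only
    rw [← map_mul, hta0, map_zero, mul_zero]
  -- `𝔪 c ⊆ g R`
  have hmc : ∀ r ∈ maximalIdeal R, ∃ d : R, r * algebraMap A R c = algebraMap A R g * d := by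
    intro r hr
    obtain ⟨a, ha, s, hs, has⟩ := exists_num_of_mem_maximalIdeal q R hr
    obtain ⟨d, hd⟩ := (hc a).mpr ha
    obtain ⟨u, hu⟩ := isUnit_algebraMap_of_notMem q R hs
    refine ⟨algebraMap A R d * ((u⁻¹ : Rˣ) : R), ?_⟩
    have : r * algebraMap A R c * (u : R) = algebraMap A R g * algebraMap A R d := by
      rw [hu, mul_right_comm, has, ← map_mul, hd, map_mul]
    calc r * algebraMap A R c = r * algebraMap A R c * (u : R) * ((u⁻¹ : Rˣ) : R) := by
          rw [mul_assoc _ (u : R), Units.mul_inv, mul_one]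
      _ = _ := by rw [this]; ring
  -- `c ∉ g R`
  have hcg : ¬ ∃ d : R, algebraMap A R c = algebraMap A R g * d := by
    rintro ⟨d, hd⟩
    obtain ⟨a, s, rfl⟩ := IsLocalization.exists_mk'_eq q.primeCompl d
    have e1 : algebraMap A R (s * c) = algebraMap A R (g * a) := by
      rw [map_mul, map_mul, hd, ← IsLocalization.mk'_spec R a s]
      ring
    obtain ⟨t, ht, hta⟩ := exists_notMem_mul_eq_of_algebraMap_eq q R e1
    have : t * s ∈ q := (hc (t * s)).mp ⟨t * a, by rw [mul_assoc, hta]; ring⟩
    rcases hq.mem_or_mem this with h | h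
    · exact ht h
    · exact s.2 h
  -- the exchange argument
  obtain ⟨c1, hc1⟩ := hmc r1 hr1
  have hc1' : ¬ ∃ e, c1 = r1 * e := by
    rintro ⟨e, rfl⟩
    apply hcg
    refine ⟨e, ?_⟩
    have : r1 * (algebraMap A R c - algebraMap A R g * e) = 0 := by
      rw [mul_sub, hc1]; ring
    exact sub_eq_zero.mp (hreg1 _ this)
  apply hc1'
  apply hreg2
  obtain ⟨c2, hc2⟩ := hmc r2 hr2
  refine ⟨c2, ?_⟩
  have : algebraMap A R g * (r2 * c1 - r1 * c2) = 0 := by
    have e : algebraMap A R g * (r2 * c1 - r1 * c2) =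
        r2 * (algebraMap A R g * c1) - r1 * (algebraMap A R g * c2) := by ring
    rw [e, ← hc1, ← hc2]; ring
  exact sub_eq_zero.mp (hg' _ this)

end Groth.Agent.Lib.Helper91.Hartogs
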