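import Mathlib
import Groth.Prelude.Def_CAlg
import Groth.Agent.Lib.Helper91.HartogsAlg2

/-!
# Algebraic Hartogs: associated primes input
-/

set_option autoImplicit false

namespace Groth.Agent.Lib.Helper91.Hartogs

variable {A : Type*} [CommRing A] [IsNoetherianRing A]

/-- an ideal not contained in any associated prime contains a non-zero-divisor -/
theorem exists_nonZeroDivisor_mem (I : Ideal A)
    (h : ∀ q ∈ associatedPrimes A A, ¬ I ≤ q) : ∃ g ∈ I, ∀ x : A, g * x = 0 → x = 0 := by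
  by_contra hcon
  push Not at hcon
  have hsub : (I : Set A) ⊆ ⋃ q ∈ associatedPrimes A A, (id q : Ideal A) := by
    intro g hg
    obtain ⟨x, hx, hx0⟩ := hcon g hg
    have : g ∈ { r : A | ∃ x : A, x ≠ 0 ∧ r • x = 0 } := ⟨x, hx0, hx⟩
    rw [← biUnion_associatedPrimes_eq_zero_divisors A A] at this
    exact this
  obtain ⟨q, hq, hIq⟩ := (I.subset_union_prime_finite (associatedPrimes.finite A A) (f := id) 0 0
    fun _ h _ _ ↦ h.1).1 hsub
  exact h q hq hIq

/-- an associated prime of `A ⧸ g A` containing the annihilator of the class of `a ∉ g A` -/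
theorem exists_ass_quot (g a : A) (ha : ¬ ∃ d, a = g * d) :
    ∃ (q : Ideal A) (_ : q.IsPrime) (c : A), (∀ t : A, (∃ d, t * c = g * d) ↔ t ∈ q) ∧
      ∀ t : A, (∃ d, t * a = g * d) → t ∈ q := by
  have key : ∀ z : A, (Ideal.Quotient.mk (Ideal.span {g}) z = 0) ↔ ∃ d, z = g * d := by
    intro z
    rw [Ideal.Quotient.eq_zero_iff_mem, Ideal.mem_span_singleton']
    constructor
    · rintro ⟨d, hd⟩; exact ⟨d, by rw [← hd, mul_comm]⟩
    · rintro ⟨d, hd⟩; exact ⟨d, by rw [hd, mul_comm]⟩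
  have hx : (Ideal.Quotient.mk (Ideal.span {g}) a) ≠ 0 := fun h0 => ha ((key a).mp h0)
  obtain ⟨P, hP, hle⟩ := exists_le_isAssociatedPrime_of_isNoetherianRing A
    (Ideal.Quotient.mk (Ideal.span {g}) a) hx
  rw [isAssociatedPrime_iff] at hP
  obtain ⟨hPp, y, hy⟩ := hP
  obtain ⟨c, rfl⟩ := Ideal.Quotient.mk_surjective y
  refine ⟨P, hPp, c, ?_, ?_⟩
  · intro t
    rw [hy, Submodule.mem_colon_singleton, Submodule.mem_bot, ← key]
    rfl
  · intro t ht
    apply hle
    rw [Submodule.mem_colon_singleton, Submodule.mem_bot]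
    exact (key (t * a)).mpr ht

end Groth.Agent.Lib.Helper91.Hartogs
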