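import Mathlib
import Groth.Prelude.Def_CAlg
import Groth.Agent.Lib.Helper91.HartogsAlg3

/-!
# Algebraic Hartogs: local computations on an affine open
-/

set_option autoImplicit false
universe u

open CategoryTheory AlgebraicGeometry TopologicalSpace Opposite

namespace Groth.Agent.Lib.Helper91.Hartogs

variable {X : Scheme.{u}}

/-- restriction of sections of the structure sheaf -/
noncomputable abbrev res {V V' : X.Opens} (h : V' ≤ V) : Γ(X, V) →+* Γ(X, V') :=
  (X.presheaf.map (homOfLE h).op).hom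

theorem res_res {V V' V'' : X.Opens} (h1 : V' ≤ V) (h2 : V'' ≤ V') (s : Γ(X, V)) :
    res h2 (res h1 s) = res (h2.trans h1) s := by
  simp only [res]
  rw [← CommRingCat.comp_apply, ← Functor.map_comp]
  rfl

theorem algebraMap_basicOpen_eq_res {W : X.Opens} (h : Γ(X, W)) (a : Γ(X, W)) :
    algebraMap Γ(X, W) Γ(X, X.basicOpen h) a = res (X.basicOpen_le h) a := rfl

theorem basicOpen_mul_le_left {W : X.Opens} (h g : Γ(X, W)) :
    X.basicOpen (h * g) ≤ X.basicOpen h := by
  rw [Scheme.basicOpen_mul]; exact inf_le_left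

theorem basicOpen_mul_le_right {W : X.Opens} (h g : Γ(X, W)) :
    X.basicOpen (h * g) ≤ X.basicOpen g := by
  rw [Scheme.basicOpen_mul]; exact inf_le_right

theorem pow_mul_eq_zero {A : Type*} [CommRing A] {g : A} (hg : ∀ x : A, g * x = 0 → x = 0)
    (m : ℕ) {x : A} (h : g ^ m * x = 0) : x = 0 := by
  induction m with
  | zero => simpa using h
  | succ m ih =>
    apply ih
    apply hg
    rw [← mul_assoc, ← pow_succ']
    exact h

/-- **loc0** -/
theorem eq_zero_of_res_basicOpen_mul {W : X.Opens} (hW : IsAffineOpen W) (g h : Γ(X, W))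
    (hg : ∀ x : Γ(X, W), g * x = 0 → x = 0)
    (σ : Γ(X, X.basicOpen h)) (hσ : res (basicOpen_mul_le_left h g) σ = 0) : σ = 0 := by
  haveI := hW.isLocalization_basicOpen h
  haveI := hW.isLocalization_basicOpen (h * g)
  obtain ⟨⟨e, ⟨_, k, rfl⟩⟩, he⟩ := IsLocalization.surj (Submonoid.powers h) σ
  simp only at he
  -- restrict to `D(hg)`
  have he' := congrArg (res (basicOpen_mul_le_left h g)) he
  rw [map_mul, hσ, zero_mul, algebraMap_basicOpen_eq_res, res_res] at he'
  have he0 : algebraMap Γ(X, W) Γ(X, X.basicOpen (h * g)) e = 0 := he'.symm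
  obtain ⟨⟨_, m, rfl⟩, hm⟩ := (IsLocalization.map_eq_zero_iff (Submonoid.powers (h * g))
    Γ(X, X.basicOpen (h * g)) e).mp he0
  simp only at hm
  rw [mul_pow, mul_comm (h ^ m), mul_assoc] at hm
  have hme : h ^ m * e = 0 := pow_mul_eq_zero hg m hm
  have hu : ∀ j : ℕ, IsUnit (algebraMap Γ(X, W) Γ(X, X.basicOpen h) (h ^ j)) := fun j =>
    IsLocalization.map_units Γ(X, X.basicOpen h) (⟨h ^ j, j, rfl⟩ : Submonoid.powers h)
  have h1 : algebraMap Γ(X, W) Γ(X, X.basicOpen h) e = 0 := by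
    apply (hu m).mul_right_injective
    simp only
    rw [← map_mul, hme, map_zero, mul_zero]
  rw [h1] at he
  apply (hu k).mul_left_injective
  simp only
  rw [he, zero_mul]

/-- **loc1** -/
theorem exists_pow_mul_eq {W : X.Opens} (hW : IsAffineOpen W) (g h : Γ(X, W))
    (hg : ∀ x : Γ(X, W), g * x = 0 → x = 0) (n : ℕ) (a : Γ(X, W))
    (σ : Γ(X, X.basicOpen h))
    (hσ : res (basicOpen_mul_le_left h g) σ * res (X.basicOpen_le (h * g)) (g ^ n) =
      res (X.basicOpen_le (h * g)) a) :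
    ∃ (m : ℕ) (d : Γ(X, W)), h ^ m * a = g ^ n * d := by
  haveI := hW.isLocalization_basicOpen h
  have h0 : σ * res (X.basicOpen_le h) (g ^ n) - res (X.basicOpen_le h) a = 0 := by
    apply eq_zero_of_res_basicOpen_mul hW g h hg
    rw [map_sub, map_mul, res_res, res_res, hσ, sub_self]
  obtain ⟨⟨e, ⟨_, k, rfl⟩⟩, he⟩ := IsLocalization.surj (Submonoid.powers h) σ
  simp only at he
  have e1 : algebraMap Γ(X, W) Γ(X, X.basicOpen h) (a * h ^ k) =
      algebraMap Γ(X, W) Γ(X, X.basicOpen h) (e * g ^ n) := by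
    rw [map_mul, map_mul, ← he, algebraMap_basicOpen_eq_res, algebraMap_basicOpen_eq_res,
      algebraMap_basicOpen_eq_res, ← sub_eq_zero.mp h0]
    ring
  obtain ⟨⟨_, m, rfl⟩, hm⟩ := (IsLocalization.eq_iff_exists (Submonoid.powers h)
    Γ(X, X.basicOpen h)).mp e1
  simp only at hm
  refine ⟨m + k, h ^ m * e, ?_⟩
  rw [pow_add, mul_assoc, mul_comm (h ^ k), hm]
  ring

end Groth.Agent.Lib.Helper91.Hartogs
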