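import Mathlib
import Groth.Prelude.Def_CAlg
import Groth.Agent.Lib.Helper91.HartogsSch1

/-!
# Algebraic Hartogs on an affine open of a locally Noetherian scheme
-/

set_option autoImplicit false
universe u

open CategoryTheory AlgebraicGeometry TopologicalSpace Opposite

namespace Groth.Agent.Lib.Helper91.Hartogs

variable {X : Scheme.{u}}

theorem mem_basicOpen_fromSpec_iff {W : X.Opens} (hW : IsAffineOpen W) (h : Γ(X, W))
    (y : PrimeSpectrum Γ(X, W)) : hW.fromSpec y ∈ X.basicOpen h ↔ h ∉ y.asIdeal := by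
  have h1 : hW.fromSpec y ∈ X.basicOpen h ↔ y ∈ hW.fromSpec ⁻¹ᵁ X.basicOpen h := Iff.rfl
  rw [h1, hW.fromSpec_preimage_basicOpen]
  exact PrimeSpectrum.mem_basicOpen _ _

theorem fromSpec_mem {W : X.Opens} (hW : IsAffineOpen W) (y : PrimeSpectrum Γ(X, W)) :
    hW.fromSpec y ∈ W := by
  have := hW.range_fromSpec
  rw [← SetLike.mem_coe, ← this]
  exact Set.mem_range_self y

/-- **inj'**: restriction to `D(g)`, `g` a non-zero-divisor, is injective -/
theorem eq_zero_of_res_basicOpen_eq_zero {W : X.Opens} (hW : IsAffineOpen W) (g : Γ(X, W))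
    (hg : ∀ x : Γ(X, W), g * x = 0 → x = 0) {V : X.Opens} (hVW : V ≤ W)
    (hgV : X.basicOpen g ≤ V) (δ : Γ(X, V)) (h : res hgV δ = 0) : δ = 0 := by
  have hex : ∀ x : V, ∃ f : Γ(X, W), X.basicOpen f ≤ V ∧ ↑x ∈ X.basicOpen f := fun x =>
    hW.exists_basicOpen_le x (hVW x.2)
  choose f hfV hxf using hex
  apply TopCat.Sheaf.eq_of_locally_eq' X.sheaf (fun x : V => X.basicOpen (f x)) V
    (fun x => homOfLE (hfV x))
  · intro x hx
    exact Opens.mem_iSup.mpr ⟨⟨x, hx⟩, hxf ⟨x, hx⟩⟩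
  · intro x
    show res (hfV x) δ = res (hfV x) 0
    rw [map_zero]
    apply eq_zero_of_res_basicOpen_mul hW g (f x) hg
    rw [res_res]
    have : res ((basicOpen_mul_le_left (f x) g).trans (hfV x)) δ =
        res (basicOpen_mul_le_right (f x) g) (res hgV δ) := by
      rw [res_res]
    rw [this, h, map_zero]

variable [IsLocallyNoetherian X] (U : X.Opens)
  (hdepth : ∀ x : X, x ∉ U →
    (2 : ℕ∞) ≤ LocCoh.depth (X.presheaf.stalk x) (X.presheaf.stalk x))

include hdepth in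
theorem exists_nonZeroDivisor_basicOpen_le {W : X.Opens} (hW : IsAffineOpen W) :
    ∃ g : Γ(X, W), (∀ x : Γ(X, W), g * x = 0 → x = 0) ∧ X.basicOpen g ≤ U := by
  haveI : IsNoetherianRing Γ(X, W) := IsLocallyNoetherian.component_noetherian ⟨W, hW⟩
  obtain ⟨C, hC, hCmem⟩ : ∃ C : Set (PrimeSpectrum Γ(X, W)), IsClosed C ∧
      ∀ y : PrimeSpectrum Γ(X, W), y ∈ C ↔ hW.fromSpec y ∉ U :=
    ⟨hW.fromSpec ⁻¹' ((U : Set X)ᶜ),
      (U.isOpen.isClosed_compl).preimage hW.fromSpec.continuous, fun y => Iff.rfl⟩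
  have hz : PrimeSpectrum.zeroLocus (PrimeSpectrum.vanishingIdeal C : Set Γ(X, W)) = C := by
    rw [PrimeSpectrum.zeroLocus_vanishingIdeal_eq_closure, hC.closure_eq]
  have hass : ∀ q ∈ associatedPrimes Γ(X, W) Γ(X, W),
      ¬ PrimeSpectrum.vanishingIdeal C ≤ q := by
    intro q hq hIq
    rw [AssociatedPrimes.mem_iff, isAssociatedPrime_iff] at hq
    obtain ⟨hqp, b, hb⟩ := hq
    have hyC : (⟨q, hqp⟩ : PrimeSpectrum Γ(X, W)) ∈ C := by
      rw [← hz, PrimeSpectrum.mem_zeroLocus]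
      exact hIq
    rw [hCmem] at hyC
    have hyW := fromSpec_mem hW ⟨q, hqp⟩
    letI alg : Algebra Γ(X, W) (X.presheaf.stalk (hW.fromSpec ⟨q, hqp⟩)) :=
      TopCat.Presheaf.algebra_section_stalk X.presheaf ⟨hW.fromSpec ⟨q, hqp⟩, hyW⟩
    haveI : IsLocalization.AtPrime (X.presheaf.stalk (hW.fromSpec ⟨q, hqp⟩)) q :=
      hW.isLocalization_stalk' ⟨q, hqp⟩ hyW
    refine not_one_le_depth_of_ass q (X.presheaf.stalk (hW.fromSpec ⟨q, hqp⟩)) b ?_
      ((by norm_num : (1 : ℕ∞) ≤ 2).trans (hdepth _ hyC))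
    intro t
    rw [hb, Submodule.mem_colon_singleton, Submodule.mem_bot, smul_eq_mul]
  obtain ⟨g, hgI, hg⟩ := exists_nonZeroDivisor_mem _ hass
  refine ⟨g, hg, ?_⟩
  intro x hx
  by_contra hxU
  have hxW : x ∈ W := X.basicOpen_le g hx
  have hmem : hW.primeIdealOf ⟨x, hxW⟩ ∈ C := by
    rw [hCmem, hW.fromSpec_primeIdealOf]
    exact hxU
  rw [← hz, PrimeSpectrum.mem_zeroLocus] at hmem
  have hgq : g ∈ (hW.primeIdealOf ⟨x, hxW⟩).asIdeal := hmem hgI
  have hx' : hW.fromSpec (hW.primeIdealOf ⟨x, hxW⟩) ∈ X.basicOpen g := by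
    rw [hW.fromSpec_primeIdealOf]; exact hx
  exact (mem_basicOpen_fromSpec_iff hW g _).mp hx' hgq

include hdepth in
/-- affine Hartogs, injectivity -/
theorem res_injective_affine {W : X.Opens} (hW : IsAffineOpen W) :
    Function.Injective (res (inf_le_left : W ⊓ U ≤ W)) := by
  rw [injective_iff_map_eq_zero]
  intro s hs
  obtain ⟨g, hg, hgU⟩ := exists_nonZeroDivisor_basicOpen_le U hdepth hW
  apply eq_zero_of_res_basicOpen_eq_zero hW g hg le_rfl (X.basicOpen_le g)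
  have : res (X.basicOpen_le g) s =
      res (le_inf (X.basicOpen_le g) hgU : X.basicOpen g ≤ W ⊓ U) (res inf_le_left s) := by
    rw [res_res]
  rw [this, hs, map_zero]

end Groth.Agent.Lib.Helper91.Hartogs
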