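import Mathlib
import Groth.Agent.Lib.Helper91.GenPrime5
import Groth.Agent.Lib.Helper91.HartogsSch2

/-!
# Maximal points of closed subsets of locally Noetherian schemes
-/

set_option autoImplicit false
universe u

open CategoryTheory AlgebraicGeometry TopologicalSpace Opposite

namespace Groth.Agent.Lib.Helper91.MaxPoint

variable {X : Scheme.{u}}

theorem mem_basicOpen_iff_notMem_primeIdealOf {W : X.Opens} (hW : IsAffineOpen W) (a : Γ(X, W))
    (x : X) (hx : x ∈ W) : x ∈ X.basicOpen a ↔ a ∉ (hW.primeIdealOf ⟨x, hx⟩).asIdeal := by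
  have h := Groth.Agent.Lib.Helper91.Hartogs.mem_basicOpen_fromSpec_iff hW a
    (hW.primeIdealOf ⟨x, hx⟩)
  rw [hW.fromSpec_primeIdealOf ⟨x, hx⟩] at h
  exact h

/-- around a maximal point `ξ` of the support of an ideal sheaf there is an affine open in which the
support consists of specializations of `ξ` -/
theorem exists_affine_nhd_of_maximal [IsLocallyNoetherian X] (𝓘 : X.IdealSheafData) (ξ : X)
    (hξ : ξ ∈ 𝓘.support) (hgen : ∀ y ∈ (𝓘.support : Set X), y ⤳ ξ → y = ξ) :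
    ∃ W : X.Opens, IsAffineOpen W ∧ ξ ∈ W ∧ ∀ x ∈ W, x ∈ 𝓘.support → ξ ⤳ x := by
  classical
  obtain ⟨_, ⟨W₀, hW₀, rfl⟩, hξW₀, -⟩ := (X.isBasis_affineOpens).exists_subset_of_mem_open
    (Set.mem_univ ξ) isOpen_univ
  haveI : IsNoetherianRing Γ(X, W₀) := IsLocallyNoetherian.component_noetherian ⟨W₀, hW₀⟩
  have hmin := Groth.Agent.Lib.Helper70.primeIdealOf_mem_minimalPrimes 𝓘 ⟨W₀, hW₀⟩ ξ hξW₀ hξ hgen
  set q := (hW₀.primeIdealOf ⟨ξ, hξW₀⟩).asIdeal with hq
  set I := 𝓘.ideal ⟨W₀, hW₀⟩ with hI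
  have hfin : (I.minimalPrimes \ {q}).Finite :=
    (Ideal.finite_minimalPrimes_of_isNoetherianRing Γ(X, W₀) I).subset Set.diff_subset
  have hnot : ¬ (hfin.toFinset.inf id ≤ q) := by
    intro hle
    rw [Ideal.IsPrime.inf_le' (hW₀.primeIdealOf ⟨ξ, hξW₀⟩).isPrime] at hle
    obtain ⟨Q, hQ, hQq⟩ := hle
    rw [Set.Finite.mem_toFinset] at hQ
    apply hQ.2
    have : Q = q := le_antisymm hQq (hmin.2 hQ.1.1 hQq)
    exact this
  obtain ⟨a, haJ, haq⟩ := SetLike.not_le_iff_exists.mp hnot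
  refine ⟨X.basicOpen a, hW₀.basicOpen a, ?_, ?_⟩
  · exact (mem_basicOpen_iff_notMem_primeIdealOf hW₀ a ξ hξW₀).mpr haq
  · intro x hx hxs
    have hxW₀ : x ∈ W₀ := X.basicOpen_le a hx
    have hax := (mem_basicOpen_iff_notMem_primeIdealOf hW₀ a x hxW₀).mp hx
    have hIx := (Groth.Agent.Lib.Helper70.mem_support_iff_le_primeIdealOf 𝓘 ⟨W₀, hW₀⟩ x hxW₀).mp hxs
    obtain ⟨Q, hQ, hQx⟩ := Ideal.exists_minimalPrimes_le hIx
    have hQq : Q = q := by
      by_contra hne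
      apply hax
      apply hQx
      have hQmem : Q ∈ hfin.toFinset := by
        rw [Set.Finite.mem_toFinset]
        exact ⟨hQ, hne⟩
      exact (Finset.inf_le hQmem : hfin.toFinset.inf id ≤ id Q) haJ
    rw [Groth.Agent.Lib.Helper91.GenPrime.specializes_iff_primeIdealOf_le hW₀ hξW₀ hxW₀]
    rw [← hq, ← hQq]
    exact hQx

end Groth.Agent.Lib.Helper91.MaxPoint
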