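import Mathlib

/-!
# Spreading out a regular sequence from a localization at a prime to a basic open neighbourhood
-/

set_option autoImplicit false
universe u

open RingTheory.Sequence

namespace Groth.Agent.Lib.Helper91.RegSpread

/-- ideal-theoretic reformulation of weak regularity of a sequence on the ring itself -/
theorem isWeaklyRegular_iff_forall {R : Type*} [CommRing R] (rs : List R) :
    IsWeaklyRegular R rs ↔ ∀ (k : ℕ) (hk : k < rs.length) (y : R),
      rs[k] * y ∈ Ideal.ofList (rs.take k) → y ∈ Ideal.ofList (rs.take k) := by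
  rw [isWeaklyRegular_iff]
  refine forall_congr' fun k => forall_congr' fun hk => ?_
  rw [isSMulRegular_quotient_iff_mem_of_smul_mem]
  have h : (Ideal.ofList (rs.take k) • ⊤ : Submodule R R) = Ideal.ofList (rs.take k) := by
    rw [smul_eq_mul, Ideal.mul_top]
  rw [h]
  rfl

theorem exists_mul_mem {A : Type*} [CommRing A] (M : Submonoid A) (S : Type*) [CommRing S]
    [Algebra A S] [IsLocalization M S] (I J : Ideal A) (hI : I.FG)
    (h : ∀ y ∈ I, algebraMap A S y ∈ J.map (algebraMap A S)) :
    ∃ g ∈ M, ∀ y ∈ I, g * y ∈ J := by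
  classical
  obtain ⟨T, rfl⟩ := hI
  have h' : ∀ y ∈ T, ∃ s ∈ M, s * y ∈ J := fun y hy =>
    (IsLocalization.algebraMap_mem_map_algebraMap_iff M S J y).mp (h y (Ideal.subset_span hy))
  choose! s hsM hs using h'
  refine ⟨∏ y ∈ T, s y, prod_mem (fun y hy => hsM y hy), fun y hy => ?_⟩
  refine Submodule.span_induction ?_ ?_ ?_ ?_ hy
  · intro y hy
    rw [← Finset.mul_prod_erase T s hy, mul_right_comm]
    exact J.mul_mem_right _ (hs y hy)
  · simp
  · intro a b _ _ ha hb
    rw [mul_add]
    exact J.add_mem ha hb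
  · intro c a _ ha
    rw [smul_eq_mul, mul_left_comm]
    exact J.mul_mem_left _ ha

theorem exists_colon {A : Type*} [CommRing A] [IsNoetherianRing A] (M : Submonoid A) (S : Type*)
    [CommRing S] [Algebra A S] [IsLocalization M S] (b : List A)
    (hb : IsWeaklyRegular S (b.map (algebraMap A S))) :
    ∃ g ∈ M, ∀ (k : ℕ) (hk : k < b.length) (y : A),
      b[k] * y ∈ Ideal.ofList (b.take k) → g * y ∈ Ideal.ofList (b.take k) := by
  rw [isWeaklyRegular_iff_forall] at hb
  have key : ∀ k : Fin b.length, ∃ g ∈ M, ∀ y : A,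
      b[k] * y ∈ Ideal.ofList (b.take k) → g * y ∈ Ideal.ofList (b.take k) := by
    intro k
    let C : Ideal A := Submodule.comap (LinearMap.mulLeft A (b[k])) (Ideal.ofList (b.take k))
    have hC : ∀ y, y ∈ C ↔ b[k] * y ∈ Ideal.ofList (b.take k) := fun y => Iff.rfl
    obtain ⟨g, hgM, hg⟩ := exists_mul_mem M S C (Ideal.ofList (b.take k))
      (IsNoetherian.noetherian C) (by
        intro y hy
        rw [hC] at hy
        have hk' : (k : ℕ) < (b.map (algebraMap A S)).length := by
          rw [List.length_map]; exact k.2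
        have h1 := hb k hk' (algebraMap A S y)
        rw [List.getElem_map, ← List.map_take, ← Ideal.map_ofList, ← map_mul] at h1
        exact h1 (Ideal.mem_map_of_mem _ hy))
    exact ⟨g, hgM, fun y hy => hg y ((hC y).mpr hy)⟩
  choose g hgM hg using key
  refine ⟨∏ k : Fin b.length, g k, prod_mem (fun k _ => hgM k), fun k hk y hy => ?_⟩
  rw [← Finset.mul_prod_erase Finset.univ g (Finset.mem_univ ⟨k, hk⟩), mul_right_comm]
  exact Ideal.mul_mem_right _ _ (hg ⟨k, hk⟩ y hy)

theorem isWeaklyRegular_away {A : Type*} [CommRing A] (g : A) (S : Type*) [CommRing S]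
    [Algebra A S] [IsLocalization.Away g S] (b : List A)
    (hg : ∀ (k : ℕ) (hk : k < b.length) (y : A),
      b[k] * y ∈ Ideal.ofList (b.take k) → g * y ∈ Ideal.ofList (b.take k)) :
    IsWeaklyRegular S (b.map (algebraMap A S)) := by
  rw [isWeaklyRegular_iff_forall]
  intro k hk y' hy'
  have hk' : k < b.length := by rw [List.length_map] at hk; exact hk
  rw [List.getElem_map, ← List.map_take, ← Ideal.map_ofList] at hy'
  rw [← List.map_take, ← Ideal.map_ofList]
  obtain ⟨y, s, rfl⟩ := IsLocalization.exists_mk'_eq (Submonoid.powers g) y'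
  rw [IsLocalization.mul_mk'_eq_mk'_of_mul,
    IsLocalization.mk'_mem_map_algebraMap_iff (Submonoid.powers g)] at hy'
  obtain ⟨m, hm, hmy⟩ := hy'
  rw [IsLocalization.mk'_mem_map_algebraMap_iff (Submonoid.powers g)]
  refine ⟨g * m, mul_mem (Submonoid.mem_powers g) hm, ?_⟩
  rw [mul_assoc]
  apply hg k hk'
  rw [mul_left_comm]
  exact hmy

theorem map_eq_ofList_away {A : Type*} [CommRing A] (g : A) (S : Type*) [CommRing S]
    [Algebra A S] [IsLocalization.Away g S] (I : Ideal A) (b : List A)
    (h1 : ∀ y ∈ I, g * y ∈ Ideal.ofList b) (h2 : ∀ y ∈ Ideal.ofList b, g * y ∈ I) :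
    I.map (algebraMap A S) = Ideal.ofList (b.map (algebraMap A S)) := by
  rw [← Ideal.map_ofList]
  apply le_antisymm
  · rw [Ideal.map_le_iff_le_comap]
    intro y hy
    rw [Ideal.mem_comap]
    exact (IsLocalization.algebraMap_mem_map_algebraMap_iff (Submonoid.powers g) S _ y).mpr
      ⟨g, Submonoid.mem_powers g, h1 y hy⟩
  · rw [Ideal.map_le_iff_le_comap]
    intro y hy
    rw [Ideal.mem_comap]
    exact (IsLocalization.algebraMap_mem_map_algebraMap_iff (Submonoid.powers g) S _ y).mpr
      ⟨g, Submonoid.mem_powers g, h2 y hy⟩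

/-- spreading out: a sequence which is weakly regular in the localization at `p` and generates
the localization of `I` does so on a basic open neighbourhood -/
theorem exists_away (A : Type u) [CommRing A] [IsNoetherianRing A] (p : Ideal A) [p.IsPrime]
    (Ap : Type*) [CommRing Ap] [Algebra A Ap] [IsLocalization.AtPrime Ap p]
    (I : Ideal A) (b : List A) (hreg : IsWeaklyRegular Ap (b.map (algebraMap A Ap)))
    (hI : I.map (algebraMap A Ap) = Ideal.ofList (b.map (algebraMap A Ap))) :
    ∃ g : A, g ∉ p ∧ ∀ (S : Type u) [CommRing S] [Algebra A S] [IsLocalization.Away g S],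
      IsWeaklyRegular S (b.map (algebraMap A S)) ∧
        I.map (algebraMap A S) = Ideal.ofList (b.map (algebraMap A S)) := by
  obtain ⟨g0, hg0M, hg0⟩ := exists_colon p.primeCompl Ap b hreg
  rw [← Ideal.map_ofList] at hI
  obtain ⟨g1, hg1M, hg1⟩ := exists_mul_mem p.primeCompl Ap I (Ideal.ofList b)
    (IsNoetherian.noetherian I) (fun y hy => hI ▸ Ideal.mem_map_of_mem _ hy)
  obtain ⟨g2, hg2M, hg2⟩ := exists_mul_mem p.primeCompl Ap (Ideal.ofList b) I
    (IsNoetherian.noetherian _) (fun y hy => hI ▸ Ideal.mem_map_of_mem _ hy)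
  refine ⟨g0 * g1 * g2, (mul_mem (mul_mem hg0M hg1M) hg2M : _ ∈ p.primeCompl), ?_⟩
  intro S _ _ _
  refine ⟨isWeaklyRegular_away (g0 * g1 * g2) S b ?_,
    map_eq_ofList_away (g0 * g1 * g2) S I b ?_ ?_⟩
  · intro k hk y hy
    have := hg0 k hk y hy
    have e : g0 * g1 * g2 * y = (g1 * g2) * (g0 * y) := by ring
    rw [e]
    exact Ideal.mul_mem_left _ _ this
  · intro y hy
    have := hg1 y hy
    have e : g0 * g1 * g2 * y = (g0 * g2) * (g1 * y) := by ring
    rw [e]
    exact Ideal.mul_mem_left _ _ this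
  · intro y hy
    have := hg2 y hy
    rw [mul_assoc]
    exact Ideal.mul_mem_left _ _ this

end Groth.Agent.Lib.Helper91.RegSpread
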