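import Mathlib
import Groth.Prelude.Def_Mor2
import Groth.Agent.Lib.Helper91.RegSpread

/-!
# The composite of two regular closed immersions is a regular closed immersion
-/

set_option autoImplicit false
universe u

open CategoryTheory AlgebraicGeometry TopologicalSpace Opposite RingTheory.Sequence

namespace Groth.Agent.Lib.Helper91.RegImmCompose

open Groth.Agent.Lib.Helper91.RegSpread

/-- concatenating a weakly regular sequence generating the kernel of a surjection with lifts of a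
weakly regular sequence on the target -/
theorem isWeaklyRegular_append {A B : Type*} [CommRing A] [CommRing B] (π : A →+* B)
    (hπ : Function.Surjective π) (as cs : List A) (has : IsWeaklyRegular A as)
    (hker : RingHom.ker π = Ideal.ofList as) (hcs : IsWeaklyRegular B (cs.map π)) :
    IsWeaklyRegular A (as ++ cs) := by
  rw [isWeaklyRegular_iff_forall] at has hcs ⊢
  intro k hk y hy
  by_cases hka : k < as.length
  · rw [List.getElem_append_left hka] at hy
    rw [List.take_append_of_le_length hka.le] at hy ⊢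
    exact has k hka y hy
  · push_neg at hka
    obtain ⟨m, rfl⟩ : ∃ m, k = as.length + m := ⟨k - as.length, by omega⟩
    have hm : m < cs.length := by
      rw [List.length_append] at hk; omega
    have htake : (as ++ cs).take (as.length + m) = as ++ cs.take m := by
      rw [List.take_append]
      simp
    have hget : (as ++ cs)[as.length + m] = cs[m] := by
      rw [List.getElem_append_right (by omega)]
      simp
    rw [hget, htake] at hy
    rw [htake]
    have hJ : Ideal.ofList (as ++ cs.take m) =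
        (Ideal.ofList ((cs.map π).take m)).comap π := by
      rw [← List.map_take, ← Ideal.map_ofList, Ideal.comap_map_of_surjective π hπ,
        Ideal.ofList_append, sup_comm, ← hker]
      rfl
    rw [hJ, Ideal.mem_comap] at hy ⊢
    have hm' : m < (cs.map π).length := by rw [List.length_map]; exact hm
    have := hcs m hm' (π y)
    rw [List.getElem_map, ← map_mul] at this
    exact this hy

variable {X Y Z : Scheme.{u}}

theorem ker_ideal_ne_top (i : Z ⟶ X) [IsClosedImmersion i] (U : X.affineOpens) (z : Z)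
    (hz : i z ∈ U.1) : i.ker.ideal U ≠ ⊤ := by
  intro h
  have h1 : (1 : Γ(X, U.1)) ∈ i.ker.ideal U := by rw [h]; trivial
  rw [Scheme.Hom.ker_apply, RingHom.mem_ker, map_one] at h1
  have hz' : z ∈ i ⁻¹ᵁ U.1 := hz
  have h2 : z ∈ Z.basicOpen (1 : Γ(Z, i ⁻¹ᵁ U.1)) := by
    rw [Scheme.basicOpen_of_isUnit _ isUnit_one]; exact hz'
  rw [h1, Scheme.basicOpen_zero] at h2
  exact h2

theorem localize (𝓘 : X.IdealSheafData) (U : X.affineOpens) (rs : List Γ(X, U.1))
    (hreg : IsWeaklyRegular Γ(X, U.1) rs) (hI : 𝓘.ideal U = Ideal.ofList rs) (f : Γ(X, U.1)) :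
    IsWeaklyRegular Γ(X, X.basicOpen f)
        (rs.map (X.presheaf.map (homOfLE (X.basicOpen_le f)).op).hom) ∧
      𝓘.ideal (X.affineBasicOpen f) =
        Ideal.ofList (rs.map (X.presheaf.map (homOfLE (X.basicOpen_le f)).op).hom) := by
  letI alg : Algebra Γ(X, U.1) Γ(X, X.basicOpen f) :=
    (X.presheaf.map (homOfLE (X.basicOpen_le f)).op).hom.toAlgebra
  haveI loc : IsLocalization.Away f Γ(X, X.basicOpen f) := U.2.isLocalization_basicOpen f
  refine ⟨hreg.of_isLocalization Γ(X, X.basicOpen f) (Submonoid.powers f), ?_⟩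
  rw [← 𝓘.map_ideal_basicOpen U f, hI, Ideal.map_ofList]

theorem transport (𝓘 : X.IdealSheafData) (U U' : X.affineOpens) (h : U'.1 = U.1)
    (rs : List Γ(X, U.1)) (hreg : IsWeaklyRegular Γ(X, U.1) rs)
    (hI : 𝓘.ideal U = Ideal.ofList rs) :
    ∃ rs' : List Γ(X, U'.1), IsWeaklyRegular Γ(X, U'.1) rs' ∧ 𝓘.ideal U' = Ideal.ofList rs' := by
  obtain rfl : U' = U := Subtype.ext h
  exact ⟨rs, hreg, hI⟩

theorem comp (i : Z ⟶ Y) (j : Y ⟶ X) (hi : Mor2.IsRegularClosedImmersion i)
    (hj : Mor2.IsRegularClosedImmersion j) : Mor2.IsRegularClosedImmersion (i ≫ j) := by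
  haveI := hi.1
  haveI := hj.1
  refine ⟨inferInstance, fun z => ?_⟩
  obtain ⟨U₁, hU₁, hzU₁, as, has, hIa⟩ := hj.2 (i z)
  obtain ⟨V, hV, hzV, bs, hbs, hIb⟩ := hi.2 z
  have hjU₁ : IsAffineOpen (j ⁻¹ᵁ U₁) := hU₁.preimage j
  obtain ⟨g₀, h, hgh, hzW⟩ := exists_basicOpen_le_affine_inter hjU₁ hV (i z) ⟨hzU₁, hzV⟩
  obtain ⟨g', hg'⟩ := j.app_surjective U₁ hU₁ g₀
  have hpre : j ⁻¹ᵁ X.basicOpen g' = Y.basicOpen h := by
    rw [Scheme.preimage_basicOpen, hg', hgh]
  -- data on `X.basicOpen g'`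
  obtain ⟨has', hIa'⟩ := localize j.ker ⟨U₁, hU₁⟩ as has.1 hIa g'
  -- data on `Y.basicOpen h`
  obtain ⟨hbs', hIb'⟩ := localize i.ker ⟨V, hV⟩ bs hbs.1 hIb h
  have hUaff : IsAffineOpen (X.basicOpen g') := hU₁.basicOpen g'
  obtain ⟨bs'', hbs'', hIb''⟩ := transport i.ker (Y.affineBasicOpen (U := ⟨V, hV⟩) h)
    ⟨j ⁻¹ᵁ X.basicOpen g', hUaff.preimage j⟩ hpre _ hbs' hIb'
  have hπ : Function.Surjective (j.app (X.basicOpen g')).hom := j.app_surjective _ hUaff
  obtain ⟨cs, hcs⟩ := (List.map_surjective_iff.mpr hπ) bs''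
  have hkerπ : RingHom.ker (j.app (X.basicOpen g')).hom =
      Ideal.ofList (as.map (X.presheaf.map (homOfLE (X.basicOpen_le g')).op).hom) := by
    rw [← hIa', Scheme.Hom.ker_apply]
    rfl
  have hzU : (i ≫ j) z ∈ X.basicOpen g' := by
    have : i z ∈ j ⁻¹ᵁ X.basicOpen g' := by rw [hpre, ← hgh]; exact hzW
    exact this
  have hideal : (i ≫ j).ker.ideal ⟨X.basicOpen g', hUaff⟩ =
      Ideal.ofList (as.map (X.presheaf.map (homOfLE (X.basicOpen_le g')).op).hom ++ cs) := by
    rw [Scheme.Hom.ker_apply]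
    have h1 : RingHom.ker ((i ≫ j).app (X.basicOpen g')).hom =
        (RingHom.ker (i.app (j ⁻¹ᵁ X.basicOpen g')).hom).comap (j.app (X.basicOpen g')).hom := by
      ext a
      rw [RingHom.mem_ker, Ideal.mem_comap, RingHom.mem_ker]
      exact Iff.rfl
    have h2 : RingHom.ker (i.app (j ⁻¹ᵁ X.basicOpen g')).hom = Ideal.ofList bs'' := by
      rw [← hIb'', Scheme.Hom.ker_apply]
    show RingHom.ker ((i ≫ j).app (X.basicOpen g')).hom = _
    rw [h1, h2, ← hcs, ← Ideal.map_ofList,
      Ideal.comap_map_of_surjective _ hπ, Ideal.ofList_append, sup_comm, ← hkerπ]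
    rfl
  refine ⟨X.basicOpen g', hUaff, hzU, _, ⟨isWeaklyRegular_append _ hπ _ cs has' hkerπ
    (hcs ▸ hbs''), ?_⟩, hideal⟩
  intro htop
  rw [smul_eq_mul, Ideal.mul_top] at htop
  exact ker_ideal_ne_top (i ≫ j) ⟨X.basicOpen g', hUaff⟩ z hzU (hideal.trans htop.symm)

end Groth.Agent.Lib.Helper91.RegImmCompose
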