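import Mathlib
import Groth.Prelude.Def_Mor2
import Groth.Agent.Lib.Helper91.RegImmCompose
import Groth.Agent.Lib.Helper20.IdealComap

/-!
# Flat base change of a regular closed immersion
-/

set_option autoImplicit false
universe u

open CategoryTheory CategoryTheory.Limits AlgebraicGeometry TopologicalSpace Opposite
  RingTheory.Sequence

namespace Groth.Agent.Lib.Helper91.RegImmBaseChange

variable {X X' Y : Scheme.{u}}

theorem ker_pullback_snd (f : Y ⟶ X) (g : X' ⟶ X) [IsClosedImmersion f] :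
    (pullback.snd f g).ker = f.ker.comap g := by
  unfold Scheme.IdealSheafData.comap
  let e2 : pullback g f ⟶ pullback g f.imageι :=
    pullback.map g f g f.imageι (𝟙 _) f.toImage (𝟙 _) (by simp) (by simp)
  haveI : IsIso e2 := by
    dsimp only [e2]
    infer_instance
  have h1 : pullback.snd f g = ((pullbackSymmetry f g).hom ≫ e2) ≫ pullback.fst g f.imageι := by
    rw [Category.assoc]
    dsimp only [e2]
    rw [pullback.lift_fst, Category.comp_id, pullbackSymmetry_hom_comp_fst]
  rw [h1, Scheme.Hom.ker_comp_of_isIso]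

theorem baseChange (f : Y ⟶ X) (g : X' ⟶ X) [Flat g] (hf : Mor2.IsRegularClosedImmersion f) :
    Mor2.IsRegularClosedImmersion (pullback.snd f g) := by
  haveI := hf.1
  refine ⟨inferInstance, fun z' => ?_⟩
  have hcond : f ((pullback.fst f g) z') = g ((pullback.snd f g) z') := by
    have := congr($(pullback.condition (f := f) (g := g)) z')
    simpa using this
  obtain ⟨U, hU, hzU, rs, hreg, hI⟩ := hf.2 ((pullback.fst f g) z')
  rw [hcond] at hzU
  obtain ⟨U', hU', hzU', hU'le⟩ := exists_isAffineOpen_mem_and_subset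
    (x := (pullback.snd f g) z') (U := g ⁻¹ᵁ U) hzU
  have hflat : (g.appLE U U' hU'le).hom.Flat := Scheme.Hom.flat_appLE g hU hU' hU'le
  letI alg : Algebra Γ(X, U) Γ(X', U') := (g.appLE U U' hU'le).hom.toAlgebra
  haveI : Module.Flat Γ(X, U) Γ(X', U') := hflat
  have hideal : (pullback.snd f g).ker.ideal ⟨U', hU'⟩ =
      Ideal.ofList (rs.map (algebraMap Γ(X, U) Γ(X', U'))) := by
    rw [ker_pullback_snd, Groth.Agent.Lib.Helper20.ideal_comap g f.ker ⟨U', hU'⟩ ⟨U, hU⟩ hU'le,
      hI, Ideal.map_ofList]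
    rfl
  refine ⟨U', hU', hzU', rs.map (algebraMap Γ(X, U) Γ(X', U')), ⟨hreg.1.of_flat, ?_⟩, hideal⟩
  intro htop
  rw [smul_eq_mul, Ideal.mul_top] at htop
  exact Groth.Agent.Lib.Helper91.RegImmCompose.ker_ideal_ne_top (pullback.snd f g) ⟨U', hU'⟩ z' hzU'
    (hideal.trans htop.symm)

end Groth.Agent.Lib.Helper91.RegImmBaseChange
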