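import Mathlib
import Groth.Prelude.Def_CAlgX
import Groth.Agent.Lib.Helper9.QRegBaseChange

/-!
# Base change of `H_1`-regular and quasi-regular sequences

* flat base change of `H_1`-regular and quasi-regular sequences;
* base change `A → A'` of an `H_1`-regular sequence in an `A`-algebra `B` with `B/(f)` flat
  over `A`;
* reindexing lemmas for lists.
-/

set_option autoImplicit false
set_option linter.style.haveILetI false
universe u

namespace Groth.Agent.Lib.Helper91.RegBC

open TensorProduct MvPolynomial
open Groth.Agent.Lib.Helper77.QuasiReg Groth.Agent.Lib.Helper9.QRegBaseChange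

section flat

variable {B B' : Type u} [CommRing B] [CommRing B']

/-- the trivial relations -/
def triv {c : ℕ} (f : Fin c → B) : Submodule B (Fin c → B) :=
  Submodule.span B {v : Fin c → B | ∃ i j : Fin c, v = Pi.single i (f j) - Pi.single j (f i)}

theorem map_single (φ : B →+* B') {c : ℕ} (i : Fin c) (x : B) :
    (fun k => φ ((Pi.single i x : Fin c → B) k)) = Pi.single i (φ x) := by
  funext k
  by_cases h : k = i
  · subst h; simp
  · simp [Pi.single_eq_of_ne h]

theorem map_mem_triv (φ : B →+* B') {c : ℕ} (f : Fin c → B) (v : Fin c → B) (hv : v ∈ triv f) :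
    (fun k => φ (v k)) ∈ triv (φ ∘ f) := by
  refine Submodule.span_induction (p := fun v _ => (fun k => φ (v k)) ∈ triv (φ ∘ f))
    ?_ ?_ ?_ ?_ hv
  · rintro _ ⟨i, j, rfl⟩
    apply Submodule.subset_span
    refine ⟨i, j, ?_⟩
    have : (fun k => φ ((Pi.single i (f j) - Pi.single j (f i) : Fin c → B) k)) =
        (fun k => φ ((Pi.single i (f j) : Fin c → B) k)) -
          (fun k => φ ((Pi.single j (f i) : Fin c → B) k)) := by
      funext k
      simp only [Pi.sub_apply, map_sub]
    rw [this, map_single, map_single]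
    rfl
  · simp only [Pi.zero_apply, map_zero]
    exact zero_mem _
  · intro x y _ _ hx hy
    have : (fun k => φ ((x + y) k)) = (fun k => φ (x k)) + (fun k => φ (y k)) := by
      funext k
      simp only [Pi.add_apply, map_add]
    rw [this]
    exact add_mem hx hy
  · intro b x _ hx
    have : (fun k => φ ((b • x) k)) = φ b • (fun k => φ (x k)) := by
      funext k
      simp only [Pi.smul_apply, smul_eq_mul, map_mul]
    rw [this]
    exact Submodule.smul_mem _ _ hx

/-- flat base change of `H_1`-regular sequences -/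
theorem isH1Regular_map_of_flat (φ : B →+* B') (hφ : φ.Flat) {c : ℕ} (f : Fin c → B)
    (hf : CAlgX.IsH1Regular f) : CAlgX.IsH1Regular (φ ∘ f) := by
  letI := φ.toAlgebra
  haveI : Module.Flat B B' := hφ
  intro a' h0
  have hsm : ∀ (b : B) (x : B'), @HSMul.hSMul B B' B'
      (@instHSMul B B' DistribMulAction.toDistribSMul.toSMul) b x = φ b * x := fun _ _ => rfl
  obtain ⟨k, a, y, hxy, hfa⟩ := Module.Flat.isTrivialRelation_of_sum_smul_eq_zero
      (R := B) (M := B') (f := f) (x := a') (by
    rw [← h0]
    apply Finset.sum_congr rfl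
    intro i _
    rw [hsm, mul_comm]
    rfl)
  have hcol : ∀ j, (fun i => a i j) ∈ triv f := by
    intro j
    apply hf
    rw [← hfa j]
    apply Finset.sum_congr rfl
    intro i _
    ring
  have ha' : a' = ∑ j, y j • (fun i => φ (a i j)) := by
    funext i
    rw [hxy i, Finset.sum_apply]
    apply Finset.sum_congr rfl
    intro j _
    rw [Pi.smul_apply, hsm, smul_eq_mul, mul_comm]
  rw [ha']
  apply Submodule.sum_mem
  intro j _
  apply Submodule.smul_mem
  exact map_mem_triv φ f _ (hcol j)

/-- flat base change of quasi-regular sequences -/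
theorem isQuasiRegular_map_of_flat (φ : B →+* B') (hφ : φ.Flat) {c : ℕ} (f : Fin c → B)
    (hf : CAlgX.IsQuasiRegular f) : CAlgX.IsQuasiRegular (φ ∘ f) := by
  classical
  letI := φ.toAlgebra
  haveI : Module.Flat B B' := hφ
  rw [isQuasiRegular_iff_eval_eq_zero]
  intro n P hP h0 d
  by_cases hd : d.degree = n
  swap
  · rw [hP.coeff_eq_zero hd]; exact zero_mem _
  have hfp : ∀ e : Fin c →₀ ℕ, fpow (φ ∘ f) e = φ (fpow f e) := by
    intro e
    simp [fpow, map_prod, map_pow]
  have hsm : ∀ (b : B) (x : B'), @HSMul.hSMul B B' B'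
      (@instHSMul B B' DistribMulAction.toDistribSMul.toSMul) b x = φ b * x := fun _ _ => rfl
  obtain ⟨k, a, y, hxy, hfa⟩ := Module.Flat.isTrivialRelation_of_sum_smul_eq_zero
      (R := B) (M := B') (f := fun e : ↥(sN c n) => fpow f e) (x := fun e : ↥(sN c n) => P.coeff e) (by
    rw [← h0, eval_eq_sum (φ ∘ f) P hP]
    apply Finset.sum_congr rfl
    intro e _
    rw [hfp, hsm, mul_comm])
  have hcol : ∀ j (e : ↥(sN c n)), a e j ∈ J f := by
    intro j e
    have hq := (isQuasiRegular_iff_eval_eq_zero f).mp hf n (poly n (fun e => a e j))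
      (poly_isHomogeneous n _) ?_ e
    · rwa [coeff_poly] at hq
    · rw [eval_poly, ev_apply, ← hfa j]
      apply Finset.sum_congr rfl
      intro e _
      ring
  have h1 := hxy ⟨d, mem_sN.mpr hd⟩
  simp only at h1
  rw [h1]
  apply Ideal.sum_mem
  intro j _
  rw [hsm]
  apply Ideal.mul_mem_right
  have : φ (a ⟨d, mem_sN.mpr hd⟩ j) ∈ (J f).map φ := Ideal.mem_map_of_mem φ (hcol j _)
  rw [Ideal.map_span, ← Set.range_comp] at this
  exact this

end flat

section lists

variable {R R' : Type u} [CommRing R] [CommRing R']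

theorem get_map_eq (φ : R → R') (l : List R) :
    (l.map φ).get = (φ ∘ l.get) ∘ Fin.cast (List.length_map φ) := by
  funext j
  simp

theorem isH1Regular_cast {c c' : ℕ} (h : c' = c) (f : Fin c → R) :
    CAlgX.IsH1Regular (f ∘ Fin.cast h) ↔ CAlgX.IsH1Regular f := by
  subst h
  rfl

theorem isQuasiRegular_cast {c c' : ℕ} (h : c' = c) (f : Fin c → R) :
    CAlgX.IsQuasiRegular (f ∘ Fin.cast h) ↔ CAlgX.IsQuasiRegular f := by
  subst h
  rfl

theorem isH1Regular_list_map (φ : R →+* R') (l : List R)
    (h : CAlgX.IsH1Regular (φ ∘ l.get)) : CAlgX.IsH1Regular (l.map φ).get := by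
  rw [get_map_eq, isH1Regular_cast]
  exact h

theorem isQuasiRegular_list_map (φ : R →+* R') (l : List R)
    (h : CAlgX.IsQuasiRegular (φ ∘ l.get)) : CAlgX.IsQuasiRegular (l.map φ).get := by
  rw [get_map_eq, isQuasiRegular_cast]
  exact h

theorem span_range_get (l : List R) : Ideal.span (Set.range l.get) = Ideal.ofList l := by
  rw [Set.range_list_get]

end lists

end Groth.Agent.Lib.Helper91.RegBC
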