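import Mathlib
import Groth.Prelude
import Groth.Agent.Lib.Helper9.QRegBaseChange

/-!
# Quasi-regular sequences localize; flatness from flatness of all `B ⧸ I ^ n` (helper91)
-/

set_option autoImplicit false

namespace Groth.Agent.Lib.Helper91.QRegFlat

universe u

open MvPolynomial TensorProduct

section loc

variable {R B : Type u} [CommRing R] [CommRing B] [Algebra R B]

/-- clearing denominators of a homogeneous polynomial. -/
theorem exists_clear_denominators (M : Submonoid R) [IsLocalization M B]
    {σ : Type*} (n : ℕ) (P : MvPolynomial σ B)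
    (hP : P.IsHomogeneous n) :
    ∃ (s : M) (P₀ : MvPolynomial σ R), P₀.IsHomogeneous n ∧
      MvPolynomial.map (algebraMap R B) P₀ = MvPolynomial.C (algebraMap R B s) * P := by
  classical
  obtain ⟨b, hb⟩ := IsLocalization.exist_integer_multiples M P.support (fun d => P.coeff d)
  choose! c hc using hb
  refine ⟨b, ∑ d ∈ P.support, monomial d (c d), ?_, ?_⟩
  · apply MvPolynomial.IsHomogeneous.sum
    intro d hd
    apply MvPolynomial.isHomogeneous_monomial
    have := hP (MvPolynomial.mem_support_iff.mp hd)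
    rw [Finsupp.degree_eq_weight_one]
    exact this
  · rw [map_sum]
    conv_rhs => rw [P.as_sum, Finset.mul_sum]
    apply Finset.sum_congr rfl
    intro d hd
    rw [MvPolynomial.map_monomial, hc d hd, MvPolynomial.C_mul_monomial, Algebra.smul_def]

theorem eval_map_algebraMap {c : ℕ} (a : Fin c → R) (F : MvPolynomial (Fin c) R) :
    MvPolynomial.eval (fun i => algebraMap R B (a i)) (MvPolynomial.map (algebraMap R B) F) =
      algebraMap R B (MvPolynomial.eval a F) := by
  rw [MvPolynomial.eval_map, MvPolynomial.eval, MvPolynomial.coe_eval₂Hom,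
    MvPolynomial.eval₂_comp_left]
  rfl

/-- quasi-regular sequences stay quasi-regular in a localization. -/
theorem isQuasiRegular_of_isLocalization (M : Submonoid R) [IsLocalization M B]
    {c : ℕ} (f : Fin c → R) (hf : CAlgX.IsQuasiRegular f) :
    CAlgX.IsQuasiRegular (fun i => algebraMap R B (f i)) := by
  classical
  intro n P hP hev d
  have hspan : ∀ k : ℕ, Ideal.span (Set.range fun i => algebraMap R B (f i)) ^ k =
      (Ideal.span (Set.range f) ^ k).map (algebraMap R B) := by
    intro k
    rw [Ideal.map_pow, Ideal.map_span, ← Set.range_comp]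
    rfl
  have h1 := hspan 1
  rw [pow_one, pow_one] at h1
  obtain ⟨s, P₀, hP₀, hmap⟩ := exists_clear_denominators M n P hP
  have hev2 : algebraMap R B (MvPolynomial.eval f P₀) ∈
      (Ideal.span (Set.range f) ^ (n + 1)).map (algebraMap R B) := by
    rw [← eval_map_algebraMap, hmap, map_mul, MvPolynomial.eval_C, ← hspan]
    exact Ideal.mul_mem_left _ _ hev
  obtain ⟨⟨⟨j, hj⟩, t⟩, h2⟩ := (IsLocalization.mem_map_algebraMap_iff M B).mp hev2
  simp only at h2
  rw [← map_mul] at h2
  obtain ⟨t', h3⟩ := (IsLocalization.eq_iff_exists M B).mp h2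
  have hQ : (MvPolynomial.C ((t' : R) * t) * P₀).IsHomogeneous n := by
    have := (MvPolynomial.isHomogeneous_C (Fin c) ((t' : R) * t)).mul hP₀
    simpa using this
  have hevQ : MvPolynomial.eval f (MvPolynomial.C ((t' : R) * t) * P₀) ∈
      Ideal.span (Set.range f) ^ (n + 1) := by
    rw [map_mul, MvPolynomial.eval_C]
    have : (t' : R) * t * MvPolynomial.eval f P₀ = t' * j := by
      rw [← h3]; ring
    rw [this]
    exact Ideal.mul_mem_left _ _ hj
  have h4 := hf n _ hQ hevQ d
  rw [MvPolynomial.coeff_C_mul] at h4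
  have h5 := Ideal.mem_map_of_mem (algebraMap R B) h4
  rw [← h1, map_mul] at h5
  have hcoef : algebraMap R B (P₀.coeff d) = algebraMap R B s * P.coeff d := by
    have := congrArg (MvPolynomial.coeff d) hmap
    rwa [MvPolynomial.coeff_map, MvPolynomial.coeff_C_mul] at this
  rw [hcoef, ← mul_assoc] at h5
  have hu : IsUnit (algebraMap R B ((t' : R) * t) * algebraMap R B s) := by
    rw [← map_mul]
    exact IsLocalization.map_units B (t' * t * s)
  exact (Ideal.unit_mul_mem_iff_mem _ hu).mp h5

end loc

section krull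

variable {A B : Type u} [CommRing A] [CommRing B] [Algebra A B]

/-- `B` noetherian local, `I` a proper ideal with all `B ⧸ I ^ n` flat over `A`: then `B` is flat
over `A` (local flatness criterion, easy direction via Krull's intersection theorem). -/
theorem flat_of_forall_flat_quot_pow [IsNoetherianRing B] [IsLocalRing B] (I : Ideal B)
    (hI : I ≠ ⊤) (h : ∀ n : ℕ, Module.Flat A (B ⧸ I ^ n)) : Module.Flat A B := by
  rw [Module.Flat.iff_lTensor_injective]
  intro 𝔞 hfg
  rw [injective_iff_map_eq_zero]
  intro x hx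
  haveI : Module.Finite A 𝔞 := Module.Finite.iff_fg.mpr hfg
  have hkrull := Ideal.iInf_pow_smul_eq_bot_of_isLocalRing (M := B ⊗[A] 𝔞) I hI
  suffices hmem : ∀ n : ℕ, x ∈ I ^ n • (⊤ : Submodule B (B ⊗[A] 𝔞)) by
    have : x ∈ ⨅ n : ℕ, I ^ n • (⊤ : Submodule B (B ⊗[A] 𝔞)) := by
      rw [Submodule.mem_iInf]; exact hmem
    rw [hkrull] at this
    exact (Submodule.mem_bot _).mp this
  intro n
  haveI := h n
  let q : B →ₗ[A] B ⧸ I ^ n := (Submodule.mkQ (I ^ n)).restrictScalars A
  let ι : ↥(I ^ n) →ₗ[A] B := (Submodule.subtype (I ^ n)).restrictScalars A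
  have hex : Function.Exact ι q := LinearMap.exact_subtype_mkQ (I ^ n)
  have hq : Function.Surjective q := Submodule.mkQ_surjective _
  have hex2 := rTensor_exact 𝔞 hex hq
  have hinj : Function.Injective (LinearMap.lTensor (B ⧸ I ^ n) (Submodule.subtype 𝔞)) :=
    Module.Flat.lTensor_preserves_injective_linearMap _ Subtype.val_injective
  have hcomm : LinearMap.lTensor (B ⧸ I ^ n) (Submodule.subtype 𝔞) (LinearMap.rTensor 𝔞 q x) = 0 := by
    have h1 := LinearMap.congr_fun (LinearMap.lTensor_comp_rTensor (f := q) (g := Submodule.subtype 𝔞)) x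
    have h2 := LinearMap.congr_fun (LinearMap.rTensor_comp_lTensor (f := q) (g := Submodule.subtype 𝔞)) x
    rw [LinearMap.comp_apply] at h1 h2
    rw [h1, ← h2, hx, map_zero]
  have hzero : LinearMap.rTensor 𝔞 q x = 0 := by
    apply hinj
    rw [hcomm, map_zero]
  obtain ⟨y, rfl⟩ := (hex2 x).mp hzero
  clear hcomm hzero hx
  induction y using TensorProduct.induction_on with
  | zero => simp
  | add y₁ y₂ h₁ h₂ =>
    rw [map_add]
    exact Submodule.add_mem _ h₁ h₂
  | tmul b a =>
    rw [LinearMap.rTensor_tmul]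
    have : ι b ⊗ₜ[A] a = (b : B) • ((1 : B) ⊗ₜ[A] a) := by
      rw [TensorProduct.smul_tmul', smul_eq_mul, mul_one]
      rfl
    rw [this]
    exact Submodule.smul_mem_smul b.2 Submodule.mem_top

end krull

end Groth.Agent.Lib.Helper91.QRegFlat
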