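import Mathlib

/-!
# The local rings of a closed subscheme are quotients of the local rings of the ambient scheme
-/

set_option autoImplicit false
universe u

open CategoryTheory AlgebraicGeometry TopologicalSpace Opposite

namespace Groth.Agent.Lib.Helper91.ClosedImmStalk

variable {X Z : Scheme.{u}} (i : Z ⟶ X) [IsClosedImmersion i]

/-- the kernel of the stalk map of a closed subscheme -/
theorem ker_stalkMap (U : X.affineOpens) (z : Z) (hz : i z ∈ U.1) :
    RingHom.ker (i.stalkMap z).hom =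
      (i.ker.ideal U).map (X.presheaf.germ U.1 (i z) hz).hom := by
  have hV : IsAffineOpen (i ⁻¹ᵁ U.1) := U.2.preimage i
  have hzV : z ∈ i ⁻¹ᵁ U.1 := hz
  letI ax : Algebra Γ(X, U.1) (X.presheaf.stalk (i z)) :=
    TopCat.Presheaf.algebra_section_stalk X.presheaf ⟨i z, hz⟩
  haveI lx : IsLocalization.AtPrime (X.presheaf.stalk (i z))
      (U.2.primeIdealOf ⟨i z, hz⟩).asIdeal := U.2.isLocalization_stalk ⟨_, hz⟩
  letI az : Algebra Γ(Z, i ⁻¹ᵁ U.1) (Z.presheaf.stalk z) :=
    TopCat.Presheaf.algebra_section_stalk Z.presheaf ⟨z, hzV⟩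
  haveI lz : IsLocalization.AtPrime (Z.presheaf.stalk z)
      (hV.primeIdealOf ⟨z, hzV⟩).asIdeal := hV.isLocalization_stalk ⟨z, hzV⟩
  have hcomm : ∀ a : Γ(X, U.1), (i.stalkMap z).hom
      (algebraMap Γ(X, U.1) (X.presheaf.stalk (i z)) a) =
      algebraMap Γ(Z, i ⁻¹ᵁ U.1) (Z.presheaf.stalk z)
        ((i.app U.1).hom a) := by
    intro a
    exact Scheme.Hom.germ_stalkMap_apply i U.1 z hz a
  have hker : ∀ a : Γ(X, U.1), (i.app U.1).hom a = 0 ↔ a ∈ i.ker.ideal U := by
    intro a
    rw [Scheme.Hom.ker_apply, RingHom.mem_ker]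
  apply le_antisymm
  · intro y hy
    rw [RingHom.mem_ker] at hy
    obtain ⟨a, s, rfl⟩ := IsLocalization.exists_mk'_eq
      (U.2.primeIdealOf ⟨i z, hz⟩).asIdeal.primeCompl y
    have hunit : IsUnit (algebraMap Γ(X, U.1) (X.presheaf.stalk (i z)) s) :=
      IsLocalization.map_units _ s
    have ha0 : (i.stalkMap z).hom
        (algebraMap Γ(X, U.1) (X.presheaf.stalk (i z)) a) = 0 := by
      rw [← IsLocalization.mk'_spec (X.presheaf.stalk (i z)) a s, map_mul, hy, zero_mul]
    rw [hcomm] at ha0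
    rw [IsLocalization.map_eq_zero_iff (hV.primeIdealOf ⟨z, hzV⟩).asIdeal.primeCompl] at ha0
    obtain ⟨⟨t', ht'⟩, ht'a⟩ := ha0
    obtain ⟨t, rfl⟩ := i.app_surjective U.1 U.2 t'
    have htp : t ∉ (U.2.primeIdealOf ⟨i z, hz⟩).asIdeal := by
      intro htp
      apply ht'
      have h1 : algebraMap Γ(X, U.1) (X.presheaf.stalk (i z)) t ∈
          IsLocalRing.maximalIdeal (X.presheaf.stalk (i z)) := by
        rw [← IsLocalization.AtPrime.map_eq_maximalIdeal
          (U.2.primeIdealOf ⟨i z, hz⟩).asIdeal]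
        exact Ideal.mem_map_of_mem _ htp
      have h2 : (i.stalkMap z).hom
          (algebraMap Γ(X, U.1) (X.presheaf.stalk (i z)) t) ∈
          IsLocalRing.maximalIdeal (Z.presheaf.stalk z) := by
        rw [IsLocalRing.mem_maximalIdeal, mem_nonunits_iff] at h1 ⊢
        intro hu
        exact h1 (isUnit_of_map_unit _ _ hu)
      rw [hcomm] at h2
      have h3 := IsLocalization.AtPrime.comap_maximalIdeal (Z.presheaf.stalk z)
        (hV.primeIdealOf ⟨z, hzV⟩).asIdeal
      rw [← h3]
      exact h2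
    have hta : t * a ∈ i.ker.ideal U := by
      rw [← hker, map_mul]
      exact ht'a
    have h4 : algebraMap Γ(X, U.1) (X.presheaf.stalk (i z)) (t * a) ∈
        (i.ker.ideal U).map (algebraMap Γ(X, U.1) (X.presheaf.stalk (i z))) :=
      Ideal.mem_map_of_mem _ hta
    show IsLocalization.mk' (X.presheaf.stalk (i z)) a s ∈
      (i.ker.ideal U).map (algebraMap Γ(X, U.1) (X.presheaf.stalk (i z)))
    rw [IsLocalization.mk'_mem_map_algebraMap_iff
      (U.2.primeIdealOf ⟨i z, hz⟩).asIdeal.primeCompl]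
    exact ⟨t, htp, hta⟩
  · rw [Ideal.map_le_iff_le_comap]
    intro a ha
    rw [Ideal.mem_comap, RingHom.mem_ker]
    have := hcomm a
    rw [(hker a).mpr ha, map_zero] at this
    exact this

/-- the local ring of a closed subscheme as a quotient -/
noncomputable def stalkEquiv (U : X.affineOpens) (z : Z)
    (hz : i z ∈ U.1) :
    (X.presheaf.stalk (i z) ⧸
      (i.ker.ideal U).map (X.presheaf.germ U.1 (i z) hz).hom) ≃+*
      Z.presheaf.stalk z :=
  (Ideal.quotEquivOfEq (ker_stalkMap i U z hz).symm).trans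
    (RingHom.quotientKerEquivOfSurjective (i.stalkMap_surjective z))

end Groth.Agent.Lib.Helper91.ClosedImmStalk
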