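import Mathlib

/-!
# An immersion restricts to a closed immersion over opens inside the coborder of its range
-/

set_option autoImplicit false
universe u

open CategoryTheory AlgebraicGeometry TopologicalSpace Opposite

namespace Groth.Agent.Lib.Helper91.ImmRestrict

variable {X Z : Scheme.{u}}

theorem isClosedImmersion_restrict (i : Z ⟶ X) [IsImmersion i] (W : X.Opens)
    (hW : W ≤ i.coborderRange) : IsClosedImmersion (i ∣_ W) := by
  haveI : IsImmersion (i ∣_ W) := inferInstance
  refine IsClosedImmersion.of_isPreimmersion _ ?_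
  have hr : Set.range ⇑(i ∣_ W) = (Subtype.val ⁻¹' Set.range i : Set W) := by
    ext x
    constructor
    · rintro ⟨y, rfl⟩
      exact ⟨y.1, (morphismRestrict_base_coe i W y).symm⟩
    · rintro ⟨z, hz⟩
      have hzW : z ∈ i ⁻¹ᵁ W := by
        show i z ∈ W
        rw [hz]; exact x.2
      refine ⟨⟨z, hzW⟩, Subtype.ext ?_⟩
      rw [morphismRestrict_base_coe]
      exact hz
  rw [hr]
  refine (isClosed_preimage_val (s := (W : Set X)) (t := Set.range i)).mpr ?_
  intro x hx
  have h1 : x ∈ coborder (Set.range i) := hW hx.1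
  have h2 : x ∈ closure (Set.range i) :=
    closure_mono Set.inter_subset_right hx.2
  have h3 := coborder_inter_closure (s := Set.range i)
  rw [← h3]
  exact ⟨h1, h2⟩

theorem mem_coborderRange (i : Z ⟶ X) [IsImmersion i] (z : Z) : i z ∈ i.coborderRange :=
  subset_coborder ⟨z, rfl⟩

theorem quasiCompact_of_isLocallyNoetherian (i : Z ⟶ X) [IsImmersion i] [IsLocallyNoetherian X] :
    QuasiCompact i := by
  rw [← i.liftCoborder_ι]
  infer_instance

end Groth.Agent.Lib.Helper91.ImmRestrict
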