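import Mathlib
import Groth.Agent.Lib.Helper91.ImmStalk

/-!
# Base change of immersions: the affine chart lemma

For a pullback square `i' = g^* i`, an affine open `U ⊆ X` over which `i` is a closed immersion
and an affine open `U' ⊆ g⁻¹ U`, the morphism `i'` is a closed immersion over `U'`, and its ideal
is the extension of the ideal of `i` over `U`.
-/

set_option autoImplicit false
universe u

open CategoryTheory CategoryTheory.Limits AlgebraicGeometry TopologicalSpace Opposite

namespace Groth.Agent.Lib.Helper91.RegBC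

/-- pushout of a surjection in `CommRingCat`: the pushed-out map is surjective and its kernel is
the extension of the kernel -/
theorem pushout_surjective {R S T P : CommRingCat.{u}} {f : R ⟶ S} {g : R ⟶ T} {inl : S ⟶ P}
    {inr : T ⟶ P} (H : IsPushout f g inl inr) (hf : Function.Surjective f.hom) :
    Function.Surjective inr.hom ∧ RingHom.ker inr.hom = (RingHom.ker f.hom).map g.hom := by
  have hw : ∀ r : R, inl.hom (f.hom r) = inr.hom (g.hom r) := fun r => by
    have := H.w
    exact congr($(this).hom r)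
  constructor
  · -- surjectivity via the range
    let P' : Subring P := inr.hom.range
    let inr' : T ⟶ CommRingCat.of P' := CommRingCat.ofHom inr.hom.rangeRestrict
    have hker : RingHom.ker f.hom ≤ RingHom.ker (inr.hom.rangeRestrict.comp g.hom) := by
      intro r hr
      rw [RingHom.mem_ker] at hr ⊢
      apply Subtype.ext
      show inr.hom (g.hom r) = 0
      rw [← hw, hr, map_zero]
    let inl' : S ⟶ CommRingCat.of P' :=
      CommRingCat.ofHom (RingHom.liftOfSurjective f.hom hf ⟨_, hker⟩)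
    have hcomm : f ≫ inl' = g ≫ inr' := by
      apply CommRingCat.hom_ext
      apply RingHom.ext
      intro r
      show (RingHom.liftOfSurjective f.hom hf ⟨_, hker⟩) (f.hom r) = _
      rw [RingHom.liftOfRightInverse_comp_apply]
      rfl
    let d : P ⟶ CommRingCat.of P' := H.desc inl' inr' hcomm
    let ι : CommRingCat.of P' ⟶ P := CommRingCat.ofHom P'.subtype
    have h1 : inl ≫ d ≫ ι = inl := by
      rw [← Category.assoc, H.inl_desc]
      ext s
      obtain ⟨r, rfl⟩ := hf s
      show ((RingHom.liftOfSurjective f.hom hf ⟨_, hker⟩) (f.hom r) : P) = inl.hom (f.hom r)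
      rw [RingHom.liftOfRightInverse_comp_apply, hw]
      rfl
    have h2 : inr ≫ d ≫ ι = inr := by
      rw [← Category.assoc, H.inr_desc]
      rfl
    have hid : d ≫ ι = 𝟙 P := H.hom_ext (by rw [h1, Category.comp_id]) (by rw [h2, Category.comp_id])
    intro p
    have hp : ι.hom (d.hom p) = p := congr($(hid).hom p)
    obtain ⟨t, ht⟩ := (d.hom p).2
    exact ⟨t, by rw [ht]; exact hp⟩
  · apply le_antisymm
    · -- via the quotient
      let K : Ideal T := (RingHom.ker f.hom).map g.hom
      let q : T ⟶ CommRingCat.of (T ⧸ K) := CommRingCat.ofHom (Ideal.Quotient.mk K)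
      have hker : RingHom.ker f.hom ≤ RingHom.ker ((Ideal.Quotient.mk K).comp g.hom) := by
        intro r hr
        rw [RingHom.mem_ker, RingHom.comp_apply, Ideal.Quotient.eq_zero_iff_mem]
        exact Ideal.mem_map_of_mem _ hr
      let a : S ⟶ CommRingCat.of (T ⧸ K) :=
        CommRingCat.ofHom (RingHom.liftOfSurjective f.hom hf ⟨_, hker⟩)
      have hcomm : f ≫ a = g ≫ q := by
        ext r
        show (RingHom.liftOfSurjective f.hom hf ⟨_, hker⟩) (f.hom r) = _
        rw [RingHom.liftOfRightInverse_comp_apply]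
        rfl
      let d : P ⟶ CommRingCat.of (T ⧸ K) := H.desc a q hcomm
      have hd : inr ≫ d = q := H.inr_desc _ _ _
      intro t ht
      rw [RingHom.mem_ker] at ht
      have h3 : q.hom t = d.hom (inr.hom t) := congr($(hd.symm).hom t)
      rw [ht, map_zero] at h3
      exact Ideal.Quotient.eq_zero_iff_mem.mp h3
    · rw [Ideal.map_le_iff_le_comap]
      intro r hr
      rw [RingHom.mem_ker] at hr
      rw [Ideal.mem_comap, RingHom.mem_ker, ← hw, hr, map_zero]

variable {Z X Z' X' : Scheme.{u}} {i : Z ⟶ X} {g : X' ⟶ X} {i' : Z' ⟶ X'} {g' : Z' ⟶ Z}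

/-- **the affine chart lemma for base change of immersions** -/
theorem chart (H : IsPullback g' i' i g) (U : X.affineOpens) [IsClosedImmersion (i ∣_ U.1)]
    (U' : X'.affineOpens) (e : U'.1 ≤ g ⁻¹ᵁ U.1) :
    IsClosedImmersion (i' ∣_ U'.1) ∧
      RingHom.ker (i'.app U'.1).hom =
        (RingHom.ker (i.app U.1).hom).map (g.appLE U.1 U'.1 e).hom := by
  have hZU : IsAffineOpen (i ⁻¹ᵁ U.1) :=
    Groth.Agent.Lib.Helper91.ImmStalk.isAffineOpen_preimage_of_restrict i U
  have hsurj : Function.Surjective (i.app U.1).hom :=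
    Groth.Agent.Lib.Helper91.ImmStalk.app_surjective_of_restrict i U
  have hle : i' ⁻¹ᵁ U'.1 ≤ g' ⁻¹ᵁ (i ⁻¹ᵁ U.1) := by
    intro z hz
    show i (g' z) ∈ U.1
    have : i (g' z) = g (i' z) := by
      rw [← Scheme.Hom.comp_apply, ← Scheme.Hom.comp_apply, H.w]
    rw [this]
    exact e hz
  have hUY : i' ⁻¹ᵁ U'.1 = g' ⁻¹ᵁ (i ⁻¹ᵁ U.1) ⊓ i' ⁻¹ᵁ U'.1 :=
    le_antisymm (le_inf hle le_rfl) inf_le_right
  have hpb := Scheme.Hom.isPullback_resLE H e (le_refl (i ⁻¹ᵁ U.1)) hUY
  constructor
  · have h1 : i.resLE U.1 (i ⁻¹ᵁ U.1) le_rfl = i ∣_ U.1 := Scheme.Hom.resLE_eq_morphismRestrict ..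
    have h2 : i'.resLE U'.1 (i' ⁻¹ᵁ U'.1) le_rfl = i' ∣_ U'.1 :=
      Scheme.Hom.resLE_eq_morphismRestrict ..
    rw [← h2]
    have : IsClosedImmersion (i.resLE U.1 (i ⁻¹ᵁ U.1) le_rfl) := by rw [h1]; infer_instance
    exact MorphismProperty.of_isPullback hpb this
  · have hiso := isIso_pushoutSection_of_isAffineOpen H e (le_refl (i ⁻¹ᵁ U.1)) hUY U.2 U'.2 hZU
    have hpo := (isIso_pushoutSection_iff H e (le_refl (i ⁻¹ᵁ U.1)) hUY).mp hiso
    have e1 : i.appLE U.1 (i ⁻¹ᵁ U.1) le_rfl = i.app U.1 := (Scheme.Hom.app_eq_appLE ..).symm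
    have e2 : i'.appLE U'.1 (i' ⁻¹ᵁ U'.1) le_rfl = i'.app U'.1 := (Scheme.Hom.app_eq_appLE ..).symm
    have hP := pushout_surjective hpo (by rw [e1]; exact hsurj)
    rw [e1] at hP
    have := hP.2
    rw [e2] at this
    exact this

end Groth.Agent.Lib.Helper91.RegBC
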