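import Mathlib
import Groth.Prelude.Def_RegImm
import Groth.Agent.Lib.Helper91.RegBC1
import Groth.Agent.Lib.Helper91.RegBC2
import Groth.Agent.Lib.Helper9.KoszulLoc

/-!
# Flat base change of regular immersions (all four kinds)
-/

set_option autoImplicit false
set_option linter.style.haveILetI false
universe u

open CategoryTheory CategoryTheory.Limits AlgebraicGeometry TopologicalSpace Opposite

namespace Groth.Agent.Lib.Helper91.RegBC

/-- flat base change of sequences of any of the four kinds -/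
theorem seq_map_of_flat {B B' : Type u} [CommRing B] [CommRing B'] (φ : B →+* B') (hφ : φ.Flat)
    (k : RegImm.Kind) (rs : List B) (h : k.Seq B rs) (hne : Ideal.ofList (rs.map φ) ≠ ⊤) :
    k.Seq B' (rs.map φ) := by
  letI := φ.toAlgebra
  haveI : Module.Flat B B' := hφ
  cases k with
  | regular =>
    have h' : RingTheory.Sequence.IsRegular B rs := h
    refine ⟨h'.toIsWeaklyRegular.of_flat (S := B'), ?_⟩
    rw [smul_eq_mul, Ideal.mul_top]
    exact fun e => hne e.symm
  | koszul =>
    have h' : LCI.IsKoszulRegularSeq B rs := h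
    exact Groth.Agent.Lib.Helper9.KoszulLoc.isKoszulRegularSeq_map_of_flat B' rs h'
  | h1 =>
    have h' : CAlgX.IsH1Regular rs.get := h
    exact isH1Regular_list_map φ rs (isH1Regular_map_of_flat φ hφ _ h')
  | quasi =>
    have h' : CAlgX.IsQuasiRegular rs.get := h
    exact isQuasiRegular_list_map φ rs (isQuasiRegular_map_of_flat φ hφ _ h')

variable {Z X Z' X' : Scheme.{u}} {i : Z ⟶ X} {g : X' ⟶ X} {i' : Z' ⟶ X'} {g' : Z' ⟶ Z}

/-- **flat base change of regular immersions** -/
theorem isRegularImmersion_of_isPullback_of_flat (H : IsPullback g' i' i g) [Flat g]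
    (k : RegImm.Kind) (hi : RegImm.IsRegularImmersion k i) : RegImm.IsRegularImmersion k i' := by
  obtain ⟨himm, hreg⟩ := hi
  refine ⟨MorphismProperty.of_isPullback (P := @IsImmersion) H himm, fun z' => ?_⟩
  obtain ⟨U, hzU, hcl, rs, hseq, hker⟩ := hreg (g' z')
  haveI := hcl
  have hmem : i' z' ∈ g ⁻¹ᵁ U.1 := by
    show g (i' z') ∈ U.1
    have : g (i' z') = i (g' z') := by
      rw [← Scheme.Hom.comp_apply, ← Scheme.Hom.comp_apply, H.w]
    rw [this]
    exact hzU
  obtain ⟨W, hW, hx, hWle⟩ := exists_isAffineOpen_mem_and_subset (x := i' z')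
    (U := g ⁻¹ᵁ U.1) hmem
  obtain ⟨hcl', hker'⟩ := chart H U ⟨W, hW⟩ hWle
  refine ⟨⟨W, hW⟩, hx, hcl', rs.map (g.appLE U.1 W hWle).hom, ?_, ?_⟩
  · apply seq_map_of_flat _ (Flat.flat_appLE g U.2 hW hWle) k rs hseq
    rw [← Ideal.map_ofList, ← hker, ← hker']
    intro htop
    have h1 : (1 : Γ(X', W)) ∈ RingHom.ker (i'.app W).hom := by rw [htop]; trivial
    rw [RingHom.mem_ker, map_one] at h1
    haveI : Nonempty ↥(i' ⁻¹ᵁ W) := ⟨⟨z', hx⟩⟩
    haveI : Nontrivial Γ(Z', i' ⁻¹ᵁ W) := inferInstance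
    exact one_ne_zero h1
  · rw [hker', hker, Ideal.map_ofList]

end Groth.Agent.Lib.Helper91.RegBC
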