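import Mathlib
import Groth.Prelude.Def_RegImm
import Groth.Agent.Lib.Helper91.RegBC2

/-!
# Base change of `H_1`-regular / quasi-regular sequences with flat quotient

`A → B` an algebra, `f` an `H_1`-regular (resp. quasi-regular) sequence in `B` with `B/(f)` flat
over `A`.  Then for every pushout `B' = A' ⊗_A B` the image of `f` in `B'` is `H_1`-regular
(resp. quasi-regular).
-/

set_option autoImplicit false
set_option linter.style.haveILetI false
universe u

open CategoryTheory CategoryTheory.Limits TensorProduct

namespace Groth.Agent.Lib.Helper91.RegBC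

open Groth.Agent.Lib.Helper9.QRegBaseChange

section tensor

variable (A : Type u) {B : Type u} [CommRing A] [CommRing B] [Algebra A B] {r : ℕ}
  (f : Fin r → B) (A' : Type u) [CommRing A'] [Algebra A A']

/-- the relation map `v ↦ Σ v_i f_i` -/
noncomputable def relMap : (Fin r → B) →ₗ[B] B := Fintype.linearCombination B f

theorem relMap_apply (v : Fin r → B) : relMap f v = ∑ i, v i * f i := by
  simp [relMap, Fintype.linearCombination_apply]

theorem relMap_mem (v : Fin r → B) : relMap f v ∈ J f := by
  rw [relMap_apply]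
  exact Ideal.sum_mem _ fun i _ => Ideal.mul_mem_left _ _ (Ideal.subset_span ⟨i, rfl⟩)

/-- the relation map with values in the ideal -/
noncomputable def relMapJ : (Fin r → B) →ₗ[B] ↥(J f) :=
  (relMap f).codRestrict (J f) (relMap_mem f)

theorem relMapJ_surjective : Function.Surjective (relMapJ f) := by
  rintro ⟨x, hx⟩
  obtain ⟨c, hc⟩ := Ideal.mem_span_range_iff_exists_fun.mp hx
  refine ⟨c, Subtype.ext ?_⟩
  show relMap f c = x
  rw [relMap_apply, hc]

theorem triv_le_ker : triv f ≤ LinearMap.ker (relMap f) := by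
  classical
  rw [triv, Submodule.span_le]
  rintro _ ⟨i, j, rfl⟩
  rw [SetLike.mem_coe, LinearMap.mem_ker, map_sub, relMap_apply, relMap_apply]
  simp only [Pi.single_apply, ite_mul, zero_mul, Finset.sum_ite_eq', Finset.mem_univ, if_true]
  ring

theorem exact_triv (hf : CAlgX.IsH1Regular f) :
    Function.Exact (triv f).subtype (relMapJ f) := by
  intro v
  constructor
  · intro h
    have h0 : relMap f v = 0 := congrArg Subtype.val h
    rw [relMap_apply] at h0
    exact ⟨⟨v, hf v h0⟩, rfl⟩
  · rintro ⟨⟨w, hw⟩, rfl⟩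
    apply Subtype.ext
    exact triv_le_ker f hw

/-- componentwise description of `A' ⊗ B^r` -/
noncomputable abbrev Θ : A' ⊗[A] (Fin r → B) ≃ₗ[A] (Fin r → A' ⊗[A] B) :=
  TensorProduct.piRight A A A' (fun _ : Fin r => B)

theorem Θ_tmul (a : A') (v : Fin r → B) : Θ A A' (a ⊗ₜ[A] v) = fun i => a ⊗ₜ[A] v i := rfl

theorem sum_Θ (γ : A' ⊗[A] (Fin r → B)) :
    ∑ i, Θ A A' γ i * fT A f A' i = ((relMap f).restrictScalars A).lTensor A' γ := by
  induction γ using TensorProduct.induction_on with
  | zero => simp
  | add x y hx hy =>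
    rw [map_add, map_add, ← hx, ← hy, ← Finset.sum_add_distrib]
    apply Finset.sum_congr rfl
    intro i _
    rw [Pi.add_apply, add_mul]
  | tmul a v =>
    rw [LinearMap.lTensor_tmul, Θ_tmul]
    show ∑ i, (a ⊗ₜ[A] v i) * ((1 : A') ⊗ₜ[A] f i) = a ⊗ₜ[A] (relMap f v)
    rw [relMap_apply, TensorProduct.tmul_sum]
    apply Finset.sum_congr rfl
    intro i _
    rw [Algebra.TensorProduct.tmul_mul_tmul, mul_one]

theorem Θ_mem_triv (z : A' ⊗[A] ↥(triv f)) :
    Θ A A' (((triv f).subtype.restrictScalars A).lTensor A' z) ∈ triv (fT A f A') := by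
  classical
  induction z using TensorProduct.induction_on with
  | zero => simp
  | add x y hx hy =>
    rw [map_add, map_add]
    exact add_mem hx hy
  | tmul a t =>
    rw [LinearMap.lTensor_tmul]
    obtain ⟨t, ht⟩ := t
    show Θ A A' (a ⊗ₜ[A] t) ∈ triv (fT A f A')
    rw [Θ_tmul]
    refine Submodule.span_induction
      (p := fun t _ => (fun i => a ⊗ₜ[A] t i) ∈ triv (fT A f A')) ?_ ?_ ?_ ?_ ht
    · rintro _ ⟨i, j, rfl⟩
      have : (fun k => a ⊗ₜ[A] ((Pi.single i (f j) - Pi.single j (f i) : Fin r → B) k)) =
          (a ⊗ₜ[A] (1 : B)) •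
            (Pi.single i (fT A f A' j) - Pi.single j (fT A f A' i) : Fin r → A' ⊗[A] B) := by
        funext k
        simp only [Pi.sub_apply, Pi.smul_apply, smul_eq_mul, Pi.single_apply, fT]
        rw [TensorProduct.tmul_sub, mul_sub]
        congr 1
        · split_ifs
          · rw [Algebra.TensorProduct.tmul_mul_tmul, mul_one, one_mul]
          · rw [TensorProduct.tmul_zero, mul_zero]
        · split_ifs
          · rw [Algebra.TensorProduct.tmul_mul_tmul, mul_one, one_mul]
          · rw [TensorProduct.tmul_zero, mul_zero]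
      rw [this]
      apply Submodule.smul_mem
      exact Submodule.subset_span ⟨i, j, rfl⟩
    · simp only [Pi.zero_apply, TensorProduct.tmul_zero]
      exact zero_mem _
    · intro x y _ _ hx hy
      have : (fun i => a ⊗ₜ[A] (x + y) i) = (fun i => a ⊗ₜ[A] x i) + (fun i => a ⊗ₜ[A] y i) := by
        funext i
        simp only [Pi.add_apply, TensorProduct.tmul_add]
      rw [this]
      exact add_mem hx hy
    · intro b x _ hx
      have : (fun i => a ⊗ₜ[A] (b • x) i) = ((1 : A') ⊗ₜ[A] b) • (fun i => a ⊗ₜ[A] x i) := by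
        funext i
        simp only [Pi.smul_apply, smul_eq_mul]
        rw [Algebra.TensorProduct.tmul_mul_tmul, one_mul]
      rw [this]
      exact Submodule.smul_mem _ _ hx

/-- **base change of an `H_1`-regular sequence with flat quotient** -/
theorem isH1Regular_baseChange [Module.Flat A (B ⧸ J f)] (hf : CAlgX.IsH1Regular f) :
    CAlgX.IsH1Regular (fT A f A') := by
  intro a' h0
  set γ := (Θ A A').symm a' with hγ
  have hΘ : Θ A A' γ = a' := (Θ A A').apply_symm_apply a'
  have h1 : ((relMap f).restrictScalars A).lTensor A' γ = 0 := by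
    rw [← sum_Θ, hΘ]
    exact h0
  -- factor through the ideal
  have hfac : (relMap f).restrictScalars A =
      ((J f).subtype.restrictScalars A) ∘ₗ ((relMapJ f).restrictScalars A) := rfl
  rw [hfac, LinearMap.lTensor_comp, LinearMap.comp_apply] at h1
  have hexJ : Function.Exact ((J f).subtype.restrictScalars A)
      ((Submodule.mkQ (J f)).restrictScalars A) := by
    intro x
    change Submodule.mkQ (J f) x = 0 ↔ x ∈ Set.range (J f).subtype
    rw [Submodule.mkQ_apply, Submodule.Quotient.mk_eq_zero]
    simp
  have hinj : Function.Injective (((J f).subtype.restrictScalars A).lTensor A') :=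
    LinearMap.lTensor_injective_of_exact_of_flat ((Submodule.mkQ (J f)).restrictScalars A)
      (Submodule.mkQ_surjective (J f)) ((J f).subtype.restrictScalars A)
      (Submodule.subtype_injective _) hexJ A'
  have h2 : ((relMapJ f).restrictScalars A).lTensor A' γ = 0 := hinj (by rw [h1, map_zero])
  have hex : Function.Exact ((triv f).subtype.restrictScalars A)
      ((relMapJ f).restrictScalars A) := exact_triv f hf
  obtain ⟨z, hz⟩ := (lTensor_exact A' hex (relMapJ_surjective f) γ).mp h2
  rw [← hΘ, ← hz]
  exact Θ_mem_triv A f A' z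

end tensor

end Groth.Agent.Lib.Helper91.RegBC
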