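import Mathlib
import Groth.Prelude.Def_RegImm
import Groth.Agent.Lib.Helper91.RegBC4

/-!
# Base change of `H_1`-regular / quasi-regular sequences along a pushout of rings
-/

set_option autoImplicit false
set_option linter.style.haveILetI false
universe u

open CategoryTheory CategoryTheory.Limits TensorProduct

namespace Groth.Agent.Lib.Helper91.RegBC

open Groth.Agent.Lib.Helper9.QRegBaseChange

/-- flatness of the quotient by the kernel of a surjection with flat composite -/
theorem flat_quot_of_surjective {A B C : Type u} [CommRing A] [CommRing B] [CommRing C]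
    [Algebra A B] (π : B →+* C) (hπ : Function.Surjective π) (I : Ideal B)
    (hI : RingHom.ker π = I) (hflat : (π.comp (algebraMap A B)).Flat) :
    Module.Flat A (B ⧸ I) := by
  letI : Algebra A C := (π.comp (algebraMap A B)).toAlgebra
  haveI : Module.Flat A C := hflat
  let e0 : (B ⧸ I) ≃+* C :=
    (Ideal.quotEquivOfEq hI.symm).trans (RingHom.quotientKerEquivOfSurjective hπ)
  have he0 : ∀ b : B, e0 (Ideal.Quotient.mk I b) = π b := fun b => rfl
  let e : (B ⧸ I) ≃ₗ[A] C :=
    { e0 with
      map_smul' := by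
        intro a x
        obtain ⟨b, rfl⟩ := Ideal.Quotient.mk_surjective x
        show e0 (a • Ideal.Quotient.mk I b) = a • e0 (Ideal.Quotient.mk I b)
        have h1 : a • Ideal.Quotient.mk I b = Ideal.Quotient.mk I (algebraMap A B a * b) := by
          rw [Algebra.smul_def]
          rfl
        rw [h1, he0, he0, map_mul, Algebra.smul_def]
        rfl }
  exact Module.Flat.of_linearEquiv e

theorem seq_pushout {A B A' B' C : CommRingCat.{u}} {φ : A ⟶ B} {ψ : A ⟶ A'} {ι₁ : B ⟶ B'}
    {ι₂ : A' ⟶ B'} (hpo : IsPushout φ ψ ι₁ ι₂) (k : RegImm.Kind)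
    (hk : k = RegImm.Kind.h1 ∨ k = RegImm.Kind.quasi) (rs : List B) (hseq : k.Seq B rs)
    (π : B ⟶ C) (hπ : Function.Surjective π.hom) (hker : RingHom.ker π.hom = Ideal.ofList rs)
    (hflat : (φ ≫ π).hom.Flat) : k.Seq B' (rs.map ι₁.hom) := by
  letI : Algebra A B := φ.hom.toAlgebra
  letI : Algebra A A' := ψ.hom.toAlgebra
  have hT := CommRingCat.isPushout_tensorProduct A A' B
  have hpo' : IsPushout (CommRingCat.ofHom (algebraMap A A')) (CommRingCat.ofHom (algebraMap A B))
      ι₂ ι₁ := hpo.flip
  let e := hT.isoIsPushout _ _ hpo'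
  have he : ∀ b : B, e.hom.hom ((1 : A') ⊗ₜ[A] b) = ι₁.hom b := by
    intro b
    have := hT.inr_isoIsPushout_hom _ _ hpo'
    exact congr($(this).hom b)
  have hbij : Function.Bijective e.hom.hom := ConcreteCategory.bijective_of_isIso e.hom
  have hJ : J rs.get = Ideal.ofList rs := span_range_get rs
  haveI : Module.Flat A (B ⧸ J rs.get) :=
    flat_quot_of_surjective π.hom hπ _ (hker.trans hJ.symm) hflat
  have hcomp : e.hom.hom ∘ fT A rs.get A' = ι₁.hom ∘ rs.get := by
    funext j
    exact he _
  rcases hk with rfl | rfl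
  · have h' : CAlgX.IsH1Regular rs.get := hseq
    have h1 := isH1Regular_baseChange A rs.get A' h'
    have h2 := isH1Regular_map_of_flat e.hom.hom (RingHom.Flat.of_bijective hbij) _ h1
    rw [hcomp] at h2
    exact isH1Regular_list_map ι₁.hom rs h2
  · have h' : CAlgX.IsQuasiRegular rs.get := hseq
    have h1 := isQuasiRegular_baseChange A rs.get A' h'
    have h2 := isQuasiRegular_map_of_flat e.hom.hom (RingHom.Flat.of_bijective hbij) _ h1
    rw [hcomp] at h2
    exact isQuasiRegular_list_map ι₁.hom rs h2

end Groth.Agent.Lib.Helper91.RegBC
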