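import Mathlib
import Groth.Prelude.Def_RegImm
import Groth.Agent.Lib.Helper91.RegBC3
import Groth.Agent.Lib.Helper91.RegBC5

/-!
# Base change of relative `H_1`-regular / quasi-regular immersions
-/

set_option autoImplicit false
set_option linter.style.haveILetI false
universe u

open CategoryTheory CategoryTheory.Limits AlgebraicGeometry TopologicalSpace Opposite

namespace Groth.Agent.Lib.Helper91.RegBC

theorem id_appLE {X : Scheme.{u}} (U U₁ : X.Opens) (e : U₁ ≤ (𝟙 X) ⁻¹ᵁ U) :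
    (𝟙 X : X ⟶ X).appLE U U₁ e = X.presheaf.map (homOfLE e).op := by
  rw [Scheme.Hom.appLE, Scheme.Hom.id_app]
  exact Category.id_comp _

theorem isRelRegularImmersion_baseChange {Z X S S' : Scheme.{u}} (f : X ⟶ S) (i : Z ⟶ X)
    (k : RegImm.Kind) (hk : k = RegImm.Kind.h1 ∨ k = RegImm.Kind.quasi)
    (hi : RegImm.IsRelRegularImmersion k f i) (g : S' ⟶ S) :
    RegImm.IsRelRegularImmersion k (pullback.snd f g) (pullback.snd i (pullback.fst f g)) := by
  obtain ⟨⟨himm, hreg⟩, hflat⟩ := hi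
  haveI := hflat
  have H := IsPullback.of_hasPullback i (pullback.fst f g)
  have HX := IsPullback.of_hasPullback f g
  refine ⟨⟨MorphismProperty.of_isPullback (P := @IsImmersion) H himm, fun z' => ?_⟩, ?_⟩
  · obtain ⟨U, hzU, hcl, rs, hseq, hker⟩ := hreg (pullback.fst i (pullback.fst f g) z')
    haveI := hcl
    have hx : pullback.fst f g (pullback.snd i (pullback.fst f g) z') =
        i (pullback.fst i (pullback.fst f g) z') := by
      rw [← Scheme.Hom.comp_apply, ← Scheme.Hom.comp_apply, H.w]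
    have hs : g (pullback.snd f g (pullback.snd i (pullback.fst f g) z')) =
        f (i (pullback.fst i (pullback.fst f g) z')) := by
      rw [← hx]
      have := congr($(HX.w) (pullback.snd i (pullback.fst f g) z'))
      simp only [Scheme.Hom.comp_apply] at this
      exact this.symm
    obtain ⟨V, hV, hsV, -⟩ := exists_isAffineOpen_mem_and_subset
      (x := f (i (pullback.fst i (pullback.fst f g) z'))) (U := ⊤) trivial
    obtain ⟨U₁, hU₁, hxU₁, hU₁le⟩ := exists_isAffineOpen_mem_and_subset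
      (x := i (pullback.fst i (pullback.fst f g) z')) (U := U.1 ⊓ f ⁻¹ᵁ V) ⟨hzU, hsV⟩
    have hs' : pullback.snd f g (pullback.snd i (pullback.fst f g) z') ∈ g ⁻¹ᵁ V := by
      show g _ ∈ V
      rw [hs]
      exact hsV
    obtain ⟨V', hV', hsV', hV'le⟩ := exists_isAffineOpen_mem_and_subset
      (x := pullback.snd f g (pullback.snd i (pullback.fst f g) z')) (U := g ⁻¹ᵁ V) hs'
    have hU₁V : U₁ ≤ f ⁻¹ᵁ V := hU₁le.trans inf_le_right
    have hU₁U : U₁ ≤ U.1 := hU₁le.trans inf_le_left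
    have hU' : IsAffineOpen (pullback.fst f g ⁻¹ᵁ U₁ ⊓ pullback.snd f g ⁻¹ᵁ V') := by
      haveI : IsAffine V.toScheme := hV
      haveI : IsAffine V'.toScheme := hV'
      haveI : IsAffine U₁.toScheme := hU₁
      exact .of_isIso (Scheme.Hom.isPullback_resLE HX hV'le hU₁V rfl).isoPullback.hom
    have hpo := (isIso_pushoutSection_iff HX hV'le hU₁V rfl).mp
      (isIso_pushoutSection_of_isAffineOpen HX hV'le hU₁V rfl hV hV' hU₁)
    have hx'U' : pullback.snd i (pullback.fst f g) z' ∈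
        pullback.fst f g ⁻¹ᵁ U₁ ⊓ pullback.snd f g ⁻¹ᵁ V' := by
      have h1 : pullback.fst f g (pullback.snd i (pullback.fst f g) z') ∈ U₁ := by
        rw [hx]
        exact hxU₁
      exact ⟨h1, hsV'⟩
    have e : pullback.fst f g ⁻¹ᵁ U₁ ⊓ pullback.snd f g ⁻¹ᵁ V' ≤ pullback.fst f g ⁻¹ᵁ U.1 :=
      fun y hy => hU₁U hy.1
    obtain ⟨hcl', hker'⟩ := chart H U
      (⟨pullback.fst f g ⁻¹ᵁ U₁ ⊓ pullback.snd f g ⁻¹ᵁ V', hU'⟩ : (pullback f g).affineOpens) e
    -- the identity chart for `U₁`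
    have Hid : IsPullback (𝟙 Z) i i (𝟙 X) := IsPullback.of_horiz_isIso ⟨by simp⟩
    obtain ⟨hcl₁, hker₁⟩ := chart Hid U ⟨U₁, hU₁⟩ hU₁U
    rw [id_appLE] at hker₁
    have hρflat : (X.presheaf.map (homOfLE hU₁U).op).hom.Flat := by
      have := Flat.flat_appLE (𝟙 X) U.2 hU₁ hU₁U
      rwa [id_appLE] at this
    have hker₁' : RingHom.ker (i.app U₁).hom =
        Ideal.ofList (rs.map (X.presheaf.map (homOfLE hU₁U).op).hom) := by
      rw [hker₁, hker, Ideal.map_ofList]
      rfl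
    have hne : Ideal.ofList (rs.map (X.presheaf.map (homOfLE hU₁U).op).hom) ≠ ⊤ := by
      rw [← hker₁']
      intro htop
      have h1 : (1 : Γ(X, U₁)) ∈ RingHom.ker (i.app U₁).hom := by rw [htop]; trivial
      rw [RingHom.mem_ker, map_one] at h1
      haveI : Nonempty ↥(i ⁻¹ᵁ U₁) := ⟨⟨_, hxU₁⟩⟩
      haveI : Nontrivial Γ(Z, i ⁻¹ᵁ U₁) := inferInstance
      exact one_ne_zero h1
    have hseq₁ := seq_map_of_flat _ hρflat k rs hseq hne
    haveI := hcl₁
    have hsurj₁ : Function.Surjective (i.app U₁).hom :=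
      Groth.Agent.Lib.Helper91.ImmStalk.app_surjective_of_restrict i ⟨U₁, hU₁⟩
    have hZaff : IsAffineOpen (i ⁻¹ᵁ U₁) :=
      Groth.Agent.Lib.Helper91.ImmStalk.isAffineOpen_preimage_of_restrict i ⟨U₁, hU₁⟩
    have hfl : (f.appLE V U₁ hU₁V ≫ i.app U₁).hom.Flat := by
      have e'' : i ⁻¹ᵁ U₁ ≤ (i ≫ f) ⁻¹ᵁ V := fun y hy => hU₁V hy
      have := Flat.flat_appLE (i ≫ f) hV hZaff e''
      rw [← Scheme.Hom.appLE_comp_appLE i f V U₁ (i ⁻¹ᵁ U₁) hU₁V le_rfl,
        Scheme.Hom.appLE_eq_app] at this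
      exact this
    have hfinal := seq_pushout hpo k hk _ hseq₁ (i.app U₁) hsurj₁ hker₁' hfl
    refine ⟨(⟨pullback.fst f g ⁻¹ᵁ U₁ ⊓ pullback.snd f g ⁻¹ᵁ V', hU'⟩ :
      (pullback f g).affineOpens), hx'U', hcl', _, hfinal, ?_⟩
    rw [hker', hker, Ideal.map_ofList, List.map_map]
    congr 2
    funext x
    have h := Scheme.Hom.map_appLE (pullback.fst f g)
      (inf_le_left : pullback.fst f g ⁻¹ᵁ U₁ ⊓ pullback.snd f g ⁻¹ᵁ V' ≤ pullback.fst f g ⁻¹ᵁ U₁)
      (homOfLE hU₁U).op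
    exact (congr($(h).hom x)).symm
  · have h1 : pullback.snd i (pullback.fst f g) ≫ pullback.snd f g =
        (pullbackRightPullbackFstIso f g i).hom ≫ pullback.snd (i ≫ f) g :=
      (pullbackRightPullbackFstIso_hom_snd f g i).symm
    rw [h1]
    infer_instance

end Groth.Agent.Lib.Helper91.RegBC
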