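import Mathlib
import Groth.Prelude.Def_RegImm
import Groth.Agent.Lib.Helper91.RegBC6
import Groth.Agent.Lib.Helper9.KoszulQis

/-!
# Shrinking regular charts; composition of Koszul-regular immersions
-/

set_option autoImplicit false
set_option linter.style.haveILetI false
universe u

open CategoryTheory CategoryTheory.Limits AlgebraicGeometry TopologicalSpace Opposite

namespace Groth.Agent.Lib.Helper91.KRegComp

open Groth.Agent.Lib.Helper91.RegBC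

variable {X Y Z : Scheme.{u}}

/-- shrinking a chart of a regular immersion (of any kind) to a smaller affine open -/
theorem shrink (i : Z ⟶ X) (k : RegImm.Kind) (U : X.affineOpens)
    (hcl : IsClosedImmersion (i ∣_ U.1))
    (rs : List Γ(X, U.1)) (hseq : k.Seq Γ(X, U.1) rs)
    (hker : RingHom.ker (i.app U.1).hom = Ideal.ofList rs)
    (U₁ : X.affineOpens) (hU₁U : U₁.1 ≤ U.1) (z : Z) (hz : i z ∈ U₁.1) :
    IsClosedImmersion (i ∣_ U₁.1) ∧
      k.Seq Γ(X, U₁.1) (rs.map (X.presheaf.map (homOfLE hU₁U).op).hom) ∧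
      RingHom.ker (i.app U₁.1).hom =
        Ideal.ofList (rs.map (X.presheaf.map (homOfLE hU₁U).op).hom) := by
  haveI := hcl
  have Hid : IsPullback (𝟙 Z) i i (𝟙 X) := IsPullback.of_horiz_isIso ⟨by simp⟩
  obtain ⟨hcl₁, hker₁⟩ := chart Hid U U₁ hU₁U
  rw [id_appLE] at hker₁
  have hρflat : (X.presheaf.map (homOfLE hU₁U).op).hom.Flat := by
    have := Flat.flat_appLE (𝟙 X) U.2 U₁.2 hU₁U
    rwa [id_appLE] at this
  have hker₁' : RingHom.ker (i.app U₁.1).hom =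
      Ideal.ofList (rs.map (X.presheaf.map (homOfLE hU₁U).op).hom) := by
    rw [hker₁, hker, Ideal.map_ofList]
    rfl
  have hne : Ideal.ofList (rs.map (X.presheaf.map (homOfLE hU₁U).op).hom) ≠ ⊤ := by
    rw [← hker₁']
    intro htop
    have h1 : (1 : Γ(X, U₁.1)) ∈ RingHom.ker (i.app U₁.1).hom := by rw [htop]; trivial
    rw [RingHom.mem_ker, map_one] at h1
    haveI : Nonempty ↥(i ⁻¹ᵁ U₁.1) := ⟨⟨_, hz⟩⟩
    haveI : Nontrivial Γ(Z, i ⁻¹ᵁ U₁.1) := inferInstance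
    exact one_ne_zero h1
  exact ⟨hcl₁, seq_map_of_flat _ hρflat k rs hseq hne, hker₁'⟩

theorem exists_lift_list {A B : Type*} (π : A → B) (hπ : Function.Surjective π) (l : List B) :
    ∃ l' : List A, l'.map π = l := List.map_surjective_iff.mpr hπ l

/-- composition of Koszul-regular immersions, pointwise with lengths -/
theorem comp_at (i : Y ⟶ X) (j : Z ⟶ Y) [IsImmersion i] (z : Z)
    (U : X.affineOpens) (hU : i (j z) ∈ U.1) (hcl : IsClosedImmersion (i ∣_ U.1))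
    (w : List Γ(X, U.1)) (hw : LCI.IsKoszulRegularSeq Γ(X, U.1) w)
    (hkerw : RingHom.ker (i.app U.1).hom = Ideal.ofList w)
    (V : Y.affineOpens) (hV : j z ∈ V.1) (hclV : IsClosedImmersion (j ∣_ V.1))
    (e : List Γ(Y, V.1)) (he : LCI.IsKoszulRegularSeq Γ(Y, V.1) e)
    (hkere : RingHom.ker (j.app V.1).hom = Ideal.ofList e) :
    ∃ U' : X.affineOpens, (j ≫ i) z ∈ U'.1 ∧ IsClosedImmersion ((j ≫ i) ∣_ U'.1) ∧
      ∃ rs : List Γ(X, U'.1), rs.length = e.length + w.length ∧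
        LCI.IsKoszulRegularSeq Γ(X, U'.1) rs ∧
        RingHom.ker ((j ≫ i).app U'.1).hom = Ideal.ofList rs := by
  -- an open of `X` inducing `V`
  obtain ⟨V₀, hV₀o, hV₀⟩ := i.isEmbedding.isInducing.isOpen_iff.mp V.1.2
  have hyV₀ : i (j z) ∈ (⟨V₀, hV₀o⟩ : X.Opens) := by
    show i (j z) ∈ V₀
    have : j z ∈ i ⁻¹' V₀ := by rw [hV₀]; exact hV
    exact this
  obtain ⟨U₁, hU₁, hxU₁, hU₁le⟩ := exists_isAffineOpen_mem_and_subset
    (x := i (j z)) (U := U.1 ⊓ ⟨V₀, hV₀o⟩) ⟨hU, hyV₀⟩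
  have hU₁U : U₁ ≤ U.1 := hU₁le.trans inf_le_left
  have hU₁V₀ : U₁ ≤ ⟨V₀, hV₀o⟩ := hU₁le.trans inf_le_right
  obtain ⟨hcl₁, hw₁, hkerw₁⟩ := shrink i .koszul U hcl w hw hkerw ⟨U₁, hU₁⟩ hU₁U (j z) hxU₁
  haveI := hcl₁
  have hWaff : IsAffineOpen (i ⁻¹ᵁ U₁) :=
    Groth.Agent.Lib.Helper91.ImmStalk.isAffineOpen_preimage_of_restrict i ⟨U₁, hU₁⟩
  have hπ : Function.Surjective (i.app U₁).hom :=
    Groth.Agent.Lib.Helper91.ImmStalk.app_surjective_of_restrict i ⟨U₁, hU₁⟩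
  have hWV : i ⁻¹ᵁ U₁ ≤ V.1 := by
    intro y hy
    have h1 : i y ∈ V₀ := hU₁V₀ hy
    have h2 : y ∈ i ⁻¹' V₀ := h1
    rw [hV₀] at h2
    exact h2
  obtain ⟨hcl₂, he₁, hkere₁⟩ := shrink j .koszul V hclV e he hkere ⟨i ⁻¹ᵁ U₁, hWaff⟩ hWV z hxU₁
  haveI := hcl₂
  obtain ⟨e', he'⟩ := exists_lift_list (i.app U₁).hom hπ
    (e.map (Y.presheaf.map (homOfLE hWV).op).hom)
  refine ⟨⟨U₁, hU₁⟩, hxU₁, ?_, w.map (X.presheaf.map (homOfLE hU₁U).op).hom ++ e', ?_, ?_, ?_⟩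
  · rw [morphismRestrict_comp]
    haveI h1 : IsClosedImmersion (j ∣_ i ⁻¹ᵁ U₁) := hcl₂
    haveI h2 : IsClosedImmersion (i ∣_ U₁) := hcl₁
    show IsClosedImmersion (j ∣_ i ⁻¹ᵁ U₁ ≫ i ∣_ U₁)
    infer_instance
  · rw [List.length_append, List.length_map, add_comm]
    congr 1
    have := congrArg List.length he'
    rwa [List.length_map, List.length_map] at this
  · refine (Groth.Agent.Lib.Helper9.KoszulQis.isKoszulRegularSeq_append_iff_of_koszul
      (i.app U₁).hom hπ _ hkerw₁ hw₁ e').mpr ?_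
    rw [he']
    exact he₁
  · have hcomp : ((j ≫ i).app U₁).hom = (j.app (i ⁻¹ᵁ U₁)).hom.comp (i.app U₁).hom := by
      rw [Scheme.Hom.comp_app]
      rfl
    have hk : RingHom.ker ((j ≫ i).app U₁).hom =
        Ideal.comap (i.app U₁).hom (RingHom.ker (j.app (i ⁻¹ᵁ U₁)).hom) := by
      ext x
      rw [Ideal.mem_comap, RingHom.mem_ker, RingHom.mem_ker, hcomp]
      rfl
    rw [hk, hkere₁, ← he', ← Ideal.map_ofList,
      Ideal.comap_map_of_surjective _ hπ, Ideal.ofList_append, sup_comm]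
    congr 1

theorem comp (i : Y ⟶ X) (j : Z ⟶ Y)
    (hi : RegImm.IsRegularImmersion .koszul i) (hj : RegImm.IsRegularImmersion .koszul j) :
    RegImm.IsRegularImmersion .koszul (j ≫ i) := by
  obtain ⟨himm, hi⟩ := hi
  obtain ⟨hjmm, hj⟩ := hj
  haveI := himm
  haveI := hjmm
  refine ⟨inferInstance, fun z => ?_⟩
  obtain ⟨U, hU, hcl, w, hw, hkerw⟩ := hi (j z)
  obtain ⟨V, hV, hclV, e, he, hkere⟩ := hj z
  obtain ⟨U', hz, hcl', rs, -, hrs, hker⟩ := comp_at i j z U hU hcl w hw hkerw V hV hclV e he hkere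
  exact ⟨U', hz, hcl', rs, hrs, hker⟩

theorem comp_codim (n m : ℕ) (i : Y ⟶ X) (j : Z ⟶ Y)
    (hi : RegImm.IsRegularImmersionOfCodim .koszul n i)
    (hj : RegImm.IsRegularImmersionOfCodim .koszul m j) :
    RegImm.IsRegularImmersionOfCodim .koszul (m + n) (j ≫ i) := by
  obtain ⟨himm, hi⟩ := hi
  obtain ⟨hjmm, hj⟩ := hj
  haveI := himm
  haveI := hjmm
  refine ⟨inferInstance, fun z => ?_⟩
  obtain ⟨U, hU, hcl, w, hwl, hw, hkerw⟩ := hi (j z)
  obtain ⟨V, hV, hclV, e, hel, he, hkere⟩ := hj z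
  obtain ⟨U', hz, hcl', rs, hl, hrs, hker⟩ :=
    comp_at i j z U hU hcl w hw hkerw V hV hclV e he hkere
  exact ⟨U', hz, hcl', rs, by rw [hl, hel, hwl], hrs, hker⟩

end Groth.Agent.Lib.Helper91.KRegComp
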