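import Mathlib
import Groth.Prelude.Def_RegImm
import Groth.Prelude.Def_LCI2
import Groth.Agent.Lib.Helper91.KRegComp1
import Groth.Agent.Lib.Helper9.KoszulLoc

/-!
# Koszul-regular immersions vs Koszul-regular ideals on affine charts
-/

set_option autoImplicit false
set_option linter.style.haveILetI false
universe u

open CategoryTheory CategoryTheory.Limits AlgebraicGeometry TopologicalSpace Opposite

namespace Groth.Agent.Lib.Helper91.KRegIdeal

open Groth.Agent.Lib.Helper91.RegBC Groth.Agent.Lib.Helper91.KRegComp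

theorem koszul_map_of_flat {B B' : Type u} [CommRing B] [CommRing B'] (φ : B →+* B')
    (hφ : φ.Flat) (rs : List B) (h : LCI.IsKoszulRegularSeq B rs) :
    LCI.IsKoszulRegularSeq B' (rs.map φ) := by
  letI := φ.toAlgebra
  haveI : Module.Flat B B' := hφ
  exact Groth.Agent.Lib.Helper9.KoszulLoc.isKoszulRegularSeq_map_of_flat B' rs h

variable {X Z : Scheme.{u}}

theorem fromSpec_mem_basicOpen_iff {U : X.Opens} (hU : IsAffineOpen U)
    (𝔮 : PrimeSpectrum Γ(X, U)) (f : Γ(X, U)) :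
    hU.fromSpec 𝔮 ∈ X.basicOpen f ↔ f ∉ 𝔮.asIdeal := by
  have h := congr(𝔮 ∈ $(hU.fromSpec_preimage_basicOpen f))
  exact Iff.of_eq h

theorem fromSpec_mem {U : X.Opens} (hU : IsAffineOpen U) (𝔮 : PrimeSpectrum Γ(X, U)) :
    hU.fromSpec 𝔮 ∈ U := by
  have : hU.fromSpec 𝔮 ∈ Set.range hU.fromSpec := Set.mem_range_self 𝔮
  rw [hU.range_fromSpec] at this
  exact this

/-- kernel on a basic open of a chart -/
theorem chart_basicOpen (i : Z ⟶ X) (U : X.affineOpens) [IsClosedImmersion (i ∣_ U.1)]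
    (b : Γ(X, U.1)) :
    IsClosedImmersion (i ∣_ X.basicOpen b) ∧
      RingHom.ker (i.app (X.basicOpen b)).hom =
        (RingHom.ker (i.app U.1).hom).map (algebraMap Γ(X, U.1) Γ(X, X.basicOpen b)) := by
  have Hid : IsPullback (𝟙 Z) i i (𝟙 X) := IsPullback.of_horiz_isIso ⟨by simp⟩
  obtain ⟨hcl₁, hker₁⟩ := chart Hid U ⟨X.basicOpen b, U.2.basicOpen b⟩ (X.basicOpen_le b)
  rw [id_appLE] at hker₁
  exact ⟨hcl₁, hker₁⟩

/-- the ideal of a Koszul-regular closed immersion on an affine open is a Koszul-regular ideal -/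
theorem isKoszulRegularIdeal_ker (i : Z ⟶ X) [IsClosedImmersion i]
    (hi : ∀ z : Z, RegImm.IsRegularImmersionAt .koszul i z) (U : X.affineOpens) :
    LCI.IsKoszulRegularIdeal (RingHom.ker (i.app U.1).hom) := by
  intro 𝔮 h𝔮
  have hxU : U.2.fromSpec 𝔮 ∈ U.1 := fromSpec_mem U.2 𝔮
  have hsupp : U.2.fromSpec 𝔮 ∈ i.ker.support := by
    rw [Scheme.IdealSheafData.mem_support_iff_of_mem hxU, Scheme.Hom.ker_apply,
      Scheme.mem_zeroLocus_iff]
    intro f hf
    rw [fromSpec_mem_basicOpen_iff]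
    exact fun h => h (h𝔮 hf)
  have hrange : U.2.fromSpec 𝔮 ∈ Set.range i := by
    have h1 : (i.ker.support : Set X) = closure (Set.range i) := Scheme.Hom.support_ker i
    have h2 : U.2.fromSpec 𝔮 ∈ (i.ker.support : Set X) := hsupp
    rw [h1, i.isClosedEmbedding.isClosed_range.closure_eq] at h2
    exact h2
  obtain ⟨z, hz⟩ := hrange
  obtain ⟨U₂, hzU₂, hcl₂, rs, hrs, hker₂⟩ := hi z
  have hxU₂ : U.2.fromSpec 𝔮 ∈ U₂.1 := hz ▸ hzU₂
  obtain ⟨b, hb₂, hxb⟩ := U.2.exists_basicOpen_le (V := U₂.1) ⟨U.2.fromSpec 𝔮, hxU₂⟩ hxU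
  have hxb' : U.2.fromSpec 𝔮 ∈ X.basicOpen b := hxb
  have hb𝔮 : b ∉ 𝔮.asIdeal := (fromSpec_mem_basicOpen_iff U.2 𝔮 b).mp hxb'
  have hzb : i z ∈ X.basicOpen b := hz ▸ hxb'
  obtain ⟨-, hseq, hker⟩ := shrink i .koszul U₂ hcl₂ rs hrs hker₂
    ⟨X.basicOpen b, U.2.basicOpen b⟩ hb₂ z hzb
  haveI : IsClosedImmersion (i ∣_ U.1) := IsZariskiLocalAtTarget.restrict ‹_› U.1
  obtain ⟨-, hkerb⟩ := chart_basicOpen i U b
  haveI : IsLocalization.Away b Γ(X, X.basicOpen b) := U.2.isLocalization_basicOpen b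
  let e : Localization.Away b ≃ₐ[Γ(X, U.1)] Γ(X, X.basicOpen b) :=
    IsLocalization.algEquiv (Submonoid.powers b) _ _
  let ψ : Γ(X, X.basicOpen b) →+* Localization.Away b := e.symm.toRingEquiv.toRingHom
  have hψ : ψ.comp (algebraMap Γ(X, U.1) Γ(X, X.basicOpen b)) =
      algebraMap Γ(X, U.1) (Localization.Away b) := RingHom.ext fun a => e.symm.commutes a
  refine ⟨b, hb𝔮, (rs.map (X.presheaf.map (homOfLE hb₂).op).hom).map ψ, ?_, ?_⟩
  · exact koszul_map_of_flat ψ (RingHom.Flat.of_bijective e.symm.bijective) _ hseq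
  · show _ = Ideal.ofList _
    rw [← Ideal.map_ofList, ← hker, hkerb, Ideal.map_map, hψ]

/-- conversely: a Koszul-regular kernel ideal on an affine chart gives a Koszul-regular immersion
at the points of the chart -/
theorem isRegularImmersionAt_of_ideal (i : Z ⟶ X) (U : X.affineOpens)
    [IsClosedImmersion (i ∣_ U.1)]
    (h : LCI.IsKoszulRegularIdeal (RingHom.ker (i.app U.1).hom)) (z : Z) (hz : i z ∈ U.1) :
    RegImm.IsRegularImmersionAt .koszul i z := by
  have h𝔭 : RingHom.ker (i.app U.1).hom ≤ (U.2.primeIdealOf ⟨i z, hz⟩).asIdeal := by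
    intro f hf
    by_contra hcon
    have h1 : i z ∈ X.basicOpen f := by
      have := (fromSpec_mem_basicOpen_iff U.2 (U.2.primeIdealOf ⟨i z, hz⟩) f).mpr hcon
      rwa [U.2.fromSpec_primeIdealOf] at this
    have h2 : z ∈ i ⁻¹ᵁ X.basicOpen f := h1
    rw [Scheme.preimage_basicOpen, (RingHom.mem_ker.mp hf : (i.app U.1).hom f = 0)] at h2
    simp at h2
  obtain ⟨g, hg, l, hl, hIl⟩ := h (U.2.primeIdealOf ⟨i z, hz⟩) h𝔭
  have hzg : i z ∈ X.basicOpen g := by
    have := (fromSpec_mem_basicOpen_iff U.2 (U.2.primeIdealOf ⟨i z, hz⟩) g).mpr hg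
    rwa [U.2.fromSpec_primeIdealOf] at this
  obtain ⟨hclg, hkerg⟩ := chart_basicOpen i U g
  haveI : IsLocalization.Away g Γ(X, X.basicOpen g) := U.2.isLocalization_basicOpen g
  let e : Localization.Away g ≃ₐ[Γ(X, U.1)] Γ(X, X.basicOpen g) :=
    IsLocalization.algEquiv (Submonoid.powers g) _ _
  let ψ : Localization.Away g →+* Γ(X, X.basicOpen g) := e.toRingEquiv.toRingHom
  have hψ : ψ.comp (algebraMap Γ(X, U.1) (Localization.Away g)) =
      algebraMap Γ(X, U.1) Γ(X, X.basicOpen g) := RingHom.ext fun a => e.commutes a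
  refine ⟨⟨X.basicOpen g, U.2.basicOpen g⟩, hzg, hclg, l.map ψ, ?_, ?_⟩
  · exact koszul_map_of_flat ψ (RingHom.Flat.of_bijective e.bijective) _ hl
  · have hIl' : (RingHom.ker (i.app U.1).hom).map (algebraMap Γ(X, U.1) (Localization.Away g)) =
        Ideal.ofList l := hIl
    rw [hkerg, ← hψ, ← Ideal.map_map, hIl', Ideal.map_ofList]

end Groth.Agent.Lib.Helper91.KRegIdeal
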