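import Mathlib
import Groth.Prelude.Def_CAlgX
import Groth.Agent.Lib.Helper91.RegBC2

/-!
# `H_1`-regular sequences: unit ideal, linear change of generators, faithfully flat descent,
local-global principle
-/

set_option autoImplicit false
set_option linter.style.haveILetI false
universe u

namespace Groth.Agent.Lib.Helper91.H1Desc

open Groth.Agent.Lib.Helper91.RegBC

section basic

variable {R : Type u} [CommRing R]

theorem isH1Regular_iff {n : ℕ} (f : Fin n → R) :
    CAlgX.IsH1Regular f ↔ ∀ a : Fin n → R, ∑ i, a i * f i = 0 → a ∈ triv f := Iff.rfl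

theorem gen_mem_triv {n : ℕ} (f : Fin n → R) (i j : Fin n) :
    Pi.single i (f j) - Pi.single j (f i) ∈ triv f :=
  Submodule.subset_span ⟨i, j, rfl⟩

/-- a sequence generating the unit ideal is `H_1`-regular -/
theorem isH1Regular_of_span_eq_top {n : ℕ} (f : Fin n → R)
    (h : Ideal.span (Set.range f) = ⊤) : CAlgX.IsH1Regular f := by
  classical
  intro a ha
  have h1 : (1 : R) ∈ Ideal.span (Set.range f) := by rw [h]; trivial
  obtain ⟨c, hc⟩ := (Ideal.mem_span_range_iff_exists_fun).mp h1
  have key : a = ∑ i, ∑ j, (c j * a i) • (Pi.single i (f j) - Pi.single j (f i)) := by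
    funext k
    simp only [Finset.sum_apply, Pi.smul_apply, Pi.sub_apply, Pi.single_apply, smul_eq_mul]
    simp only [mul_sub, mul_ite, mul_zero, Finset.sum_sub_distrib, Finset.sum_ite_eq',
      Finset.mem_univ, if_true]
    have e1 : ∑ x : Fin n, ∑ x_1 : Fin n, (if k = x then c x_1 * a x * f x_1 else 0) =
        a k := by
      have : ∀ x : Fin n, ∑ x_1 : Fin n, (if k = x then c x_1 * a x * f x_1 else 0) =
          if k = x then a x * ∑ x_1, c x_1 * f x_1 else 0 := by
        intro x
        split_ifs
        · rw [Finset.mul_sum]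
          exact Finset.sum_congr rfl fun y _ => by ring
        · simp
      simp only [this, hc, mul_one, Finset.sum_ite_eq, Finset.mem_univ, if_true]
    have e2 : ∑ x : Fin n, ∑ x_1 : Fin n, (if k = x_1 then c x_1 * a x * f x else 0) = 0 := by
      have : ∀ x : Fin n, ∑ x_1 : Fin n, (if k = x_1 then c x_1 * a x * f x else 0) =
          c k * (a x * f x) := by
        intro x
        simp only [Finset.sum_ite_eq, Finset.mem_univ, if_true]
        ring
      simp only [this, ← Finset.mul_sum, ha, mul_zero]
    rw [e1, e2, sub_zero]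
  rw [key]
  refine Submodule.sum_mem _ fun i _ => Submodule.sum_mem _ fun j _ => ?_
  exact Submodule.smul_mem _ _ (gen_mem_triv f i j)

/-- linear change of generators: if `g = N f` then `v ↦ v ᵥ* N` maps trivial relations of `g`
to trivial relations of `f` -/
theorem vecMul_mem_triv {n m : ℕ} (f : Fin n → R) (g : Fin m → R)
    (N : Matrix (Fin m) (Fin n) R) (hg : ∀ j, g j = ∑ k, N j k * f k) (v : Fin m → R)
    (hv : v ∈ triv g) : Matrix.vecMul v N ∈ triv f := by
  classical
  have hlin : (triv g).map (Matrix.vecMulLinear N) ≤ triv f := by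
    rw [triv, Submodule.map_span, Submodule.span_le]
    rintro _ ⟨_, ⟨i, j, rfl⟩, rfl⟩
    have key : Matrix.vecMulLinear N (Pi.single i (g j) - Pi.single j (g i)) =
        ∑ k', ∑ m', (N j m' * N i k') • (Pi.single k' (f m') - Pi.single m' (f k')) := by
      funext k
      simp only [Matrix.vecMulLinear_apply, Matrix.sub_vecMul, Matrix.single_vecMul,
        Pi.sub_apply, Pi.smul_apply, smul_eq_mul, Finset.sum_apply, Pi.single_apply]
      simp only [mul_sub, mul_ite, mul_zero, Finset.sum_sub_distrib, Finset.sum_ite_eq',
        Finset.mem_univ, if_true]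
      have e1 : ∑ x : Fin n, ∑ x_1 : Fin n, (if k = x then N j x_1 * N i x * f x_1 else 0) =
          g j * N i k := by
        have : ∀ x : Fin n, ∑ x_1 : Fin n, (if k = x then N j x_1 * N i x * f x_1 else 0) =
            if k = x then N i x * ∑ x_1, N j x_1 * f x_1 else 0 := by
          intro x
          split_ifs
          · rw [Finset.mul_sum]
            exact Finset.sum_congr rfl fun y _ => by ring
          · simp
        simp only [this, ← hg, Finset.sum_ite_eq, Finset.mem_univ, if_true]
        ring
      have e2 : ∑ x : Fin n, ∑ x_1 : Fin n, (if k = x_1 then N j x_1 * N i x * f x else 0) =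
          g i * N j k := by
        have : ∀ x : Fin n, ∑ x_1 : Fin n, (if k = x_1 then N j x_1 * N i x * f x else 0) =
            N j k * (N i x * f x) := by
          intro x
          simp only [Finset.sum_ite_eq, Finset.mem_univ, if_true]
          ring
        simp only [this, ← Finset.mul_sum, ← hg]
        ring
      rw [e1, e2]
      rfl
    rw [key]
    refine Submodule.sum_mem _ fun k' _ => Submodule.sum_mem _ fun m' _ => ?_
    exact Submodule.smul_mem _ _ (gen_mem_triv f k' m')
  exact hlin ⟨v, hv, rfl⟩

end basic

end Groth.Agent.Lib.Helper91.H1Desc
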