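import Mathlib
import Groth.Prelude.Def_CAlgX
import Groth.Agent.Lib.Helper91.H1Desc1

/-!
# `H_1`-regular sequences: faithfully flat descent and local-global principle
-/

set_option autoImplicit false
set_option linter.style.haveILetI false
universe u

namespace Groth.Agent.Lib.Helper91.H1Desc

open Groth.Agent.Lib.Helper91.RegBC TensorProduct

/-- faithfully flat descent of `H_1`-regularity (same generators) -/
theorem isH1Regular_of_faithfullyFlat {A B : Type u} [CommRing A] [CommRing B] [Algebra A B]
    [Module.FaithfullyFlat A B] {n : ℕ} (f : Fin n → A)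
    (h : CAlgX.IsH1Regular (algebraMap A B ∘ f)) : CAlgX.IsH1Regular f := by
  classical
  intro a ha
  have hinj := Module.FaithfullyFlat.tensorProduct_mk_injective (A := A) (B := B)
    ((Fin n → A) ⧸ triv f)
  have hgoal : (Submodule.Quotient.mk a : (Fin n → A) ⧸ triv f) = 0 := by
    apply hinj
    rw [map_zero]
    show (1 : B) ⊗ₜ[A] (Submodule.Quotient.mk a : (Fin n → A) ⧸ triv f) = 0
    have e1 : (1 : B) ⊗ₜ[A] (Submodule.Quotient.mk a : (Fin n → A) ⧸ triv f) =
        (LinearMap.baseChange B (triv f).mkQ) ((1 : B) ⊗ₜ[A] a) := by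
      rw [LinearMap.baseChange_tmul]
      rfl
    rw [e1]
    have hmem : (1 : B) ⊗ₜ[A] a ∈ Submodule.span B ((fun t : Fin n → A => (1 : B) ⊗ₜ[A] t) ''
        {v | ∃ i j, v = Pi.single i (f j) - Pi.single j (f i)}) := by
      have hea : TensorProduct.piScalarRight A B B (Fin n) ((1 : B) ⊗ₜ[A] a) =
          fun k => algebraMap A B (a k) := by
        funext k
        simp [Algebra.smul_def]
      have h1 : TensorProduct.piScalarRight A B B (Fin n) ((1 : B) ⊗ₜ[A] a) ∈
          triv (algebraMap A B ∘ f) := by
        rw [hea]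
        apply h
        simp only [Function.comp, ← map_mul, ← map_sum, ha, map_zero]
      have h2 : triv (algebraMap A B ∘ f) ≤
          (Submodule.span B ((fun t : Fin n → A => (1 : B) ⊗ₜ[A] t) ''
            {v | ∃ i j, v = Pi.single i (f j) - Pi.single j (f i)})).map
            (TensorProduct.piScalarRight A B B (Fin n)).toLinearMap := by
        rw [triv, Submodule.span_le]
        rintro _ ⟨i, j, rfl⟩
        refine ⟨(1 : B) ⊗ₜ[A] (Pi.single i (f j) - Pi.single j (f i)),
          Submodule.subset_span ⟨_, ⟨i, j, rfl⟩, rfl⟩, ?_⟩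
        funext k
        simp only [LinearEquiv.coe_coe, piScalarRight_apply, piScalarRightHom_tmul,
          Pi.sub_apply, Pi.single_apply, Function.comp, Algebra.smul_def, mul_one, map_sub]
        split_ifs <;> simp
      obtain ⟨y, hy, hye⟩ := h2 h1
      have : y = (1 : B) ⊗ₜ[A] a := (TensorProduct.piScalarRight A B B (Fin n)).injective hye
      rwa [this] at hy
    have hkill : Submodule.span B ((fun t : Fin n → A => (1 : B) ⊗ₜ[A] t) ''
        {v | ∃ i j, v = Pi.single i (f j) - Pi.single j (f i)}) ≤
        LinearMap.ker (LinearMap.baseChange B (triv f).mkQ) := by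
      rw [Submodule.span_le]
      rintro _ ⟨t, ht, rfl⟩
      rw [SetLike.mem_coe, LinearMap.mem_ker, LinearMap.baseChange_tmul]
      have : (triv f).mkQ t = 0 := by
        rw [Submodule.mkQ_apply]
        exact (Submodule.Quotient.mk_eq_zero _).mpr (Submodule.subset_span ht)
      rw [this, tmul_zero]
    exact hkill hmem
  exact (Submodule.Quotient.mk_eq_zero _).mp hgoal

/-- local-global principle for `H_1`-regularity -/
theorem isH1Regular_of_localization_maximal {B : Type u} [CommRing B] {n : ℕ} (f : Fin n → B)
    (h : ∀ (P : Ideal B) [P.IsMaximal],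
      CAlgX.IsH1Regular (algebraMap B (Localization.AtPrime P) ∘ f)) :
    CAlgX.IsH1Regular f := by
  classical
  intro a ha
  refine Submodule.mem_of_localization_maximal
    (fun P _ => Fin n → Localization.AtPrime P)
    (fun P _ => LinearMap.pi fun i =>
      (Algebra.linearMap B (Localization.AtPrime P)) ∘ₗ LinearMap.proj i) a (triv f) ?_
  intro P _
  show _ ∈ Submodule.localized' (Localization.AtPrime P) P.primeCompl _ (triv f)
  rw [triv, Submodule.localized'_span]
  have h1 := h P (fun k => algebraMap B (Localization.AtPrime P) (a k))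
    (by simp only [Function.comp, ← map_mul, ← map_sum, ha, map_zero])
  refine Submodule.span_mono ?_ h1
  rintro _ ⟨i, j, rfl⟩
  refine ⟨Pi.single i (f j) - Pi.single j (f i), ⟨i, j, rfl⟩, ?_⟩
  funext k
  simp only [LinearMap.pi_apply, LinearMap.coe_comp, LinearMap.coe_proj, Function.comp,
    Function.eval, Algebra.linearMap_apply, Pi.sub_apply, Pi.single_apply, map_sub]
  split_ifs <;> simp

end Groth.Agent.Lib.Helper91.H1Desc
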