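import Mathlib
import Groth.Prelude.Def_CAlgX
import Groth.Agent.Lib.Helper91.H1Desc2
import Groth.Agent.Lib.Helper9.KoszulDesc

/-!
# `H_1`-regular sequences in local rings: change of minimal generators
-/

set_option autoImplicit false
set_option linter.style.haveILetI false
universe u

namespace Groth.Agent.Lib.Helper91.H1Desc

open Groth.Agent.Lib.Helper91.RegBC

/-- degree one consequence of quasi-regularity -/
theorem coeff_mem_of_isQuasiRegular {R : Type u} [CommRing R] {r : ℕ} (f : Fin r → R)
    (hf : CAlgX.IsQuasiRegular f) (a : Fin r → R)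
    (ha : ∑ i, a i * f i ∈ Ideal.span (Set.range f) ^ 2) (k : Fin r) :
    a k ∈ Ideal.span (Set.range f) := by
  classical
  let P : MvPolynomial (Fin r) R := ∑ i, MvPolynomial.C (a i) * MvPolynomial.X i
  have hP : P.IsHomogeneous 1 := by
    apply MvPolynomial.IsHomogeneous.sum
    intro i _
    have := (MvPolynomial.isHomogeneous_C (Fin r) (a i)).mul (MvPolynomial.isHomogeneous_X R i)
    simpa using this
  have hev : MvPolynomial.eval f P = ∑ i, a i * f i := by
    simp [P]
  have := hf 1 P hP (by rw [hev]; exact ha) (Finsupp.single k 1)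
  have hc : P.coeff (Finsupp.single k 1) = a k := by
    simp only [P, MvPolynomial.coeff_sum, MvPolynomial.coeff_C_mul, MvPolynomial.coeff_X]
    rw [Finset.sum_eq_single k]
    · simp
    · intro i _ hik
      rw [if_neg, mul_zero]
      intro h
      exact hik (Finsupp.single_left_injective one_ne_zero h)
    · intro h; exact absurd (Finset.mem_univ k) h
  rwa [hc] at this

theorem card_eq_of_isQuasiRegular {R : Type u} [CommRing R] {n m : ℕ} (f : Fin n → R)
    (g : Fin m → R) (hf : CAlgX.IsQuasiRegular f) (hg : CAlgX.IsQuasiRegular g)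
    (hfg : Ideal.span (Set.range f) = Ideal.span (Set.range g))
    (hne : Ideal.span (Set.range f) ≠ ⊤) : n = m := by
  obtain ⟨b⟩ := Groth.Agent.Lib.Helper9.KoszulDesc.exists_basis_of_isQuasiRegular n f hf rfl
  obtain ⟨b'⟩ := Groth.Agent.Lib.Helper9.KoszulDesc.exists_basis_of_isQuasiRegular m g hg hfg.symm
  haveI : Nontrivial (R ⧸ Ideal.span (Set.range f)) := Ideal.Quotient.nontrivial_iff.mpr hne
  have := Fintype.card_congr (b.indexEquiv b')
  simpa using this

/-- in a local ring: a quasi-regular generating sequence of an ideal which is also generated by an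
`H_1`-regular sequence of the same length is `H_1`-regular -/
theorem isH1Regular_local {C : Type u} [CommRing C] [IsLocalRing C] {n : ℕ} (f g : Fin n → C)
    (hfg : Ideal.span (Set.range f) = Ideal.span (Set.range g))
    (hI : Ideal.span (Set.range f) ≤ IsLocalRing.maximalIdeal C)
    (hf : CAlgX.IsQuasiRegular f) (hg : CAlgX.IsH1Regular g) : CAlgX.IsH1Regular f := by
  classical
  have hfM : ∀ i, ∃ c : Fin n → C, ∑ k, c k * g k = f i := fun i =>
    Ideal.mem_span_range_iff_exists_fun.mp (hfg ▸ Ideal.subset_span ⟨i, rfl⟩)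
  choose M hM using hfM
  have hgN : ∀ j, ∃ c : Fin n → C, ∑ k, c k * f k = g j := fun j =>
    Ideal.mem_span_range_iff_exists_fun.mp (hfg.symm ▸ Ideal.subset_span ⟨j, rfl⟩)
  choose N hN using hgN
  let Mm : Matrix (Fin n) (Fin n) C := Matrix.of M
  let Nm : Matrix (Fin n) (Fin n) C := Matrix.of N
  have hP : ∀ i, ∑ k, (Mm * Nm) i k * f k = f i := by
    intro i
    simp only [Matrix.mul_apply, Finset.sum_mul]
    rw [Finset.sum_comm]
    rw [← hM i]
    refine Finset.sum_congr rfl fun j _ => ?_
    rw [← hN j, Finset.mul_sum]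
    refine Finset.sum_congr rfl fun k _ => ?_
    simp only [Mm, Nm, Matrix.of_apply]
    ring
  have hPI : ∀ i k, (Mm * Nm - 1) i k ∈ Ideal.span (Set.range f) := by
    intro i k
    apply coeff_mem_of_isQuasiRegular f hf (fun k => (Mm * Nm - 1) i k)
    have : ∑ k, (Mm * Nm - 1) i k * f k = 0 := by
      simp only [Matrix.sub_apply, Matrix.one_apply, sub_mul, Finset.sum_sub_distrib, hP i]
      simp
    rw [this]
    exact zero_mem _
  have hdet : IsUnit (Mm * Nm).det := by
    have h1 : (Mm * Nm).map (IsLocalRing.residue C) = 1 := by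
      ext i k
      have h0 := hI (hPI i k)
      rw [← IsLocalRing.residue_eq_zero_iff] at h0
      rw [Matrix.sub_apply, map_sub, sub_eq_zero] at h0
      rw [Matrix.map_apply, h0, Matrix.one_apply, Matrix.one_apply]
      split_ifs <;> simp
    have h2 : IsLocalRing.residue C (Mm * Nm).det = 1 := by
      rw [RingHom.map_det, RingHom.mapMatrix_apply, h1, Matrix.det_one]
    by_contra hnu
    have h3 : (Mm * Nm).det ∈ IsLocalRing.maximalIdeal C :=
      (IsLocalRing.mem_maximalIdeal _).mpr hnu
    rw [← IsLocalRing.residue_eq_zero_iff, h2] at h3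
    exact one_ne_zero h3
  have hdetM : IsUnit Mm.det := by
    rw [Matrix.det_mul] at hdet
    exact isUnit_of_mul_isUnit_left hdet
  have hfMg : f = Mm.mulVec g := by
    funext i
    rw [← hM i]
    rfl
  have hginv : ∀ j, g j = ∑ k, Mm⁻¹ j k * f k := by
    intro j
    have : Mm⁻¹.mulVec f = g := by
      rw [hfMg, Matrix.mulVec_mulVec, Matrix.nonsing_inv_mul _ hdetM, Matrix.one_mulVec]
    rw [← this]
    rfl
  intro a ha
  have hb : Matrix.vecMul a Mm ∈ triv g := by
    apply hg
    have : ∑ k, Matrix.vecMul a Mm k * g k = ∑ i, a i * f i := by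
      simp only [Matrix.vecMul, dotProduct, Finset.sum_mul]
      rw [Finset.sum_comm]
      refine Finset.sum_congr rfl fun i _ => ?_
      rw [← hM i, Finset.mul_sum]
      refine Finset.sum_congr rfl fun k _ => ?_
      simp only [Mm, Matrix.of_apply]
      ring
    rw [this, ha]
  have := vecMul_mem_triv f g Mm⁻¹ hginv _ hb
  rwa [Matrix.vecMul_vecMul, Matrix.mul_nonsing_inv _ hdetM, Matrix.vecMul_one] at this

end Groth.Agent.Lib.Helper91.H1Desc
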