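import Mathlib
import Groth.Prelude.Def_CAlgX
import Groth.Prelude.Def_RegImm
import Groth.Prelude.Def_PP16
import Groth.Agent.Lib.Helper91.H1Desc3
import Groth.Agent.Lib.Helper91.RegBC3
import Groth.Agent.Lib.Helper9.KoszulDesc
import Groth.Agent.S2103
import Groth.Agent.S9252

/-!
# Faithfully flat descent of locally `k`-regular ideals, `k` = koszul, h1, quasi
-/

set_option autoImplicit false
set_option linter.style.haveILetI false
universe u

namespace Groth.Agent.Lib.Helper91.H1Desc

open Groth.Agent.Lib.Helper91.RegBC TensorProduct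

/-- the ideal `I` is locally (on basic opens around the primes containing it) generated by a
sequence of kind `k` -/
def LocK (k : RegImm.Kind) {A : Type u} [CommRing A] (I : Ideal A) : Prop :=
  ∀ 𝔭 : PrimeSpectrum A, I ≤ 𝔭.asIdeal → ∃ g : A, g ∉ 𝔭.asIdeal ∧
    ∃ l : List (Localization.Away g), k.Seq (Localization.Away g) l ∧
      I.map (algebraMap A (Localization.Away g)) = Ideal.ofList l

theorem locK_koszul_iff {A : Type u} [CommRing A] (I : Ideal A) :
    LocK .koszul I ↔ LCI.IsKoszulRegularIdeal I := Iff.rfl

theorem pp16_of_locK_quasi {A : Type u} [CommRing A] (I : Ideal A) (h : LocK .quasi I) :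
    PP16.IsLocallyQuasiRegular A I := by
  intro P _ hP
  obtain ⟨g, hg, l, hl, hJl⟩ := h ⟨P, inferInstance⟩ hP
  refine ⟨g, hg, l.length, l.get, hl, ?_⟩
  rw [hJl]
  exact span_range_get l

theorem ofList_ofFn {R : Type u} [CommRing R] {r : ℕ} (f : Fin r → R) :
    Ideal.ofList (List.ofFn f) = Ideal.span (Set.range f) := by
  show Ideal.span {x | x ∈ List.ofFn f} = _
  congr 1
  ext x
  simp [List.mem_ofFn]

theorem get_ofFn_eq {R : Type u} {r : ℕ} (f : Fin r → R) :
    (List.ofFn f).get = f ∘ Fin.cast (List.length_ofFn (f := f)) := by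
  funext i
  simp only [List.get_eq_getElem, List.getElem_ofFn, Function.comp]
  rfl

theorem locK_quasi_of_pp16 {A : Type u} [CommRing A] (I : Ideal A)
    (h : PP16.IsLocallyQuasiRegular A I) : LocK .quasi I := by
  intro 𝔭 h𝔭
  obtain ⟨a, ha, r, f, hf, hfI⟩ := h 𝔭.asIdeal h𝔭
  refine ⟨a, ha, List.ofFn f, ?_, ?_⟩
  · show CAlgX.IsQuasiRegular (List.ofFn f).get
    rw [get_ofFn_eq, isQuasiRegular_cast]
    exact hf
  · rw [ofList_ofFn, hfI]

theorem locK_quasi_of_h1 {A : Type u} [CommRing A] (I : Ideal A) (h : LocK .h1 I) :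
    LocK .quasi I := by
  intro 𝔭 h𝔭
  obtain ⟨g, hg, l, hl, hJl⟩ := h 𝔭 h𝔭
  exact ⟨g, hg, l, Groth.Agent.S2103.result _ hl, hJl⟩

/-- the key step for `H_1`-regular descent -/
theorem key_h1 {A' B B' : Type u} [CommRing A'] [CommRing B] [CommRing B'] [Algebra A' B']
    [Algebra B B'] [Module.FaithfullyFlat A' B'] [Module.Flat B B']
    (I' : Ideal A') (J : Ideal B)
    (hIJ : I'.map (algebraMap A' B') = J.map (algebraMap B B'))
    (hJ : LocK .h1 J) {r : ℕ} (f : Fin r → A') (hf : CAlgX.IsQuasiRegular f)
    (hfI : Ideal.span (Set.range f) = I') : CAlgX.IsH1Regular f := by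
  apply isH1Regular_of_faithfullyFlat (B := B')
  apply isH1Regular_of_localization_maximal
  intro P _
  have hcomp : algebraMap B' (Localization.AtPrime P) ∘ (algebraMap A' B' ∘ f) =
      algebraMap A' (Localization.AtPrime P) ∘ f := by
    funext i
    exact (IsScalarTower.algebraMap_apply A' B' (Localization.AtPrime P) (f i)).symm
  rw [hcomp]
  have hspf : Ideal.span (Set.range (algebraMap A' (Localization.AtPrime P) ∘ f)) =
      I'.map (algebraMap A' (Localization.AtPrime P)) := by
    rw [Set.range_comp, ← Ideal.map_span, hfI]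
  by_cases hle : I'.map (algebraMap A' B') ≤ P
  · have hJq : J ≤ P.comap (algebraMap B B') := Ideal.map_le_iff_le_comap.mp (hIJ ▸ hle)
    obtain ⟨b, hb, l₀, hl₀, hJl₀⟩ := hJ ⟨P.comap (algebraMap B B'), inferInstance⟩ hJq
    have hbu : IsUnit (algebraMap B (Localization.AtPrime P) b) := by
      rw [IsScalarTower.algebraMap_apply B B' (Localization.AtPrime P)]
      exact IsLocalization.map_units (Localization.AtPrime P)
        (⟨algebraMap B B' b, hb⟩ : P.primeCompl)
    letI : Algebra (Localization.Away b) (Localization.AtPrime P) :=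
      (IsLocalization.Away.lift b hbu).toAlgebra
    haveI : IsScalarTower B (Localization.Away b) (Localization.AtPrime P) :=
      IsScalarTower.of_algebraMap_eq (fun x => (IsLocalization.Away.lift_eq b hbu x).symm)
    haveI : Module.Flat B (Localization.AtPrime P) := Module.Flat.trans B B' _
    haveI : Module.Flat (Localization.Away b) (Localization.AtPrime P) :=
      (Module.flat_iff_of_isLocalization (Localization.Away b) (Submonoid.powers b) _).mpr
        inferInstance
    haveI : Module.Flat A' (Localization.AtPrime P) := Module.Flat.trans A' B' _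
    have hl₀' : CAlgX.IsH1Regular l₀.get := hl₀
    have hg : CAlgX.IsH1Regular
        (algebraMap (Localization.Away b) (Localization.AtPrime P) ∘ l₀.get) :=
      isH1Regular_map_of_flat _ (RingHom.flat_algebraMap_iff.mpr inferInstance) _ hl₀'
    have hfC : CAlgX.IsQuasiRegular (algebraMap A' (Localization.AtPrime P) ∘ f) :=
      isQuasiRegular_map_of_flat _ (RingHom.flat_algebraMap_iff.mpr inferInstance) _ hf
    have hspg : Ideal.span (Set.range
        (algebraMap (Localization.Away b) (Localization.AtPrime P) ∘ l₀.get)) =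
        I'.map (algebraMap A' (Localization.AtPrime P)) := by
      rw [Set.range_comp, ← Ideal.map_span, span_range_get, ← hJl₀, Ideal.map_map,
        ← IsScalarTower.algebraMap_eq, IsScalarTower.algebraMap_eq B B' (Localization.AtPrime P),
        ← Ideal.map_map, ← hIJ, Ideal.map_map, ← IsScalarTower.algebraMap_eq]
    have hIm : I'.map (algebraMap A' (Localization.AtPrime P)) ≤
        IsLocalRing.maximalIdeal (Localization.AtPrime P) := by
      rw [← Localization.AtPrime.map_eq_maximalIdeal,
        IsScalarTower.algebraMap_eq A' B' (Localization.AtPrime P), ← Ideal.map_map]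
      exact Ideal.map_mono hle
    have hne : I'.map (algebraMap A' (Localization.AtPrime P)) ≠ ⊤ := by
      intro h
      rw [h, top_le_iff] at hIm
      exact Ideal.IsPrime.ne_top' hIm
    have hlen : r = l₀.length :=
      card_eq_of_isQuasiRegular _ _ hfC (Groth.Agent.S2103.result _ hg) (hspf.trans hspg.symm)
        (hspf ▸ hne)
    subst hlen
    exact isH1Regular_local _ _ (hspf.trans hspg.symm) (hspf ▸ hIm) hfC hg
  · apply isH1Regular_of_span_eq_top
    rw [hspf]
    obtain ⟨x, hx, hxP⟩ := SetLike.not_le_iff_exists.mp hle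
    have hxu : IsUnit (algebraMap B' (Localization.AtPrime P) x) :=
      IsLocalization.map_units (Localization.AtPrime P) (⟨x, hxP⟩ : P.primeCompl)
    refine Ideal.eq_top_of_isUnit_mem _ ?_ hxu
    rw [IsScalarTower.algebraMap_eq A' B' (Localization.AtPrime P), ← Ideal.map_map]
    exact Ideal.mem_map_of_mem _ hx

section right

attribute [local instance] Algebra.TensorProduct.rightAlgebra

/-- **Faithfully flat descent of locally `H_1`-regular ideals.** -/
theorem locK_h1_descent (A B : Type u) [CommRing A] [CommRing B] [Algebra A B]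
    [Module.FaithfullyFlat A B] (I : Ideal A)
    (h : LocK .h1 (I.map (algebraMap A B))) : LocK .h1 I := by
  have hq : PP16.IsLocallyQuasiRegular A I :=
    Groth.Agent.S9252.result A B I (pp16_of_locK_quasi _ (locK_quasi_of_h1 _ h))
  intro 𝔭 h𝔭
  obtain ⟨a, ha, r, f, hf, hfI⟩ := hq 𝔭.asIdeal h𝔭
  refine ⟨a, ha, List.ofFn f, ?_, ?_⟩
  · haveI : Module.Flat B (Localization.Away a ⊗[A] B) :=
      Groth.Agent.Lib.Helper9.KoszulDesc.flat_right A (Localization.Away a) B
    have key := key_h1 (A' := Localization.Away a) (B := B) (B' := Localization.Away a ⊗[A] B)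
      (I.map (algebraMap A (Localization.Away a))) (I.map (algebraMap A B)) (by
        rw [Ideal.map_map, Ideal.map_map, ← IsScalarTower.algebraMap_eq,
          ← IsScalarTower.algebraMap_eq]) h f hf hfI
    show CAlgX.IsH1Regular (List.ofFn f).get
    rw [get_ofFn_eq, isH1Regular_cast]
    exact key
  · rw [ofList_ofFn, hfI]

end right

/-- faithfully flat descent of locally `k`-regular ideals, `k ≠ regular` -/
theorem locK_descent (k : RegImm.Kind) (hk : k ≠ RegImm.Kind.regular) (A B : Type u) [CommRing A]
    [CommRing B] [Algebra A B] [Module.FaithfullyFlat A B] (I : Ideal A)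
    (h : LocK k (I.map (algebraMap A B))) : LocK k I := by
  cases k with
  | regular => exact absurd rfl hk
  | koszul => exact Groth.Agent.Lib.Helper9.KoszulDesc.koszulRegularIdeal_descent A B I h
  | h1 => exact locK_h1_descent A B I h
  | quasi =>
    exact locK_quasi_of_pp16 _ (Groth.Agent.S9252.result A B I (pp16_of_locK_quasi _ h))

end Groth.Agent.Lib.Helper91.H1Desc
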