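import Mathlib
import Groth.Prelude.Def_RegImm
import Groth.Prelude.Def_LCI2
import Groth.Agent.Lib.Helper91.KRegIdeal1
import Groth.Agent.Lib.Helper91.ImmRestrict
import Groth.Agent.Lib.Helper9.KoszulDesc

/-!
# fpqc descent of Koszul-regular immersions
-/

set_option autoImplicit false
set_option linter.style.haveILetI false
universe u

open CategoryTheory CategoryTheory.Limits AlgebraicGeometry TopologicalSpace Opposite

namespace Groth.Agent.Lib.Helper91.KRegDesc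

open Groth.Agent.Lib.Helper91.RegBC Groth.Agent.Lib.Helper91.KRegComp
  Groth.Agent.Lib.Helper91.KRegIdeal

theorem primeIdealOf_fromSpec {X : Scheme.{u}} {U : X.Opens} (hU : IsAffineOpen U)
    (𝔭 : PrimeSpectrum Γ(X, U)) (h : hU.fromSpec 𝔭 ∈ U) :
    hU.primeIdealOf ⟨hU.fromSpec 𝔭, h⟩ = 𝔭 := by
  apply hU.fromSpec.isOpenEmbedding.injective
  rw [hU.fromSpec_primeIdealOf]

theorem descent {X Y X' Y' : Scheme.{u}} (i : Y ⟶ X) [IsImmersion i]
    (g : X' ⟶ X) [Flat g] [Surjective g] [QuasiCompact g]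
    (i' : Y' ⟶ X') (g' : Y' ⟶ Y) (hsq : IsPullback g' i' i g)
    (hi' : RegImm.IsRegularImmersion .koszul i') : RegImm.IsRegularImmersion .koszul i := by
  refine ⟨inferInstance, fun y => ?_⟩
  obtain ⟨U, hU, hyU, hUle⟩ := exists_isAffineOpen_mem_and_subset (x := i y)
    (U := i.coborderRange) (Groth.Agent.Lib.Helper91.ImmRestrict.mem_coborderRange i y)
  haveI hclU : IsClosedImmersion (i ∣_ U) :=
    Groth.Agent.Lib.Helper91.ImmRestrict.isClosedImmersion_restrict i U hUle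
  -- finite affine cover of `g⁻¹ U`
  have hqc : IsCompact (X := X') (g ⁻¹ᵁ U) :=
    QuasiCompact.isCompact_preimage (f := g) U U.2 hU.isCompact
  obtain ⟨I, hI, e⟩ := isCompact_iff_finite_and_eq_biUnion_affineOpens.mp hqc
  haveI := hI.to_subtype
  haveI : ∀ j : I, IsAffine ((j.1.1 : X'.Opens) : Scheme.{u}) := fun j => j.1.2
  have hIle : ∀ j : I, j.1.1 ≤ g ⁻¹ᵁ U := by
    intro j
    rw [e]
    exact le_iSup₂ (f := fun (i : X'.affineOpens) (_ : i ∈ I) => (i : X'.Opens)) j.1 j.2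
  let h : (∐ fun j : I => ((j.1.1 : X'.Opens) : Scheme.{u})) ⟶ X' :=
    Sigma.desc (fun j : I => j.1.1.ι)
  haveI : Flat h := IsZariskiLocalAtSource.sigmaDesc (P := @Flat) (fun j => inferInstance)
  -- points of the coproduct
  have hpt : ∀ x'' : ↥(∐ fun j : I => ((j.1.1 : X'.Opens) : Scheme.{u})), h x'' ∈ g ⁻¹ᵁ U := by
    intro x''
    obtain ⟨⟨j, y'⟩, rfl⟩ :=
      (sigmaMk (fun j : I => ((j.1.1 : X'.Opens) : Scheme.{u}))).surjective x''
    have : h ((Sigma.ι (fun j : I => ((j.1.1 : X'.Opens) : Scheme.{u})) j) y') = j.1.1.ι y' := by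
      rw [← Scheme.Hom.comp_apply, Sigma.ι_desc]
    rw [sigmaMk_mk, this]
    exact hIle j y'.2
  have H₁ := IsPullback.of_hasPullback i' h
  have hi'' : RegImm.IsRegularImmersion .koszul (pullback.snd i' h) :=
    isRegularImmersion_of_isPullback_of_flat H₁ .koszul hi'
  have H₂ : IsPullback (pullback.fst i' h ≫ g') (pullback.snd i' h) i (h ≫ g) :=
    H₁.paste_horiz hsq
  have etop : (⊤ : (∐ fun j : I => ((j.1.1 : X'.Opens) : Scheme.{u})).Opens) ≤
      (h ≫ g) ⁻¹ᵁ U := fun x'' _ => hpt x''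
  obtain ⟨hcl'', hker''⟩ := chart H₂ ⟨U, hU⟩ ⟨⊤, isAffineOpen_top _⟩ etop
  haveI : IsClosedImmersion (pullback.snd i' h) :=
    IsZariskiLocalAtTarget.of_iSup_eq_top (P := @IsClosedImmersion) (fun _ : Unit => ⊤)
      (by simp) (fun _ => hcl'')
  have hK'' := isKoszulRegularIdeal_ker (pullback.snd i' h) hi''.2 ⟨⊤, isAffineOpen_top _⟩
  -- faithful flatness
  have hφflat : ((h ≫ g).appLE U ⊤ etop).hom.Flat :=
    Flat.flat_appLE (h ≫ g) hU (isAffineOpen_top _) etop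
  letI := ((h ≫ g).appLE U ⊤ etop).hom.toAlgebra
  haveI : Module.Flat Γ(X, U) Γ(∐ fun j : I => ((j.1.1 : X'.Opens) : Scheme.{u}), ⊤) := hφflat
  haveI : Module.FaithfullyFlat Γ(X, U)
      Γ(∐ fun j : I => ((j.1.1 : X'.Opens) : Scheme.{u}), ⊤) := by
    apply Module.FaithfullyFlat.of_comap_surjective
    intro 𝔭
    have hxU : hU.fromSpec 𝔭 ∈ U := fromSpec_mem hU 𝔭
    obtain ⟨x', hx'⟩ := ‹Surjective g›.surj (hU.fromSpec 𝔭)
    have hx'U : x' ∈ g ⁻¹ᵁ U := by
      show g x' ∈ U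
      rw [hx']
      exact hxU
    rw [e] at hx'U
    simp only [Opens.mem_iSup] at hx'U
    obtain ⟨j, hj, hx'j⟩ := hx'U
    set x'' := (Sigma.ι (fun j : I => ((j.1.1 : X'.Opens) : Scheme.{u})) ⟨j, hj⟩) ⟨x', hx'j⟩
      with hx''
    have hhx : h x'' = x' := by
      rw [hx'', ← Scheme.Hom.comp_apply, Sigma.ι_desc]
      rfl
    refine ⟨(isAffineOpen_top _).primeIdealOf ⟨x'', trivial⟩, ?_⟩
    have hc := IsAffineOpen.comap_primeIdealOf_appLE (f := h ≫ g) U hU ⊤ (isAffineOpen_top _)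
      etop (x := x'') trivial
    refine Eq.trans hc ?_
    have : (h ≫ g) x'' = hU.fromSpec 𝔭 := by
      rw [Scheme.Hom.comp_apply, hhx, hx']
    simp only [this]
    exact primeIdealOf_fromSpec hU 𝔭 hxU
  have hK : LCI.IsKoszulRegularIdeal (RingHom.ker (i.app U).hom) := by
    apply Groth.Agent.Lib.Helper9.KoszulDesc.koszulRegularIdeal_descent Γ(X, U)
      Γ(∐ fun j : I => ((j.1.1 : X'.Opens) : Scheme.{u}), ⊤)
    have : (RingHom.ker (i.app U).hom).map
        (algebraMap Γ(X, U) Γ(∐ fun j : I => ((j.1.1 : X'.Opens) : Scheme.{u}), ⊤)) =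
        RingHom.ker ((pullback.snd i' h).app ⊤).hom := hker''.symm
    rw [this]
    exact hK''
  exact isRegularImmersionAt_of_ideal i ⟨U, hU⟩ hK y hyU

end Groth.Agent.Lib.Helper91.KRegDesc
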