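import Mathlib
import Groth.Prelude.Def_RegImm
import Groth.Agent.Lib.Helper91.KRegDesc1
import Groth.Agent.Lib.Helper91.H1Desc4

/-!
# Regular immersions of kind `k` vs locally `k`-regular ideals; fpqc descent for `k ≠ regular`
-/

set_option autoImplicit false
set_option linter.style.haveILetI false
universe u

open CategoryTheory CategoryTheory.Limits AlgebraicGeometry TopologicalSpace Opposite

namespace Groth.Agent.Lib.Helper91.KDesc

open Groth.Agent.Lib.Helper91.RegBC Groth.Agent.Lib.Helper91.KRegComp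
  Groth.Agent.Lib.Helper91.KRegIdeal Groth.Agent.Lib.Helper91.H1Desc
  Groth.Agent.Lib.Helper91.KRegDesc

variable {X Z : Scheme.{u}}

/-- the ideal of a `k`-regular closed immersion on an affine open is locally `k`-regular -/
theorem locK_ker (k : RegImm.Kind) (i : Z ⟶ X) [IsClosedImmersion i]
    (hi : ∀ z : Z, RegImm.IsRegularImmersionAt k i z) (U : X.affineOpens) :
    LocK k (RingHom.ker (i.app U.1).hom) := by
  intro 𝔮 h𝔮
  have hxU : U.2.fromSpec 𝔮 ∈ U.1 := fromSpec_mem U.2 𝔮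
  have hsupp : U.2.fromSpec 𝔮 ∈ i.ker.support := by
    rw [Scheme.IdealSheafData.mem_support_iff_of_mem hxU, Scheme.Hom.ker_apply,
      Scheme.mem_zeroLocus_iff]
    intro f hf
    rw [fromSpec_mem_basicOpen_iff]
    exact fun h => h (h𝔮 hf)
  have hrange : U.2.fromSpec 𝔮 ∈ Set.range i := by
    have h1 : (i.ker.support : Set X) = closure (Set.range i) := Scheme.Hom.support_ker i
    have h2 : U.2.fromSpec 𝔮 ∈ (i.ker.support : Set X) := hsupp
    rw [h1, i.isClosedEmbedding.isClosed_range.closure_eq] at h2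
    exact h2
  obtain ⟨z, hz⟩ := hrange
  obtain ⟨U₂, hzU₂, hcl₂, rs, hrs, hker₂⟩ := hi z
  have hxU₂ : U.2.fromSpec 𝔮 ∈ U₂.1 := hz ▸ hzU₂
  obtain ⟨b, hb₂, hxb⟩ := U.2.exists_basicOpen_le (V := U₂.1) ⟨U.2.fromSpec 𝔮, hxU₂⟩ hxU
  have hxb' : U.2.fromSpec 𝔮 ∈ X.basicOpen b := hxb
  have hb𝔮 : b ∉ 𝔮.asIdeal := (fromSpec_mem_basicOpen_iff U.2 𝔮 b).mp hxb'
  have hzb : i z ∈ X.basicOpen b := hz ▸ hxb'
  obtain ⟨-, hseq, hker⟩ := shrink i k U₂ hcl₂ rs hrs hker₂
    ⟨X.basicOpen b, U.2.basicOpen b⟩ hb₂ z hzb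
  haveI : IsClosedImmersion (i ∣_ U.1) := IsZariskiLocalAtTarget.restrict ‹_› U.1
  obtain ⟨-, hkerb⟩ := chart_basicOpen i U b
  haveI : IsLocalization.Away b Γ(X, X.basicOpen b) := U.2.isLocalization_basicOpen b
  let e : Localization.Away b ≃ₐ[Γ(X, U.1)] Γ(X, X.basicOpen b) :=
    IsLocalization.algEquiv (Submonoid.powers b) _ _
  let ψ : Γ(X, X.basicOpen b) →+* Localization.Away b := e.symm.toRingEquiv.toRingHom
  have hψ : ψ.comp (algebraMap Γ(X, U.1) Γ(X, X.basicOpen b)) =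
      algebraMap Γ(X, U.1) (Localization.Away b) := RingHom.ext fun a => e.symm.commutes a
  have hgen : (RingHom.ker (i.app U.1).hom).map (algebraMap Γ(X, U.1) (Localization.Away b)) =
      Ideal.ofList ((rs.map (X.presheaf.map (homOfLE hb₂).op).hom).map ψ) := by
    rw [← Ideal.map_ofList, ← hker, hkerb, Ideal.map_map, hψ]
  have hne : Ideal.ofList ((rs.map (X.presheaf.map (homOfLE hb₂).op).hom).map ψ) ≠ ⊤ := by
    rw [← hgen, IsLocalization.map_algebraMap_ne_top_iff_disjoint (Submonoid.powers b)]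
    rw [Set.disjoint_left]
    rintro x ⟨n, rfl⟩ hx
    exact hb𝔮 (𝔮.isPrime.mem_of_pow_mem n (h𝔮 hx))
  exact ⟨b, hb𝔮, (rs.map (X.presheaf.map (homOfLE hb₂).op).hom).map ψ,
    seq_map_of_flat ψ (RingHom.Flat.of_bijective e.symm.bijective) k _ hseq hne, hgen⟩

/-- conversely: a locally `k`-regular kernel ideal on an affine chart gives a `k`-regular
immersion at the points of the chart -/
theorem isRegularImmersionAt_of_locK (k : RegImm.Kind) (i : Z ⟶ X) (U : X.affineOpens)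
    [IsClosedImmersion (i ∣_ U.1)]
    (h : LocK k (RingHom.ker (i.app U.1).hom)) (z : Z) (hz : i z ∈ U.1) :
    RegImm.IsRegularImmersionAt k i z := by
  have h𝔭 : RingHom.ker (i.app U.1).hom ≤ (U.2.primeIdealOf ⟨i z, hz⟩).asIdeal := by
    intro f hf
    by_contra hcon
    have h1 : i z ∈ X.basicOpen f := by
      have := (fromSpec_mem_basicOpen_iff U.2 (U.2.primeIdealOf ⟨i z, hz⟩) f).mpr hcon
      rwa [U.2.fromSpec_primeIdealOf] at this
    have h2 : z ∈ i ⁻¹ᵁ X.basicOpen f := h1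
    rw [Scheme.preimage_basicOpen, (RingHom.mem_ker.mp hf : (i.app U.1).hom f = 0)] at h2
    simp at h2
  obtain ⟨g, hg, l, hl, hIl⟩ := h (U.2.primeIdealOf ⟨i z, hz⟩) h𝔭
  have hzg : i z ∈ X.basicOpen g := by
    have := (fromSpec_mem_basicOpen_iff U.2 (U.2.primeIdealOf ⟨i z, hz⟩) g).mpr hg
    rwa [U.2.fromSpec_primeIdealOf] at this
  obtain ⟨hclg, hkerg⟩ := chart_basicOpen i U g
  haveI : IsLocalization.Away g Γ(X, X.basicOpen g) := U.2.isLocalization_basicOpen g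
  let e : Localization.Away g ≃ₐ[Γ(X, U.1)] Γ(X, X.basicOpen g) :=
    IsLocalization.algEquiv (Submonoid.powers g) _ _
  let ψ : Localization.Away g →+* Γ(X, X.basicOpen g) := e.toRingEquiv.toRingHom
  have hψ : ψ.comp (algebraMap Γ(X, U.1) (Localization.Away g)) =
      algebraMap Γ(X, U.1) Γ(X, X.basicOpen g) := RingHom.ext fun a => e.commutes a
  have hgen : RingHom.ker (i.app (X.basicOpen g)).hom = Ideal.ofList (l.map ψ) := by
    rw [hkerg, ← hψ, ← Ideal.map_map, hIl, Ideal.map_ofList]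
  have hne : Ideal.ofList (l.map ψ) ≠ ⊤ := by
    rw [← hgen]
    intro htop
    have h1 : (1 : Γ(X, X.basicOpen g)) ∈ RingHom.ker (i.app (X.basicOpen g)).hom := by
      rw [htop]; trivial
    rw [RingHom.mem_ker, map_one] at h1
    haveI : Nonempty ↥(i ⁻¹ᵁ X.basicOpen g) := ⟨⟨_, hzg⟩⟩
    haveI : Nontrivial Γ(Z, i ⁻¹ᵁ X.basicOpen g) := inferInstance
    exact one_ne_zero h1
  exact ⟨⟨X.basicOpen g, U.2.basicOpen g⟩, hzg, hclg, l.map ψ,
    seq_map_of_flat ψ (RingHom.Flat.of_bijective e.bijective) k _ hl hne, hgen⟩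

/-- fpqc descent of regular immersions of kind `k ≠ regular` -/
theorem descent {X Y X' Y' : Scheme.{u}} (k : RegImm.Kind) (hk : k ≠ RegImm.Kind.regular)
    (i : Y ⟶ X) [IsImmersion i]
    (g : X' ⟶ X) [Flat g] [Surjective g] [QuasiCompact g]
    (i' : Y' ⟶ X') (g' : Y' ⟶ Y) (hsq : IsPullback g' i' i g)
    (hi' : RegImm.IsRegularImmersion k i') : RegImm.IsRegularImmersion k i := by
  refine ⟨inferInstance, fun y => ?_⟩
  obtain ⟨U, hU, hyU, hUle⟩ := exists_isAffineOpen_mem_and_subset (x := i y)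
    (U := i.coborderRange) (Groth.Agent.Lib.Helper91.ImmRestrict.mem_coborderRange i y)
  haveI hclU : IsClosedImmersion (i ∣_ U) :=
    Groth.Agent.Lib.Helper91.ImmRestrict.isClosedImmersion_restrict i U hUle
  have hqc : IsCompact (X := X') (g ⁻¹ᵁ U) :=
    QuasiCompact.isCompact_preimage (f := g) U U.2 hU.isCompact
  obtain ⟨I, hI, e⟩ := isCompact_iff_finite_and_eq_biUnion_affineOpens.mp hqc
  haveI := hI.to_subtype
  haveI : ∀ j : I, IsAffine ((j.1.1 : X'.Opens) : Scheme.{u}) := fun j => j.1.2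
  have hIle : ∀ j : I, j.1.1 ≤ g ⁻¹ᵁ U := by
    intro j
    rw [e]
    exact le_iSup₂ (f := fun (i : X'.affineOpens) (_ : i ∈ I) => (i : X'.Opens)) j.1 j.2
  let h : (∐ fun j : I => ((j.1.1 : X'.Opens) : Scheme.{u})) ⟶ X' :=
    Sigma.desc (fun j : I => j.1.1.ι)
  haveI : Flat h := IsZariskiLocalAtSource.sigmaDesc (P := @Flat) (fun j => inferInstance)
  have hpt : ∀ x'' : ↥(∐ fun j : I => ((j.1.1 : X'.Opens) : Scheme.{u})), h x'' ∈ g ⁻¹ᵁ U := by
    intro x''
    obtain ⟨⟨j, y'⟩, rfl⟩ :=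
      (sigmaMk (fun j : I => ((j.1.1 : X'.Opens) : Scheme.{u}))).surjective x''
    have : h ((Sigma.ι (fun j : I => ((j.1.1 : X'.Opens) : Scheme.{u})) j) y') = j.1.1.ι y' := by
      rw [← Scheme.Hom.comp_apply, Sigma.ι_desc]
    rw [sigmaMk_mk, this]
    exact hIle j y'.2
  have H₁ := IsPullback.of_hasPullback i' h
  have hi'' : RegImm.IsRegularImmersion k (pullback.snd i' h) :=
    isRegularImmersion_of_isPullback_of_flat H₁ k hi'
  have H₂ : IsPullback (pullback.fst i' h ≫ g') (pullback.snd i' h) i (h ≫ g) :=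
    H₁.paste_horiz hsq
  have etop : (⊤ : (∐ fun j : I => ((j.1.1 : X'.Opens) : Scheme.{u})).Opens) ≤
      (h ≫ g) ⁻¹ᵁ U := fun x'' _ => hpt x''
  obtain ⟨hcl'', hker''⟩ := chart H₂ ⟨U, hU⟩ ⟨⊤, isAffineOpen_top _⟩ etop
  haveI : IsClosedImmersion (pullback.snd i' h) :=
    IsZariskiLocalAtTarget.of_iSup_eq_top (P := @IsClosedImmersion) (fun _ : Unit => ⊤)
      (by simp) (fun _ => hcl'')
  have hK'' := locK_ker k (pullback.snd i' h) hi''.2 ⟨⊤, isAffineOpen_top _⟩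
  have hφflat : ((h ≫ g).appLE U ⊤ etop).hom.Flat :=
    Flat.flat_appLE (h ≫ g) hU (isAffineOpen_top _) etop
  letI := ((h ≫ g).appLE U ⊤ etop).hom.toAlgebra
  haveI : Module.Flat Γ(X, U) Γ(∐ fun j : I => ((j.1.1 : X'.Opens) : Scheme.{u}), ⊤) := hφflat
  haveI : Module.FaithfullyFlat Γ(X, U)
      Γ(∐ fun j : I => ((j.1.1 : X'.Opens) : Scheme.{u}), ⊤) := by
    apply Module.FaithfullyFlat.of_comap_surjective
    intro 𝔭
    have hxU : hU.fromSpec 𝔭 ∈ U := fromSpec_mem hU 𝔭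
    obtain ⟨x', hx'⟩ := ‹Surjective g›.surj (hU.fromSpec 𝔭)
    have hx'U : x' ∈ g ⁻¹ᵁ U := by
      show g x' ∈ U
      rw [hx']
      exact hxU
    rw [e] at hx'U
    simp only [Opens.mem_iSup] at hx'U
    obtain ⟨j, hj, hx'j⟩ := hx'U
    set x'' := (Sigma.ι (fun j : I => ((j.1.1 : X'.Opens) : Scheme.{u})) ⟨j, hj⟩) ⟨x', hx'j⟩
      with hx''
    have hhx : h x'' = x' := by
      rw [hx'', ← Scheme.Hom.comp_apply, Sigma.ι_desc]
      rfl
    refine ⟨(isAffineOpen_top _).primeIdealOf ⟨x'', trivial⟩, ?_⟩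
    have hc := IsAffineOpen.comap_primeIdealOf_appLE (f := h ≫ g) U hU ⊤ (isAffineOpen_top _)
      etop (x := x'') trivial
    refine Eq.trans hc ?_
    have : (h ≫ g) x'' = hU.fromSpec 𝔭 := by
      rw [Scheme.Hom.comp_apply, hhx, hx']
    simp only [this]
    exact primeIdealOf_fromSpec hU 𝔭 hxU
  have hK : LocK k (RingHom.ker (i.app U).hom) := by
    apply locK_descent k hk Γ(X, U) Γ(∐ fun j : I => ((j.1.1 : X'.Opens) : Scheme.{u}), ⊤)
    have : (RingHom.ker (i.app U).hom).map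
        (algebraMap Γ(X, U) Γ(∐ fun j : I => ((j.1.1 : X'.Opens) : Scheme.{u}), ⊤)) =
        RingHom.ker ((pullback.snd i' h).app ⊤).hom := hker''.symm
    rw [this]
    exact hK''
  exact isRegularImmersionAt_of_locK k i ⟨U, hU⟩ hK y hyU

end Groth.Agent.Lib.Helper91.KDesc
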