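import Mathlib
import Groth.Agent.Lib.Helper91.GenPrime5

/-!
# The ideal of an integral closed subscheme in an affine chart
-/

set_option autoImplicit false
universe u

open CategoryTheory AlgebraicGeometry TopologicalSpace Opposite

namespace Groth.Agent.Lib.Helper91.IntegralSub

variable {X : Scheme.{u}} (𝓘 : X.IdealSheafData)

/-- the image of the generic point specializes to every point of the support -/
theorem genericPoint_specializes_of_mem_support [IsIntegral 𝓘.subscheme] {x : X}
    (hx : x ∈ 𝓘.support) : 𝓘.subschemeι (genericPoint 𝓘.subscheme) ⤳ x := by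
  have h0 : x ∈ Set.range 𝓘.subschemeι := by
    rw [𝓘.range_subschemeι]; exact hx
  obtain ⟨z, rfl⟩ := h0
  exact (genericPoint_specializes z).map 𝓘.subschemeι.continuous

theorem genericPoint_mem_support [IsIntegral 𝓘.subscheme] :
    𝓘.subschemeι (genericPoint 𝓘.subscheme) ∈ 𝓘.support := by
  have h0 : 𝓘.subschemeι (genericPoint 𝓘.subscheme) ∈ Set.range 𝓘.subschemeι := ⟨_, rfl⟩
  rw [𝓘.range_subschemeι] at h0
  exact h0

/-- the ideal of an integral closed subscheme on an affine open meeting it is prime -/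
theorem isPrime_ideal [IsIntegral 𝓘.subscheme] (U : X.affineOpens)
    (hζU : 𝓘.subschemeι (genericPoint 𝓘.subscheme) ∈ U.1) : (𝓘.ideal U).IsPrime := by
  have : IsDomain Γ(𝓘.subscheme, 𝓘.subschemeι ⁻¹ᵁ U.1) := by
    apply +allowSynthFailures IsIntegral.component_integral
    exact ⟨⟨genericPoint 𝓘.subscheme, hζU⟩⟩
  rw [← 𝓘.ker_subschemeι_app U]
  exact RingHom.ker_isPrime _

/-- the ideal of an integral closed subscheme on an affine open is the prime of the generic point -/
theorem ideal_eq_primeIdealOf [IsIntegral 𝓘.subscheme] (U : X.affineOpens)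
    (hζU : 𝓘.subschemeι (genericPoint 𝓘.subscheme) ∈ U.1) :
    𝓘.ideal U = (U.2.primeIdealOf ⟨𝓘.subschemeι (genericPoint 𝓘.subscheme), hζU⟩).asIdeal := by
  have hprime := isPrime_ideal 𝓘 U hζU
  apply le_antisymm
  · exact (Groth.Agent.Lib.Helper70.mem_support_iff_le_primeIdealOf 𝓘 U _ hζU).mp
      (genericPoint_mem_support 𝓘)
  · set η := U.2.fromSpec ⟨𝓘.ideal U, hprime⟩ with hη
    have hηU : η ∈ U.1 := Groth.Agent.Lib.Helper70.fromSpec_mem U.2 _
    have hηq : U.2.primeIdealOf ⟨η, hηU⟩ = ⟨𝓘.ideal U, hprime⟩ :=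
      Groth.Agent.Lib.Helper70.primeIdealOf_fromSpec U.2 _
    have hηD : η ∈ 𝓘.support := by
      rw [Groth.Agent.Lib.Helper70.mem_support_iff_le_primeIdealOf 𝓘 U η hηU, hηq]
    have hsp := genericPoint_specializes_of_mem_support 𝓘 hηD
    have hle := (Groth.Agent.Lib.Helper91.GenPrime.specializes_iff_primeIdealOf_le U.2 hζU hηU).mp hsp
    rw [hηq] at hle
    exact hle

end Groth.Agent.Lib.Helper91.IntegralSub
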