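import Mathlib
import Groth.Prelude
import Groth.Agent.Lib.Helper70.AffineStalk
import Groth.Agent.Lib.Helper91.GenPrime5
import Groth.Agent.Lib.Helper91.IntegralSub

/-!
# The stalk of an ideal sheaf at a point
-/

set_option autoImplicit false
universe u

open CategoryTheory AlgebraicGeometry TopologicalSpace Opposite

namespace Groth.Agent.Lib.Helper91.StalkIdeal

variable {X : Scheme.{u}}

/-- the stalk of an ideal sheaf at a point, as an ideal of the local ring -/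
noncomputable def stalkIdeal (𝓘 : X.IdealSheafData) (x : X) : Ideal (X.presheaf.stalk x) :=
  ⨆ (U : X.affineOpens) (hx : x ∈ U.1), (𝓘.ideal U).map (X.presheaf.germ U.1 x hx).hom

theorem exists_affine (x : X) : ∃ U : X.affineOpens, x ∈ U.1 := by
  obtain ⟨_, ⟨W, hW, rfl⟩, hxW, -⟩ := (X.isBasis_affineOpens).exists_subset_of_mem_open
    (Set.mem_univ x) isOpen_univ
  exact ⟨⟨W, hW⟩, hxW⟩

theorem map_germ_eq_of_le (𝓘 : X.IdealSheafData) {U V : X.affineOpens} (h : V ≤ U) {x : X}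
    (hx : x ∈ V.1) :
    (𝓘.ideal U).map (X.presheaf.germ U.1 x (h hx)).hom =
      (𝓘.ideal V).map (X.presheaf.germ V.1 x hx).hom := by
  rw [← 𝓘.map_ideal h, Ideal.map_map, ← CommRingCat.hom_comp]
  congr 2
  exact (X.presheaf.germ_res (homOfLE (show V.1 ≤ U.1 from h)) x hx).symm

theorem stalkIdeal_eq (𝓘 : X.IdealSheafData) (U : X.affineOpens) {x : X} (hx : x ∈ U.1) :
    stalkIdeal 𝓘 x = (𝓘.ideal U).map (X.presheaf.germ U.1 x hx).hom := by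
  apply le_antisymm
  · apply iSup₂_le
    intro V hxV
    obtain ⟨_, ⟨W, hW, rfl⟩, hxW, hWUV⟩ := (X.isBasis_affineOpens).exists_subset_of_mem_open
      (show x ∈ ((U.1 ⊓ V.1 : X.Opens) : Set X) from ⟨hx, hxV⟩) (U.1 ⊓ V.1).isOpen
    have hWU : (⟨W, hW⟩ : X.affineOpens) ≤ U := fun y hy => (hWUV hy).1
    have hWV : (⟨W, hW⟩ : X.affineOpens) ≤ V := fun y hy => (hWUV hy).2
    rw [map_germ_eq_of_le 𝓘 hWV hxW, map_germ_eq_of_le 𝓘 hWU hxW]
  · exact le_iSup₂_of_le U hx le_rfl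

theorem stalkIdeal_mul (𝓘 𝓙 : X.IdealSheafData) (x : X) :
    stalkIdeal (𝓘 * 𝓙) x = stalkIdeal 𝓘 x * stalkIdeal 𝓙 x := by
  obtain ⟨U, hx⟩ := exists_affine x
  rw [stalkIdeal_eq _ U hx, stalkIdeal_eq _ U hx, stalkIdeal_eq _ U hx,
    Scheme.IdealSheafData.ideal_mul, Pi.mul_apply, Ideal.map_mul]

theorem stalkIdeal_one (x : X) : stalkIdeal (1 : X.IdealSheafData) x = ⊤ := by
  obtain ⟨U, hx⟩ := exists_affine x
  rw [stalkIdeal_eq _ U hx, Scheme.IdealSheafData.one_eq_top, Scheme.IdealSheafData.ideal_top,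
    Pi.top_apply, Ideal.map_top]

/-- taking stalks of ideal sheaves is multiplicative -/
noncomputable def stalkIdealHom (x : X) : X.IdealSheafData →* Ideal (X.presheaf.stalk x) where
  toFun 𝓘 := stalkIdeal 𝓘 x
  map_one' := by rw [stalkIdeal_one, Ideal.one_eq_top]
  map_mul' 𝓘 𝓙 := stalkIdeal_mul 𝓘 𝓙 x

theorem stalkIdealHom_apply (x : X) (𝓘 : X.IdealSheafData) :
    stalkIdealHom x 𝓘 = stalkIdeal 𝓘 x := rfl

theorem stalkIdeal_pow (𝓘 : X.IdealSheafData) (n : ℕ) (x : X) :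
    stalkIdeal (𝓘 ^ n) x = stalkIdeal 𝓘 x ^ n := by
  rw [← stalkIdealHom_apply, map_pow, stalkIdealHom_apply]

theorem stalkIdeal_prod {ι : Type*} (s : Finset ι) (f : ι → X.IdealSheafData) (x : X) :
    stalkIdeal (∏ i ∈ s, f i) x = ∏ i ∈ s, stalkIdeal (f i) x := by
  rw [← stalkIdealHom_apply, map_prod]
  rfl

theorem stalkIdeal_mono {𝓘 𝓙 : X.IdealSheafData} (h : 𝓘 ≤ 𝓙) (x : X) :
    stalkIdeal 𝓘 x ≤ stalkIdeal 𝓙 x := by
  obtain ⟨U, hx⟩ := exists_affine x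
  rw [stalkIdeal_eq _ U hx, stalkIdeal_eq _ U hx]
  exact Ideal.map_mono (h U)

theorem le_of_forall_stalkIdeal_le {𝓘 𝓙 : X.IdealSheafData}
    (h : ∀ x, stalkIdeal 𝓘 x ≤ stalkIdeal 𝓙 x) : 𝓘 ≤ 𝓙 := by
  intro U
  rw [U.2.ideal_le_iff]
  intro x hx
  rw [← stalkIdeal_eq _ U hx, ← stalkIdeal_eq _ U hx]
  exact h x

theorem ideal_eq_of_forall_stalkIdeal_eq {𝓘 𝓙 : X.IdealSheafData} (U : X.affineOpens)
    (h : ∀ x ∈ U.1, stalkIdeal 𝓘 x = stalkIdeal 𝓙 x) : 𝓘.ideal U = 𝓙.ideal U := by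
  rw [U.2.ideal_ext_iff]
  intro x hx
  rw [← stalkIdeal_eq _ U hx, ← stalkIdeal_eq _ U hx]
  exact h x hx

theorem eq_of_forall_stalkIdeal_eq {𝓘 𝓙 : X.IdealSheafData}
    (h : ∀ x, stalkIdeal 𝓘 x = stalkIdeal 𝓙 x) : 𝓘 = 𝓙 :=
  le_antisymm (le_of_forall_stalkIdeal_le fun x => (h x).le)
    (le_of_forall_stalkIdeal_le fun x => (h x).ge)

theorem stalkIdeal_eq_top_iff (𝓘 : X.IdealSheafData) (x : X) :
    stalkIdeal 𝓘 x = ⊤ ↔ x ∉ 𝓘.support := by
  obtain ⟨U, hx⟩ := exists_affine x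
  letI ax : Algebra Γ(X, U.1) (X.presheaf.stalk x) :=
    TopCat.Presheaf.algebra_section_stalk X.presheaf ⟨x, hx⟩
  haveI lx : IsLocalization.AtPrime (X.presheaf.stalk x) (U.2.primeIdealOf ⟨x, hx⟩).asIdeal :=
    U.2.isLocalization_stalk ⟨x, hx⟩
  rw [stalkIdeal_eq _ U hx, Groth.Agent.Lib.Helper70.mem_support_iff_le_primeIdealOf 𝓘 U x hx]
  have h1 := IsLocalization.map_algebraMap_ne_top_iff_disjoint
    (U.2.primeIdealOf ⟨x, hx⟩).asIdeal.primeCompl (X.presheaf.stalk x) (𝓘.ideal U)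
  have h2 : Disjoint ((U.2.primeIdealOf ⟨x, hx⟩).asIdeal.primeCompl : Set Γ(X, U.1))
      (𝓘.ideal U : Set Γ(X, U.1)) ↔ 𝓘.ideal U ≤ (U.2.primeIdealOf ⟨x, hx⟩).asIdeal := by
    rw [Set.disjoint_left]
    constructor
    · intro h a ha
      by_contra hcon
      exact h hcon ha
    · intro h a ha ha'
      exact ha (h ha')
  rw [← h2, ← h1]
  exact not_not.symm

theorem map_stalkSpecializes (𝓘 : X.IdealSheafData) {x y : X} (h : y ⤳ x) :
    (stalkIdeal 𝓘 x).map (X.presheaf.stalkSpecializes h).hom = stalkIdeal 𝓘 y := by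
  obtain ⟨U, hx⟩ := exists_affine x
  have hy : y ∈ U.1 := h.mem_open U.1.isOpen hx
  rw [stalkIdeal_eq _ U hx, stalkIdeal_eq _ U hy, Ideal.map_map, ← CommRingCat.hom_comp,
    X.presheaf.germ_stalkSpecializes]

theorem exists_generator {𝓓 : X.IdealSheafData} (h𝓓 : BlowUp.IsEffCartierIdeal 𝓓) (x : X) :
    ∃ π : X.presheaf.stalk x, π ∈ nonZeroDivisors (X.presheaf.stalk x) ∧
      stalkIdeal 𝓓 x = Ideal.span {π} := by
  obtain ⟨U, hx, f, hf, hfI⟩ := h𝓓 x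
  letI ax : Algebra Γ(X, U.1) (X.presheaf.stalk x) :=
    TopCat.Presheaf.algebra_section_stalk X.presheaf ⟨x, hx⟩
  haveI lx : IsLocalization.AtPrime (X.presheaf.stalk x) (U.2.primeIdealOf ⟨x, hx⟩).asIdeal :=
    U.2.isLocalization_stalk ⟨x, hx⟩
  refine ⟨algebraMap Γ(X, U.1) (X.presheaf.stalk x) f, ?_, ?_⟩
  · exact IsLocalization.map_nonZeroDivisors_le (U.2.primeIdealOf ⟨x, hx⟩).asIdeal.primeCompl
      (X.presheaf.stalk x) ⟨f, hf, rfl⟩
  · rw [stalkIdeal_eq _ U hx, hfI, Ideal.map_span, Set.image_singleton]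
    rfl

theorem stalkIdeal_eq_primeOf (𝓓 : X.IdealSheafData) [IsIntegral 𝓓.subscheme] {x : X}
    (hx : x ∈ 𝓓.support) :
    stalkIdeal 𝓓 x = Groth.Agent.Lib.Helper91.GenPrime.primeOf
      (Groth.Agent.Lib.Helper91.IntegralSub.genericPoint_specializes_of_mem_support 𝓓 hx) := by
  obtain ⟨U, hxU⟩ := exists_affine x
  have hsp := Groth.Agent.Lib.Helper91.IntegralSub.genericPoint_specializes_of_mem_support 𝓓 hx
  have hζU : 𝓓.subschemeι (genericPoint 𝓓.subscheme) ∈ U.1 := hsp.mem_open U.1.isOpen hxU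
  rw [stalkIdeal_eq _ U hxU, Groth.Agent.Lib.Helper91.IntegralSub.ideal_eq_primeIdealOf 𝓓 U hζU]
  exact Groth.Agent.Lib.Helper91.GenPrime.map_germ_primeIdealOf_eq_primeOf U.2 hsp hxU

end Groth.Agent.Lib.Helper91.StalkIdeal
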