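import Mathlib
import Groth.Prelude.Def_Found

/-!
# Catenary rings: the dimension formula across a covering pair of primes
-/

set_option autoImplicit false
universe u

namespace Groth.Agent.Lib.Helper91.CatenaryDim

/-- a chain realising the height is saturated and starts at a minimal element -/
theorem exists_saturated_series {α : Type*} [PartialOrder α] (q : α) (n : ℕ)
    (h : Order.height q = n) :
    ∃ s : LTSeries α, s.last = q ∧ s.length = n ∧ IsMin s.head ∧
      ∀ i : Fin s.length, s (Fin.castSucc i) ⋖ s (Fin.succ i) := by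
  obtain ⟨s, hlast, hlen⟩ := Order.exists_series_of_height_eq_coe q h
  have hh : (s.length : ℕ∞) = Order.height s.last := by rw [hlast, h, hlen]
  have hidx := fun i => Order.height_eq_index_of_length_eq_height_last hh i
  refine ⟨s, hlast, hlen, ?_, ?_⟩
  · rw [← Order.height_eq_zero]
    have := hidx 0
    simp only [Fin.val_zero, Nat.cast_zero] at this
    exact this
  · intro i
    refine ⟨s.strictMono (Fin.castSucc_lt_succ), ?_⟩
    intro c hc1 hc2
    have h1 := Order.height_add_one_le hc1
    have h2 := Order.height_add_one_le hc2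
    rw [hidx] at h1 h2
    have h3 : ((i.castSucc : Fin (s.length + 1)) : ℕ) = i := rfl
    have h4 : ((i.succ : Fin (s.length + 1)) : ℕ) = i + 1 := rfl
    rw [h3] at h1
    rw [h4] at h2
    have h5 : ((i : ℕ) : ℕ∞) + 1 + 1 ≤ ((i + 1 : ℕ) : ℕ∞) := (add_le_add_left h1 1).trans h2
    have h6 : ((i : ℕ) : ℕ∞) + 1 + 1 = ((i + 2 : ℕ) : ℕ∞) := by push_cast; ring
    rw [h6] at h5
    have := ENat.natCast_le_natCast.mp h5
    omega

variable {R : Type u} [CommRing R]

/-- in a Noetherian catenary ring whose spectrum has a least element, a covering pair of primes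
`P ⋖ M` satisfies `ht M = ht P + 1` -/
theorem height_eq_add_one_of_covBy [IsNoetherianRing R] (hcat : CAlg.IsCatenary R)
    (p₀ : PrimeSpectrum R) (hp₀ : ∀ q, p₀ ≤ q) {P M : PrimeSpectrum R} (hcov : P ⋖ M) :
    M.asIdeal.height = P.asIdeal.height + 1 := by
  have hPfin : P.asIdeal.height ≠ ⊤ := Ideal.height_ne_top_of_isPrime
  have hMfin : M.asIdeal.height ≠ ⊤ := Ideal.height_ne_top_of_isPrime
  obtain ⟨n, hn⟩ := ENat.ne_top_iff_exists.mp hPfin
  obtain ⟨k, hk⟩ := ENat.ne_top_iff_exists.mp hMfin
  rw [← hn, ← hk]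
  have hn' : Order.height P = n := by rw [← PrimeSpectrum.height_eq_orderHeight, hn]
  have hk' : Order.height M = k := by rw [← PrimeSpectrum.height_eq_orderHeight, hk]
  obtain ⟨sP, hPlast, hPlen, hPmin, hPsat⟩ := exists_saturated_series P n hn'
  obtain ⟨sM, hMlast, hMlen, hMmin, hMsat⟩ := exists_saturated_series M k hk'
  have hPhead : sP.head = p₀ := le_antisymm (hPmin (hp₀ _)) (hp₀ _)
  have hMhead : sM.head = p₀ := le_antisymm (hMmin (hp₀ _)) (hp₀ _)
  have hrel : sP.last < M := hPlast ▸ hcov.lt
  have hlen := hcat.2 (sP.snoc M hrel) sM (by rw [RelSeries.head_snoc, hPhead, hMhead])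
    (by rw [RelSeries.last_snoc, hMlast]) ?_ hMsat
  · have h1 : (sP.snoc M hrel).length = sP.length + 1 := rfl
    rw [h1, hPlen, hMlen] at hlen
    rw [← hlen]
    push_cast
    rfl
  · have key : ∀ i : Fin (sP.length + 1),
        (sP.snoc M hrel) (Fin.castSucc i) ⋖ (sP.snoc M hrel) (Fin.succ i) := ?_
    · exact key
    intro i
    induction i using Fin.lastCases with
    | last =>
      have e1 : (sP.snoc M hrel).toFun (Fin.castSucc (n := sP.length + 1) (Fin.last sP.length)) =
          sP.last := RelSeries.snoc_castSucc sP M hrel (Fin.last sP.length)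
      have e2 : (sP.snoc M hrel).toFun (Fin.succ (n := sP.length + 1) (Fin.last sP.length)) = M :=
        RelSeries.last_snoc' sP M hrel
      have h' : (sP.snoc M hrel).toFun (Fin.castSucc (n := sP.length + 1) (Fin.last sP.length)) ⋖
          (sP.snoc M hrel).toFun (Fin.succ (n := sP.length + 1) (Fin.last sP.length)) := by
        rw [e1, e2, hPlast]
        exact hcov
      exact h'
    | cast j =>
      have e1 : (sP.snoc M hrel).toFun
          (Fin.castSucc (n := sP.length + 1) (Fin.castSucc (n := sP.length) j)) =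
          sP (Fin.castSucc j) := RelSeries.snoc_castSucc sP M hrel (Fin.castSucc j)
      have e2 : (sP.snoc M hrel).toFun
          (Fin.succ (n := sP.length + 1) (Fin.castSucc (n := sP.length) j)) =
          sP (Fin.succ j) := by
        rw [Fin.succ_castSucc]
        exact RelSeries.snoc_castSucc sP M hrel (Fin.succ j)
      have h' : (sP.snoc M hrel).toFun
          (Fin.castSucc (n := sP.length + 1) (Fin.castSucc (n := sP.length) j)) ⋖
          (sP.snoc M hrel).toFun
          (Fin.succ (n := sP.length + 1) (Fin.castSucc (n := sP.length) j)) := by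
        rw [e1, e2]
        exact hPsat j
      exact h'

/-- Krull: if the maximal ideal is minimal over `P + (f)` and `P ≠ m`, then `P ⋖ m`. -/
theorem covBy_of_mem_minimalPrimes [IsNoetherianRing R] {P M : Ideal R} [hP : P.IsPrime]
    [hM : M.IsPrime] {f : R} (hmin : M ∈ (P ⊔ Ideal.span {f}).minimalPrimes) (hne : P ≠ M) :
    (⟨P, hP⟩ : PrimeSpectrum R) ⋖ ⟨M, hM⟩ := by
  have hPM : P ≤ M := le_sup_left.trans hmin.1.2
  have hht := Ideal.map_height_le_one_of_mem_minimalPrimes hmin
  refine ⟨lt_of_le_of_ne hPM (fun h => hne (congrArg PrimeSpectrum.asIdeal h)), ?_⟩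
  intro Q hPQ hQM
  have hPQ' : P ≤ Q.asIdeal := hPQ.le
  have hQM' : Q.asIdeal < M := hQM
  have hsurj : Function.Surjective (Ideal.Quotient.mk P) := Ideal.Quotient.mk_surjective
  have hkerQ : RingHom.ker (Ideal.Quotient.mk P) ≤ Q.asIdeal := by rwa [Ideal.mk_ker]
  have hkerM : RingHom.ker (Ideal.Quotient.mk P) ≤ M := by rwa [Ideal.mk_ker]
  haveI : (Q.asIdeal.map (Ideal.Quotient.mk P)).IsPrime :=
    Ideal.map_isPrime_of_surjective hsurj hkerQ
  haveI : (M.map (Ideal.Quotient.mk P)).IsPrime := Ideal.map_isPrime_of_surjective hsurj hkerM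
  have hcomapQ : (Q.asIdeal.map (Ideal.Quotient.mk P)).comap (Ideal.Quotient.mk P) = Q.asIdeal := by
    rw [Ideal.comap_map_of_surjective _ hsurj, ← RingHom.ker_eq_comap_bot]
    exact sup_eq_left.mpr hkerQ
  have hcomapM : (M.map (Ideal.Quotient.mk P)).comap (Ideal.Quotient.mk P) = M := by
    rw [Ideal.comap_map_of_surjective _ hsurj, ← RingHom.ker_eq_comap_bot]
    exact sup_eq_left.mpr hkerM
  have hlt : Q.asIdeal.map (Ideal.Quotient.mk P) < M.map (Ideal.Quotient.mk P) := by
    refine lt_of_le_of_ne (Ideal.map_mono hQM'.le) ?_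
    intro h
    have := congrArg (Ideal.comap (Ideal.Quotient.mk P)) h
    rw [hcomapQ, hcomapM] at this
    exact hQM'.ne this
  have h1 := Ideal.height_strict_mono_of_isPrime hlt
  have h0 : (Q.asIdeal.map (Ideal.Quotient.mk P)).height = 0 := by
    have := lt_of_lt_of_le h1 hht
    exact Order.lt_one_iff.mp this
  rw [Ideal.height_eq_zero_iff_eq_bot] at h0
  have : Q.asIdeal = P := by
    rw [← hcomapQ, h0, ← RingHom.ker_eq_comap_bot, Ideal.mk_ker]
  exact hPQ.ne (PrimeSpectrum.ext this.symm)

end Groth.Agent.Lib.Helper91.CatenaryDim
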