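import Mathlib
import Groth.Prelude
import Groth.Agent.Lib.Helper91.StalkIdeal
import Groth.Agent.Lib.Helper20.IdealComap

/-!
# The stalk of an inverse image ideal sheaf; descent of principal ideals
-/

set_option autoImplicit false
universe u

open CategoryTheory AlgebraicGeometry TopologicalSpace Opposite

namespace Groth.Agent.Lib.Helper91.StalkIdeal

variable {X Y : Scheme.{u}}

theorem appLE_germ (f : Y ⟶ X) (V : X.Opens) (U : Y.Opens) (e : U ≤ f ⁻¹ᵁ V) (y : Y)
    (hy : y ∈ U) :
    f.appLE V U e ≫ Y.presheaf.germ U y hy = X.presheaf.germ V (f y) (e hy) ≫ f.stalkMap y := by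
  rw [Scheme.Hom.germ_stalkMap, Scheme.Hom.appLE, Category.assoc, Y.presheaf.germ_res]

/-- the stalk of the inverse image ideal sheaf is generated by the image of the stalk -/
theorem stalkIdeal_comap (f : Y ⟶ X) (𝓘 : X.IdealSheafData) (y : Y) :
    stalkIdeal (𝓘.comap f) y = (stalkIdeal 𝓘 (f y)).map (f.stalkMap y).hom := by
  obtain ⟨V, hV⟩ := exists_affine (f y)
  obtain ⟨_, ⟨U, hU, rfl⟩, hyU, hUV⟩ := (Y.isBasis_affineOpens).exists_subset_of_mem_open
    (show y ∈ ((f ⁻¹ᵁ V.1 : Y.Opens) : Set Y) from hV) (f ⁻¹ᵁ V.1).isOpen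
  rw [stalkIdeal_eq _ ⟨U, hU⟩ hyU, stalkIdeal_eq _ V hV,
    Groth.Agent.Lib.Helper20.ideal_comap f 𝓘 ⟨U, hU⟩ V hUV, Ideal.map_map, Ideal.map_map,
    ← CommRingCat.hom_comp, ← CommRingCat.hom_comp, appLE_germ]

/-- descent of principal ideals generated by a nonzerodivisor along a flat local homomorphism -/
theorem exists_span_eq_of_map_eq_span {A B : Type*} [CommRing A] [CommRing B] [IsLocalRing A]
    [IsLocalRing B] [Algebra A B] [Module.Flat A B] [IsLocalHom (algebraMap A B)]
    (I : Ideal A) (hI : I.FG) {g : B} (hg : g ∈ nonZeroDivisors B)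
    (h : I.map (algebraMap A B) = Ideal.span {g}) :
    ∃ f : A, f ∈ nonZeroDivisors A ∧ I = Ideal.span {f} := by
  classical
  haveI : Module.FaithfullyFlat A B := Module.FaithfullyFlat.of_flat_of_isLocalHom
  have hinj : Function.Injective (algebraMap A B) := FaithfulSMul.algebraMap_injective A B
  obtain ⟨F, hF⟩ := hI
  have hFI : ∀ f ∈ F, f ∈ I := fun f hf => hF ▸ Ideal.subset_span hf
  -- every generator is a multiple of `g`
  have hc : ∀ f ∈ I, ∃ c : B, algebraMap A B f = c * g := by
    intro f hf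
    have h1 : algebraMap A B f ∈ Ideal.span {g} := h ▸ Ideal.mem_map_of_mem _ hf
    obtain ⟨c, hc⟩ := Ideal.mem_span_singleton'.mp h1
    exact ⟨c, hc.symm⟩
  choose! c hc using hc
  -- `g` is a combination of the generators
  have hgmem : g ∈ Ideal.span ((algebraMap A B) '' (F : Set A)) := by
    rw [← Ideal.map_span, hF, h]
    exact Ideal.mem_span_singleton_self g
  obtain ⟨b, hb⟩ := (Submodule.mem_span_image_finset_iff_exists_fun' (R := B)
    (v := algebraMap A B) (s := F)).mp hgmem
  have hsum : (∑ f ∈ F, b f * c f) * g = 1 * g := by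
    rw [one_mul, Finset.sum_mul]
    conv_rhs => rw [← hb]
    apply Finset.sum_congr rfl
    intro f hf
    rw [smul_eq_mul, hc f (hFI f hf)]
    ring
  have h1 : ∑ f ∈ F, b f * c f = 1 := (mul_cancel_right_mem_nonZeroDivisors hg).mp hsum
  have hex : ∃ f ∈ F, IsUnit (b f * c f) := by
    by_contra hcon
    push Not at hcon
    have h2 : ∑ f ∈ F, b f * c f ∈ IsLocalRing.maximalIdeal B :=
      Ideal.sum_mem _ (fun f hf => (IsLocalRing.mem_maximalIdeal _).mpr (hcon f hf))
    rw [h1] at h2
    exact (IsLocalRing.mem_maximalIdeal (1 : B)).mp h2 isUnit_one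
  obtain ⟨f, hfF, hu⟩ := hex
  have hcu : IsUnit (c f) := isUnit_of_mul_isUnit_right hu
  have hfI := hFI f hfF
  refine ⟨f, ?_, ?_⟩
  · rw [mem_nonZeroDivisors_iff_right]
    intro a ha
    apply hinj
    rw [map_zero]
    have h3 : algebraMap A B a * algebraMap A B f = 0 := by rw [← map_mul, ha, map_zero]
    rw [hc f hfI, ← mul_assoc] at h3
    have h4 : algebraMap A B a * c f = 0 := (mem_nonZeroDivisors_iff_right.mp hg) _ h3
    exact (hcu.mul_left_eq_zero).mp h4
  · apply le_antisymm
    · intro a ha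
      rw [← Ideal.comap_map_eq_self_of_faithfullyFlat (B := B) (Ideal.span {f}), Ideal.mem_comap,
        Ideal.map_span, Set.image_singleton, Ideal.mem_span_singleton']
      refine ⟨c a * ↑hcu.unit⁻¹, ?_⟩
      rw [hc a ha, hc f hfI]
      have : c a * ↑hcu.unit⁻¹ * (c f * g) = c a * g * (c f * ↑hcu.unit⁻¹) := by ring
      rw [this, IsUnit.mul_val_inv, mul_one]
    · rw [Ideal.span_singleton_le_iff_mem]
      exact hfI

end Groth.Agent.Lib.Helper91.StalkIdeal
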