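import Mathlib
import Groth.Prelude
import Groth.Agent.Lib.Helper91.CatenaryDim
import Groth.Agent.Lib.Helper91.StalkIdealComap
import Groth.Agent.Lib.Helper91.ClosedImmStalk
import Groth.Agent.Lib.Helper91.CodimOne

/-!
# Dictionary between generizations and primes of the local ring, for proper intersections
-/

set_option autoImplicit false
universe u
open CategoryTheory AlgebraicGeometry TopologicalSpace Opposite
open Groth.Agent.Lib.Helper91.StalkIdeal Groth.Agent.Lib.Helper91.GenPrime

namespace Groth.Agent.Lib.Helper91.CatenaryInt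

variable {X : Scheme.{u}}

theorem primeOf_mono {a b c : X} (h₁ : a ⤳ b) (h₂ : b ⤳ c) :
    primeOf (h₁.trans h₂) ≤ primeOf h₂ := by
  intro x hx
  have hx' : (X.presheaf.stalkSpecializes (h₁.trans h₂)).hom x ∈
      IsLocalRing.maximalIdeal (X.presheaf.stalk a) := hx
  show (X.presheaf.stalkSpecializes h₂).hom x ∈ IsLocalRing.maximalIdeal (X.presheaf.stalk b)
  by_contra hnot
  have hu : IsUnit ((X.presheaf.stalkSpecializes h₂).hom x) := by
    by_contra h
    exact hnot ((IsLocalRing.mem_maximalIdeal _).mpr h)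
  have hu' := hu.map (X.presheaf.stalkSpecializes h₁).hom
  have hcomp : (X.presheaf.stalkSpecializes h₁).hom ((X.presheaf.stalkSpecializes h₂).hom x) =
      (X.presheaf.stalkSpecializes (h₁.trans h₂)).hom x := by
    rw [← X.presheaf.stalkSpecializes_comp h₁ h₂]
    rfl
  rw [hcomp] at hu'
  exact (IsLocalRing.mem_maximalIdeal _).mp hx' hu'

theorem mem_support_of_stalkIdeal_le_primeOf (𝓙 : X.IdealSheafData) {y x : X} (h : y ⤳ x)
    (hle : stalkIdeal 𝓙 x ≤ primeOf h) : y ∈ 𝓙.support := by
  by_contra hy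
  have htop := (stalkIdeal_eq_top_iff 𝓙 y).mpr hy
  rw [← map_stalkSpecializes 𝓙 h] at htop
  have h1 : (stalkIdeal 𝓙 x).map (X.presheaf.stalkSpecializes h).hom ≤
      IsLocalRing.maximalIdeal (X.presheaf.stalk y) :=
    (Ideal.map_mono hle).trans Ideal.map_comap_le
  rw [htop] at h1
  exact (IsLocalRing.maximalIdeal.isMaximal _).ne_top (top_le_iff.mp h1)

theorem exists_least_prime [IrreducibleSpace X] (x : X) :
    ∃ p₀ : PrimeSpectrum (X.presheaf.stalk x), ∀ q, p₀ ≤ q := by
  have hη : ∀ y : X, genericPoint X ⤳ y := fun y => (genericPoint_spec X).specializes trivial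
  refine ⟨⟨primeOf (hη x), inferInstance⟩, ?_⟩
  intro q
  obtain ⟨y, hy, hq⟩ := exists_specializes_primeOf_eq x q.asIdeal
  show primeOf (hη x) ≤ q.asIdeal
  rw [← hq]
  exact primeOf_mono (hη y) hy

theorem ker_stalkMap_eq_primeOf {Z : Scheme.{u}} (i : Z ⟶ X) [IsClosedImmersion i] [IsIntegral Z]
    (z : Z) (h : i (genericPoint Z) ⤳ i z) : RingHom.ker (i.stalkMap z).hom = primeOf h := by
  have hξz : genericPoint Z ⤳ z := (genericPoint_spec Z).specializes trivial
  have hinj : Function.Injective (Z.presheaf.stalkSpecializes hξz).hom :=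
    IsFractionRing.injective (Z.presheaf.stalk z) Z.functionField
  have hfield : IsLocalRing.maximalIdeal (Z.presheaf.stalk (genericPoint Z)) = ⊥ :=
    IsLocalRing.maximalIdeal_eq_bot (R := Z.functionField)
  ext a
  have hcomm := Scheme.Hom.stalkSpecializes_stalkMap_apply i _ _ hξz a
  rw [RingHom.mem_ker]
  show _ ↔ (X.presheaf.stalkSpecializes h).hom a ∈ IsLocalRing.maximalIdeal _
  constructor
  · intro h0
    rw [IsLocalRing.mem_maximalIdeal]
    intro hu
    have hu' := hu.map (i.stalkMap (genericPoint Z)).hom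
    have h2 : (i.stalkMap (genericPoint Z)).hom ((X.presheaf.stalkSpecializes h).hom a) = 0 := by
      refine hcomm.trans ?_
      show (Z.presheaf.stalkSpecializes hξz).hom ((i.stalkMap z).hom a) = 0
      rw [h0, map_zero]
    rw [h2] at hu'
    exact not_isUnit_zero hu'
  · intro hm
    apply hinj
    rw [map_zero]
    have h2 : (Z.presheaf.stalkSpecializes hξz).hom ((i.stalkMap z).hom a) =
        (i.stalkMap (genericPoint Z)).hom ((X.presheaf.stalkSpecializes h).hom a) := hcomm.symm
    rw [h2]
    have h3 : (i.stalkMap (genericPoint Z)).hom ((X.presheaf.stalkSpecializes h).hom a) ∈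
        IsLocalRing.maximalIdeal (Z.presheaf.stalk (genericPoint Z)) := by
      rw [IsLocalRing.mem_maximalIdeal] at hm ⊢
      intro hu
      exact hm (isUnit_of_map_unit _ _ hu)
    rw [hfield] at h3
    exact h3

theorem stalkIdeal_ker {Z : Scheme.{u}} (i : Z ⟶ X) [IsClosedImmersion i] (z : Z) :
    stalkIdeal i.ker (i z) = RingHom.ker (i.stalkMap z).hom := by
  obtain ⟨U, hU⟩ := exists_affine (i z)
  rw [stalkIdeal_eq _ U hU, Groth.Agent.Lib.Helper91.ClosedImmStalk.ker_stalkMap i U z hU]

end Groth.Agent.Lib.Helper91.CatenaryInt
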