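import Mathlib
import Groth.Prelude.Def_RegImm
import Groth.Agent.Lib.Helper91.KRegIdeal1
import Groth.Agent.Lib.Helper91.RegSpread
import Groth.Agent.Lib.Helper77.QuasiRegReg

/-!
# Quasi-regular ⟹ regular on locally Noetherian schemes
-/

set_option autoImplicit false
set_option linter.style.haveILetI false
universe u

open CategoryTheory CategoryTheory.Limits AlgebraicGeometry TopologicalSpace Opposite

namespace Groth.Agent.Lib.Helper91.QRegNoeth

open Groth.Agent.Lib.Helper91.RegBC Groth.Agent.Lib.Helper91.KRegComp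
  Groth.Agent.Lib.Helper91.KRegIdeal

/-- ring level: a quasi-regular sequence in a noetherian ring is weakly regular on a basic open
neighbourhood of any prime containing it -/
theorem exists_away_of_quasi (A : Type u) [CommRing A] [IsNoetherianRing A] (p : Ideal A)
    [p.IsPrime] (rs : List A) (hq : CAlgX.IsQuasiRegular rs.get) (hp : Ideal.ofList rs ≤ p) :
    ∃ g : A, g ∉ p ∧ ∀ (S : Type u) [CommRing S] [Algebra A S] [IsLocalization.Away g S],
      RingTheory.Sequence.IsWeaklyRegular S (rs.map (algebraMap A S)) := by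
  have hfl : (algebraMap A (Localization.AtPrime p)).Flat :=
    RingHom.flat_algebraMap_iff.mpr inferInstance
  have hq' : CAlgX.IsQuasiRegular (rs.map (algebraMap A (Localization.AtPrime p))).get :=
    isQuasiRegular_list_map _ rs (isQuasiRegular_map_of_flat _ hfl rs.get hq)
  have hjac : ∀ i, (rs.map (algebraMap A (Localization.AtPrime p))).get i ∈
      (⊥ : Ideal (Localization.AtPrime p)).jacobson := by
    intro i
    rw [IsLocalRing.jacobson_eq_maximalIdeal ⊥ bot_ne_top]
    have hmem : (rs.map (algebraMap A (Localization.AtPrime p))).get i ∈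
        rs.map (algebraMap A (Localization.AtPrime p)) := List.get_mem _ _
    obtain ⟨a, ha, hae⟩ := List.mem_map.mp hmem
    rw [← hae, ← Localization.AtPrime.map_eq_maximalIdeal]
    exact Ideal.mem_map_of_mem _ (hp (Ideal.subset_span ha))
  have hreg := Groth.Agent.Lib.Helper77.QuasiReg.isWeaklyRegular_of_isQuasiRegular _
    (Localization.AtPrime p) _ hjac hq'
  rw [List.ofFn_get] at hreg
  obtain ⟨g, hg, h⟩ := Groth.Agent.Lib.Helper91.RegSpread.exists_away A p
    (Localization.AtPrime p) (Ideal.ofList rs) rs hreg (Ideal.map_ofList _ _)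
  exact ⟨g, hg, fun S _ _ _ => (h S).1⟩

variable {X Z : Scheme.{u}}

theorem mem_primeIdealOf_iff {U : X.Opens} (hU : IsAffineOpen U) (x : X) (hx : x ∈ U)
    (f : Γ(X, U)) : f ∈ (hU.primeIdealOf ⟨x, hx⟩).asIdeal ↔ x ∉ X.basicOpen f := by
  have := fromSpec_mem_basicOpen_iff hU (hU.primeIdealOf ⟨x, hx⟩) f
  rw [hU.fromSpec_primeIdealOf] at this
  have h2 : x ∈ X.basicOpen f ↔ f ∉ (hU.primeIdealOf ⟨x, hx⟩).asIdeal := this
  constructor
  · intro h1 h3
    exact h2.mp h3 h1
  · intro h1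
    by_contra h3
    exact h1 (h2.mpr h3)

/-- S5004 -/
theorem regularIdeal_of_quasi [IsLocallyNoetherian X] (I : X.IdealSheafData)
    (h : RegImm.IsRegularIdeal RegImm.Kind.quasi I) :
    RegImm.IsRegularIdeal RegImm.Kind.regular I := by
  intro x hx
  obtain ⟨U, hxU, rs, hq, hI⟩ := h x hx
  have hq' : CAlgX.IsQuasiRegular rs.get := hq
  haveI : IsNoetherianRing Γ(X, U.1) := IsLocallyNoetherian.component_noetherian U
  have hzl := (Scheme.IdealSheafData.mem_support_iff_of_mem hxU).mp hx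
  rw [Scheme.mem_zeroLocus_iff] at hzl
  have hp : Ideal.ofList rs ≤ (U.2.primeIdealOf ⟨x, hxU⟩).asIdeal := by
    intro f hf
    rw [mem_primeIdealOf_iff]
    exact hzl f (hI ▸ hf)
  obtain ⟨g, hg, hS⟩ := exists_away_of_quasi Γ(X, U.1) _ rs hq' hp
  have hxg : x ∈ X.basicOpen g := by
    by_contra hcon
    exact hg ((mem_primeIdealOf_iff U.2 x hxU g).mpr hcon)
  haveI : IsLocalization.Away g Γ(X, X.basicOpen g) := U.2.isLocalization_basicOpen g
  have hIg : I.ideal (X.affineBasicOpen g) =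
      Ideal.ofList (rs.map (algebraMap Γ(X, U.1) Γ(X, X.basicOpen g))) := by
    rw [← I.map_ideal_basicOpen U g, hI, Ideal.map_ofList]
    rfl
  refine ⟨X.affineBasicOpen g, hxg, rs.map (algebraMap Γ(X, U.1) Γ(X, X.basicOpen g)),
    ⟨hS Γ(X, X.basicOpen g), ?_⟩, hIg⟩
  rw [smul_eq_mul, Ideal.mul_top]
  intro e
  have hzl' := (Scheme.IdealSheafData.mem_support_iff_of_mem (U := X.affineBasicOpen g) hxg).mp hx
  rw [Scheme.mem_zeroLocus_iff] at hzl'
  have h1 : (1 : Γ(X, (X.affineBasicOpen g).1)) ∈ I.ideal (X.affineBasicOpen g) := by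
    have h0 : I.ideal (X.affineBasicOpen g) = ⊤ := hIg.trans e.symm
    rw [h0]
    trivial
  have := hzl' 1 h1
  rw [Scheme.basicOpen_one] at this
  exact this hxg

/-- quasi-regular immersion at a point ⟹ regular immersion at the point, noetherian target -/
theorem regularAt_of_quasiAt [IsLocallyNoetherian X] (i : Z ⟶ X) (z : Z)
    (h : RegImm.IsRegularImmersionAt RegImm.Kind.quasi i z) :
    RegImm.IsRegularImmersionAt RegImm.Kind.regular i z := by
  obtain ⟨U, hzU, hcl, rs, hq, hker⟩ := h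
  haveI := hcl
  have hq' : CAlgX.IsQuasiRegular rs.get := hq
  haveI : IsNoetherianRing Γ(X, U.1) := IsLocallyNoetherian.component_noetherian U
  have hp : Ideal.ofList rs ≤ (U.2.primeIdealOf ⟨i z, hzU⟩).asIdeal := by
    intro f hf
    rw [mem_primeIdealOf_iff]
    intro h1
    have h2 : z ∈ i ⁻¹ᵁ X.basicOpen f := h1
    rw [← hker] at hf
    rw [Scheme.preimage_basicOpen, (RingHom.mem_ker.mp hf : (i.app U.1).hom f = 0)] at h2
    simp at h2
  obtain ⟨g, hg, hS⟩ := exists_away_of_quasi Γ(X, U.1) _ rs hq' hp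
  have hzg : i z ∈ X.basicOpen g := by
    by_contra hcon
    exact hg ((mem_primeIdealOf_iff U.2 (i z) hzU g).mpr hcon)
  haveI : IsLocalization.Away g Γ(X, X.basicOpen g) := U.2.isLocalization_basicOpen g
  obtain ⟨hclg, hkerg⟩ := chart_basicOpen i U g
  have hkerg' : RingHom.ker (i.app (X.basicOpen g)).hom =
      Ideal.ofList (rs.map (algebraMap Γ(X, U.1) Γ(X, X.basicOpen g))) := by
    rw [hkerg, hker, Ideal.map_ofList]
  refine ⟨⟨X.basicOpen g, U.2.basicOpen g⟩, hzg, hclg,
    rs.map (algebraMap Γ(X, U.1) Γ(X, X.basicOpen g)), ⟨hS Γ(X, X.basicOpen g), ?_⟩, hkerg'⟩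
  rw [smul_eq_mul, Ideal.mul_top, ← hkerg']
  intro htop
  have h1 : (1 : Γ(X, X.basicOpen g)) ∈ RingHom.ker (i.app (X.basicOpen g)).hom := by
    rw [← htop]; trivial
  rw [RingHom.mem_ker, map_one] at h1
  haveI : Nonempty ↥(i ⁻¹ᵁ X.basicOpen g) := ⟨⟨_, hzg⟩⟩
  haveI : Nontrivial Γ(Z, i ⁻¹ᵁ X.basicOpen g) := inferInstance
  exact one_ne_zero h1

end Groth.Agent.Lib.Helper91.QRegNoeth
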