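import Mathlib
import Groth.Prelude.Def_RegImm
import Groth.Agent.Lib.Helper91.QRegNoeth1
import Groth.Agent.Lib.Helper94.KoszulReg
import Groth.Agent.Lib.Helper9.KoszulSwap
import Groth.Agent.Lib.Helper22.KoszulH1
import Groth.Agent.S2103

/-!
# regular ⟹ Koszul ⟹ H1 ⟹ quasi-regular for sequences; regular ⟺ quasi-regular immersions on
locally Noetherian schemes
-/

set_option autoImplicit false
set_option linter.style.haveILetI false
universe u

open CategoryTheory CategoryTheory.Limits AlgebraicGeometry TopologicalSpace Opposite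

namespace Groth.Agent.Lib.Helper91.QRegNoeth

theorem koszul_of_weaklyRegular {R : Type u} [CommRing R] (rs : List R)
    (h : RingTheory.Sequence.IsWeaklyRegular R rs) : LCI.IsKoszulRegularSeq R rs :=
  (Groth.Agent.Lib.Helper9.KoszulSwap.isKoszulRegularSeq_iff rs).mpr
    (Groth.Agent.Lib.Helper94.KoszulReg.kz_single_of_isWeaklyRegular rs R h).1

theorem h1_of_koszul {R : Type u} [CommRing R] (rs : List R)
    (h : LCI.IsKoszulRegularSeq R rs) : CAlgX.IsH1Regular rs.get :=
  Groth.Agent.Lib.Helper22.KoszulH1.isH1Regular_of_isKoszulRegularSeq rs h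

theorem quasi_of_h1 {R : Type u} [CommRing R] (rs : List R)
    (h : CAlgX.IsH1Regular rs.get) : CAlgX.IsQuasiRegular rs.get :=
  Groth.Agent.S2103.result _ h

theorem quasi_of_weaklyRegular {R : Type u} [CommRing R] (rs : List R)
    (h : RingTheory.Sequence.IsWeaklyRegular R rs) : CAlgX.IsQuasiRegular rs.get :=
  quasi_of_h1 rs (h1_of_koszul rs (koszul_of_weaklyRegular rs h))

variable {X Z : Scheme.{u}}

/-- S5003 -/
theorem regular_iff_quasi [IsLocallyNoetherian X] (j : Z ⟶ X) :
    RegImm.IsRegularImmersion RegImm.Kind.regular j ↔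
      RegImm.IsRegularImmersion RegImm.Kind.quasi j := by
  constructor
  · rintro ⟨himm, hreg⟩
    refine ⟨himm, fun z => ?_⟩
    obtain ⟨U, hzU, hcl, rs, hseq, hker⟩ := hreg z
    have hseq' : RingTheory.Sequence.IsRegular Γ(X, U.1) rs := hseq
    exact ⟨U, hzU, hcl, rs, quasi_of_weaklyRegular rs hseq'.toIsWeaklyRegular, hker⟩
  · rintro ⟨himm, hreg⟩
    exact ⟨himm, fun z => regularAt_of_quasiAt j z (hreg z)⟩

end Groth.Agent.Lib.Helper91.QRegNoeth
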