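import Mathlib

/-!
# Topology of Noetherian sober spaces of dimension `≤ 1`: finite fibres
-/

open TopologicalSpace Topology

namespace Groth.Agent.Lib.Helper91.DimOneTop

variable {X Y : Type*} [TopologicalSpace X] [TopologicalSpace Y]

/-- closure of a point as an irreducible closed set -/
def cl (x : X) : IrreducibleCloseds X := ⟨closure {x}, isIrreducible_singleton.closure, isClosed_closure⟩

theorem cl_le_iff {x : X} {Z : IrreducibleCloseds X} : cl x ≤ Z ↔ x ∈ Z := by
  constructor
  · intro h
    exact h (subset_closure (Set.mem_singleton x))
  · intro h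
    show closure {x} ⊆ (Z : Set X)
    exact (Z.isClosed.closure_subset_iff).mpr (Set.singleton_subset_iff.mpr h)

theorem cl_injective [T0Space X] : Function.Injective (cl : X → IrreducibleCloseds X) := by
  intro a b h
  have h' : closure {a} = closure {b} := congrArg (fun Z : IrreducibleCloseds X => (Z : Set X)) h
  exact (inseparable_iff_closure_eq.mpr h').eq

/-- In a space of dimension `≤ 1`, a point whose closure is strictly contained in an irreducible closed
set is a closed point. -/
theorem closure_singleton_eq_of_lt [T0Space X] (hdim : topologicalKrullDim X ≤ 1) {x : X}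
    {Z : IrreducibleCloseds X} (hlt : cl x < Z) : closure {x} = {x} := by
  have hk : Order.krullDim (IrreducibleCloseds X) ≤ 1 := hdim
  rcases (Order.krullDim_le_one_iff.mp hk) (cl x) with hmin | hmax
  · apply Set.Subset.antisymm _ subset_closure
    intro x' hx'
    have h1 : cl x' ≤ cl x := cl_le_iff.mpr hx'
    have h2 : cl x ≤ cl x' := hmin h1
    exact cl_injective (le_antisymm h1 h2)
  · exact absurd (hmax hlt.le) (not_le_of_gt hlt)

/-- An irreducible closed subset with a point whose closure is smaller has dimension `≥ 1`. -/
theorem one_le_dim_of_lt {x : X} {Z : IrreducibleCloseds X} (hlt : cl x < Z) :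
    1 ≤ topologicalKrullDim (Z : Set X) := by
  have hxZ : x ∈ Z := cl_le_iff.mp hlt.le
  haveI : IrreducibleSpace (Z : Set X) := Subtype.irreducibleSpace Z.isIrreducible
  show 1 ≤ Order.krullDim (IrreducibleCloseds (Z : Set X))
  rw [Order.one_le_krullDim_iff]
  let A : IrreducibleCloseds (Z : Set X) := cl ⟨x, hxZ⟩
  let B : IrreducibleCloseds (Z : Set X) :=
    ⟨Set.univ, IrreducibleSpace.isIrreducible_univ _, isClosed_univ⟩
  refine ⟨A, B, lt_of_le_of_ne (fun _ _ => Set.mem_univ _) ?_⟩
  intro hAB
  apply not_le_of_gt hlt
  -- `Z ≤ cl x`
  intro z hz
  have hz' : (⟨z, hz⟩ : (Z : Set X)) ∈ (A : Set (Z : Set X)) := by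
    rw [hAB]; exact Set.mem_univ _
  have : (⟨z, hz⟩ : (Z : Set X)) ∈ closure ({⟨x, hxZ⟩} : Set (Z : Set X)) := hz'
  rw [closure_subtype] at this
  have h2 : z ∈ closure ({x} : Set X) := by simpa using this
  exact h2

/-- **Finite fibres.** A closed continuous map out of a Noetherian sober space of dimension `≤ 1`
that contracts no one-dimensional irreducible component has finite fibres. -/
theorem finite_preimage_singleton [NoetherianSpace X] [QuasiSober X] [T0Space X]
    (f : X → Y) (hf : Continuous f) (hcl : IsClosedMap f)
    (hdim : topologicalKrullDim X ≤ 1)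
    (h : ∀ Z ∈ irreducibleComponents X, topologicalKrullDim Z = 1 → (f '' Z).Nontrivial) (y : Y) :
    (f ⁻¹' {y}).Finite := by
  classical
  -- generic points of components
  let G : Set X := {x | closure {x} ∈ irreducibleComponents X}
  have hG : G.Finite := by
    have : G = (fun x => closure ({x} : Set X)) ⁻¹' (irreducibleComponents X) := rfl
    rw [this]
    apply Set.Finite.preimage _ NoetherianSpace.finite_irreducibleComponents
    intro a _ b _ hab
    exact (inseparable_iff_closure_eq.mpr hab).eq
  -- every point is generic or closed
  have h1 : ∀ x : X, x ∈ G ∨ closure {x} = {x} := by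
    intro x
    obtain ⟨Z, hZ, hxZ⟩ := exists_mem_irreducibleComponents_subset_of_isIrreducible
      (closure {x}) isIrreducible_singleton.closure
    by_cases hEq : closure {x} = Z
    · left; show closure {x} ∈ irreducibleComponents X; rw [hEq]; exact hZ
    · right
      let Z' : IrreducibleCloseds X := ⟨Z, hZ.1, isClosed_of_mem_irreducibleComponents Z hZ⟩
      have hlt : cl x < Z' := lt_of_le_of_ne hxZ (fun h => hEq (congrArg (fun W : IrreducibleCloseds X => (W : Set X)) h))
      exact closure_singleton_eq_of_lt hdim hlt
  -- closed points map to closed points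
  have h2 : ∀ x : X, closure {x} = {x} → closure {f x} = {f x} := by
    intro x hx
    have : IsClosed (f '' {x}) := hcl _ (by rw [← hx]; exact isClosed_closure)
    rw [Set.image_singleton] at this
    exact this.closure_eq
  -- a generic point of a nontrivial component does not map to a closed point
  have h3 : ∀ η ∈ G, closure {η} ≠ {η} → closure {f η} ≠ {f η} := by
    intro η hη hne hcy
    have hZ : closure {η} ∈ irreducibleComponents X := hη
    let Z' : IrreducibleCloseds X := cl η
    obtain ⟨z, hz, hzη⟩ : ∃ z ∈ closure ({η} : Set X), z ≠ η := by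
      by_contra hcon
      push Not at hcon
      apply hne
      apply Set.Subset.antisymm _ subset_closure
      intro z hz
      exact hcon z hz
    have hlt : cl z < Z' := by
      refine lt_of_le_of_ne (cl_le_iff.mpr hz) ?_
      intro hEq
      exact hzη (cl_injective hEq)
    have hd1 : topologicalKrullDim (closure ({η} : Set X)) = 1 := by
      apply le_antisymm
      · exact (topologicalKrullDim_subspace_le X _).trans hdim
      · exact one_le_dim_of_lt hlt
    obtain ⟨a, ha, b, hb, hab⟩ := h _ hZ hd1
    have hsub : f '' closure {η} ⊆ {f η} := by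
      calc f '' closure {η} ⊆ closure (f '' {η}) := image_closure_subset_closure_image hf
        _ = closure {f η} := by rw [Set.image_singleton]
        _ = {f η} := hcy
    exact hab ((hsub ha).trans (hsub hb).symm)
  by_cases hy : closure {y} = {y}
  · -- closed point: the fibre is closed
    have hF : IsClosed (f ⁻¹' {y}) := by
      rw [← hy]; exact isClosed_closure.preimage hf
    obtain ⟨S, hSf, hSc, hSi, hSU⟩ := NoetherianSpace.exists_finite_set_isClosed_irreducible hF
    rw [hSU]
    apply Set.Finite.sUnion hSf
    intro T hT
    have hTsub : T ⊆ f ⁻¹' {y} := by rw [hSU]; exact Set.subset_sUnion_of_mem hT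
    obtain ⟨t, ht⟩ := (hSi T hT).isGenericPoint_genericPoint_closure  |> fun h => (⟨_, h⟩ : ∃ t, IsGenericPoint t (closure T))
    have ht' : closure {t} = T := by
      have := ht.def
      rw [this, (hSc T hT).closure_eq]
    have htT : t ∈ T := by rw [← ht']; exact subset_closure (Set.mem_singleton t)
    have hft : f t = y := hTsub htT
    have : closure {t} = {t} := by
      rcases h1 t with hG' | hc
      · by_contra hne
        exact h3 t hG' hne (by rw [hft]; exact hy)
      · exact hc
    rw [← ht', this]
    exact Set.finite_singleton t
  · -- non-closed point: the fibre consists of generic points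
    apply hG.subset
    intro x hx
    have hfx : f x = y := hx
    rcases h1 x with hG' | hc
    · exact hG'
    · exfalso
      apply hy
      rw [← hfx]
      exact h2 x hc

end Groth.Agent.Lib.Helper91.DimOneTop
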