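import Mathlib
import Groth.Prelude.Def_CAlg
import Groth.Agent.Lib.Helper91.HartogsSch2

/-!
# Algebraic Hartogs on an affine open: surjectivity
-/

set_option autoImplicit false
universe u

open CategoryTheory AlgebraicGeometry TopologicalSpace Opposite

namespace Groth.Agent.Lib.Helper91.Hartogs

variable {X : Scheme.{u}} [IsLocallyNoetherian X] (U : X.Opens)
  (hdepth : ∀ x : X, x ∉ U →
    (2 : ℕ∞) ≤ LocCoh.depth (X.presheaf.stalk x) (X.presheaf.stalk x))

include hdepth in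
/-- affine Hartogs, surjectivity -/
theorem res_surjective_affine {W : X.Opens} (hW : IsAffineOpen W) :
    Function.Surjective (res (inf_le_left : W ⊓ U ≤ W)) := by
  intro s
  haveI : IsNoetherianRing Γ(X, W) := IsLocallyNoetherian.component_noetherian ⟨W, hW⟩
  obtain ⟨g, hg, hgU⟩ := exists_nonZeroDivisor_basicOpen_le U hdepth hW
  have hgWU : X.basicOpen g ≤ W ⊓ U := le_inf (X.basicOpen_le g) hgU
  haveI := hW.isLocalization_basicOpen g
  obtain ⟨⟨a, ⟨_, n, rfl⟩⟩, ha⟩ := IsLocalization.surj (Submonoid.powers g) (res hgWU s)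
  simp only at ha
  rw [algebraMap_basicOpen_eq_res, algebraMap_basicOpen_eq_res] at ha
  have hgn : ∀ x : Γ(X, W), g ^ n * x = 0 → x = 0 := fun x hx => pow_mul_eq_zero hg n hx
  -- the key claim
  have hdiv : ∃ d, a = g ^ n * d := by
    by_contra hna
    obtain ⟨q, hqp, c, hc, hle⟩ := exists_ass_quot (g ^ n) a hna
    have hyW := fromSpec_mem hW ⟨q, hqp⟩
    letI alg : Algebra Γ(X, W) (X.presheaf.stalk (hW.fromSpec ⟨q, hqp⟩)) :=
      TopCat.Presheaf.algebra_section_stalk X.presheaf ⟨hW.fromSpec ⟨q, hqp⟩, hyW⟩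
    haveI : IsLocalization.AtPrime (X.presheaf.stalk (hW.fromSpec ⟨q, hqp⟩)) q :=
      hW.isLocalization_stalk' ⟨q, hqp⟩ hyW
    have hnd := not_two_le_depth_of_ass_quot q (X.presheaf.stalk (hW.fromSpec ⟨q, hqp⟩))
      (g ^ n) c hgn hc
    have hyU : hW.fromSpec ⟨q, hqp⟩ ∈ U := by
      by_contra hnot
      exact hnd (hdepth _ hnot)
    obtain ⟨h, hhV, hxh⟩ := hW.exists_basicOpen_le (V := W ⊓ U)
      ⟨hW.fromSpec ⟨q, hqp⟩, ⟨hyW, hyU⟩⟩ hyW
    have hhq : h ∉ q := (mem_basicOpen_fromSpec_iff hW h ⟨q, hqp⟩).mp hxh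
    obtain ⟨m, d, hmd⟩ := exists_pow_mul_eq hW g h hg n a (res hhV s) (by
      have := congrArg (res (basicOpen_mul_le_right h g)) ha
      rw [map_mul, res_res, res_res, res_res] at this
      rw [res_res]
      exact this)
    exact hhq (hqp.mem_of_pow_mem m (hle (h ^ m) ⟨d, hmd⟩))
  obtain ⟨d, rfl⟩ := hdiv
  refine ⟨d, ?_⟩
  have h0 : res inf_le_left d - s = 0 := by
    apply eq_zero_of_res_basicOpen_eq_zero hW g hg inf_le_left hgWU
    rw [map_sub, res_res, sub_eq_zero]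
    have hu : IsUnit (res (X.basicOpen_le g) (g ^ n)) :=
      IsLocalization.map_units Γ(X, X.basicOpen g) (⟨g ^ n, n, rfl⟩ : Submonoid.powers g)
    apply hu.mul_left_injective
    simp only
    rw [ha, map_mul, mul_comm]
  exact sub_eq_zero.mp h0

end Groth.Agent.Lib.Helper91.Hartogs
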