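import Mathlib
import Groth.Prelude.Def_CAlg
import Groth.Agent.Lib.Helper91.HartogsSch3

/-!
# Algebraic Hartogs on a locally Noetherian scheme
-/

set_option autoImplicit false
universe u

open CategoryTheory AlgebraicGeometry TopologicalSpace Opposite

namespace Groth.Agent.Lib.Helper91.Hartogs

variable {X : Scheme.{u}} [IsLocallyNoetherian X] (U : X.Opens)
  (hdepth : ∀ x : X, x ∉ U →
    (2 : ℕ∞) ≤ LocCoh.depth (X.presheaf.stalk x) (X.presheaf.stalk x))

theorem exists_affine_cover (V : X.Opens) :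
    ∃ W : V → X.Opens, (∀ x, IsAffineOpen (W x)) ∧ (∀ x, W x ≤ V) ∧ ∀ x : V, ↑x ∈ W x := by
  have hex : ∀ x : V, ∃ W : X.Opens, IsAffineOpen W ∧ W ≤ V ∧ ↑x ∈ W := fun x => by
    obtain ⟨_, ⟨W, hW, rfl⟩, hxW, hWV⟩ :=
      (X.isBasis_affineOpens).exists_subset_of_mem_open x.2 V.isOpen
    exact ⟨W, hW, hWV, hxW⟩
  choose W hW hWV hxW using hex
  exact ⟨W, hW, hWV, hxW⟩

include hdepth in
/-- **Hartogs, injectivity** -/
theorem res_injective (V : X.Opens) :
    Function.Injective (res (inf_le_left : V ⊓ U ≤ V)) := by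
  rw [injective_iff_map_eq_zero]
  intro s hs
  obtain ⟨W, hW, hWV, hxW⟩ := exists_affine_cover V
  apply TopCat.Sheaf.eq_of_locally_eq' X.sheaf W V (fun x => homOfLE (hWV x))
  · intro x hx
    exact Opens.mem_iSup.mpr ⟨⟨x, hx⟩, hxW ⟨x, hx⟩⟩
  · intro x
    show res (hWV x) s = res (hWV x) 0
    rw [map_zero]
    apply res_injective_affine U hdepth (hW x)
    rw [map_zero, res_res]
    have : res ((inf_le_left : W x ⊓ U ≤ W x).trans (hWV x)) s =
        res (inf_le_inf_right U (hWV x)) (res inf_le_left s) := by rw [res_res]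
    rw [this, hs, map_zero]

include hdepth in
/-- **Hartogs, surjectivity** -/
theorem res_surjective (V : X.Opens) :
    Function.Surjective (res (inf_le_left : V ⊓ U ≤ V)) := by
  intro s
  obtain ⟨W, hW, hWV, hxW⟩ := exists_affine_cover V
  have hex : ∀ x : V, ∃ t : Γ(X, W x),
      res inf_le_left t = res (inf_le_inf_right U (hWV x)) s :=
    fun x => res_surjective_affine U hdepth (hW x) _
  choose t ht using hex
  have hcover : V ≤ iSup W := by
    intro x hx
    exact Opens.mem_iSup.mpr ⟨⟨x, hx⟩, hxW ⟨x, hx⟩⟩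
  have compat : TopCat.Presheaf.IsCompatible X.sheaf.1 W t := by
    intro i j
    show res inf_le_left (t i) = res inf_le_right (t j)
    apply res_injective U hdepth (W i ⊓ W j)
    rw [res_res, res_res]
    have e1 : res ((inf_le_left : W i ⊓ W j ⊓ U ≤ W i ⊓ W j).trans inf_le_left) (t i) =
        res (inf_le_inf_right U inf_le_left) (res inf_le_left (t i)) := by rw [res_res]
    have e2 : res ((inf_le_left : W i ⊓ W j ⊓ U ≤ W i ⊓ W j).trans inf_le_right) (t j) =
        res (inf_le_inf_right U inf_le_right) (res inf_le_left (t j)) := by rw [res_res]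
    rw [e1, e2, ht, ht, res_res, res_res]
  obtain ⟨gl, hgl, -⟩ := X.sheaf.existsUnique_gluing' W V (fun x => homOfLE (hWV x)) hcover t compat
  refine ⟨gl, ?_⟩
  apply TopCat.Sheaf.eq_of_locally_eq' X.sheaf (fun x : V => W x ⊓ U) (V ⊓ U)
    (fun x => homOfLE (inf_le_inf_right U (hWV x)))
  · intro x hx
    exact Opens.mem_iSup.mpr ⟨⟨x, hx.1⟩, ⟨hxW ⟨x, hx.1⟩, hx.2⟩⟩
  · intro x
    show res (inf_le_inf_right U (hWV x)) (res inf_le_left gl) =
      res (inf_le_inf_right U (hWV x)) s
    rw [res_res, ← ht x]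
    have h1 : res (hWV x) gl = t x := hgl x
    rw [← h1, res_res]

end Groth.Agent.Lib.Helper91.Hartogs
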