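import Mathlib
import Groth.Prelude.Def_CAlg
import Groth.Agent.Lib.Helper91.HartogsSch4

/-!
# Algebraic Hartogs: extension of morphisms to affine targets
-/

set_option autoImplicit false
universe u

open CategoryTheory AlgebraicGeometry TopologicalSpace Opposite

namespace Groth.Agent.Lib.Helper91.Hartogs

variable {X : Scheme.{u}}

theorem res_self {V : X.Opens} (h : V ≤ V) (s : Γ(X, V)) : res h s = s := by
  show (X.presheaf.map (𝟙 (op V))).hom s = s
  rw [X.presheaf.map_id]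
  rfl

theorem res_bijective_of_le {V V' : X.Opens} (h : V' ≤ V) (h' : V ≤ V') :
    Function.Bijective (res h) := by
  refine Function.bijective_iff_has_inverse.mpr ⟨res h', fun s => ?_, fun s => ?_⟩
  · rw [res_res, res_self]
  · rw [res_res, res_self]

variable [IsLocallyNoetherian X] (U : X.Opens)
  (hdepth : ∀ x : X, x ∉ U →
    (2 : ℕ∞) ≤ LocCoh.depth (X.presheaf.stalk x) (X.presheaf.stalk x))

include hdepth in
theorem res_bijective_of_depth {V' : X.Opens} (h : V' ≤ ⊤) (h1 : V' ≤ U) (h2 : U ≤ V') :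
    Function.Bijective (res h) := by
  have hb : Function.Bijective (res (inf_le_left : ⊤ ⊓ U ≤ ⊤)) :=
    ⟨res_injective U hdepth ⊤, res_surjective U hdepth ⊤⟩
  have hle : V' ≤ ⊤ ⊓ U := le_inf le_top h1
  have hle' : ⊤ ⊓ U ≤ V' := inf_le_right.trans h2
  have hb2 := res_bijective_of_le hle hle'
  have : res h = (res hle).comp (res (inf_le_left : ⊤ ⊓ U ≤ ⊤)) := by
    ext s
    rw [RingHom.comp_apply, res_res]
  rw [this, RingHom.coe_comp]
  exact hb2.comp hb

include hdepth in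
theorem isIso_ι_appTop : IsIso U.ι.appTop := by
  rw [ConcreteCategory.isIso_iff_bijective]
  have h1 : U.ι ''ᵁ ⊤ ≤ U := U.ι_image_top.le
  have h2 : U ≤ U.ι ''ᵁ ⊤ := U.ι_image_top.ge
  exact res_bijective_of_depth U hdepth (V' := U.ι ''ᵁ ⊤) le_top h1 h2

include hdepth in
/-- **S2848** -/
theorem existsUnique_extension (Y : Scheme.{u}) [IsAffine Y] (f : (U : Scheme.{u}) ⟶ Y) :
    ∃! g : X ⟶ Y, U.ι ≫ g = f := by
  haveI := isIso_ι_appTop U hdepth
  refine ⟨X.toSpecΓ ≫ Spec.map (f.appTop ≫ inv U.ι.appTop) ≫ Y.isoSpec.inv, ?_, ?_⟩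
  · show U.ι ≫ X.toSpecΓ ≫ Spec.map (f.appTop ≫ inv U.ι.appTop) ≫ Y.isoSpec.inv = f
    rw [← cancel_mono Y.isoSpec.hom]
    simp only [Category.assoc, Iso.inv_hom_id, Category.comp_id]
    rw [Scheme.isoSpec_hom, Scheme.toSpecΓ_naturality, Scheme.toSpecΓ_naturality_assoc,
      ← Spec.map_comp]
    simp
  · intro g hg
    apply ext_of_isAffine
    have h1 : (U.ι ≫ g).appTop = f.appTop := by rw [hg]
    rw [Scheme.Hom.comp_appTop] at h1
    have h2 : (U.ι ≫ X.toSpecΓ ≫ Spec.map (f.appTop ≫ inv U.ι.appTop) ≫ Y.isoSpec.inv).appTop =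
        f.appTop := by
      have : U.ι ≫ X.toSpecΓ ≫ Spec.map (f.appTop ≫ inv U.ι.appTop) ≫ Y.isoSpec.inv = f := by
        rw [← cancel_mono Y.isoSpec.hom]
        simp only [Category.assoc, Iso.inv_hom_id, Category.comp_id]
        rw [Scheme.isoSpec_hom, Scheme.toSpecΓ_naturality, Scheme.toSpecΓ_naturality_assoc,
          ← Spec.map_comp]
        simp
      rw [this]
    rw [Scheme.Hom.comp_appTop] at h2
    rw [← cancel_mono U.ι.appTop, h1, h2]

end Groth.Agent.Lib.Helper91.Hartogs
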