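/-
Helper library (helper91): the fibre multiplicity of `AlgEqCyc.fibreMult` along a section is one.
-/
import Mathlib
import Groth.Prelude.Def_AlgEqCyc

set_option autoImplicit false
set_option linter.style.haveILetI false
universe u

open CategoryTheory CategoryTheory.Limits AlgebraicGeometry TopologicalSpace Opposite

namespace Groth.Agent.Lib.Helper91.AlgEqDiag

/-- length of a doubly quotiented local ring whose total kernel is the maximal ideal -/
theorem length_doubleQuot (R : Type u) [CommRing R] [IsLocalRing R] (K : Ideal R)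
    (J : Ideal (R ⧸ K))
    (hker : Ideal.comap (Ideal.Quotient.mk K) J = IsLocalRing.maximalIdeal R) :
    Module.length R ((R ⧸ K) ⧸ J) = 1 := by
  let π : R →ₗ[R] ((R ⧸ K) ⧸ J) :=
    (Ideal.Quotient.mkₐ R J).toLinearMap.comp (Ideal.Quotient.mkₐ R K).toLinearMap
  have hsurj : Function.Surjective π := by
    intro y
    obtain ⟨y', rfl⟩ := Ideal.Quotient.mk_surjective y
    obtain ⟨a, rfl⟩ := Ideal.Quotient.mk_surjective y'
    exact ⟨a, rfl⟩
  have hk : LinearMap.ker π = IsLocalRing.maximalIdeal R := by
    rw [← hker]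
    ext a
    rw [LinearMap.mem_ker, Ideal.mem_comap]
    show Ideal.Quotient.mk J (Ideal.Quotient.mk K a) = 0 ↔ _
    rw [Ideal.Quotient.eq_zero_iff_mem]
  have e1 : (R ⧸ LinearMap.ker π) ≃ₗ[R] ((R ⧸ K) ⧸ J) := π.quotKerEquivOfSurjective hsurj
  have e2 : (R ⧸ LinearMap.ker π) ≃ₗ[R] (R ⧸ IsLocalRing.maximalIdeal R) :=
    Submodule.quotEquivOfEq _ _ hk
  rw [← (e2.symm.trans e1).length_eq]
  haveI : IsSimpleModule R (R ⧸ IsLocalRing.maximalIdeal R) :=
    isSimpleModule_iff_quot_maximal.mpr
      ⟨_, IsLocalRing.maximalIdeal.isMaximal R, ⟨LinearEquiv.refl _ _⟩⟩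
  exact Module.length_eq_one R _

theorem fibreMult_section {P' C : Scheme.{u}} (g : P' ⟶ C) (d : C ⟶ P') (hd : d ≫ g = 𝟙 C)
    (x ξ : C) (h : d ξ ⤳ d x) : AlgEqCyc.fibreMult g (d x) (d ξ) h = 1 := by
  unfold AlgEqCyc.fibreMult
  rw [length_doubleQuot]
  · rfl
  · -- the total kernel is the maximal ideal
    rw [← Ideal.map_map, Ideal.comap_map_of_surjective _ Ideal.Quotient.mk_surjective,
      ← RingHom.ker_eq_comap_bot, Ideal.mk_ker]
    apply le_antisymm
    · apply sup_le
      · exact Ideal.map_le_iff_le_comap.mpr (fun a ha => map_nonunit (g.stalkMap (d x)).hom a ha)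
      · intro a ha
        rw [RingHom.mem_ker] at ha
        rw [IsLocalRing.mem_maximalIdeal, mem_nonunits_iff]
        intro hu
        have := hu.map (Cyc.specMap (d x) (d ξ) h)
        rw [ha] at this
        exact not_isUnit_zero this
    · intro a ha
      haveI : IsIso (d ≫ g) := by rw [hd]; infer_instance
      haveI : IsIso ((d ≫ g).stalkMap x) := inferInstance
      -- `b = d^♯ a` and its preimage `b'`
      obtain ⟨b', hb'⟩ : ∃ b' : C.presheaf.stalk (g (d x)),
          ((d ≫ g).stalkMap x).hom b' = d.stalkMap x a :=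
        (ConcreteCategory.bijective_of_isIso ((d ≫ g).stalkMap x)).2 (d.stalkMap x a)
      have hb'm : b' ∈ IsLocalRing.maximalIdeal (C.presheaf.stalk (g (d x))) := by
        rw [IsLocalRing.mem_maximalIdeal, mem_nonunits_iff]
        intro hu
        have h1 := hu.map ((d ≫ g).stalkMap x).hom
        have h2 : ((d ≫ g).stalkMap x).hom b' = d.stalkMap x a := hb'
        exact (map_nonunit (d.stalkMap x).hom a ha) (Eq.mp (congrArg IsUnit h2) h1)
      have hcomp : d.stalkMap x (g.stalkMap (d x) b') = d.stalkMap x a := by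
        rw [← hb', Scheme.Hom.stalkMap_comp]
        rfl
      have hK : a - g.stalkMap (d x) b' ∈ RingHom.ker (Cyc.specMap (d x) (d ξ) h) := by
        rw [RingHom.mem_ker]
        have h0 : d.stalkMap x (a - g.stalkMap (d x) b') = 0 := by
          rw [map_sub, hcomp, sub_self]
        -- pass to the generization
        have hsp : ξ ⤳ x := by
          have h1 := (g.base.hom.map_specializes h)
          have e1 : g (d ξ) = ξ := by rw [← Scheme.Hom.comp_apply, hd]; rfl
          have e2 : g (d x) = x := by rw [← Scheme.Hom.comp_apply, hd]; rfl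
          have h1' : g (d ξ) ⤳ g (d x) := h1
          rwa [e1, e2] at h1'
        have h2 := Scheme.Hom.stalkSpecializes_stalkMap_apply d ξ x hsp
          (a - g.stalkMap (d x) b')
        rw [h0, map_zero] at h2
        -- so the generization lies in the maximal ideal of the stalk at `d ξ`
        show IsLocalRing.residue (P'.presheaf.stalk (d ξ))
          (P'.presheaf.stalkSpecializes h (a - g.stalkMap (d x) b')) = 0
        rw [IsLocalRing.residue_eq_zero_iff, IsLocalRing.mem_maximalIdeal, mem_nonunits_iff]
        intro hu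
        have h3 := hu.map (d.stalkMap ξ).hom
        have h4 : (d.stalkMap ξ).hom (P'.presheaf.stalkSpecializes h
            (a - g.stalkMap (d x) b')) = 0 := h2
        rw [h4] at h3
        exact not_isUnit_zero h3
      have hJ : g.stalkMap (d x) b' ∈ Ideal.map (g.stalkMap (d x)).hom
          (IsLocalRing.maximalIdeal (C.presheaf.stalk (g (d x)))) :=
        Ideal.mem_map_of_mem _ hb'm
      have : a = g.stalkMap (d x) b' + (a - g.stalkMap (d x) b') := by ring
      rw [this]
      exact Ideal.add_mem _ (Ideal.mem_sup_left hJ) (Ideal.mem_sup_right hK)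

end Groth.Agent.Lib.Helper91.AlgEqDiag
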