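/-
Helper library (helper91): the diagonal family on `C ×_k C`: its member over a rational point `t`
is the cycle `[t]`.
-/
import Mathlib
import Groth.Prelude.Def_AlgEqCyc
import Groth.Agent.Lib.Helper91.AlgEqDiag1

set_option autoImplicit false
set_option linter.style.haveILetI false
universe u

open CategoryTheory CategoryTheory.Limits AlgebraicGeometry TopologicalSpace Opposite

namespace Groth.Agent.Lib.Helper91.AlgEqDiag

variable {k : Type u} [Field k] {C : Scheme.{u}} (q : C ⟶ Spec (CommRingCat.of k))

theorem slice_eq_diag (t : Spec (CommRingCat.of k) ⟶ C) (ht : t ≫ q = 𝟙 _)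
    (z : ↥(Spec (CommRingCat.of k))) :
    AlgEqCyc.slice q q t ht (t z) = pullback.diagonal q (t z) := by
  have h : t ≫ AlgEqCyc.slice q q t ht = t ≫ pullback.diagonal q := by
    apply pullback.hom_ext
    · simp only [AlgEqCyc.slice, Category.assoc, pullback.lift_fst, pullback.diagonal_fst,
        Category.comp_id]
    · simp only [AlgEqCyc.slice, Category.assoc, pullback.lift_snd, pullback.diagonal_snd,
        Category.comp_id]
      rw [← Category.assoc, ht, Category.id_comp]
  rw [← Scheme.Hom.comp_apply, h, Scheme.Hom.comp_apply]

theorem specializes_slice_iff [IsIntegral C] [IsSeparated q]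
    (t : Spec (CommRingCat.of k) ⟶ C) (ht : t ≫ q = 𝟙 _) (x : C)
    (z : ↥(Spec (CommRingCat.of k))) :
    pullback.diagonal q (genericPoint ↥C) ⤳ AlgEqCyc.slice q q t ht x ↔ x = t z := by
  constructor
  · intro h
    have hmem : AlgEqCyc.slice q q t ht x ∈
        closure ({pullback.diagonal q (genericPoint ↥C)} : Set ↥(pullback q q)) :=
      specializes_iff_mem_closure.mp h
    rw [← Set.image_singleton, (pullback.diagonal q).isClosedEmbedding.closure_image_eq,
      (genericPoint_spec ↥C : closure {genericPoint ↥C} = Set.univ), Set.image_univ] at hmem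
    obtain ⟨c, hc⟩ := hmem
    have h1 : c = x := by
      have := congrArg (pullback.fst q q) hc
      rw [← Scheme.Hom.comp_apply, ← Scheme.Hom.comp_apply, pullback.diagonal_fst] at this
      simp only [AlgEqCyc.slice, pullback.lift_fst] at this
      exact this
    have h2 : c = t (q x) := by
      have := congrArg (pullback.snd q q) hc
      rw [← Scheme.Hom.comp_apply, ← Scheme.Hom.comp_apply, pullback.diagonal_snd] at this
      simp only [AlgEqCyc.slice, pullback.lift_snd] at this
      exact this
    rw [← h1, h2]
    congr 1
    exact Subsingleton.elim _ _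
  · rintro rfl
    rw [slice_eq_diag]
    exact (genericPoint_specializes (t z)).map (pullback.diagonal q).continuous

theorem fibreFun_diag [IsIntegral C] [IsSeparated q] [DecidableEq ↥(pullback q q)]
    [DecidableEq ↥C]
    (t : Spec (CommRingCat.of k) ⟶ C) (ht : t ≫ q = 𝟙 _) (x : C)
    (z : ↥(Spec (CommRingCat.of k))) :
    AlgEqCyc.fibreFun q q
      (Function.locallyFinsuppWithin.single (pullback.diagonal q (genericPoint ↥C)) (1 : ℤ))
      t ht x = if x = t z then 1 else 0 := by
  unfold AlgEqCyc.fibreFun
  have hW : ∀ w : ↥(pullback q q),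
      (Function.locallyFinsuppWithin.single (pullback.diagonal q (genericPoint ↥C)) (1 : ℤ)) w ≠ 0 →
      w = pullback.diagonal q (genericPoint ↥C) := by
    intro w hw
    rw [Function.locallyFinsuppWithin.single_apply] at hw
    by_contra hne
    rw [if_neg hne] at hw
    exact hw rfl
  by_cases hx : x = t z
  · -- single term
    rw [if_pos hx]
    have hsp : pullback.diagonal q (genericPoint ↥C) ⤳ AlgEqCyc.slice q q t ht x :=
      (specializes_slice_iff q t ht x z).mpr hx
    have hne : (Function.locallyFinsuppWithin.single (pullback.diagonal q (genericPoint ↥C))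
        (1 : ℤ)) (pullback.diagonal q (genericPoint ↥C)) ≠ 0 := by
      rw [Function.locallyFinsuppWithin.single_apply, if_pos rfl]
      exact one_ne_zero
    rw [finsum_eq_single _ ⟨pullback.diagonal q (genericPoint ↥C), hne, hsp⟩]
    · have key : ∀ (v : ↥(pullback q q)) (_ : v = pullback.diagonal q x)
          (h : pullback.diagonal q (genericPoint ↥C) ⤳ v),
          (AlgEqCyc.fibreMult (pullback.snd q q) v
            (pullback.diagonal q (genericPoint ↥C)) h : ℤ) = 1 := by
        rintro _ rfl h
        rw [fibreMult_section (pullback.snd q q) (pullback.diagonal q)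
          (pullback.diagonal_snd q) x (genericPoint ↥C) h]
        rfl
      have hv : AlgEqCyc.slice q q t ht x = pullback.diagonal q x := by
        rw [hx, slice_eq_diag]
      have e1 : (Function.locallyFinsuppWithin.single (pullback.diagonal q (genericPoint ↥C))
          (1 : ℤ)) (pullback.diagonal q (genericPoint ↥C)) = (1 : ℤ) := by
        rw [Function.locallyFinsuppWithin.single_apply, if_pos rfl]
      have e2 := key _ hv hsp
      show (Function.locallyFinsuppWithin.single (pullback.diagonal q (genericPoint ↥C))
        (1 : ℤ)) (pullback.diagonal q (genericPoint ↥C)) * _ = 1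
      exact (congrArg₂ (· * ·) e1 e2).trans (one_mul 1)
    · intro w hw
      exfalso
      apply hw
      exact Subtype.ext (hW w.1 w.2.1)
  · rw [if_neg hx]
    haveI : IsEmpty {w : ↥(pullback q q) //
        (Function.locallyFinsuppWithin.single (pullback.diagonal q (genericPoint ↥C)) (1 : ℤ)) w ≠ 0 ∧
          w ⤳ AlgEqCyc.slice q q t ht x} := by
      refine ⟨fun w => hx ?_⟩
      have h1 := hW w.1 w.2.1
      have h2 := w.2.2
      rw [h1] at h2
      exact (specializes_slice_iff q t ht x z).mp h2
    exact finsum_of_isEmpty _

end Groth.Agent.Lib.Helper91.AlgEqDiag
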