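/-
Helper library (helper91): `[P₁] - [P₂]` on a smooth projective curve is elementary algebraically
trivial, via the diagonal family.
-/
import Mathlib
import Groth.Prelude.Def_AlgEqCyc
import Groth.Agent.Lib.Helper91.AlgEqDiag2
import Groth.Agent.Lib.Helper20.PnSmooth

set_option autoImplicit false
set_option linter.style.haveILetI false
universe u

open CategoryTheory CategoryTheory.Limits AlgebraicGeometry TopologicalSpace Opposite

namespace Groth.Agent.Lib.Helper91.AlgEqDiag

theorem isSeparated_of_isProjectiveOver (k : Type u) [Field k] (C : Scheme.{u})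
    (q : C ⟶ Spec (CommRingCat.of k)) (hp : Neron.IsProjectiveOver k (Over.mk q)) :
    IsSeparated q := by
  obtain ⟨n, i, hi, hiq⟩ := hp
  haveI := Groth.Agent.Lib.Helper20.PnSmooth.isProper_toBase n (Spec (CommRingCat.of k))
  haveI : IsClosedImmersion i := hi
  have hiq' : i ≫ CohB1.ProjSpaceOver.toBase n (Spec (CommRingCat.of k)) = q := hiq
  rw [← hiq']
  infer_instance

theorem main (k : Type u) [Field k]
    (C : Scheme.{u}) [DecidableEq ↥C] (q : C ⟶ Spec (CommRingCat.of k)) (hs : Smooth q)
    (hp : Neron.IsProjectiveOver k (Over.mk q)) (hi : IsIntegral C) (hd : topologicalKrullDim ↥C = 1)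
    (P₁ P₂ : Spec (CommRingCat.of k) ⟶ C) (h₁ : P₁ ≫ q = 𝟙 _) (h₂ : P₂ ≫ q = 𝟙 _) :
    AlgEqCyc.IsElemAlgTriv q
      (Function.locallyFinsuppWithin.single (P₁ (IsLocalRing.closedPoint k)) (1 : ℤ) -
        Function.locallyFinsuppWithin.single (P₂ (IsLocalRing.closedPoint k)) (1 : ℤ)) := by
  classical
  haveI : IsSeparated q := isSeparated_of_isProjectiveOver k C q hp
  refine ⟨C, q, hs, hp, hi, hd,
    Function.locallyFinsuppWithin.single (pullback.diagonal q (genericPoint ↥C)) (1 : ℤ), ?_,
    P₁, P₂, h₁, h₂, ?_⟩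
  · intro w hw
    have hw' : w = pullback.diagonal q (genericPoint ↥C) := by
      rw [Function.locallyFinsuppWithin.single_apply] at hw
      by_contra hne
      rw [if_neg hne] at hw
      exact hw rfl
    rw [hw', ← Scheme.Hom.comp_apply, pullback.diagonal_snd]
    exact genericPoint_spec ↥C
  · intro x
    rw [fibreFun_diag q P₁ h₁ x (IsLocalRing.closedPoint k),
      fibreFun_diag q P₂ h₂ x (IsLocalRing.closedPoint k)]
    rw [Function.locallyFinsuppWithin.coe_sub, Pi.sub_apply,
      Function.locallyFinsuppWithin.single_apply, Function.locallyFinsuppWithin.single_apply]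

end Groth.Agent.Lib.Helper91.AlgEqDiag
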