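/-
Helper library (helper91): the graph family of a closed immersion `ι : C ⟶ X` of a curve over `k`:
its member over a rational point `t` of `C` is the cycle `[ι t]` on `X`.
-/
import Mathlib
import Groth.Prelude.Def_AlgEqCyc
import Groth.Agent.Lib.Helper91.AlgEqDiag3

set_option autoImplicit false
set_option linter.style.haveILetI false
universe u

open CategoryTheory CategoryTheory.Limits AlgebraicGeometry TopologicalSpace Opposite

namespace Groth.Agent.Lib.Helper91.AlgEqDiag

variable {k : Type u} [Field k] {X C : Scheme.{u}} (p : X ⟶ Spec (CommRingCat.of k))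
  (q : C ⟶ Spec (CommRingCat.of k)) (ι : C ⟶ X) (hq : ι ≫ p = q)

/-- The graph of `ι` as a morphism `C ⟶ X ×_k C`. -/
noncomputable def graph : C ⟶ pullback p q :=
  pullback.lift ι (𝟙 C) (by rw [hq, Category.id_comp])

theorem graph_snd : graph p q ι hq ≫ pullback.snd p q = 𝟙 C := by
  unfold graph
  exact pullback.lift_snd _ _ _

theorem graph_fst : graph p q ι hq ≫ pullback.fst p q = ι := by
  unfold graph
  exact pullback.lift_fst _ _ _

theorem isClosedImmersion_graph [IsSeparated q] [IsClosedImmersion ι] :
    IsClosedImmersion (graph p q ι hq) := by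
  haveI : IsClosedImmersion (graph p q ι hq ≫ pullback.fst p q) := by
    rw [graph_fst]; infer_instance
  exact IsClosedImmersion.of_comp (graph p q ι hq) (pullback.fst p q)

theorem slice_eq_graph (t : Spec (CommRingCat.of k) ⟶ C) (ht : t ≫ q = 𝟙 _)
    (z : ↥(Spec (CommRingCat.of k))) :
    AlgEqCyc.slice p q t ht (ι (t z)) = graph p q ι hq (t z) := by
  have h : t ≫ ι ≫ AlgEqCyc.slice p q t ht = t ≫ graph p q ι hq := by
    apply pullback.hom_ext
    · simp only [AlgEqCyc.slice, Category.assoc, pullback.lift_fst, graph,
        Category.comp_id]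
    · simp only [AlgEqCyc.slice, Category.assoc, pullback.lift_snd, graph,
        Category.comp_id]
      rw [← Category.assoc ι, hq, ← Category.assoc, ht, Category.id_comp]
  rw [← Scheme.Hom.comp_apply, ← Scheme.Hom.comp_apply, h, Scheme.Hom.comp_apply]

theorem specializes_slice_graph_iff [IsIntegral C] [IsSeparated q] [IsClosedImmersion ι]
    (t : Spec (CommRingCat.of k) ⟶ C) (ht : t ≫ q = 𝟙 _) (x : X)
    (z : ↥(Spec (CommRingCat.of k))) :
    graph p q ι hq (genericPoint ↥C) ⤳ AlgEqCyc.slice p q t ht x ↔ x = ι (t z) := by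
  haveI := isClosedImmersion_graph p q ι hq
  constructor
  · intro h
    have hmem : AlgEqCyc.slice p q t ht x ∈
        closure ({graph p q ι hq (genericPoint ↥C)} : Set ↥(pullback p q)) :=
      specializes_iff_mem_closure.mp h
    rw [← Set.image_singleton, (graph p q ι hq).isClosedEmbedding.closure_image_eq,
      (genericPoint_spec ↥C : closure {genericPoint ↥C} = Set.univ), Set.image_univ] at hmem
    obtain ⟨c, hc⟩ := hmem
    have h1 : ι c = x := by
      have := congrArg (pullback.fst p q) hc
      rw [← Scheme.Hom.comp_apply, ← Scheme.Hom.comp_apply, graph_fst] at this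
      simp only [AlgEqCyc.slice, pullback.lift_fst] at this
      exact this
    have h2 : c = t (p x) := by
      have := congrArg (pullback.snd p q) hc
      rw [← Scheme.Hom.comp_apply, ← Scheme.Hom.comp_apply, graph_snd] at this
      simp only [AlgEqCyc.slice, pullback.lift_snd] at this
      exact this
    rw [← h1, h2]
    congr 2
    exact Subsingleton.elim _ _
  · rintro rfl
    rw [slice_eq_graph]
    exact (genericPoint_specializes (t z)).map (graph p q ι hq).continuous

theorem fibreFun_graph [IsIntegral C] [IsSeparated q] [IsClosedImmersion ι]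
    [DecidableEq ↥(pullback p q)] [DecidableEq ↥X]
    (t : Spec (CommRingCat.of k) ⟶ C) (ht : t ≫ q = 𝟙 _) (x : X)
    (z : ↥(Spec (CommRingCat.of k))) :
    AlgEqCyc.fibreFun p q
      (Function.locallyFinsuppWithin.single (graph p q ι hq (genericPoint ↥C)) (1 : ℤ))
      t ht x = if x = ι (t z) then 1 else 0 := by
  unfold AlgEqCyc.fibreFun
  have hW : ∀ w : ↥(pullback p q),
      (Function.locallyFinsuppWithin.single (graph p q ι hq (genericPoint ↥C)) (1 : ℤ)) w ≠ 0 →
      w = graph p q ι hq (genericPoint ↥C) := by
    intro w hw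
    rw [Function.locallyFinsuppWithin.single_apply] at hw
    by_contra hne
    rw [if_neg hne] at hw
    exact hw rfl
  by_cases hx : x = ι (t z)
  · -- single term
    rw [if_pos hx]
    have hsp : graph p q ι hq (genericPoint ↥C) ⤳ AlgEqCyc.slice p q t ht x :=
      (specializes_slice_graph_iff p q ι hq t ht x z).mpr hx
    have hne : (Function.locallyFinsuppWithin.single (graph p q ι hq (genericPoint ↥C))
        (1 : ℤ)) (graph p q ι hq (genericPoint ↥C)) ≠ 0 := by
      rw [Function.locallyFinsuppWithin.single_apply, if_pos rfl]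
      exact one_ne_zero
    rw [finsum_eq_single _ ⟨graph p q ι hq (genericPoint ↥C), hne, hsp⟩]
    · have key : ∀ (v : ↥(pullback p q)) (_ : v = graph p q ι hq (t z))
          (h : graph p q ι hq (genericPoint ↥C) ⤳ v),
          (AlgEqCyc.fibreMult (pullback.snd p q) v
            (graph p q ι hq (genericPoint ↥C)) h : ℤ) = 1 := by
        rintro _ rfl h
        rw [fibreMult_section (pullback.snd p q) (graph p q ι hq)
          (graph_snd p q ι hq) (t z) (genericPoint ↥C) h]
        rfl
      have hv : AlgEqCyc.slice p q t ht x = graph p q ι hq (t z) := by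
        rw [hx, slice_eq_graph]
      have e1 : (Function.locallyFinsuppWithin.single (graph p q ι hq (genericPoint ↥C))
          (1 : ℤ)) (graph p q ι hq (genericPoint ↥C)) = (1 : ℤ) := by
        rw [Function.locallyFinsuppWithin.single_apply, if_pos rfl]
      have e2 := key _ hv hsp
      show (Function.locallyFinsuppWithin.single (graph p q ι hq (genericPoint ↥C))
        (1 : ℤ)) (graph p q ι hq (genericPoint ↥C)) * _ = 1
      exact (congrArg₂ (· * ·) e1 e2).trans (one_mul 1)
    · intro w hw
      exfalso
      apply hw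
      exact Subtype.ext (hW w.1 w.2.1)
  · rw [if_neg hx]
    haveI : IsEmpty {w : ↥(pullback p q) //
        (Function.locallyFinsuppWithin.single (graph p q ι hq (genericPoint ↥C)) (1 : ℤ)) w ≠ 0 ∧
          w ⤳ AlgEqCyc.slice p q t ht x} := by
      refine ⟨fun w => hx ?_⟩
      have h1 := hW w.1 w.2.1
      have h2 := w.2.2
      rw [h1] at h2
      exact (specializes_slice_graph_iff p q ι hq t ht x z).mp h2
    exact finsum_of_isEmpty _

include hq in
/-- Two rational points of a smooth projective curve closed-immersed in `X` give an elementary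
algebraically trivial cycle on `X`. -/
theorem isElemAlgTriv_of_curve [DecidableEq ↥X] (hs : Smooth q)
    (hp : Neron.IsProjectiveOver k (Over.mk q)) (hi : IsIntegral C)
    (hd : topologicalKrullDim ↥C = 1) [IsClosedImmersion ι]
    (t₁ t₂ : Spec (CommRingCat.of k) ⟶ C) (h₁ : t₁ ≫ q = 𝟙 _) (h₂ : t₂ ≫ q = 𝟙 _) :
    AlgEqCyc.IsElemAlgTriv p
      (Function.locallyFinsuppWithin.single (ι (t₁ (IsLocalRing.closedPoint k))) (1 : ℤ) -
        Function.locallyFinsuppWithin.single (ι (t₂ (IsLocalRing.closedPoint k))) (1 : ℤ)) := by
  classical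
  haveI : IsSeparated q := isSeparated_of_isProjectiveOver k C q hp
  refine ⟨C, q, hs, hp, hi, hd,
    Function.locallyFinsuppWithin.single (graph p q ι hq (genericPoint ↥C)) (1 : ℤ), ?_,
    t₁, t₂, h₁, h₂, ?_⟩
  · intro w hw
    have hw' : w = graph p q ι hq (genericPoint ↥C) := by
      rw [Function.locallyFinsuppWithin.single_apply] at hw
      by_contra hne
      rw [if_neg hne] at hw
      exact hw rfl
    rw [hw', ← Scheme.Hom.comp_apply, graph_snd]
    exact genericPoint_spec ↥C
  · intro x
    rw [fibreFun_graph p q ι hq t₁ h₁ x (IsLocalRing.closedPoint k),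
      fibreFun_graph p q ι hq t₂ h₂ x (IsLocalRing.closedPoint k)]
    rw [Function.locallyFinsuppWithin.coe_sub, Pi.sub_apply,
      Function.locallyFinsuppWithin.single_apply, Function.locallyFinsuppWithin.single_apply]

end Groth.Agent.Lib.Helper91.AlgEqDiag
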