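/-
Helper library (helper91): points on a connected union of smooth projective curves in `X` are
algebraically equivalent (chain argument).
-/
import Mathlib
import Groth.Prelude.Def_AlgEqCyc
import Groth.Agent.Lib.Helper91.AlgEqGraph1

set_option autoImplicit false
set_option linter.style.haveILetI false
universe u

open CategoryTheory CategoryTheory.Limits AlgebraicGeometry TopologicalSpace Opposite

namespace Groth.Agent.Lib.Helper91.AlgEqDiag

theorem isProper_of_isProjectiveOver (k : Type u) [Field k] (C : Scheme.{u})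
    (q : C ⟶ Spec (CommRingCat.of k)) (hp : Neron.IsProjectiveOver k (Over.mk q)) :
    IsProper q := by
  obtain ⟨n, i, hi, hiq⟩ := hp
  haveI := Groth.Agent.Lib.Helper20.PnSmooth.isProper_toBase n (Spec (CommRingCat.of k))
  haveI : IsClosedImmersion i := hi
  have hiq' : i ≫ CohB1.ProjSpaceOver.toBase n (Spec (CommRingCat.of k)) = q := hiq
  rw [← hiq']
  infer_instance

theorem closed_of_image_closed {C X : Scheme.{u}} (f : C ⟶ X) [IsClosedImmersion f] (c : C)
    (h : IsClosed ({f c} : Set X)) : IsClosed ({c} : Set C) := by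
  have e : ({c} : Set C) = f ⁻¹' {f c} := by
    ext y
    simp only [Set.mem_singleton_iff, Set.mem_preimage]
    exact ⟨fun h => by rw [h], fun h => f.isClosedEmbedding.injective h⟩
  rw [e]
  exact h.preimage f.continuous

theorem image_closed_of_closed {C X : Scheme.{u}} (f : C ⟶ X) [IsClosedImmersion f] (c : C)
    (h : IsClosed ({c} : Set C)) : IsClosed ({f c} : Set X) := by
  have := f.isClosedEmbedding.isClosedMap _ h
  rwa [Set.image_singleton] at this

section

variable (k : Type u) [Field k] [IsAlgClosed k] (X : Scheme.{u}) [DecidableEq ↥X]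
    (p : X ⟶ Spec (CommRingCat.of k)) (n : ℕ)
    (C : Fin n → Scheme.{u}) (q : (i : Fin n) → (C i ⟶ Spec (CommRingCat.of k)))
    (ι : (i : Fin n) → (C i ⟶ X)) (hι : ∀ i, IsClosedImmersion (ι i)) (hq : ∀ i, ι i ≫ p = q i)
    (hs : ∀ i, Smooth (q i)) (hpr : ∀ i, Neron.IsProjectiveOver k (Over.mk (q i)))
    (hint : ∀ i, IsIntegral (C i)) (hd : ∀ i, topologicalKrullDim ↥(C i) = 1)

include hι hq hs hpr hint hd in
theorem mem_of_closed_same (i : Fin n) (c c' : C i) (hc : IsClosed ({c} : Set (C i)))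
    (hc' : IsClosed ({c'} : Set (C i))) :
    Function.locallyFinsuppWithin.single (ι i c) (1 : ℤ) -
      Function.locallyFinsuppWithin.single (ι i c') (1 : ℤ) ∈ AlgEqCyc.algTriv p := by
  haveI := hι i
  haveI : LocallyOfFiniteType (q i) := by
    haveI := hs i
    infer_instance
  apply AddSubgroup.subset_closure
  have := isElemAlgTriv_of_curve p (q i) (ι i) (hq i) (hs i) (hpr i) (hint i) (hd i)
    (pointOfClosedPoint (q i) c hc) (pointOfClosedPoint (q i) c' hc')
    (pointOfClosedPoint_comp (q i) c hc) (pointOfClosedPoint_comp (q i) c' hc')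
  rw [pointOfClosedPoint_apply, pointOfClosedPoint_apply] at this
  exact this

/-- Two curves of the family meet. -/
def Meet (i j : Fin n) : Prop := (Set.range ⇑(ι i) ∩ Set.range ⇑(ι j)).Nonempty

include hι hpr in
theorem exists_closed_of_meet (i j : Fin n) (h : Meet X n C ι i j) :
    ∃ c : C i, IsClosed ({c} : Set (C i)) ∧ ∃ c' : C j, IsClosed ({c'} : Set (C j)) ∧
      ι i c = ι j c' := by
  haveI := hι i
  haveI := hι j
  haveI : IsProper (q i) := isProper_of_isProjectiveOver k (C i) (q i) (hpr i)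
  haveI : CompactSpace ↥(C i) := QuasiCompact.compactSpace_of_compactSpace (q i)
  have hS : IsClosed (⇑(ι i) ⁻¹' Set.range ⇑(ι j)) :=
    (ι j).isClosedEmbedding.isClosed_range.preimage (ι i).continuous
  have hne : (⇑(ι i) ⁻¹' Set.range ⇑(ι j)).Nonempty := by
    obtain ⟨x, ⟨c, hc⟩, hxj⟩ := h
    exact ⟨c, by rw [Set.mem_preimage, hc]; exact hxj⟩
  obtain ⟨c, hcS, hc⟩ := hS.exists_closed_singleton hne
  obtain ⟨c', hc'⟩ := hcS
  refine ⟨c, hc, c', ?_, hc'.symm⟩
  apply closed_of_image_closed (ι j)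
  rw [hc']
  exact image_closed_of_closed (ι i) c hc

include hι hq hs hpr hint hd in
theorem chain (i₀ : Fin n) (c₀ : C i₀) (hc₀ : IsClosed ({c₀} : Set (C i₀))) (j : Fin n)
    (hr : Relation.ReflTransGen (Meet X n C ι) i₀ j) :
    ∀ c' : C j, IsClosed ({c'} : Set (C j)) →
    Function.locallyFinsuppWithin.single (ι i₀ c₀) (1 : ℤ) -
      Function.locallyFinsuppWithin.single (ι j c') (1 : ℤ) ∈ AlgEqCyc.algTriv p := by
  induction hr with
  | refl => exact fun c' hc' => mem_of_closed_same k X p n C q ι hι hq hs hpr hint hd i₀ c₀ c' hc₀ hc'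
  | tail hab hbc ih =>
    rename_i b c
    intro c' hc'
    obtain ⟨d, hd', d', hd'', hdd⟩ := exists_closed_of_meet k X n C q ι hι hpr b c hbc
    have h1 := ih d hd'
    have h2 := mem_of_closed_same k X p n C q ι hι hq hs hpr hint hd c d' c' hd'' hc'
    have e : Function.locallyFinsuppWithin.single (ι i₀ c₀) (1 : ℤ) -
        Function.locallyFinsuppWithin.single (ι c c') (1 : ℤ) =
        (Function.locallyFinsuppWithin.single (ι i₀ c₀) (1 : ℤ) -
          Function.locallyFinsuppWithin.single (ι b d) (1 : ℤ)) +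
        (Function.locallyFinsuppWithin.single (ι c d') (1 : ℤ) -
          Function.locallyFinsuppWithin.single (ι c c') (1 : ℤ)) := by
      rw [hdd]
      abel
    rw [e]
    exact AddSubgroup.add_mem _ h1 h2

include hι hint in
theorem reachable (hconn : _root_.IsPreconnected (⋃ i, Set.range ⇑(ι i))) (i₀ j₀ : Fin n) :
    Relation.ReflTransGen (Meet X n C ι) i₀ j₀ := by
  by_contra hnot
  have hA : IsClosed (⋃ i ∈ {i | Relation.ReflTransGen (Meet X n C ι) i₀ i}, Set.range ⇑(ι i)) :=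
    Set.Finite.isClosed_biUnion (Set.toFinite _)
      (fun i _ => by haveI := hι i; exact (ι i).isClosedEmbedding.isClosed_range)
  have hB : IsClosed (⋃ i ∈ {i | ¬ Relation.ReflTransGen (Meet X n C ι) i₀ i},
      Set.range ⇑(ι i)) :=
    Set.Finite.isClosed_biUnion (Set.toFinite _)
      (fun i _ => by haveI := hι i; exact (ι i).isClosedEmbedding.isClosed_range)
  have hsub : (⋃ i, Set.range ⇑(ι i)) ⊆
      (⋃ i ∈ {i | Relation.ReflTransGen (Meet X n C ι) i₀ i}, Set.range ⇑(ι i)) ∪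
      (⋃ i ∈ {i | ¬ Relation.ReflTransGen (Meet X n C ι) i₀ i}, Set.range ⇑(ι i)) := by
    intro x hx
    obtain ⟨i, hi⟩ := Set.mem_iUnion.mp hx
    by_cases hri : Relation.ReflTransGen (Meet X n C ι) i₀ i
    · exact Or.inl (Set.mem_iUnion₂.mpr ⟨i, hri, hi⟩)
    · exact Or.inr (Set.mem_iUnion₂.mpr ⟨i, hri, hi⟩)
  haveI := hint i₀
  haveI := hint j₀
  obtain ⟨a⟩ : Nonempty ↥(C i₀) := inferInstance
  obtain ⟨b⟩ : Nonempty ↥(C j₀) := inferInstance
  have hTA : ((⋃ i, Set.range ⇑(ι i)) ∩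
      (⋃ i ∈ {i | Relation.ReflTransGen (Meet X n C ι) i₀ i}, Set.range ⇑(ι i))).Nonempty :=
    ⟨ι i₀ a, Set.mem_iUnion.mpr ⟨i₀, a, rfl⟩,
      Set.mem_iUnion₂.mpr ⟨i₀, Relation.ReflTransGen.refl, a, rfl⟩⟩
  have hTB : ((⋃ i, Set.range ⇑(ι i)) ∩
      (⋃ i ∈ {i | ¬ Relation.ReflTransGen (Meet X n C ι) i₀ i}, Set.range ⇑(ι i))).Nonempty :=
    ⟨ι j₀ b, Set.mem_iUnion.mpr ⟨j₀, b, rfl⟩, Set.mem_iUnion₂.mpr ⟨j₀, hnot, b, rfl⟩⟩
  obtain ⟨x, _, hxA, hxB⟩ := isPreconnected_closed_iff.mp hconn _ _ hA hB hsub hTA hTB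
  obtain ⟨i, hi, hxi⟩ := Set.mem_iUnion₂.mp hxA
  obtain ⟨j, hj, hxj⟩ := Set.mem_iUnion₂.mp hxB
  exact hj (hi.tail ⟨x, hxi, hxj⟩)

include hι hq hs hpr hint hd in
theorem main2 (hconn : _root_.IsConnected (⋃ i, Set.range ⇑(ι i)))
    (P Q : Spec (CommRingCat.of k) ⟶ X) (hP : P ≫ p = 𝟙 _) (hQ : Q ≫ p = 𝟙 _)
    (hPC : P (IsLocalRing.closedPoint k) ∈ ⋃ i, Set.range ⇑(ι i))
    (hQC : Q (IsLocalRing.closedPoint k) ∈ ⋃ i, Set.range ⇑(ι i)) :
    AlgEqCyc.IsAlgEquiv p
      (Function.locallyFinsuppWithin.single (P (IsLocalRing.closedPoint k)) (1 : ℤ))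
      (Function.locallyFinsuppWithin.single (Q (IsLocalRing.closedPoint k)) (1 : ℤ)) := by
  have hcl : ∀ (R : Spec (CommRingCat.of k) ⟶ X), R ≫ p = 𝟙 _ →
      IsClosed ({R (IsLocalRing.closedPoint k)} : Set X) := by
    intro R hR
    haveI := isClosedImmersion_of_comp_eq_id p R hR
    have := R.isClosedEmbedding.isClosed_range
    rwa [Set.range_eq_singleton] at this
    exact fun x ↦ congrArg R (Subsingleton.elim _ _)
  obtain ⟨i₀, c₀, hc₀⟩ := Set.mem_iUnion.mp hPC
  obtain ⟨j₀, d₀, hd₀⟩ := Set.mem_iUnion.mp hQC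
  haveI := hι i₀
  haveI := hι j₀
  have hc₀' : IsClosed ({c₀} : Set (C i₀)) := by
    apply closed_of_image_closed (ι i₀)
    rw [hc₀]
    exact hcl P hP
  have hd₀' : IsClosed ({d₀} : Set (C j₀)) := by
    apply closed_of_image_closed (ι j₀)
    rw [hd₀]
    exact hcl Q hQ
  have hr := reachable X n C ι hι hint hconn.isPreconnected i₀ j₀
  have := chain k X p n C q ι hι hq hs hpr hint hd i₀ c₀ hc₀' j₀ hr d₀ hd₀'
  rw [hc₀, hd₀] at this
  exact this

end

end Groth.Agent.Lib.Helper91.AlgEqDiag
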