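import Mathlib

/-!
# Associated primes of `R/J`: localization, transfer along ring isomorphisms, and principal ideals
in factorial rings
-/

set_option autoImplicit false

open IsLocalRing Submodule

namespace Groth.Agent.Lib.Helper91.AssStalk

section Basic

variable {R : Type*} [CommRing R] [IsNoetherianRing R]

/-- an associated prime of `R/J` is the annihilator of the class of some `r` -/
theorem exists_of_mem_associatedPrimes (J : Ideal R) {P : Ideal R}
    (hP : P ∈ associatedPrimes R (R ⧸ J)) :
    P.IsPrime ∧ ∃ r : R, ∀ a : R, a ∈ P ↔ a * r ∈ J := by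
  obtain ⟨hprime, x, hx⟩ := (isAssociatedPrime_iff (M := R ⧸ J)).mp hP
  obtain ⟨r, rfl⟩ := Ideal.Quotient.mk_surjective x
  refine ⟨hprime, r, fun a => ?_⟩
  rw [hx, mem_colon_singleton, Submodule.mem_bot]
  rw [show a • (Ideal.Quotient.mk J r) = Ideal.Quotient.mk J (a * r) from rfl,
    Ideal.Quotient.eq_zero_iff_mem]

theorem mem_associatedPrimes_of_forall (J : Ideal R) {P : Ideal R} [hprime : P.IsPrime] (r : R)
    (hr : ∀ a : R, a ∈ P ↔ a * r ∈ J) : P ∈ associatedPrimes R (R ⧸ J) := by
  refine (isAssociatedPrime_iff (M := R ⧸ J)).mpr ⟨hprime, Ideal.Quotient.mk J r, ?_⟩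
  ext a
  rw [mem_colon_singleton, Submodule.mem_bot]
  rw [show a • (Ideal.Quotient.mk J r) = Ideal.Quotient.mk J (a * r) from rfl,
    Ideal.Quotient.eq_zero_iff_mem]
  exact hr a

end Basic

section Localization

variable {R : Type*} [CommRing R] [IsNoetherianRing R] (P : Ideal R) [P.IsPrime]
  (S : Type*) [CommRing S] [Algebra R S] [IsLocalization.AtPrime S P] [IsNoetherianRing S]
  [IsLocalRing S]

/-- **Lemma Q**: if `P ∈ Ass(R/J)` then the maximal ideal of `R_P / J R_P` is associated -/
theorem isAssociatedPrime_maximalIdeal_quotient (J : Ideal R)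
    [IsLocalRing (S ⧸ J.map (algebraMap R S))]
    (hP : P ∈ associatedPrimes R (R ⧸ J)) :
    IsAssociatedPrime (maximalIdeal (S ⧸ J.map (algebraMap R S))) (S ⧸ J.map (algebraMap R S)) := by
  obtain ⟨-, r, hr⟩ := exists_of_mem_associatedPrimes J hP
  have hkey : ∀ b : S, b ∈ maximalIdeal S ↔ b * algebraMap R S r ∈ J.map (algebraMap R S) := by
    intro b
    constructor
    · intro hb
      rw [← IsLocalization.AtPrime.map_eq_maximalIdeal P] at hb
      obtain ⟨p, s, rfl⟩ := IsLocalization.exists_mk'_eq P.primeCompl b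
      rw [IsLocalization.mk'_mem_map_algebraMap_iff P.primeCompl] at hb
      obtain ⟨s', hs', hs'p⟩ := hb
      have h1 : IsLocalization.mk' S p s * algebraMap R S r = IsLocalization.mk' S (p * r) s := by
        rw [mul_comm, IsLocalization.mul_mk'_eq_mk'_of_mul, mul_comm]
      rw [h1, IsLocalization.mk'_mem_map_algebraMap_iff P.primeCompl]
      refine ⟨s', hs', ?_⟩
      rw [← mul_assoc]
      exact (hr _).mp hs'p
    · intro hb
      by_contra hnb
      have hunit : IsUnit b := by
        rwa [mem_maximalIdeal, mem_nonunits_iff, not_not] at hnb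
      have h2 : algebraMap R S r ∈ J.map (algebraMap R S) := by
        obtain ⟨u, rfl⟩ := hunit
        have := Ideal.mul_mem_left _ (↑u⁻¹ : S) hb
        rwa [← mul_assoc, Units.inv_mul, one_mul] at this
      rw [IsLocalization.algebraMap_mem_map_algebraMap_iff P.primeCompl] at h2
      obtain ⟨s, hs, hsr⟩ := h2
      exact hs ((hr s).mpr hsr)
  have hJle : J.map (algebraMap R S) ≤ maximalIdeal S := by
    apply IsLocalRing.le_maximalIdeal
    intro htop
    have : Subsingleton (S ⧸ J.map (algebraMap R S)) := by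
      rw [htop]; exact Ideal.Quotient.subsingleton_iff.mpr rfl
    exact not_subsingleton _ this
  have hmem : ∀ b : S, Ideal.Quotient.mk (J.map (algebraMap R S)) b ∈
      maximalIdeal (S ⧸ J.map (algebraMap R S)) ↔ b ∈ maximalIdeal S := by
    intro b
    constructor
    · intro hb
      by_contra hnb
      have hunit : IsUnit b := by
        rwa [mem_maximalIdeal, mem_nonunits_iff, not_not] at hnb
      rw [mem_maximalIdeal, mem_nonunits_iff] at hb
      exact hb (hunit.map _)
    · intro hb
      rw [mem_maximalIdeal, mem_nonunits_iff]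
      intro hunit
      obtain ⟨c', hc'⟩ := hunit.exists_right_inv
      obtain ⟨c, rfl⟩ := Ideal.Quotient.mk_surjective c'
      rw [← map_mul, ← map_one (Ideal.Quotient.mk (J.map (algebraMap R S))),
        Ideal.Quotient.eq] at hc'
      have h1 : b * c - 1 ∈ maximalIdeal S := hJle hc'
      have h2 : b * c ∈ maximalIdeal S := Ideal.mul_mem_right _ _ hb
      have h3 : (1 : S) ∈ maximalIdeal S := by
        have := Ideal.sub_mem _ h2 h1
        rwa [sub_sub_cancel] at this
      exact (maximalIdeal.isMaximal S).ne_top ((Ideal.eq_top_iff_one _).mpr h3)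
  refine (isAssociatedPrime_iff (M := S ⧸ J.map (algebraMap R S))).mpr
    ⟨inferInstance, Ideal.Quotient.mk _ (algebraMap R S r), ?_⟩
  ext b'
  obtain ⟨b, rfl⟩ := Ideal.Quotient.mk_surjective b'
  rw [hmem, mem_colon_singleton, Submodule.mem_bot, smul_eq_mul, ← map_mul,
    Ideal.Quotient.eq_zero_iff_mem]
  exact hkey b

end Localization

section Transfer

variable {A B : Type*} [CommRing A] [CommRing B] [IsLocalRing A] [IsLocalRing B]

theorem isAssociatedPrime_maximalIdeal_of_ringEquiv (e : A ≃+* B)
    (h : IsAssociatedPrime (maximalIdeal A) A) : IsAssociatedPrime (maximalIdeal B) B := by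
  obtain ⟨-, x, hx⟩ := h
  refine ⟨inferInstance, e x, ?_⟩
  ext b
  have h1 : b ∈ maximalIdeal B ↔ e.symm b ∈ maximalIdeal A := by
    rw [mem_maximalIdeal, mem_nonunits_iff, mem_maximalIdeal, mem_nonunits_iff]
    exact not_congr (MulEquiv.isUnit_map e.symm.toMulEquiv).symm
  rw [h1, hx, Ideal.mem_radical_iff, Ideal.mem_radical_iff]
  apply exists_congr
  intro n
  rw [mem_colon_singleton, mem_colon_singleton, Submodule.mem_bot, Submodule.mem_bot,
    smul_eq_mul, smul_eq_mul]
  constructor
  · intro h2
    have := congrArg e h2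
    rwa [map_mul, map_pow, RingEquiv.apply_symm_apply, map_zero] at this
  · intro h2
    apply e.injective
    rw [map_mul, map_pow, RingEquiv.apply_symm_apply, map_zero]
    exact h2

end Transfer

section UFD

variable {R : Type*} [CommRing R] [IsDomain R] [IsNoetherianRing R] [UniqueFactorizationMonoid R]

/-- an ideal of a Noetherian factorial domain such that all associated primes of `R/J` have height
one is principal -/
theorem exists_span_eq_of_ass_height_one (J : Ideal R) :
    (∀ P ∈ associatedPrimes R (R ⧸ J), P.height = 1) → ∃ t : R, t ≠ 0 ∧ J = Ideal.span {t} := by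
  induction J using IsNoetherian.induction with
  | hgt J ih =>
  intro hass
  by_cases htop : J = ⊤
  · exact ⟨1, one_ne_zero, by rw [htop, Ideal.span_singleton_one]⟩
  haveI : Nontrivial (R ⧸ J) := Ideal.Quotient.nontrivial_iff.mpr htop
  obtain ⟨P, hP⟩ := associatedPrimes.nonempty R (R ⧸ J)
  obtain ⟨hPprime, r, hr⟩ := exists_of_mem_associatedPrimes J hP
  have hPht := hass P hP
  obtain ⟨π, hπ⟩ := (UniqueFactorizationMonoid.isPrincipal_of_height_eq_one hPht).principal
  have hπ' : P = Ideal.span {π} := hπ
  have hπP : π ∈ P := by rw [hπ']; exact Ideal.subset_span rfl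
  have hπ0 : π ≠ 0 := by
    rintro rfl
    apply Ideal.ne_bot_of_height_eq_one hPht
    rw [hπ']; simp
  have hJ'mem : ∀ a : R, a ∈ J.colon {π} ↔ a * π ∈ J := by
    intro a
    rw [mem_colon_singleton, smul_eq_mul]
  have hJP : J ≤ P := fun a ha => (hr a).mpr (Ideal.mul_mem_right r J ha)
  have hlt : J < J.colon {π} := by
    refine lt_of_le_of_ne (fun a ha => (hJ'mem a).mpr (Ideal.mul_mem_right π J ha)) ?_
    intro heq
    have hrJ' : r ∈ J.colon {π} := by
      rw [hJ'mem, mul_comm]; exact (hr π).mp hπP
    rw [← heq] at hrJ'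
    apply hPprime.ne_top
    rw [Ideal.eq_top_iff_one]
    rw [hr 1, one_mul]
    exact hrJ'
  obtain ⟨t', ht'0, ht'⟩ := ih (J.colon {π}) hlt (by
    intro Q hQ
    obtain ⟨hQprime, r', hr'⟩ := exists_of_mem_associatedPrimes _ hQ
    apply hass Q
    haveI := hQprime
    apply mem_associatedPrimes_of_forall J (r' * π)
    intro a
    rw [hr' a, hJ'mem, mul_assoc])
  refine ⟨π * t', mul_ne_zero hπ0 ht'0, ?_⟩
  apply le_antisymm
  · intro a ha
    have haP := hJP ha
    rw [hπ', Ideal.mem_span_singleton] at haP
    obtain ⟨c, rfl⟩ := haP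
    have hc : c ∈ J.colon {π} := by rw [hJ'mem, mul_comm]; exact ha
    rw [ht', Ideal.mem_span_singleton] at hc
    obtain ⟨d, rfl⟩ := hc
    rw [Ideal.mem_span_singleton]
    exact ⟨d, by ring⟩
  · rw [Ideal.span_singleton_le_iff_mem]
    have : t' ∈ J.colon {π} := by rw [ht']; exact Ideal.subset_span rfl
    rw [hJ'mem] at this
    rwa [mul_comm]

end UFD

end Groth.Agent.Lib.Helper91.AssStalk
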