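import Mathlib
import Groth.Agent.S18176

/-!
# Limit linear series bookkeeping (FunFld family S18173–S18186)

`wsum V D P d = ∑_{j<d} dim V(-(j+1)P)` (weight of `V` at `P` plus `r(r+1)/2`).
-/

namespace Groth.Agent.Lib.Helper91.LimLin

open FunFld Module Groth.Agent.Lib.Helper55

variable {k : Type*} [Field k]

section one

variable {K : Type*} [Field K] [Algebra k K]

/-- two-point inequality (restatement of S18176 part 2) -/
theorem two_point [IsAlgClosed k] [CharZero k] (hK : IsFunctionField k K)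
    (d r : ℕ) (D : Divisor k K) (hD : D.deg = d)
    (V : Submodule k K) (hV : V ≤ L D) (hVr : finrank k ↥V = r + 1)
    (P Q : Place k K) (hPQ : P ≠ Q) :
    (∑ n ∈ Finset.range d, finrank k ↥(V ⊓ L (D - Finsupp.single P ((n : ℤ) + 1)))) +
      (∑ n ∈ Finset.range d, finrank k ↥(V ⊓ L (D - Finsupp.single Q ((n : ℤ) + 1)))) ≤
      (r + 1) * d :=
  (Groth.Agent.S18176.result k K hK d r D hD V hV hVr P Q hPQ).2

end one

section two

variable {K K' : Type*} [Field K] [Algebra k K] [Field K'] [Algebra k K']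

/-- summing the compatibility condition over `m = 1, …, d`. -/
theorem compat_sum (d r : ℕ) (D : Divisor k K) (V : Submodule k K) (B : Place k K)
    (D' : Divisor k K') (V' : Submodule k K') (A' : Place k K')
    (hcomp : ∀ m : ℕ, m ≤ d + 1 →
      finrank k ↥(V ⊓ L (D - Finsupp.single B (m : ℤ))) +
        finrank k ↥(V' ⊓ L (D' - Finsupp.single A' ((d : ℤ) + 1 - m))) = r + 1) :
    (∑ j ∈ Finset.range d, finrank k ↥(V ⊓ L (D - Finsupp.single B ((j : ℤ) + 1)))) +
      (∑ j ∈ Finset.range d, finrank k ↥(V' ⊓ L (D' - Finsupp.single A' ((j : ℤ) + 1)))) =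
      (r + 1) * d := by
  have h1 : ∑ j ∈ Finset.range d, finrank k ↥(V' ⊓ L (D' - Finsupp.single A' ((j : ℤ) + 1))) =
      ∑ j ∈ Finset.range d,
        finrank k ↥(V' ⊓ L (D' - Finsupp.single A' (((d - 1 - j : ℕ) : ℤ) + 1))) := by
    rw [Finset.sum_range_reflect (fun j =>
      finrank k ↥(V' ⊓ L (D' - Finsupp.single A' ((j : ℤ) + 1)))) d]
  rw [h1, ← Finset.sum_add_distrib]
  have h2 : ∀ j ∈ Finset.range d,
      finrank k ↥(V ⊓ L (D - Finsupp.single B ((j : ℤ) + 1))) +
        finrank k ↥(V' ⊓ L (D' - Finsupp.single A' (((d - 1 - j : ℕ) : ℤ) + 1))) = r + 1 := by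
    intro j hj
    rw [Finset.mem_range] at hj
    have := hcomp (j + 1) (by omega)
    have e : ((d : ℤ) + 1 - ((j + 1 : ℕ) : ℤ)) = ((d - 1 - j : ℕ) : ℤ) + 1 := by omega
    rw [e] at this
    push_cast at this
    exact this
  rw [Finset.sum_congr rfl h2, Finset.sum_const, Finset.card_range, smul_eq_mul, mul_comm]

end two


section three

variable {K : Type*} [Field K] [Algebra k K]

/-- `ℓ(E) ≤ 1` for a divisor of degree one on a function field of positive genus. -/
theorem ell_le_one_of_deg_one [IsAlgClosed k] (hK : IsFunctionField k K) (hg : 0 < genus k K)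
    (E : Divisor k K) (hE : E.deg = 1) : ell E ≤ 1 := by
  by_cases hbot : L E = ⊥
  · unfold ell
    rw [hbot, finrank_bot]
    exact Nat.zero_le _
  · obtain ⟨f, hf0, hf⟩ := (ff_L_ne_bot_iff hK E).mp hbot
    have hdeg : (E + FunFld.div k f).deg = 1 := by
      rw [ff_deg_add, ff_deg_div hK, hE, add_zero]
    obtain ⟨P', hP', hP'deg⟩ := ff_eq_single_of_deg_eq_one hK hf hdeg
    have h1 := ff_ell_add_div hK E hf0
    rw [hP', ff_ell_single_eq_one hK hg P' hP'deg] at h1
    exact h1.symm.le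

/-- `ℓ(D) ≤ deg D + 1` when `deg D ≥ 0` (algebraically closed constants). -/
theorem ell_le_deg_add_one [IsAlgClosed k] (hK : IsFunctionField k K) (D : Divisor k K) (d : ℕ)
    (hD : D.deg = d) : ell D ≤ d + 1 := by
  obtain ⟨P⟩ := ff_nonempty_place hK
  have hle : D - Finsupp.single P ((d : ℤ) + 1) ≤ D := by
    apply sub_le_self
    rw [Finsupp.single_nonneg]
    omega
  have h1 := ff_ell_sub_le hK hle
  have hdeg : (D - Finsupp.single P ((d : ℤ) + 1)).deg < 0 := by
    rw [ff_deg_sub, ff_deg_single, hD, ff_deg_eq_one_of_isAlgClosed hK P]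
    push_cast
    omega
  rw [ff_ell_eq_zero_of_deg_neg hK hdeg, ff_deg_sub, ff_deg_single, hD,
    ff_deg_eq_one_of_isAlgClosed hK P] at h1
  push_cast at h1
  omega

/-- a `g^r_d` has `r ≤ d`. -/
theorem r_le_d [IsAlgClosed k] (hK : IsFunctionField k K) (d r : ℕ) (D : Divisor k K)
    (hD : D.deg = d) (V : Submodule k K) (hV : V ≤ L D) (hVr : finrank k ↥V = r + 1) : r ≤ d := by
  have := ff_L_finiteDimensional hK D
  have h1 : finrank k ↥V ≤ finrank k ↥(L D) := Submodule.finrank_mono hV
  have h2 := ell_le_deg_add_one hK D d hD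
  unfold ell at h2
  omega

end three

theorem two_mul_half (r : ℕ) : r * (r + 1) / 2 * 2 = r * (r + 1) :=
  Nat.div_mul_cancel (Nat.even_mul_succ_self r).two_dvd

end Groth.Agent.Lib.Helper91.LimLin
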