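import Mathlib
import Groth.Agent.Lib.Helper91.LimLin

/-!
# The cusp lemma on a rational function field (FunFld family)

On a function field of genus `0` over an algebraically closed field of characteristic zero, a
`g^r_d` with a cusp at `Q` has, up to scalars, at most one member vanishing only at two given
places `P, P' ≠ Q`.
-/

namespace Groth.Agent.Lib.Helper91.Cusp

open FunFld Module Groth.Agent.Lib.Helper55

variable {k K : Type*} [Field k] [Field K] [Algebra k K]

/-- L1: residue field of a degree-one place is `k`. -/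
theorem exists_const_sub (Q : Place k K) (hQ : Q.deg = 1) {t : K} (ht : Q.1 t ≤ 1) :
    ∃ τ : k, Q.1 (t - algebraMap k K τ) < 1 := by
  let x : Q.O := ⟨t, ht⟩
  have h1 : (1 : IsLocalRing.ResidueField Q.O) ≠ 0 := one_ne_zero
  have hfr : finrank k (IsLocalRing.ResidueField Q.O) = 1 := hQ
  obtain ⟨τ, hτ⟩ := (finrank_eq_one_iff_of_nonzero' (1 : IsLocalRing.ResidueField Q.O) h1).mp hfr
    (IsLocalRing.residue Q.O x)
  refine ⟨τ, ?_⟩
  have h2 : τ • (1 : IsLocalRing.ResidueField Q.O) =
      IsLocalRing.residue Q.O (⟨algebraMap k K τ, Q.2.1 τ⟩ * 1) := by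
    rw [← map_one (IsLocalRing.residue Q.O)]
    exact ff_residue_smul Q τ 1
  have hτ' : IsLocalRing.residue Q.O x =
      IsLocalRing.residue Q.O (⟨algebraMap k K τ, Q.2.1 τ⟩ * 1) := hτ.symm.trans h2
  rw [mul_one] at hτ'
  have h3 : IsLocalRing.residue Q.O (x - ⟨algebraMap k K τ, Q.2.1 τ⟩) = 0 := by
    rw [map_sub, hτ', sub_self]
  rw [IsLocalRing.residue_eq_zero_iff, ff_mem_maximalIdeal_iff] at h3
  exact h3

/-- L2: a nonzero element with trivial divisor is a nonzero constant. -/
theorem const_of_div_eq_zero (hK : IsFunctionField k K) {h : K} (h0 : h ≠ 0)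
    (hd : FunFld.div k h = 0) : ∃ c : k, c ≠ 0 ∧ h = algebraMap k K c := by
  have hord : ∀ P : Place k K, P.ord h = P.ord (1 : K) := by
    intro P
    have h1 : P.ord h = 0 := by
      rw [← ff_div_apply hK h P, hd]; rfl
    have h2 : P.ord (1 : K) = 0 := by
      have := ff_ord_const P (1 : k)
      rwa [map_one] at this
    rw [h1, h2]
  obtain ⟨c, hc⟩ := ff_eq_smul_of_ord_eq hK h0 one_ne_zero hord
  refine ⟨c, ?_, ?_⟩
  · rintro rfl
    rw [zero_smul] at hc
    exact h0 hc
  · rw [hc, Algebra.smul_def, mul_one]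

/-- `div (t ^ m) = m • div t`. -/
theorem div_pow (hK : IsFunctionField k K) {t : K} (ht : t ≠ 0) (m : ℕ) :
    FunFld.div k (t ^ m) = m • FunFld.div k t := by
  induction m with
  | zero =>
    rw [pow_zero, zero_smul]
    have := ff_div_const hK (1 : k)
    rwa [map_one] at this
  | succ m ih =>
    rw [pow_succ, ff_div_mul hK (pow_ne_zero m ht) ht, ih, succ_nsmul]

/-- L3: in genus `0`, any degree-zero difference of two places is principal. -/
theorem exists_div_eq_sub [IsAlgClosed k] (hK : IsFunctionField k K) (hg0 : genus k K = 0)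
    (P P' : Place k K) :
    ∃ t : K, t ≠ 0 ∧ FunFld.div k t = Finsupp.single P 1 - Finsupp.single P' 1 := by
  set E : Divisor k K := Finsupp.single P' 1 - Finsupp.single P 1 with hE
  have hdeg : E.deg = 0 := by
    rw [hE, ff_deg_sub, ff_deg_single, ff_deg_single, ff_deg_eq_one_of_isAlgClosed hK P,
      ff_deg_eq_one_of_isAlgClosed hK P']
    ring
  have hell := ff_ell_eq_of_deg_ge hK E (by rw [hg0, hdeg]; norm_num)
  rw [hdeg, hg0] at hell
  have hne : L E ≠ ⊥ := by
    intro h
    unfold ell at hell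
    rw [h, finrank_bot] at hell
    norm_num at hell
  obtain ⟨t, ht0, ht⟩ := (ff_L_ne_bot_iff hK E).mp hne
  refine ⟨t, ht0, ?_⟩
  have hd0 : (0 : Divisor k K).deg = (E + FunFld.div k t).deg := by
    rw [ff_deg_zero, ff_deg_add, ff_deg_div hK, hdeg, add_zero]
  have h1 := ff_eq_of_le_of_deg_eq hK ht hd0
  have h2 : FunFld.div k t = -E := by
    rw [eq_neg_iff_add_eq_zero, add_comm]
    exact h1.symm
  rw [h2, hE]
  abel

/-- L4: second-order expansion of `t ^ m` around `a`. -/
theorem pow_expand (Q : Place k K) (t a : K) (ht : Q.1 t ≤ 1) (ha : Q.1 a ≤ 1) (m : ℕ) :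
    ∃ w : K, Q.1 w ≤ 1 ∧ t ^ m = a ^ m + (m : K) * a ^ (m - 1) * (t - a) + (t - a) ^ 2 * w := by
  induction m with
  | zero => exact ⟨0, by simp, by simp⟩
  | succ m ih =>
    obtain ⟨w, hw, hexp⟩ := ih
    have hnat : ∀ n : ℕ, Q.1 (n : K) ≤ 1 := by
      intro n
      have := Q.2.1 (n : k)
      rwa [map_natCast] at this
    refine ⟨(m : K) * a ^ (m - 1) + t * w, ?_, ?_⟩
    · refine (Q.1.map_add _ _).trans (max_le ?_ ?_)
      · rw [map_mul, map_pow]
        exact mul_le_one' (hnat m) (pow_le_one' ha _)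
      · rw [map_mul]
        exact mul_le_one' ht hw
    · rw [pow_succ, hexp]
      rcases Nat.eq_zero_or_pos m with hm | hm
      · subst hm
        simp
        ring
      · obtain ⟨m', rfl⟩ := Nat.exists_eq_succ_of_ne_zero hm.ne'
        simp only [Nat.succ_eq_add_one, Nat.add_sub_cancel, Nat.cast_add, Nat.cast_one]
        ring


/-- L5: `A t^m + B` cannot vanish to order `≥ 2` at `Q` when `t` has a single simple pole at
`P' ≠ Q` and is a unit at `Q`. -/
theorem key_ord [IsAlgClosed k] [CharZero k] (hK : IsFunctionField k K) (P' Q : Place k K)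
    (hQP' : Q ≠ P') (t : K) (htL : t ∈ L (Finsupp.single P' 1 : Divisor k K))
    (htnc : t ∉ Set.range (algebraMap k K)) (htQ : Q.1 t = 1) (A B : k) (hA : A ≠ 0)
    (m : ℕ) (hm : 1 ≤ m)
    (hv : Q.1 (algebraMap k K A * t ^ m + algebraMap k K B) ≤ WithZero.exp (-2 : ℤ)) : False := by
  classical
  obtain ⟨τ, hτ⟩ := exists_const_sub Q (ff_deg_eq_one_of_isAlgClosed hK Q) htQ.le
  have hτ0 : τ ≠ 0 := by
    rintro rfl
    rw [map_zero, sub_zero, htQ] at hτ
    exact lt_irrefl _ hτ
  set a : K := algebraMap k K τ with ha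
  set s : K := t - a with hs
  obtain ⟨w, hw, hexp⟩ := pow_expand Q t a htQ.le (Q.2.1 τ) m
  have he2 : (WithZero.exp (-2 : ℤ) : WithZero (Multiplicative ℤ)) < 1 := by
    rw [← WithZero.exp_zero, WithZero.exp_lt_exp]; norm_num
  have hs1 : Q.1 s ≤ WithZero.exp (-1 : ℤ) := ff_lt_one_iff.mp hτ
  have hs2 : Q.1 (s ^ 2) ≤ WithZero.exp (-2 : ℤ) := by
    rw [map_pow]
    calc Q.1 s ^ 2 ≤ (WithZero.exp (-1 : ℤ)) ^ 2 := pow_le_pow_left' hs1 2
      _ = WithZero.exp (-2 : ℤ) := by rw [← WithZero.exp_nsmul]; norm_num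
  have hAw : Q.1 (algebraMap k K A * (s ^ 2 * w)) ≤ WithZero.exp (-2 : ℤ) := by
    rw [map_mul, map_mul]
    calc Q.1 (algebraMap k K A) * (Q.1 (s ^ 2) * Q.1 w) ≤ 1 * (WithZero.exp (-2 : ℤ) * 1) :=
          mul_le_mul' (Q.2.1 A) (mul_le_mul' hs2 hw)
      _ = WithZero.exp (-2 : ℤ) := by rw [one_mul, mul_one]
  -- the decomposition
  have hdecomp : algebraMap k K A * t ^ m + algebraMap k K B =
      algebraMap k K (A * τ ^ m + B) + algebraMap k K (A * (m : k) * τ ^ (m - 1)) * s +
        algebraMap k K A * (s ^ 2 * w) := by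
    rw [hexp]
    simp only [map_add, map_mul, map_pow, map_natCast]
    ring
  -- step a: the constant term vanishes
  have hc1 : A * τ ^ m + B = 0 := by
    by_contra hne
    have h1 : Q.1 (algebraMap k K (A * τ ^ m + B)) = 1 := ff_val_const Q hne
    have h2 : algebraMap k K (A * τ ^ m + B) =
        (algebraMap k K A * t ^ m + algebraMap k K B) +
          -(algebraMap k K (A * (m : k) * τ ^ (m - 1)) * s + algebraMap k K A * (s ^ 2 * w)) := by
      rw [hdecomp]; ring
    have h3 : Q.1 (algebraMap k K (A * τ ^ m + B)) < 1 := by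
      rw [h2]
      apply Valuation.map_add_lt _ (lt_of_le_of_lt hv he2)
      rw [Valuation.map_neg]
      apply Valuation.map_add_lt
      · rw [map_mul]
        calc Q.1 (algebraMap k K (A * (m : k) * τ ^ (m - 1))) * Q.1 s ≤ 1 * Q.1 s :=
              mul_le_mul' (Q.2.1 _) le_rfl
          _ = Q.1 s := one_mul _
          _ < 1 := hτ
      · exact lt_of_le_of_lt hAw he2
    rw [h1] at h3
    exact lt_irrefl _ h3
  -- step b
  have hc2 : A * (m : k) * τ ^ (m - 1) ≠ 0 := by
    apply mul_ne_zero (mul_ne_zero hA _) (pow_ne_zero _ hτ0)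
    exact_mod_cast (by omega : m ≠ 0)
  have hs3 : Q.1 s ≤ WithZero.exp (-2 : ℤ) := by
    have h2 : algebraMap k K (A * (m : k) * τ ^ (m - 1)) * s =
        (algebraMap k K A * t ^ m + algebraMap k K B) + -(algebraMap k K A * (s ^ 2 * w)) := by
      rw [hdecomp, hc1, map_zero]; ring
    have h3 : Q.1 (algebraMap k K (A * (m : k) * τ ^ (m - 1)) * s) ≤ WithZero.exp (-2 : ℤ) := by
      rw [h2]
      refine (Q.1.map_add _ _).trans (max_le hv ?_)
      rw [Valuation.map_neg]
      exact hAw
    rwa [map_mul, ff_val_const Q hc2, one_mul] at h3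
  -- step c
  have hsL : s ∈ L (Finsupp.single P' 1 - Finsupp.single Q 2 : Divisor k K) := by
    intro R
    by_cases hR : R = Q
    · subst hR
      have e : (Finsupp.single P' 1 - Finsupp.single R 2 : Divisor k K) R = -2 := by
        simp [Finsupp.single_apply, Ne.symm hQP']
      rw [e]
      exact hs3
    · have e : (Finsupp.single P' 1 - Finsupp.single Q 2 : Divisor k K) R =
          (Finsupp.single P' 1 : Divisor k K) R := by
        simp [Finsupp.single_apply, Ne.symm hR]
      rw [e]
      have h1 : R.1 t ≤ WithZero.exp ((Finsupp.single P' 1 : Divisor k K) R) := htL R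
      have h2 : R.1 a ≤ WithZero.exp ((Finsupp.single P' 1 : Divisor k K) R) := by
        refine (R.2.1 τ).trans ?_
        rw [← WithZero.exp_zero, WithZero.exp_le_exp, Finsupp.single_apply]
        split_ifs <;> norm_num
      rw [hs, sub_eq_add_neg]
      refine (R.1.map_add _ _).trans (max_le h1 ?_)
      rw [Valuation.map_neg]
      exact h2
  have hdeg : (Finsupp.single P' 1 - Finsupp.single Q 2 : Divisor k K).deg < 0 := by
    rw [ff_deg_sub, ff_deg_single, ff_deg_single, ff_deg_eq_one_of_isAlgClosed hK P',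
      ff_deg_eq_one_of_isAlgClosed hK Q]
    norm_num
  rw [ff_L_eq_bot_of_deg_neg hK _ hdeg, Submodule.mem_bot] at hsL
  apply htnc
  exact ⟨τ, (sub_eq_zero.mp hsL).symm⟩


/-- core: `φ` with `div φ = m (P - P')`, `m ≥ 1`, and `α + β φ` vanishing to order `≥ 2` at
`Q ∉ {P, P'}` is impossible in genus `0`, characteristic `0`. -/
theorem core [IsAlgClosed k] [CharZero k] (hK : IsFunctionField k K) (hg0 : genus k K = 0)
    (P P' Q : Place k K) (hPP' : P ≠ P') (hQP : Q ≠ P) (hQP' : Q ≠ P')
    (φ : K) (hφ0 : φ ≠ 0) (m : ℕ) (hm : 1 ≤ m)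
    (hdiv : FunFld.div k φ = m • (Finsupp.single P 1 - Finsupp.single P' 1 : Divisor k K))
    (α β : k) (hβ : β ≠ 0)
    (hv : Q.1 (algebraMap k K α + algebraMap k K β * φ) ≤ WithZero.exp (-2 : ℤ)) : False := by
  classical
  obtain ⟨t, ht0, hdt⟩ := exists_div_eq_sub hK hg0 P P'
  have htm0 : t ^ m ≠ 0 := pow_ne_zero m ht0
  have hd0 : FunFld.div k (φ * (t ^ m)⁻¹) = 0 := by
    rw [ff_div_mul hK hφ0 (inv_ne_zero htm0), ff_div_inv hK, div_pow hK ht0, hdiv, hdt]
    abel
  obtain ⟨c₀, hc₀, hc⟩ := const_of_div_eq_zero hK (mul_ne_zero hφ0 (inv_ne_zero htm0)) hd0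
  have hφ : φ = algebraMap k K c₀ * t ^ m := by
    rw [← hc, mul_assoc, inv_mul_cancel₀ htm0, mul_one]
  have htL : t ∈ L (Finsupp.single P' 1 : Divisor k K) := by
    rw [ff_mem_L_iff_div hK _ ht0, hdt]
    have : (Finsupp.single P' 1 + (Finsupp.single P 1 - Finsupp.single P' 1) : Divisor k K) =
        Finsupp.single P 1 := by abel
    rw [this, Finsupp.single_nonneg]
    exact zero_le_one
  have htnc : t ∉ Set.range (algebraMap k K) := by
    rintro ⟨c, rfl⟩
    rw [ff_div_const hK] at hdt
    have := congrArg (fun E : Divisor k K => E P) hdt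
    simp [Finsupp.single_apply, hPP'.symm] at this
  have htQ : Q.1 t = 1 := by
    have h1 : Q.ord t = 0 := by
      rw [← ff_div_apply hK t Q, hdt]
      simp [Finsupp.single_apply, hQP.symm, hQP'.symm]
    rw [ff_val_eq_exp_neg_ord Q ht0, h1, neg_zero, WithZero.exp_zero]
  apply key_ord hK P' Q hQP' t htL htnc htQ (β * c₀) α (mul_ne_zero hβ hc₀) m hm
  have : algebraMap k K (β * c₀) * t ^ m + algebraMap k K α =
      algebraMap k K α + algebraMap k K β * φ := by
    rw [hφ, map_mul]; ring
  rw [this]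
  exact hv

/-- **The cusp lemma** (S18175). -/
theorem unique_member [IsAlgClosed k] [CharZero k] (hK : IsFunctionField k K)
    (hg0 : genus k K = 0) (r : ℕ) (D : Divisor k K)
    (V : Submodule k K) (hVr : finrank k ↥V = r + 1)
    (Q : Place k K) (hcusp : r ≤ finrank k ↥(V ⊓ L (D - Finsupp.single Q (2 : ℤ))))
    (P P' : Place k K) (hP : P ≠ Q) (hP' : P' ≠ Q)
    (f g : K) (hf : f ∈ V) (hg : g ∈ V) (hf0 : f ≠ 0) (hg0' : g ≠ 0)
    (hfs : ∀ R : Place k K, R ≠ P → R ≠ P' → (FunFld.div k f + D) R = 0)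
    (hgs : ∀ R : Place k K, R ≠ P → R ≠ P' → (FunFld.div k g + D) R = 0) :
    ∃ c : k, g = c • f := by
  classical
  by_contra hno
  push Not at hno
  have hVfin : Module.Finite k V := Module.finite_of_finrank_pos (by omega)
  -- linear independence and the pencil
  have hli : LinearIndependent k ![f, g] :=
    (LinearIndependent.pair_iff' hf0).mpr (fun a h => hno a h.symm)
  have hW : finrank k ↥(Submodule.span k ({f, g} : Set K)) = 2 := by
    have := finrank_span_eq_card hli
    rwa [Matrix.range_cons_cons_empty, Fintype.card_fin] at this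
  set W := Submodule.span k ({f, g} : Set K) with hWdef
  set V₂ := V ⊓ L (D - Finsupp.single Q (2 : ℤ)) with hV₂
  have hWV : W ≤ V := by
    rw [hWdef, Submodule.span_le]
    rintro x (rfl | rfl)
    · exact hf
    · exact hg
  have hWfin : Module.Finite k W := Submodule.finiteDimensional_of_le hWV
  have hV₂fin : Module.Finite k V₂ := Submodule.finiteDimensional_of_le inf_le_left
  have h1 := Submodule.finrank_sup_add_finrank_inf_eq W V₂
  have h2 : finrank k ↥(W ⊔ V₂) ≤ r + 1 := by
    rw [← hVr]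
    exact Submodule.finrank_mono (sup_le hWV inf_le_left)
  have h3 : 0 < finrank k ↥(W ⊓ V₂) := by omega
  have h4 : W ⊓ V₂ ≠ ⊥ := by
    intro h
    rw [h, finrank_bot] at h3
    exact lt_irrefl _ h3
  obtain ⟨u, hu, hu0⟩ := Submodule.exists_mem_ne_zero_of_ne_bot h4
  obtain ⟨α, β, hαβ⟩ := Submodule.mem_span_pair.mp hu.1
  have huL : u ∈ L (D - Finsupp.single Q (2 : ℤ)) := hu.2.2
  -- orders at Q
  have hfQ : Q.ord f = -D Q := by
    have := hfs Q hP.symm hP'.symm
    rw [Finsupp.add_apply, ff_div_apply hK] at this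
    omega
  have hvf : Q.1 f = WithZero.exp (D Q) := by
    rw [ff_val_eq_exp_neg_ord Q hf0, hfQ, neg_neg]
  have hvu : Q.1 u ≤ WithZero.exp (D Q - 2) := by
    have := huL Q
    simpa [Finsupp.single_apply] using this
  have hβ : β ≠ 0 := by
    rintro rfl
    rw [zero_smul, add_zero] at hαβ
    have hα : α ≠ 0 := by
      rintro rfl
      rw [zero_smul] at hαβ
      exact hu0 hαβ.symm
    rw [← hαβ, Algebra.smul_def, map_mul, ff_val_const Q hα, one_mul, hvf,
      WithZero.exp_le_exp] at hvu
    omega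
  set φ : K := g * f⁻¹ with hφ
  have hφ0 : φ ≠ 0 := mul_ne_zero hg0' (inv_ne_zero hf0)
  have hψ : algebraMap k K α + algebraMap k K β * φ = u * f⁻¹ := by
    rw [← hαβ, hφ, Algebra.smul_def, Algebra.smul_def]
    field_simp
  have hv : Q.1 (algebraMap k K α + algebraMap k K β * φ) ≤ WithZero.exp (-2 : ℤ) := by
    rw [hψ, map_mul, map_inv₀, hvf]
    calc Q.1 u * (WithZero.exp (D Q))⁻¹ ≤ WithZero.exp (D Q - 2) * (WithZero.exp (D Q))⁻¹ :=
          mul_le_mul' hvu le_rfl
      _ = WithZero.exp (-2 : ℤ) := by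
          rw [← WithZero.exp_neg, ← WithZero.exp_add]
          congr 1
          ring
  -- divisor of φ
  have hdivφ : FunFld.div k φ = FunFld.div k g - FunFld.div k f := by
    rw [hφ, ff_div_mul hK hg0' (inv_ne_zero hf0), ff_div_inv hK, sub_eq_add_neg]
  have hoff : ∀ R : Place k K, R ≠ P → R ≠ P' → FunFld.div k φ R = 0 := by
    intro R h1 h2
    have e1 := hfs R h1 h2
    have e2 := hgs R h1 h2
    rw [Finsupp.add_apply] at e1 e2
    rw [hdivφ, Finsupp.sub_apply]
    omega
  have hdeg0 : (FunFld.div k φ).deg = 0 := ff_deg_div hK φ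
  have hsupp : (FunFld.div k φ).support ⊆ ({P, P'} : Finset (Place k K)) := by
    intro R hR
    rw [Finsupp.mem_support_iff] at hR
    by_contra hnot
    rw [Finset.mem_insert, Finset.mem_singleton, not_or] at hnot
    exact hR (hoff R hnot.1 hnot.2)
  have hconst : FunFld.div k φ = 0 → False := by
    intro h0
    obtain ⟨c, -, hc⟩ := const_of_div_eq_zero hK hφ0 h0
    apply hno c
    rw [Algebra.smul_def, ← hc, hφ, mul_assoc, inv_mul_cancel₀ hf0, mul_one]
  have hsum := ff_deg_eq_sum_of_support_subset (FunFld.div k φ) _ hsupp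
  rw [hdeg0] at hsum
  by_cases hPP' : P = P'
  · subst hPP'
    apply hconst
    rw [Finset.pair_eq_singleton, Finset.sum_singleton, ff_deg_eq_one_of_isAlgClosed hK P] at hsum
    ext R
    by_cases hR : R = P
    · subst hR
      simp only [Finsupp.coe_zero, Pi.zero_apply]
      push_cast at hsum
      omega
    · exact hoff R hR hR
  · rw [Finset.sum_pair hPP', ff_deg_eq_one_of_isAlgClosed hK P,
      ff_deg_eq_one_of_isAlgClosed hK P'] at hsum
    push_cast at hsum
    set e : ℤ := FunFld.div k φ P with he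
    have he' : FunFld.div k φ P' = -e := by omega
    have hform : FunFld.div k φ = e • (Finsupp.single P 1 - Finsupp.single P' 1 : Divisor k K) := by
      ext R
      by_cases hR : R = P
      · subst hR
        simp [Finsupp.single_apply, hPP', he]
      · by_cases hR' : R = P'
        · subst hR'
          simp [Finsupp.single_apply, Ne.symm hPP', he']
        · rw [hoff R hR hR']
          simp [Finsupp.single_apply, Ne.symm hR, Ne.symm hR']
    rcases lt_trichotomy e 0 with hneg | hzero | hpos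
    · -- swap P and P'
      have hform' : FunFld.div k φ =
          (-e).toNat • (Finsupp.single P' 1 - Finsupp.single P 1 : Divisor k K) := by
        rw [hform]
        have : ((-e).toNat : ℤ) = -e := Int.toNat_of_nonneg (by omega)
        rw [← natCast_zsmul, this]
        simp only [neg_smul, smul_sub]
        abel
      exact core hK hg0 P' P Q (Ne.symm hPP') hP'.symm hP.symm φ hφ0 (-e).toNat (by omega) hform'
        α β hβ hv
    · apply hconst
      rw [hform, hzero, zero_smul]
    · have hform' : FunFld.div k φ =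
          e.toNat • (Finsupp.single P 1 - Finsupp.single P' 1 : Divisor k K) := by
        rw [hform]
        have : (e.toNat : ℤ) = e := Int.toNat_of_nonneg (by omega)
        rw [← natCast_zsmul, this]
      exact core hK hg0 P P' Q hPP' hP.symm hP'.symm φ hφ0 e.toNat (by omega) hform' α β hβ hv

end Groth.Agent.Lib.Helper91.Cusp
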