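import Mathlib
import Groth.Agent.Lib.Helper91.CuspLemma
import Groth.Agent.S18177

/-!
# Two-point weight bound in the presence of a cusp (FunFld family)

On a genus-0 function field, a `g^r_d` with a cusp at `C` has, for places `P ≠ Q` other than `C`,
`s(P) + s(Q) + r ≤ (r+1) d`, where `s(P) = ∑_{n=1}^{d} dim V(-nP)`.
-/

namespace Groth.Agent.Lib.Helper91.LimLin

open FunFld Module Groth.Agent.Lib.Helper55

variable {k K : Type*} [Field k] [Field K] [Algebra k K]

theorem two_point_cusp [IsAlgClosed k] [CharZero k] (hK : IsFunctionField k K)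
    (hg0 : genus k K = 0)
    (d r : ℕ) (D : Divisor k K) (hD : D.deg = d)
    (V : Submodule k K) (hV : V ≤ L D) (hVr : finrank k ↥V = r + 1)
    (P Q : Place k K) (hPQ : P ≠ Q)
    (C : Place k K) (hPC : P ≠ C) (hQC : Q ≠ C)
    (hcusp : r ≤ finrank k ↥(V ⊓ L (D - Finsupp.single C (2 : ℤ)))) :
    (∑ n ∈ Finset.range d, finrank k ↥(V ⊓ L (D - Finsupp.single P ((n : ℤ) + 1)))) +
      (∑ n ∈ Finset.range d, finrank k ↥(V ⊓ L (D - Finsupp.single Q ((n : ℤ) + 1)))) + r ≤
      (r + 1) * d := by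
  classical
  set a : ℕ → ℕ := fun n => finrank k ↥(V ⊓ L (D - Finsupp.single P (n : ℤ))) with ha
  set b : ℕ → ℕ := fun n => finrank k ↥(V ⊓ L (D - Finsupp.single Q (n : ℤ))) with hb
  have hVfin : Module.Finite k V := Module.finite_of_finrank_pos (by omega)
  have ha0 : a 0 = r + 1 := by
    show finrank k ↥(V ⊓ L (D - Finsupp.single P ((0 : ℕ) : ℤ))) = r + 1
    rw [Nat.cast_zero, Finsupp.single_zero, sub_zero, inf_eq_left.mpr hV, hVr]
  have hb0 : b 0 = r + 1 := by
    show finrank k ↥(V ⊓ L (D - Finsupp.single Q ((0 : ℕ) : ℤ))) = r + 1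
    rw [Nat.cast_zero, Finsupp.single_zero, sub_zero, inf_eq_left.mpr hV, hVr]
  have hbstep : ∀ n : ℕ, b n ≤ b (n + 1) + 1 := by
    intro n
    have := Groth.Agent.S18177.step hK D V Q (n : ℤ)
    simpa [hb] using this
  have h76 := (Groth.Agent.S18176.result k K hK d r D hD V hV hVr P Q hPQ).1
  have hc : ∀ n : ℕ, n ≤ d → a n + b (d + 1 - n) ≤ r + 1 := by
    intro n hn
    have := h76 n (by omega)
    have e : ((d : ℤ) + 1 - (n : ℤ)) = ((d + 1 - n : ℕ) : ℤ) := by omega
    rw [e] at this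
    exact this
  have he : ∀ n : ℕ, n ≤ d → a n + b (d - n) ≤ r + 2 := by
    intro n hn
    have h1 := hc n hn
    have h2 := hbstep (d - n)
    have e : d - n + 1 = d + 1 - n := by omega
    rw [e] at h2
    omega
  have hsa : ∑ n ∈ Finset.range (d + 1), a n = (r + 1) +
      ∑ n ∈ Finset.range d, finrank k ↥(V ⊓ L (D - Finsupp.single P ((n : ℤ) + 1))) := by
    rw [Finset.sum_range_succ', ha0, add_comm]
    congr 1
  have hsb : ∑ n ∈ Finset.range (d + 1), b n = (r + 1) +
      ∑ n ∈ Finset.range d, finrank k ↥(V ⊓ L (D - Finsupp.single Q ((n : ℤ) + 1))) := by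
    rw [Finset.sum_range_succ', hb0, add_comm]
    congr 1
  have hsb' : ∑ n ∈ Finset.range (d + 1), b (d - n) = ∑ n ∈ Finset.range (d + 1), b n := by
    have := Finset.sum_range_reflect b (d + 1)
    simpa using this
  have hsum : ∑ n ∈ Finset.range (d + 1), (a n + b (d - n)) = 2 * (r + 1) +
      ((∑ n ∈ Finset.range d, finrank k ↥(V ⊓ L (D - Finsupp.single P ((n : ℤ) + 1)))) +
      (∑ n ∈ Finset.range d, finrank k ↥(V ⊓ L (D - Finsupp.single Q ((n : ℤ) + 1))))) := by
    rw [Finset.sum_add_distrib, hsb', hsa, hsb]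
    ring
  set T := (Finset.range (d + 1)).filter (fun n => a n + b (d - n) = r + 2) with hT
  have hsum2 : ∑ n ∈ Finset.range (d + 1), (a n + b (d - n)) ≤ (r + 1) * (d + 1) + T.card := by
    have h1 : ∀ n ∈ Finset.range (d + 1), a n + b (d - n) ≤ (r + 1) +
        (if a n + b (d - n) = r + 2 then 1 else 0) := by
      intro n hn
      have := he n (by simpa [Nat.lt_succ_iff] using hn)
      split_ifs with h
      · omega
      · omega
    refine (Finset.sum_le_sum h1).trans ?_
    rw [Finset.sum_add_distrib, Finset.sum_const, Finset.card_range, smul_eq_mul,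
      Finset.sum_boole, mul_comm]
    simp [hT]
  -- members of `T` give members of `V` with divisor supported on `{P, Q}`
  have key : ∀ n : ℕ, n ∈ T → ∃ f : K, f ∈ V ∧ f ≠ 0 ∧
      FunFld.div k f + D = Finsupp.single P (n : ℤ) + Finsupp.single Q ((d - n : ℕ) : ℤ) := by
    intro n hn
    rw [hT, Finset.mem_filter, Finset.mem_range] at hn
    obtain ⟨hnd, hen⟩ := hn
    set A := V ⊓ L (D - Finsupp.single P (n : ℤ)) with hA
    set B := V ⊓ L (D - Finsupp.single Q ((d - n : ℕ) : ℤ)) with hB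
    have hAfin : Module.Finite k A := Submodule.finiteDimensional_of_le inf_le_left
    have hBfin : Module.Finite k B := Submodule.finiteDimensional_of_le inf_le_left
    have h1 := Submodule.finrank_sup_add_finrank_inf_eq A B
    have h2 : finrank k ↥(A ⊔ B) ≤ r + 1 := by
      rw [← hVr]
      exact Submodule.finrank_mono (sup_le inf_le_left inf_le_left)
    have h3 : finrank k ↥A + finrank k ↥B = r + 2 := hen
    have h4 : 0 < finrank k ↥(A ⊓ B) := by omega
    have h5 : A ⊓ B ≠ ⊥ := by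
      intro h
      rw [h, finrank_bot] at h4
      exact lt_irrefl _ h4
    obtain ⟨f, hf, hf0⟩ := Submodule.exists_mem_ne_zero_of_ne_bot h5
    refine ⟨f, hf.1.1, hf0, ?_⟩
    have hfL : f ∈ L (D - Finsupp.single P (n : ℤ) - Finsupp.single Q ((d - n : ℕ) : ℤ)) :=
      Groth.Agent.S18176.L_inf_le D P Q hPQ _ _ ⟨hf.1.2, hf.2.2⟩
    have h6 := (ff_mem_L_iff_div hK _ hf0).mp hfL
    have hdeg : (0 : Divisor k K).deg =
        (D - Finsupp.single P (n : ℤ) - Finsupp.single Q ((d - n : ℕ) : ℤ) + FunFld.div k f).deg := by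
      rw [ff_deg_zero, ff_deg_add, ff_deg_div hK, ff_deg_sub, ff_deg_sub, ff_deg_single,
        ff_deg_single, hD, ff_deg_eq_one_of_isAlgClosed hK P, ff_deg_eq_one_of_isAlgClosed hK Q]
      push_cast
      omega
    have h7 := ff_eq_of_le_of_deg_eq hK h6 hdeg
    have h8 : FunFld.div k f + D - (Finsupp.single P (n : ℤ) + Finsupp.single Q ((d - n : ℕ) : ℤ)) = 0 := by
      rw [h7]; abel
    exact sub_eq_zero.mp h8
  have hcard : T.card ≤ 1 := by
    rw [Finset.card_le_one]
    intro n₁ hn₁ n₂ hn₂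
    by_contra hne
    obtain ⟨f₁, hf₁V, hf₁, hd₁⟩ := key n₁ hn₁
    obtain ⟨f₂, hf₂V, hf₂, hd₂⟩ := key n₂ hn₂
    have hs : ∀ (n : ℕ) (f : K), FunFld.div k f + D =
        Finsupp.single P (n : ℤ) + Finsupp.single Q ((d - n : ℕ) : ℤ) →
        ∀ R : Place k K, R ≠ P → R ≠ Q → (FunFld.div k f + D) R = 0 := by
      intro n f h R hRP hRQ
      rw [h]
      simp [Finsupp.single_apply, Ne.symm hRP, Ne.symm hRQ]
    obtain ⟨c, hc⟩ := Cusp.unique_member hK hg0 r D V hVr C hcusp P Q hPC hQC f₁ f₂ hf₁V hf₂V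
      hf₁ hf₂ (hs n₁ f₁ hd₁) (hs n₂ f₂ hd₂)
    have hc0 : c ≠ 0 := by
      rintro rfl
      rw [zero_smul] at hc
      exact hf₂ hc
    have hdiv : FunFld.div k f₂ = FunFld.div k f₁ := by
      rw [hc, Algebra.smul_def, ff_div_mul hK (by simpa using hc0) hf₁, ff_div_const hK, zero_add]
    have h9 : (FunFld.div k f₁ + D) P = (FunFld.div k f₂ + D) P := by rw [hdiv]
    rw [hd₁, hd₂] at h9
    simp [Finsupp.single_apply, hPQ, Ne.symm hPQ] at h9
    exact hne h9
  have : (r + 1) * (d + 1) = (r + 1) * d + (r + 1) := by ring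
  omega

end Groth.Agent.Lib.Helper91.LimLin
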