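import Mathlib
import Groth.Agent.Lib.Helper91.TwoPtCusp

/-!
# Elementary bounds on `s(P) = ∑_{n=1}^{d} dim V(-nP)` (FunFld family)

* `s_lower`: `r(r+1)/2 ≤ s(P)`;
* `s_lower_cusp`: with a cusp at `P`, `r(r+1)/2 + r ≤ s(P)`;
* `s_upper`: `s(P) + r(r+1)/2 ≤ (r+1) d`.
-/

namespace Groth.Agent.Lib.Helper91.LimLin

open FunFld Module Groth.Agent.Lib.Helper55

theorem gauss_desc (r : ℕ) : (∑ n ∈ Finset.range r, (r - n)) * 2 = r * (r + 1) := by
  induction r with
  | zero => simp
  | succ r ih =>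
    rw [Finset.sum_range_succ']
    simp only [Nat.add_sub_add_right, Nat.sub_zero]
    rw [add_mul, ih]
    ring

theorem gauss_desc' (r : ℕ) : ∑ n ∈ Finset.range r, (r - n) = r * (r + 1) / 2 := by
  have := gauss_desc r
  omega

theorem sum_min (r : ℕ) (d : ℕ) (hrd : r ≤ d) :
    (∑ n ∈ Finset.range d, min (r + 1) (d - n)) + r * (r + 1) / 2 = (r + 1) * d := by
  have hrefl : ∀ d : ℕ, ∑ n ∈ Finset.range d, min (r + 1) (d - n) =
      ∑ m ∈ Finset.range d, min (r + 1) (m + 1) := by
    intro d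
    rw [← Finset.sum_range_reflect (fun m => min (r + 1) (m + 1)) d]
    apply Finset.sum_congr rfl
    intro n hn
    rw [Finset.mem_range] at hn
    congr 1
    omega
  rw [hrefl]
  induction d, hrd using Nat.le_induction with
  | base =>
    have h1 : ∑ m ∈ Finset.range r, min (r + 1) (m + 1) = ∑ m ∈ Finset.range r, (r - (r - 1 - m)) := by
      apply Finset.sum_congr rfl
      intro m hm
      rw [Finset.mem_range] at hm
      rw [min_eq_right (by omega)]
      omega
    rw [h1, Finset.sum_range_reflect (fun n => r - n) r, gauss_desc']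
    have := two_mul_half r
    have e : (r + 1) * r = r * (r + 1) := by ring
    omega
  | succ d hd ih =>
    rw [Finset.sum_range_succ, min_eq_left (by omega)]
    have : (r + 1) * (d + 1) = (r + 1) * d + (r + 1) := by ring
    omega

variable {k K : Type*} [Field k] [Field K] [Algebra k K]

theorem a_zero (D : Divisor k K) (V : Submodule k K) (hV : V ≤ L D) (P : Place k K) :
    finrank k ↥(V ⊓ L (D - Finsupp.single P ((0 : ℕ) : ℤ))) = finrank k ↥V := by
  rw [Nat.cast_zero, Finsupp.single_zero, sub_zero, inf_eq_left.mpr hV]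

theorem a_ge [IsAlgClosed k] (hK : IsFunctionField k K) (r : ℕ) (D : Divisor k K)
    (V : Submodule k K) (hV : V ≤ L D) (hVr : finrank k ↥V = r + 1) (P : Place k K) (n : ℕ) :
    r + 1 ≤ finrank k ↥(V ⊓ L (D - Finsupp.single P (n : ℤ))) + n := by
  induction n with
  | zero => rw [a_zero D V hV P, hVr]
  | succ n ih =>
    have := Groth.Agent.S18177.step hK D V P (n : ℤ)
    push_cast
    omega

theorem s_lower [IsAlgClosed k] (hK : IsFunctionField k K) (d r : ℕ) (D : Divisor k K)
    (hD : D.deg = d) (V : Submodule k K) (hV : V ≤ L D) (hVr : finrank k ↥V = r + 1)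
    (P : Place k K) :
    r * (r + 1) / 2 ≤
      ∑ n ∈ Finset.range d, finrank k ↥(V ⊓ L (D - Finsupp.single P ((n : ℤ) + 1))) := by
  have hrd : r ≤ d := r_le_d hK d r D hD V hV hVr
  rw [← gauss_desc']
  refine (Finset.sum_le_sum_of_subset (Finset.range_mono hrd)).trans ?_
  apply Finset.sum_le_sum
  intro n _
  have := a_ge hK r D V hV hVr P (n + 1)
  push_cast at this
  omega

theorem s_lower_cusp [IsAlgClosed k] (hK : IsFunctionField k K) (d r : ℕ) (D : Divisor k K)
    (hD : D.deg = d) (V : Submodule k K) (hV : V ≤ L D) (hVr : finrank k ↥V = r + 1)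
    (P : Place k K) (hcusp : r ≤ finrank k ↥(V ⊓ L (D - Finsupp.single P (2 : ℤ)))) :
    r * (r + 1) / 2 + r ≤
      ∑ n ∈ Finset.range d, finrank k ↥(V ⊓ L (D - Finsupp.single P ((n : ℤ) + 1))) := by
  rcases Nat.eq_zero_or_pos r with hr0 | hrpos
  · subst hr0; simp
  -- d ≥ r + 1
  have := ff_L_finiteDimensional hK (D - Finsupp.single P (2 : ℤ))
  have h1 : finrank k ↥(V ⊓ L (D - Finsupp.single P (2 : ℤ))) ≤ ell (D - Finsupp.single P (2 : ℤ)) :=
    Submodule.finrank_mono inf_le_right
  have hdeg : (D - Finsupp.single P (2 : ℤ)).deg = (d : ℤ) - 2 := by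
    rw [ff_deg_sub, ff_deg_single, hD, ff_deg_eq_one_of_isAlgClosed hK P]
    push_cast; ring
  have hd2 : 2 ≤ d := by
    by_contra hlt
    have hneg : (D - Finsupp.single P (2 : ℤ)).deg < 0 := by rw [hdeg]; omega
    rw [ff_ell_eq_zero_of_deg_neg hK hneg] at h1
    omega
  have hrd : r ≤ d - 1 := by
    have h2 := ell_le_deg_add_one hK (D - Finsupp.single P (2 : ℤ)) (d - 2) (by rw [hdeg]; omega)
    omega
  -- a (n + 2) + n ≥ r
  have hstep : ∀ n : ℕ, r ≤ finrank k ↥(V ⊓ L (D - Finsupp.single P ((n : ℤ) + 2))) + n := by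
    intro n
    induction n with
    | zero => simpa using hcusp
    | succ n ih =>
      have := Groth.Agent.S18177.step hK D V P ((n : ℤ) + 2)
      have e : ((n : ℤ) + 2 + 1) = ((n + 1 : ℕ) : ℤ) + 2 := by push_cast; ring
      rw [e] at this
      omega
  obtain ⟨d', rfl⟩ : ∃ d', d = d' + 1 := ⟨d - 1, by omega⟩
  rw [Finset.sum_range_succ']
  have ha1 := a_ge hK r D V hV hVr P 1
  have e1 : (((0 : ℕ) : ℤ) + 1) = ((1 : ℕ) : ℤ) := by push_cast
  rw [e1]
  have hsum : r * (r + 1) / 2 ≤ ∑ n ∈ Finset.range d',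
      finrank k ↥(V ⊓ L (D - Finsupp.single P (((n + 1 : ℕ) : ℤ) + 1))) := by
    rw [← gauss_desc']
    refine (Finset.sum_le_sum_of_subset (Finset.range_mono (show r ≤ d' by omega))).trans ?_
    apply Finset.sum_le_sum
    intro n _
    have := hstep n
    have e : (((n + 1 : ℕ) : ℤ) + 1) = (n : ℤ) + 2 := by push_cast; ring
    rw [e]
    omega
  omega

theorem s_upper [IsAlgClosed k] (hK : IsFunctionField k K) (d r : ℕ) (D : Divisor k K)
    (hD : D.deg = d) (V : Submodule k K) (hV : V ≤ L D) (hVr : finrank k ↥V = r + 1)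
    (P : Place k K) :
    (∑ n ∈ Finset.range d, finrank k ↥(V ⊓ L (D - Finsupp.single P ((n : ℤ) + 1)))) +
      r * (r + 1) / 2 ≤ (r + 1) * d := by
  have hrd : r ≤ d := r_le_d hK d r D hD V hV hVr
  have hVfin : Module.Finite k V := Module.finite_of_finrank_pos (by omega)
  rw [← sum_min r d hrd]
  apply Nat.add_le_add_right
  apply Finset.sum_le_sum
  intro n hn
  rw [Finset.mem_range] at hn
  apply le_min
  · rw [← hVr]
    exact Submodule.finrank_mono inf_le_left
  · have := ff_L_finiteDimensional hK (D - Finsupp.single P ((n : ℤ) + 1))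
    have h1 : finrank k ↥(V ⊓ L (D - Finsupp.single P ((n : ℤ) + 1))) ≤
        ell (D - Finsupp.single P ((n : ℤ) + 1)) := Submodule.finrank_mono inf_le_right
    have hdeg : (D - Finsupp.single P ((n : ℤ) + 1)).deg = ((d - n - 1 : ℕ) : ℤ) := by
      rw [ff_deg_sub, ff_deg_single, hD, ff_deg_eq_one_of_isAlgClosed hK P]
      push_cast; omega
    have h2 := ell_le_deg_add_one hK _ _ hdeg
    omega

end Groth.Agent.Lib.Helper91.LimLin
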