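import Mathlib
import Groth.Agent.Lib.Helper91.WeightBounds

/-!
# Weight propagation along a backbone of rational components (FunFld family)
-/

namespace Groth.Agent.Lib.Helper91.LimLin

open FunFld Module Groth.Agent.Lib.Helper55

section

variable {k : Type*} [Field k] [IsAlgClosed k] [CharZero k]
  {N : ℕ} {Z : Fin (N + 1) → Type*} [∀ i, Field (Z i)] [∀ i, Algebra k (Z i)]

/-- indicator function of `T` on naturals -/
noncomputable def ind (T : Finset (Fin (N + 1))) : ℕ → ℕ := by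
  classical
  exact fun j => if h : j < N + 1 then (if (⟨j, h⟩ : Fin (N + 1)) ∈ T then 1 else 0) else 0

theorem ind_in (T : Finset (Fin (N + 1))) (i : ℕ) (hi : i < N + 1)
    (h : (⟨i, hi⟩ : Fin (N + 1)) ∈ T) : ind T i = 1 := by
  classical
  unfold ind
  rw [dif_pos hi, if_pos h]

theorem ind_out (T : Finset (Fin (N + 1))) (i : ℕ) (hi : i < N + 1)
    (h : (⟨i, hi⟩ : Fin (N + 1)) ∉ T) : ind T i = 0 := by
  classical
  unfold ind
  rw [dif_pos hi, if_neg h]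

theorem ind_sum (T : Finset (Fin (N + 1))) : ∑ j ∈ Finset.range (N + 1), ind T j = T.card := by
  classical
  rw [← Fin.sum_univ_eq_sum_range (ind T) (N + 1)]
  have hx : ∀ x : Fin (N + 1), ind T (x : ℕ) = if x ∈ T then 1 else 0 := by
    intro x
    unfold ind
    rw [dif_pos x.2]
  simp only [hx]
  simp

theorem ind_sum_erase (T : Finset (Fin (N + 1))) (i : Fin (N + 1)) :
    (∑ j ∈ Finset.range (i : ℕ), ind T j) + (∑ j ∈ Finset.Ico ((i : ℕ) + 1) (N + 1), ind T j) =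
      (T.erase i).card := by
  classical
  have h1 := Finset.sum_range_add_sum_Ico (ind T) (show (i : ℕ) ≤ N + 1 by omega)
  have h2 := Finset.sum_eq_sum_Ico_succ_bot (show (i : ℕ) < N + 1 from i.2) (ind T)
  have h3 := ind_sum T
  by_cases hi : i ∈ T
  · have h4 := Finset.card_erase_add_one hi
    have h5 := ind_in T (i : ℕ) i.2 hi
    omega
  · have h4 := Finset.erase_eq_of_notMem hi
    have h5 := ind_out T (i : ℕ) i.2 hi
    rw [h4]
    omega

variable (hZ : ∀ i, FunFld.IsFunctionField k (Z i)) (hrat : ∀ i, FunFld.genus k (Z i) = 0)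
    (d r : ℕ) (D : ∀ i, FunFld.Divisor k (Z i)) (hD : ∀ i, (D i).deg = d)
    (V : ∀ i, Submodule k (Z i)) (hV : ∀ i, V i ≤ FunFld.L (D i))
    (hVr : ∀ i, Module.finrank k ↥(V i) = r + 1)
    (A B : ∀ i, FunFld.Place k (Z i))
    (hAB : ∀ i : Fin (N + 1), 0 < (i : ℕ) → (i : ℕ) < N → A i ≠ B i)
    (hcomp : ∀ (l : Fin N) (m : ℕ), m ≤ d + 1 →
      Module.finrank k ↥((V l.castSucc) ⊓ FunFld.L ((D l.castSucc) - Finsupp.single (B l.castSucc) ((m : ℤ)))) +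
        Module.finrank k ↥((V l.succ) ⊓ FunFld.L ((D l.succ) - Finsupp.single (A l.succ) ((d : ℤ) + 1 - m))) = r + 1)
    (T : Finset (Fin (N + 1))) (Q : ∀ i, FunFld.Place k (Z i))
    (hQA : ∀ i ∈ T, 0 < (i : ℕ) → Q i ≠ A i) (hQB : ∀ i ∈ T, (i : ℕ) < N → Q i ≠ B i)
    (hcusp : ∀ i ∈ T, r ≤ Module.finrank k ↥((V i) ⊓ FunFld.L ((D i) - Finsupp.single (Q i) ((2 : ℤ)))))

include hZ hrat hD hV hVr hAB hcomp hQA hQB hcusp

/-- inner component inequality -/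
theorem inner_ineq (i : ℕ) (h1 : 0 < i) (hiN : i < N) (hi' : i < N + 1) :
    (∑ j ∈ Finset.range d, finrank k ↥((V ⟨i, hi'⟩) ⊓
        L ((D ⟨i, hi'⟩) - Finsupp.single (A ⟨i, hi'⟩) ((j : ℤ) + 1)))) +
    (∑ j ∈ Finset.range d, finrank k ↥((V ⟨i, hi'⟩) ⊓
        L ((D ⟨i, hi'⟩) - Finsupp.single (B ⟨i, hi'⟩) ((j : ℤ) + 1)))) +
      r * ind T i ≤ (r + 1) * d := by
  have hne : A ⟨i, hi'⟩ ≠ B ⟨i, hi'⟩ := hAB ⟨i, hi'⟩ (show 0 < i from h1) (show i < N from hiN)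
  by_cases h0 : (⟨i, hi'⟩ : Fin (N + 1)) ∈ T
  · rw [ind_in T i hi' h0, mul_one]
    have hneA : A ⟨i, hi'⟩ ≠ Q ⟨i, hi'⟩ := (hQA _ h0 (show 0 < i from h1)).symm
    have hneB : B ⟨i, hi'⟩ ≠ Q ⟨i, hi'⟩ := (hQB _ h0 (show i < N from hiN)).symm
    exact two_point_cusp (hZ ⟨i, hi'⟩) (hrat _) d r (D ⟨i, hi'⟩)
      (hD ⟨i, hi'⟩) (V ⟨i, hi'⟩) (hV ⟨i, hi'⟩) (hVr ⟨i, hi'⟩) (A ⟨i, hi'⟩) (B ⟨i, hi'⟩) hne
      (Q ⟨i, hi'⟩) hneA hneB (hcusp _ h0)
  · rw [ind_out T i hi' h0, mul_zero, add_zero]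
    exact two_point (hZ ⟨i, hi'⟩) d r (D ⟨i, hi'⟩)
      (hD ⟨i, hi'⟩) (V ⟨i, hi'⟩) (hV ⟨i, hi'⟩) (hVr ⟨i, hi'⟩) (A ⟨i, hi'⟩) (B ⟨i, hi'⟩) hne

/-- compatibility in `⟨i, _⟩` form -/
theorem compat_at (i : ℕ) (hiN : i < N) (hi' : i < N + 1) (hi1 : i + 1 < N + 1) :
    (∑ j ∈ Finset.range d, finrank k ↥((V ⟨i, hi'⟩) ⊓
        L ((D ⟨i, hi'⟩) - Finsupp.single (B ⟨i, hi'⟩) ((j : ℤ) + 1)))) +
    (∑ j ∈ Finset.range d, finrank k ↥((V ⟨i + 1, hi1⟩) ⊓
        L ((D ⟨i + 1, hi1⟩) - Finsupp.single (A ⟨i + 1, hi1⟩) ((j : ℤ) + 1)))) =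
      (r + 1) * d :=
  compat_sum d r (D (⟨i, hiN⟩ : Fin N).castSucc)
    (V (⟨i, hiN⟩ : Fin N).castSucc) (B (⟨i, hiN⟩ : Fin N).castSucc)
    (D (⟨i, hiN⟩ : Fin N).succ) (V (⟨i, hiN⟩ : Fin N).succ)
    (A (⟨i, hiN⟩ : Fin N).succ) (hcomp ⟨i, hiN⟩)

/-- forward propagation: `s(A_i) ≥ t + r · #{j ∈ T, j < i}` for `1 ≤ i ≤ N`. -/
theorem forward (i : ℕ) (h1 : 1 ≤ i) (hi : i < N + 1) :
    r * (r + 1) / 2 + r * (∑ j ∈ Finset.range i, ind T j) ≤
      (∑ j ∈ Finset.range d, finrank k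
        ↥((V ⟨i, hi⟩) ⊓ L ((D ⟨i, hi⟩) - Finsupp.single (A ⟨i, hi⟩) ((j : ℤ) + 1)))) := by
  induction i, h1 using Nat.le_induction with
  | base =>
    have hN : 0 < N := by omega
    have h0N : 0 < N + 1 := by omega
    have hc'' : (∑ j ∈ Finset.range d, finrank k ↥((V ⟨0, h0N⟩) ⊓
        L ((D ⟨0, h0N⟩) - Finsupp.single (B ⟨0, h0N⟩) ((j : ℤ) + 1)))) +
      (∑ j ∈ Finset.range d, finrank k ↥((V ⟨1, hi⟩) ⊓
        L ((D ⟨1, hi⟩) - Finsupp.single (A ⟨1, hi⟩) ((j : ℤ) + 1)))) = (r + 1) * d :=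
      compat_at hZ hrat d r D hD V hV hVr A B hAB hcomp T Q hQA hQB hcusp 0 hN h0N hi
    rw [Finset.sum_range_one]
    by_cases h0 : (⟨0, by omega⟩ : Fin (N + 1)) ∈ T
    · rw [ind_in T 0 (by omega) h0, mul_one]
      have hne : Q ⟨0, by omega⟩ ≠ B ⟨0, by omega⟩ := hQB _ h0 hN
      have htp := two_point (hZ _) d r (D _) (hD _) (V _) (hV _) (hVr _) (Q ⟨0, by omega⟩)
        (B ⟨0, by omega⟩) hne
      have hlc := s_lower_cusp (hZ _) d r (D _) (hD _) (V _) (hV _) (hVr _) (Q _) (hcusp _ h0)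
      omega
    · rw [ind_out T 0 (by omega) h0, mul_zero, add_zero]
      exact s_lower (hZ _) d r (D _) (hD _) (V _) (hV _) (hVr _) (A _)
  | succ i h1 ih =>
    have hi' : i < N + 1 := by omega
    have ih' := ih hi'
    have hiN : i < N := by omega
    have hc'' := compat_at hZ hrat d r D hD V hV hVr A B hAB hcomp T Q hQA hQB hcusp i hiN hi' hi
    have hin := inner_ineq hZ hrat d r D hD V hV hVr A B hAB hcomp T Q hQA hQB hcusp i h1 hiN hi'
    have esum : r * (∑ j ∈ Finset.range (i + 1), ind T j) =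
        r * (∑ j ∈ Finset.range i, ind T j) + r * ind T i := by
      rw [Finset.sum_range_succ, mul_add]
    rw [esum]
    omega

/-- backward propagation: `s(B_i) ≥ t + r · #{j ∈ T, j > i}` for `0 ≤ i < N`. -/
theorem backward (m : ℕ) (i : ℕ) (him : i + m + 1 = N) (hi' : i < N + 1) :
    r * (r + 1) / 2 + r * (∑ j ∈ Finset.Ico (i + 1) (N + 1), ind T j) ≤
      (∑ j ∈ Finset.range d, finrank k
        ↥((V ⟨i, hi'⟩) ⊓ L ((D ⟨i, hi'⟩) - Finsupp.single (B ⟨i, hi'⟩) ((j : ℤ) + 1)))) := by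
  induction m generalizing i with
  | zero =>
    have hiN : i < N := by omega
    have hc'' := compat_at hZ hrat d r D hD V hV hVr A B hAB hcomp T Q hQA hQB hcusp i hiN hi'
      (by omega)
    have hIco : Finset.Ico (i + 1) (N + 1) = {N} := by
      have : i + 1 = N := by omega
      rw [this]
      exact Nat.Ico_succ_singleton N
    rw [hIco, Finset.sum_singleton]
    have hiN1 : i + 1 = N := by omega
    subst hiN1
    by_cases h0 : (⟨i + 1, by omega⟩ : Fin (i + 1 + 1)) ∈ T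
    · rw [ind_in T (i + 1) (by omega) h0, mul_one]
      have hne : A ⟨i + 1, by omega⟩ ≠ Q ⟨i + 1, by omega⟩ := (hQA _ h0 (by simp)).symm
      have htp := two_point (hZ _) d r (D _) (hD _) (V _) (hV _) (hVr _) (A ⟨i + 1, by omega⟩)
        (Q ⟨i + 1, by omega⟩) hne
      have hlc := s_lower_cusp (hZ _) d r (D _) (hD _) (V _) (hV _) (hVr _) (Q _) (hcusp _ h0)
      omega
    · rw [ind_out T (i + 1) (by omega) h0, mul_zero, add_zero]
      exact s_lower (hZ _) d r (D _) (hD _) (V _) (hV _) (hVr _) (B _)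
  | succ m ih =>
    have hiN : i < N := by omega
    have ih' := ih (i + 1) (by omega) (by omega)
    have hc'' := compat_at hZ hrat d r D hD V hV hVr A B hAB hcomp T Q hQA hQB hcusp i hiN hi'
      (by omega)
    have hin := inner_ineq hZ hrat d r D hD V hV hVr A B hAB hcomp T Q hQA hQB hcusp (i + 1)
      (by omega) (by omega) (by omega)
    have esum : r * (∑ j ∈ Finset.Ico (i + 1) (N + 1), ind T j) =
        r * ind T (i + 1) + r * (∑ j ∈ Finset.Ico (i + 1 + 1) (N + 1), ind T j) := by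
      rw [Finset.sum_eq_sum_Ico_succ_bot (show i + 1 < N + 1 by omega), mul_add]
    rw [esum]
    omega

end

end Groth.Agent.Lib.Helper91.LimLin
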