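import Mathlib
import Groth.Prelude.Def_CDiv
import Groth.Agent.Lib.Helper91.DimOneTop

/-!
# Support of a Cartier divisor on an integral scheme of dimension `≤ 1`
-/

set_option autoImplicit false
universe u

open CategoryTheory AlgebraicGeometry TopologicalSpace

namespace Groth.Agent.Lib.Helper91.CDivSupp

open CDiv

section top

variable {Y : Type*} [TopologicalSpace Y]

/-- a closed subset of a Noetherian quasi-sober space all of whose points are closed is finite -/
theorem finite_of_forall_isClosed_singleton [NoetherianSpace Y] [QuasiSober Y] {S : Set Y}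
    (hS : IsClosed S) (hpt : ∀ y ∈ S, IsClosed ({y} : Set Y)) : S.Finite := by
  obtain ⟨T, hTf, hTc, hTi, rfl⟩ := NoetherianSpace.exists_finite_set_isClosed_irreducible hS
  apply Set.Finite.sUnion hTf
  intro t ht
  obtain ⟨g, hg⟩ := QuasiSober.sober (hTi t ht) (hTc t ht)
  have hgt : g ∈ t := hg.mem
  have hcl : IsClosed ({g} : Set Y) := hpt g (Set.mem_sUnion.mpr ⟨t, ht, hgt⟩)
  have : t = {g} := by
    have h1 := hg.def
    rw [hcl.closure_eq] at h1
    exact h1.symm
  rw [this]
  exact Set.finite_singleton g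

end top

variable {X : Scheme.{u}} [IsIntegral X]

/-- membership in `stalkUnits` spreads to a neighbourhood -/
theorem exists_open_mem_stalkUnits (x : X) (f : KUnits X) (hf : f ∈ stalkUnits X x) :
    ∃ V : X.Opens, x ∈ V ∧ ∀ y ∈ V, f ∈ stalkUnits X y := by
  obtain ⟨u, hu⟩ := hf
  obtain ⟨W, hxW, s, hs⟩ := X.presheaf.exists_germ_eq (u : X.presheaf.stalk x)
  haveI : Nonempty W := ⟨⟨x, hxW⟩⟩
  have hfs : (f : X.functionField) = X.germToFunctionField W s := by
    rw [← hu, ← Scheme.algebraMap_germ_eq_germToFunctionField X hxW s, hs]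
    rfl
  refine ⟨X.basicOpen s, ?_, ?_⟩
  · rw [Scheme.mem_basicOpen X s x hxW, hs]
    exact u.isUnit
  · intro y hy
    obtain ⟨hyW, hunit⟩ := (Scheme.mem_basicOpen'' X s y).mp hy
    refine ⟨hunit.unit, ?_⟩
    apply Units.ext
    rw [hfs, ← Scheme.algebraMap_germ_eq_germToFunctionField X hyW s]
    rfl

theorem isClosed_supp (D : Divisor X) : IsClosed (supp D) := by
  rw [← isOpen_compl_iff, isOpen_iff_forall_mem_open]
  intro x hx
  have hx1 : D.1 x = 1 := by
    by_contra h
    exact hx h
  obtain ⟨U, g, hxU, hU⟩ := D.2 x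
  have hg : g ∈ stalkUnits X x := by
    rw [hU x hxU] at hx1
    exact (QuotientGroup.eq_one_iff g).mp hx1
  obtain ⟨V, hxV, hV⟩ := exists_open_mem_stalkUnits x g hg
  refine ⟨((U ⊓ V : X.Opens) : Set X), ?_, (U ⊓ V).isOpen, ⟨hxU, hxV⟩⟩
  intro y hy
  show ¬ (D.1 y ≠ 1)
  rw [not_not, hU y hy.1]
  exact (QuotientGroup.eq_one_iff g).mpr (hV y hy.2)

theorem genericPoint_notMem_supp (D : Divisor X) : genericPoint X ∉ supp D := by
  show ¬ (D.1 (genericPoint X) ≠ 1)
  rw [not_not]
  obtain ⟨U, g, hxU, hU⟩ := D.2 (genericPoint X)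
  rw [hU _ hxU]
  show (QuotientGroup.mk g : Germ X (genericPoint X)) = 1
  rw [QuotientGroup.eq_one_iff]
  refine ⟨g, ?_⟩
  apply Units.ext
  show (X.presheaf.stalkSpecializes _).hom g.val = g.val
  rw [TopCat.Presheaf.stalkSpecializes_refl]
  rfl

/-- non-generic points of an integral scheme of dimension `≤ 1` are closed -/
theorem isClosed_singleton_of_ne (hdim : topologicalKrullDim ↥X ≤ 1) {x : X}
    (hx : x ≠ genericPoint X) : IsClosed ({x} : Set X) := by
  let Z : IrreducibleCloseds X := ⟨Set.univ, IrreducibleSpace.isIrreducible_univ X, isClosed_univ⟩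
  have hle : Groth.Agent.Lib.Helper91.DimOneTop.cl x ≤ Z := fun _ _ => Set.mem_univ _
  have hne : Groth.Agent.Lib.Helper91.DimOneTop.cl x ≠ Z := by
    intro h
    have h' : closure ({x} : Set X) = Set.univ :=
      congrArg (fun Z : IrreducibleCloseds X => (Z : Set X)) h
    have hgen : IsGenericPoint x (Set.univ : Set X) := h'
    exact hx ((genericPoint_spec X).eq hgen).symm
  have := Groth.Agent.Lib.Helper91.DimOneTop.closure_singleton_eq_of_lt hdim
    (lt_of_le_of_ne hle hne)
  rw [← this]
  exact isClosed_closure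

theorem discreteTopology_supp [IsLocallyNoetherian X] (hdim : topologicalKrullDim ↥X ≤ 1)
    (D : Divisor X) : DiscreteTopology ↥(supp D) := by
  rw [discreteTopology_subtype_iff']
  intro x hx
  have hZcl := isClosed_supp D
  have hpt : ∀ y ∈ supp D, IsClosed ({y} : Set X) := by
    intro y hy
    apply isClosed_singleton_of_ne hdim
    rintro rfl
    exact genericPoint_notMem_supp D hy
  -- affine Noetherian neighbourhood
  obtain ⟨U, hU, hxU, -⟩ := (X.isBasis_affineOpens).exists_subset_of_mem_open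
    (Set.mem_univ x) isOpen_univ
  obtain ⟨U, rfl⟩ : ∃ U' : X.Opens, (U' : Set X) = U := by
    obtain ⟨U', hU', rfl⟩ := hU
    exact ⟨U', rfl⟩
  have hUaff : IsAffineOpen U := by
    obtain ⟨U', hU', h⟩ := hU
    have : U' = U := SetLike.coe_injective h
    rw [← this]; exact hU'
  have : IsNoetherianRing Γ(X, U) := IsLocallyNoetherian.component_noetherian ⟨U, hUaff⟩
  have : NoetherianSpace U := noetherianSpace_of_isAffineOpen U hUaff
  have : QuasiSober U := U.isOpenEmbedding'.quasiSober
  -- the trace of the support on U is finite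
  let S' : Set U := Subtype.val ⁻¹' supp D
  have hS'cl : IsClosed S' := hZcl.preimage continuous_subtype_val
  have hS'fin : S'.Finite := by
    apply finite_of_forall_isClosed_singleton hS'cl
    intro y hy
    have h1 := (hpt y.1 hy).preimage (continuous_subtype_val (p := fun z => z ∈ U))
    have h2 : ({y} : Set U) = Subtype.val ⁻¹' ({y.1} : Set X) := by
      ext z
      simp only [Set.mem_singleton_iff, Set.mem_preimage]
      exact Subtype.ext_iff
    rw [h2]
    exact h1
  let F : Set X := (Subtype.val '' S') \ {x}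
  have hFfin : F.Finite := (hS'fin.image _).subset Set.sdiff_subset
  have hFcl : IsClosed F := by
    have : F = ⋃ y ∈ F, ({y} : Set X) := by simp
    rw [this]
    apply hFfin.isClosed_biUnion
    intro y hy
    obtain ⟨z, hz, rfl⟩ := hy.1
    exact hpt _ hz
  refine ⟨(U : Set X) ∩ Fᶜ, U.isOpen.inter hFcl.isOpen_compl, ?_⟩
  ext y
  simp only [Set.mem_inter_iff, Set.mem_compl_iff, Set.mem_singleton_iff]
  constructor
  · rintro ⟨⟨hyU, hyF⟩, hyZ⟩
    by_contra hne
    exact hyF ⟨⟨⟨y, hyU⟩, hyZ, rfl⟩, hne⟩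
  · rintro rfl
    exact ⟨⟨hxU, fun h => h.2 rfl⟩, hx⟩

end Groth.Agent.Lib.Helper91.CDivSupp
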