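import Mathlib
import Groth.Agent.Lib.Helper70.AffineStalk
import Groth.Agent.Lib.Helper91.StalkIdeal
import Groth.Agent.Lib.Helper91.SubschemeStalk
import Groth.Agent.Lib.Helper91.MaxPoint

/-!
# Flat closed immersions and closed subsets stable under generalization
-/

set_option autoImplicit false
universe u

open CategoryTheory AlgebraicGeometry TopologicalSpace Opposite
open Groth.Agent.Lib.Helper91.StalkIdeal

namespace Groth.Agent.Lib.Helper91.FlatClosed

section Algebra

/-- the key algebraic fact: for a closed generization-stable set `T` of primes, if `a` vanishes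
locally at the points of `T ∩ D(f)` then `f ^ m * a` vanishes locally at all points of `T` -/
theorem exists_pow_mul_mem {A : Type*} [CommRing A] (T : Set (PrimeSpectrum A)) (hTc : IsClosed T)
    (hTg : StableUnderGeneralization T) (f a : A)
    (h : ∀ p ∈ T, f ∉ p.asIdeal → ∃ s ∉ p.asIdeal, s * a = 0) :
    ∃ m : ℕ, ∀ p ∈ T, ∃ s ∉ p.asIdeal, s * (f ^ m * a) = 0 := by
  classical
  have hT : PrimeSpectrum.zeroLocus ((PrimeSpectrum.vanishingIdeal T : Ideal A) : Set A) = T := by
    rw [PrimeSpectrum.zeroLocus_vanishingIdeal_eq_closure, hTc.closure_eq]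
  let S : Submonoid A :=
    { carrier := {x | x - 1 ∈ PrimeSpectrum.vanishingIdeal T}
      one_mem' := by simp
      mul_mem' := by
        intro x y hx hy
        have : x * y - 1 = (x - 1) * y + (y - 1) := by ring
        show x * y - 1 ∈ PrimeSpectrum.vanishingIdeal T
        rw [this]
        exact Ideal.add_mem _ (Ideal.mul_mem_right _ _ hx) hy }
  let Ann : Ideal A := LinearMap.ker (LinearMap.toSpanSingleton A A a)
  have hAnn : ∀ c : A, c ∈ Ann ↔ c * a = 0 := fun c => by
    show (LinearMap.toSpanSingleton A A a) c = 0 ↔ _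
    rw [LinearMap.toSpanSingleton_apply, smul_eq_mul]
  by_cases hdis : Disjoint (Ann : Set A) ((S ⊔ Submonoid.powers f : Submonoid A) : Set A)
  · exfalso
    obtain ⟨p, hp, hAp, hpS⟩ := Ideal.exists_le_prime_disjoint Ann _ hdis
    have hfp : f ∉ p := fun hf =>
      Set.disjoint_left.mp hpS hf (Submonoid.mem_sup_right (Submonoid.mem_powers f))
    have hne : p ⊔ PrimeSpectrum.vanishingIdeal T ≠ ⊤ := by
      intro htop
      have h1 : (1 : A) ∈ p ⊔ PrimeSpectrum.vanishingIdeal T := htop ▸ Submodule.mem_top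
      obtain ⟨x, hx, j, hj, hxj⟩ := Submodule.mem_sup.mp h1
      have hxS : x ∈ S := by
        show x - 1 ∈ PrimeSpectrum.vanishingIdeal T
        have : x - 1 = -j := by rw [← hxj]; ring
        rw [this]
        exact Ideal.neg_mem_iff _ |>.mpr hj
      exact Set.disjoint_left.mp hpS hx (Submonoid.mem_sup_left hxS)
    obtain ⟨P, hPmax, hPle⟩ := Ideal.exists_le_maximal _ hne
    have hPT : (⟨P, hPmax.isPrime⟩ : PrimeSpectrum A) ∈ T := by
      rw [← hT]
      exact le_sup_right.trans hPle
    have hspec : (⟨p, hp⟩ : PrimeSpectrum A) ⤳ ⟨P, hPmax.isPrime⟩ :=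
      (PrimeSpectrum.le_iff_specializes _ _).mp (le_sup_left.trans hPle)
    have hpT : (⟨p, hp⟩ : PrimeSpectrum A) ∈ T := hTg hspec hPT
    obtain ⟨s, hs, hsa⟩ := h ⟨p, hp⟩ hpT hfp
    exact hs (hAp ((hAnn s).mpr hsa))
  · rw [Set.not_disjoint_iff] at hdis
    obtain ⟨c, hcA, hcM⟩ := hdis
    obtain ⟨s, hs, z, ⟨m, rfl⟩, rfl⟩ := Submonoid.mem_sup.mp hcM
    refine ⟨m, fun p hp => ⟨s, ?_, ?_⟩⟩
    · intro hsp
      have hJp : (PrimeSpectrum.vanishingIdeal T : Set A) ⊆ p.asIdeal := by
        rw [← hT] at hp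
        exact hp
      have h1 : s - 1 ∈ p.asIdeal := hJp hs
      have h2 : (1 : A) ∈ p.asIdeal := by
        have := p.asIdeal.sub_mem hsp h1
        simpa using this
      exact p.isPrime.ne_top ((Ideal.eq_top_iff_one _).mpr h2)
    · have : (s * f ^ m) * a = 0 := (hAnn _).mp hcA
      rw [← mul_assoc]
      exact this

/-- a surjective flat ring map out of a local ring with nontrivial target is injective -/
theorem injective_of_surjective_of_flat {R S : Type*} [CommRing R] [CommRing S] [IsLocalRing R]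
    [Nontrivial S] (φ : R →+* S) (hs : Function.Surjective φ) (hf : φ.Flat) :
    Function.Injective φ := by
  letI := φ.toAlgebra
  haveI : Module.Flat R S := hf
  haveI : Module.Finite R S := Module.Finite.of_surjective (Algebra.linearMap R S) hs
  haveI : Module.Free R S := Module.free_of_flat_of_isLocalRing
  exact FaithfulSMul.algebraMap_injective R S

end Algebra

variable {X : Scheme.{u}}

theorem germ_eq_zero_iff {U : X.Opens} (hU : IsAffineOpen U) (x : X) (hx : x ∈ U) (a : Γ(X, U)) :
    X.presheaf.germ U x hx a = 0 ↔ ∃ s ∉ (hU.primeIdealOf ⟨x, hx⟩).asIdeal, s * a = 0 := by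
  letI ax : Algebra Γ(X, U) (X.presheaf.stalk x) :=
    TopCat.Presheaf.algebra_section_stalk X.presheaf ⟨x, hx⟩
  haveI := hU.isLocalization_stalk ⟨x, hx⟩
  have := IsLocalization.map_eq_zero_iff (hU.primeIdealOf ⟨x, hx⟩).asIdeal.primeCompl
    (X.presheaf.stalk x) a
  constructor
  · intro h
    obtain ⟨m, hm⟩ := this.mp h
    exact ⟨m.1, m.2, hm⟩
  · rintro ⟨s, hs, hsa⟩
    exact this.mpr ⟨⟨s, hs⟩, hsa⟩

/-- sections whose germs vanish at all points of `Z` -/
def idealOf (Z : Set X) (U : X.affineOpens) : Ideal Γ(X, U.1) where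
  carrier := {a | ∀ (x : X) (hx : x ∈ U.1), x ∈ Z → X.presheaf.germ U.1 x hx a = 0}
  add_mem' := by
    intro a b ha hb x hx hxZ
    rw [map_add, ha x hx hxZ, hb x hx hxZ, add_zero]
  zero_mem' := by
    intro x hx _
    rw [map_zero]
  smul_mem' := by
    intro c a ha x hx hxZ
    rw [smul_eq_mul, map_mul, ha x hx hxZ, mul_zero]

theorem mem_idealOf (Z : Set X) (U : X.affineOpens) (a : Γ(X, U.1)) :
    a ∈ idealOf Z U ↔ ∀ (x : X) (hx : x ∈ U.1), x ∈ Z → X.presheaf.germ U.1 x hx a = 0 := Iff.rfl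

end Groth.Agent.Lib.Helper91.FlatClosed
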