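import Mathlib
import Groth.Agent.Lib.Helper91.FlatClosed

/-!
# Flat closed immersions and closed subsets stable under generalization, II
-/

set_option autoImplicit false
universe u

open CategoryTheory AlgebraicGeometry TopologicalSpace Opposite
open Groth.Agent.Lib.Helper91.StalkIdeal

namespace Groth.Agent.Lib.Helper91.FlatClosed

variable {X : Scheme.{u}} (Z : Set X) (hZc : IsClosed Z) (hZg : StableUnderGeneralization Z)

include hZc hZg in
/-- the local vanishing statement, on an affine open -/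
theorem exists_pow_mul_mem_idealOf (U : X.affineOpens) (f a : Γ(X, U.1))
    (h : ∀ (x : X) (hx : x ∈ X.basicOpen f), x ∈ Z →
      X.presheaf.germ U.1 x (X.basicOpen_le f hx) a = 0) :
    ∃ m : ℕ, f ^ m * a ∈ idealOf Z U := by
  have hTc : IsClosed (U.2.fromSpec ⁻¹' Z) := hZc.preimage U.2.fromSpec.continuous
  have hTg : StableUnderGeneralization (U.2.fromSpec ⁻¹' Z) :=
    fun p q hqp hp => hZg (hqp.map U.2.fromSpec.continuous) hp
  have key : ∀ p ∈ U.2.fromSpec ⁻¹' Z, f ∉ p.asIdeal → ∃ s ∉ p.asIdeal, s * a = 0 := by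
    intro p hpT hfp
    have hxU := Groth.Agent.Lib.Helper70.fromSpec_mem U.2 p
    have hpp := Groth.Agent.Lib.Helper70.primeIdealOf_fromSpec U.2 p
    have hx : U.2.fromSpec p ∈ X.basicOpen f := by
      rw [Groth.Agent.Lib.Helper91.MaxPoint.mem_basicOpen_iff_notMem_primeIdealOf U.2 f _ hxU, hpp]
      exact hfp
    have := (germ_eq_zero_iff U.2 _ hxU a).mp (h _ hx hpT)
    rw [hpp] at this
    exact this
  obtain ⟨m, hm⟩ := exists_pow_mul_mem (U.2.fromSpec ⁻¹' Z) hTc hTg f a key
  refine ⟨m, ?_⟩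
  intro x hx hxZ
  rw [germ_eq_zero_iff U.2 x hx]
  apply hm
  show U.2.fromSpec (U.2.primeIdealOf ⟨x, hx⟩) ∈ Z
  rw [U.2.fromSpec_primeIdealOf]
  exact hxZ

include hZc hZg in
theorem map_idealOf_basicOpen (U : X.affineOpens) (f : Γ(X, U.1)) :
    (idealOf Z U).map (X.presheaf.map (homOfLE (X.basicOpen_le f)).op).hom =
      idealOf Z (X.affineBasicOpen f) := by
  apply le_antisymm
  · rw [Ideal.map_le_iff_le_comap]
    intro a ha x hx hxZ
    have h1 := X.presheaf.germ_res_apply (homOfLE (X.basicOpen_le f)) x hx a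
    exact h1.trans (ha x (X.basicOpen_le f hx) hxZ)
  · intro b hb
    haveI : IsLocalization.Away f Γ(X, X.basicOpen f) := U.2.isLocalization_basicOpen f
    obtain ⟨⟨a, ⟨_, n, rfl⟩⟩, hab⟩ := IsLocalization.surj (Submonoid.powers f) b
    have hab' : b * (X.presheaf.map (homOfLE (X.basicOpen_le f)).op).hom (f ^ n) =
        (X.presheaf.map (homOfLE (X.basicOpen_le f)).op).hom a := hab
    have hgerm : ∀ (x : X) (hx : x ∈ X.basicOpen f), x ∈ Z →
        X.presheaf.germ U.1 x (X.basicOpen_le f hx) a = 0 := by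
      intro x hx hxZ
      have h1 := X.presheaf.germ_res_apply (homOfLE (X.basicOpen_le f)) x hx a
      have h2 : X.presheaf.germ (X.basicOpen f) x hx
          ((X.presheaf.map (homOfLE (X.basicOpen_le f)).op).hom a) = 0 := by
        have hbx : X.presheaf.germ (X.basicOpen f) x hx b = 0 := hb x hx hxZ
        rw [← hab', map_mul, hbx, zero_mul]
      exact h1.symm.trans h2
    obtain ⟨m, hm⟩ := exists_pow_mul_mem_idealOf Z hZc hZg U f a hgerm
    have hunit : IsUnit ((X.presheaf.map (homOfLE (X.basicOpen_le f)).op).hom (f ^ (m + n))) :=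
      IsLocalization.map_units Γ(X, X.basicOpen f)
        (⟨f ^ (m + n), m + n, rfl⟩ : Submonoid.powers f)
    have hmem : (X.presheaf.map (homOfLE (X.basicOpen_le f)).op).hom (f ^ m * a) ∈
        (idealOf Z U).map (X.presheaf.map (homOfLE (X.basicOpen_le f)).op).hom :=
      Ideal.mem_map_of_mem _ hm
    have heq : b * (X.presheaf.map (homOfLE (X.basicOpen_le f)).op).hom (f ^ (m + n)) =
        (X.presheaf.map (homOfLE (X.basicOpen_le f)).op).hom (f ^ m * a) := by
      rw [pow_add, map_mul, map_mul, ← hab']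
      ring
    have hb' : b = (X.presheaf.map (homOfLE (X.basicOpen_le f)).op).hom (f ^ m * a) *
        ↑(hunit.unit⁻¹) := by
      rw [← heq, mul_assoc]
      have : (X.presheaf.map (homOfLE (X.basicOpen_le f)).op).hom (f ^ (m + n)) *
          ↑(hunit.unit⁻¹) = 1 := hunit.mul_val_inv
      rw [this, mul_one]
    rw [hb']
    exact Ideal.mul_mem_right _ _ hmem

/-- the ideal sheaf of sections vanishing (as germs) along `Z` -/
def idealSheafOf : X.IdealSheafData where
  ideal := idealOf Z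
  map_ideal_basicOpen := map_idealOf_basicOpen Z hZc hZg

theorem stalkIdeal_idealSheafOf_eq_bot {x : X} (hx : x ∈ Z) :
    stalkIdeal (idealSheafOf Z hZc hZg) x = ⊥ := by
  obtain ⟨U, hxU⟩ := exists_affine x
  rw [stalkIdeal_eq _ U hxU, Ideal.map_eq_bot_iff_le_ker]
  intro a ha
  exact ha x hxU hx

theorem stalkIdeal_idealSheafOf_eq_top {x : X} (hx : x ∉ Z) :
    stalkIdeal (idealSheafOf Z hZc hZg) x = ⊤ := by
  obtain ⟨U, hxU⟩ := exists_affine x
  obtain ⟨f, hfV, hxf⟩ := U.2.exists_basicOpen_le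
    (V := ⟨Zᶜ, hZc.isOpen_compl⟩) ⟨x, hx⟩ hxU
  obtain ⟨m, hm⟩ := exists_pow_mul_mem_idealOf Z hZc hZg U f 1 (by
    intro y hy hyZ
    exact absurd hyZ (hfV hy))
  rw [mul_one] at hm
  rw [stalkIdeal_eq _ U hxU]
  have hu : IsUnit (X.presheaf.germ U.1 x hxU (f ^ m)) := by
    rw [map_pow]
    exact ((X.toRingedSpace.mem_basicOpen f x hxU).mp hxf).pow m
  exact Ideal.eq_top_of_isUnit_mem _ (Ideal.mem_map_of_mem _ hm) hu

theorem support_idealSheafOf :
    ((idealSheafOf Z hZc hZg).support : Set X) = Z := by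
  ext x
  by_cases hx : x ∈ Z
  · simp only [hx, iff_true]
    by_contra hns
    have h1 := (stalkIdeal_eq_top_iff (idealSheafOf Z hZc hZg) x).mpr hns
    rw [stalkIdeal_idealSheafOf_eq_bot Z hZc hZg hx] at h1
    exact bot_ne_top h1
  · simp only [hx, iff_false]
    exact (stalkIdeal_eq_top_iff (idealSheafOf Z hZc hZg) x).mp
      (stalkIdeal_idealSheafOf_eq_top Z hZc hZg hx)

/-- the kernel of the stalk map of a closed subscheme is the stalk of the ideal -/
theorem ker_stalkMap_eq_stalkIdeal (𝓘 : X.IdealSheafData) (z : 𝓘.subscheme) :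
    RingHom.ker (𝓘.subschemeι.stalkMap z).hom = stalkIdeal 𝓘 (𝓘.subschemeι z) := by
  obtain ⟨U, hxU⟩ := exists_affine (𝓘.subschemeι z)
  rw [stalkIdeal_eq _ U hxU]
  exact Groth.Agent.Lib.Helper91.SubschemeStalk.ker_stalkMap 𝓘 U z hxU

theorem flat_subschemeι_idealSheafOf : Flat (idealSheafOf Z hZc hZg).subschemeι := by
  rw [Flat.iff_flat_stalkMap]
  intro z
  apply RingHom.Flat.of_bijective
  refine ⟨?_, (idealSheafOf Z hZc hZg).subschemeι.stalkMap_surjective z⟩
  rw [RingHom.injective_iff_ker_eq_bot, ker_stalkMap_eq_stalkIdeal]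
  apply stalkIdeal_idealSheafOf_eq_bot
  exact (Set.ext_iff.mp (support_idealSheafOf Z hZc hZg) _).mp
    (Groth.Agent.Lib.Helper91.SubschemeStalk.mem_support _ z)

/-- for a flat closed subscheme, the ideal vanishes in the local rings of its points -/
theorem stalkIdeal_eq_bot_of_flat (𝓘 : X.IdealSheafData) (hflat : Flat 𝓘.subschemeι) {x : X}
    (hx : x ∈ 𝓘.support) : stalkIdeal 𝓘 x = ⊥ := by
  have hx' : x ∈ Set.range 𝓘.subschemeι := by
    rw [𝓘.range_subschemeι]
    exact hx
  obtain ⟨z, rfl⟩ := hx'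
  rw [← ker_stalkMap_eq_stalkIdeal, ← RingHom.injective_iff_ker_eq_bot]
  exact injective_of_surjective_of_flat _ (𝓘.subschemeι.stalkMap_surjective z)
    (Flat.stalkMap 𝓘.subschemeι z)

end Groth.Agent.Lib.Helper91.FlatClosed
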