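import Mathlib
import Groth.Agent.Lib.Helper91.FlatClosed2
import Groth.Agent.Lib.Helper91.StalkIdealComap
import Groth.Agent.Lib.Helper91.RegImmComp

/-!
# The scheme-theoretic closure of a closed subscheme of an open subscheme: stalks
-/

set_option autoImplicit false
universe u

open CategoryTheory AlgebraicGeometry TopologicalSpace Opposite
open Groth.Agent.Lib.Helper91.StalkIdeal

namespace Groth.Agent.Lib.Helper91.CartierExt

variable {X : Scheme.{u}} (U : X.Opens) [QuasiCompact U.ι] (D : U.toScheme.IdealSheafData)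

/-- at points of `U`, the closure has the same stalk as `D` -/
theorem map_stalkMap_stalkIdeal_map (y : U.toScheme) :
    (stalkIdeal (D.map U.ι) (U.ι y)).map (U.ι.stalkMap y).hom = stalkIdeal D y := by
  obtain ⟨_, ⟨W, hW, rfl⟩, hyW, hWU⟩ := (X.isBasis_affineOpens).exists_subset_of_mem_open
    (show U.ι y ∈ (U : Set X) from y.2) U.isOpen
  have hWr : W ≤ U.ι.opensRange := by
    rw [Scheme.Opens.opensRange_ι]
    exact hWU
  have H : IsAffineOpen (U.ι ⁻¹ᵁ W) := hW.preimage_of_isOpenImmersion U.ι hWr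
  haveI : IsIso (U.ι.app W) := Scheme.Hom.isIso_app U.ι W hWr
  have hsurj : Function.Surjective (U.ι.app W).hom :=
    (ConcreteCategory.bijective_of_isIso (U.ι.app W)).2
  rw [stalkIdeal_eq _ ⟨W, hW⟩ hyW,
    stalkIdeal_eq D ⟨U.ι ⁻¹ᵁ W, H⟩ (show y ∈ U.ι ⁻¹ᵁ W from hyW),
    Scheme.IdealSheafData.ideal_map D U.ι ⟨W, hW⟩ H, Ideal.map_map]
  have hcomm : (U.ι.stalkMap y).hom.comp (X.presheaf.germ W (U.ι y) hyW).hom =
      (U.toScheme.presheaf.germ (U.ι ⁻¹ᵁ W) y hyW).hom.comp (U.ι.app W).hom := by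
    rw [← CommRingCat.hom_comp, ← CommRingCat.hom_comp, Scheme.Hom.germ_stalkMap]
  rw [hcomm, ← Ideal.map_map, Ideal.map_comap_of_surjective _ hsurj]

/-- the stalk of the closure at a point of `U`, as a preimage -/
theorem stalkIdeal_map_eq_comap (y : U.toScheme) :
    stalkIdeal (D.map U.ι) (U.ι y) = (stalkIdeal D y).comap (U.ι.stalkMap y).hom := by
  rw [← map_stalkMap_stalkIdeal_map U D y]
  have hbij : Function.Bijective (U.ι.stalkMap y).hom :=
    ConcreteCategory.bijective_of_isIso (U.ι.stalkMap y)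
  exact (Ideal.comap_map_of_bijective _ hbij).symm

/-- membership in the closure is tested on the stalks at the points of `U` -/
theorem mem_ideal_map_iff (W : X.affineOpens) (a : Γ(X, W.1)) :
    a ∈ (D.map U.ι).ideal W ↔ ∀ (y : U.toScheme) (hy : U.ι y ∈ W.1),
      X.presheaf.germ W.1 (U.ι y) hy a ∈ stalkIdeal (D.map U.ι) (U.ι y) := by
  constructor
  · intro ha y hy
    rw [stalkIdeal_eq _ W hy]
    exact Ideal.mem_map_of_mem _ ha
  · intro h
    show a ∈ ((D.subschemeι ≫ U.ι).ker).ideal W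
    rw [Scheme.Hom.ker_apply, RingHom.mem_ker]
    apply TopCat.Presheaf.section_ext D.subscheme.sheaf
    intro z hz
    show D.subscheme.presheaf.germ ((D.subschemeι ≫ U.ι) ⁻¹ᵁ W.1) z hz
        (((D.subschemeι ≫ U.ι).app W.1).hom a) =
      D.subscheme.presheaf.germ ((D.subschemeι ≫ U.ι) ⁻¹ᵁ W.1) z hz 0
    rw [map_zero]
    have h1 := Scheme.Hom.germ_stalkMap_apply (D.subschemeι ≫ U.ι) W.1 z hz a
    rw [← h1]
    have h2 : X.presheaf.germ W.1 ((D.subschemeι ≫ U.ι) z) hz a ∈
        RingHom.ker ((D.subschemeι ≫ U.ι).stalkMap z).hom := by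
      rw [Groth.Agent.Lib.Helper91.RegImmComp.ker_stalkMap_comp U.ι D.subschemeι z,
        Groth.Agent.Lib.Helper91.FlatClosed.ker_stalkMap_eq_stalkIdeal D z,
        ← stalkIdeal_map_eq_comap U D (D.subschemeι z)]
      exact h (D.subschemeι z) hz
    exact h2

end Groth.Agent.Lib.Helper91.CartierExt
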