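import Mathlib
import Groth.Agent.Lib.Helper91.CartierExt1

/-!
# The scheme-theoretic closure of a closed subscheme of an open subscheme: no embedded
components outside the open
-/

set_option autoImplicit false
universe u

open CategoryTheory AlgebraicGeometry TopologicalSpace Opposite
open Groth.Agent.Lib.Helper91.StalkIdeal

namespace Groth.Agent.Lib.Helper91.CartierExt

variable {X : Scheme.{u}}

theorem germ_mem_map_iff {W : X.Opens} (hW : IsAffineOpen W) (I : Ideal Γ(X, W)) (x : X)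
    (hx : x ∈ W) (r : Γ(X, W)) :
    X.presheaf.germ W x hx r ∈ I.map (X.presheaf.germ W x hx).hom ↔
      ∃ t ∉ (hW.primeIdealOf ⟨x, hx⟩).asIdeal, t * r ∈ I := by
  letI ax : Algebra Γ(X, W) (X.presheaf.stalk x) :=
    TopCat.Presheaf.algebra_section_stalk X.presheaf ⟨x, hx⟩
  haveI := hW.isLocalization_stalk ⟨x, hx⟩
  exact IsLocalization.algebraMap_mem_map_algebraMap_iff
    (hW.primeIdealOf ⟨x, hx⟩).asIdeal.primeCompl (X.presheaf.stalk x) I r

variable [IsLocallyNoetherian X] (U : X.Opens) [QuasiCompact U.ι] (D : U.toScheme.IdealSheafData)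

/-- affine version of the closure property -/
theorem germ_mem_stalkIdeal_map_of_forall (W : X.affineOpens) (x : X) (hx : x ∈ W.1)
    (a : Γ(X, W.1))
    (h : ∀ (ξ : X) (hξ : ξ ⤳ x), ξ ∈ U →
      X.presheaf.germ W.1 ξ (hξ.mem_open W.1.isOpen hx) a ∈ stalkIdeal (D.map U.ι) ξ) :
    X.presheaf.germ W.1 x hx a ∈ stalkIdeal (D.map U.ι) x := by
  haveI : IsNoetherianRing Γ(X, W.1) := IsLocallyNoetherian.component_noetherian W
  rw [stalkIdeal_eq _ W hx, germ_mem_map_iff W.2]
  by_contra hcon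
  push Not at hcon
  -- the colon ideal is inside the prime of `x`
  have hCp : ((D.map U.ι).ideal W).colon {a} ≤ (W.2.primeIdealOf ⟨x, hx⟩).asIdeal := by
    intro t ht
    by_contra htp
    exact hcon t htp (Submodule.mem_colon_singleton.mp ht)
  obtain ⟨P, hPmin, hPp⟩ := Ideal.exists_minimalPrimes_le hCp
  haveI hPprime : P.IsPrime := hPmin.1.1
  have hPass : P ∈ associatedPrimes Γ(X, W.1) (Γ(X, W.1) ⧸ ((D.map U.ι).ideal W).colon {a}) := by
    apply Module.associatedPrimes.minimalPrimes_annihilator_subset_associatedPrimes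
    rw [Ideal.annihilator_quotient]
    exact hPmin
  obtain ⟨-, m, hm⟩ := isAssociatedPrime_iff.mp hPass
  obtain ⟨b, rfl⟩ := Ideal.Quotient.mk_surjective m
  have hPmem : ∀ t : Γ(X, W.1), t ∈ P ↔ t * (b * a) ∈ (D.map U.ι).ideal W := by
    intro t
    rw [hm, Submodule.mem_colon_singleton, Submodule.mem_bot]
    show t • (Ideal.Quotient.mk _ b) = 0 ↔ _
    rw [Algebra.smul_def, Ideal.Quotient.algebraMap_eq, ← map_mul,
      Ideal.Quotient.eq_zero_iff_mem, Submodule.mem_colon_singleton, smul_eq_mul, mul_assoc]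
  have hr' : b * a ∉ (D.map U.ι).ideal W := by
    intro hmem
    have : (1 : Γ(X, W.1)) ∈ P := (hPmem 1).mpr (by rw [one_mul]; exact hmem)
    exact hPprime.ne_top ((Ideal.eq_top_iff_one _).mpr this)
  rw [mem_ideal_map_iff U D W] at hr'
  push Not at hr'
  obtain ⟨y, hy, hybad⟩ := hr'
  -- `P` is inside the prime of `x' = U.ι y`
  have hPx' : P ≤ (W.2.primeIdealOf ⟨U.ι y, hy⟩).asIdeal := by
    intro t ht
    by_contra htp
    apply hybad
    rw [stalkIdeal_eq _ W hy, germ_mem_map_iff W.2]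
    exact ⟨t, htp, (hPmem t).mp ht⟩
  -- the point of `P`
  have hξW := Groth.Agent.Lib.Helper70.fromSpec_mem W.2 ⟨P, hPprime⟩
  have hξP := Groth.Agent.Lib.Helper70.primeIdealOf_fromSpec W.2 ⟨P, hPprime⟩
  have hξx' : W.2.fromSpec ⟨P, hPprime⟩ ⤳ U.ι y := by
    rw [Groth.Agent.Lib.Helper91.GenPrime.specializes_iff_primeIdealOf_le W.2 hξW hy, hξP]
    exact hPx'
  have hξx : W.2.fromSpec ⟨P, hPprime⟩ ⤳ x := by
    rw [Groth.Agent.Lib.Helper91.GenPrime.specializes_iff_primeIdealOf_le W.2 hξW hx, hξP]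
    exact hPp
  have hξU : W.2.fromSpec ⟨P, hPprime⟩ ∈ U := hξx'.mem_open U.isOpen y.2
  have h1 := h _ hξx hξU
  rw [stalkIdeal_eq _ W hξW, germ_mem_map_iff W.2, hξP] at h1
  obtain ⟨t, htP, hta⟩ := h1
  apply htP
  apply hPmin.1.2
  exact Submodule.mem_colon_singleton.mpr hta

/-- **closure property**: an element of the local ring lies in the stalk of the closure as soon as
it does so at all generizations lying in `U` -/
theorem mem_stalkIdeal_map_of_forall (x : X) (a : X.presheaf.stalk x)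
    (h : ∀ (ξ : X) (hξ : ξ ⤳ x), ξ ∈ U →
      (X.presheaf.stalkSpecializes hξ).hom a ∈ stalkIdeal (D.map U.ι) ξ) :
    a ∈ stalkIdeal (D.map U.ι) x := by
  obtain ⟨W, hx⟩ := exists_affine x
  letI ax : Algebra Γ(X, W.1) (X.presheaf.stalk x) :=
    TopCat.Presheaf.algebra_section_stalk X.presheaf ⟨x, hx⟩
  haveI := W.2.isLocalization_stalk ⟨x, hx⟩
  obtain ⟨⟨b, s⟩, hbs⟩ := IsLocalization.surj (W.2.primeIdealOf ⟨x, hx⟩).asIdeal.primeCompl a
  have hbs' : a * X.presheaf.germ W.1 x hx s.1 = X.presheaf.germ W.1 x hx b := hbs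
  have hu : IsUnit (X.presheaf.germ W.1 x hx s.1) :=
    IsLocalization.map_units (X.presheaf.stalk x) s
  have hb := germ_mem_stalkIdeal_map_of_forall U D W x hx b (by
    intro ξ hξ hξU
    have hg : X.presheaf.germ W.1 ξ (hξ.mem_open W.1.isOpen hx) b =
        (X.presheaf.stalkSpecializes hξ).hom (X.presheaf.germ W.1 x hx b) := by
      rw [← CommRingCat.comp_apply, X.presheaf.germ_stalkSpecializes]
    rw [hg, ← hbs', map_mul]
    exact Ideal.mul_mem_right _ _ (h ξ hξ hξU))
  rw [← hbs'] at hb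
  exact (Ideal.mul_unit_mem_iff_mem _ hu).mp hb

end Groth.Agent.Lib.Helper91.CartierExt
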