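import Mathlib
import Groth.Agent.Lib.Helper91.CartierExt2
import Groth.Agent.Lib.Helper91.GenPrime2

/-!
# Extending effective Cartier divisors across factorial points
-/

set_option autoImplicit false
universe u

open CategoryTheory AlgebraicGeometry TopologicalSpace Opposite
open Groth.Agent.Lib.Helper91.StalkIdeal

namespace Groth.Agent.Lib.Helper91.CartierExt

/-- the gcd argument: an ideal of a noetherian factorial domain which is "locally principal and
saturated" with respect to a family of primes is principal -/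
theorem exists_span_singleton_eq_of_ufd {R : Type*} [CommRing R] [IsDomain R] [IsNoetherianRing R]
    [UniqueFactorizationMonoid R] (I : Ideal R) (𝒰 : Set (Ideal R)) (h𝒰 : ∀ q ∈ 𝒰, q.IsPrime)
    (h1 : ∀ q ∈ 𝒰, ∃ h ∈ I, ∀ b ∈ I, ∃ s ∉ q, h ∣ s * b)
    (h2 : ∀ a, (∀ q ∈ 𝒰, ∃ s ∉ q, s * a ∈ I) → a ∈ I) : ∃ g, I = Ideal.span {g} := by
  classical
  by_cases hI : I = ⊥
  · exact ⟨0, by rw [hI]; exact (Ideal.span_singleton_eq_bot.mpr rfl).symm⟩
  letI := UniqueFactorizationMonoid.normalizationMonoid (α := R)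
  letI := UniqueFactorizationMonoid.toNormalizedGCDMonoid R
  obtain ⟨s, hs⟩ := (isNoetherianRing_iff_ideal_fg R).mp inferInstance I
  have hsI : ∀ b ∈ s, b ∈ I := fun b hb => hs ▸ Ideal.subset_span hb
  set g : R := s.gcd id with hg
  have hle : I ≤ Ideal.span {g} := by
    rw [← hs, Ideal.span_le]
    intro b hb
    exact Ideal.mem_span_singleton.mpr (Finset.gcd_dvd (f := id) hb)
  have hgdvd : ∀ b ∈ I, g ∣ b := fun b hb => Ideal.mem_span_singleton.mp (hle hb)
  have hg0 : g ≠ 0 := by
    intro h0
    apply hI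
    rw [eq_bot_iff]
    intro b hb
    obtain ⟨c, hc⟩ := hgdvd b hb
    rw [h0, zero_mul] at hc
    rw [hc]
    exact Ideal.zero_mem _
  have hgI : g ∈ I := by
    apply h2
    intro q hq
    haveI := h𝒰 q hq
    obtain ⟨h, hhI, hh⟩ := h1 q hq
    obtain ⟨h', hh'⟩ := hgdvd h hhI
    by_cases hq' : h' ∈ q
    · exfalso
      have hh0 : h ≠ 0 := by
        intro h0
        apply hI
        rw [eq_bot_iff]
        intro b hb
        obtain ⟨t, htq, htb⟩ := hh b hb
        rw [h0, zero_dvd_iff] at htb
        rcases mul_eq_zero.mp htb with h | h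
        · exact absurd (h ▸ q.zero_mem) htq
        · rw [h]; exact Ideal.zero_mem _
      have hh'0 : h' ≠ 0 := by
        rintro rfl
        exact hh0 (by rw [hh', mul_zero])
      obtain ⟨f, hfp, hfa⟩ := UniqueFactorizationMonoid.exists_prime_factors h' hh'0
      have hfq : f.prod ∈ q := by
        obtain ⟨u, hu⟩ := hfa.symm
        rw [← hu]
        exact Ideal.mul_mem_right _ _ hq'
      obtain ⟨π, hπf, hπq⟩ := (Ideal.IsPrime.multiset_prod_mem_iff_exists_mem ‹q.IsPrime› f).mp hfq
      have hπp : Prime π := hfp π hπf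
      have hπh' : π ∣ h' := (Multiset.dvd_prod hπf).trans hfa.dvd
      have key : ∀ b ∈ s, g * π ∣ id b := by
        intro b hb
        obtain ⟨b', hb'⟩ := hgdvd b (hsI b hb)
        obtain ⟨t, htq, htb⟩ := hh b (hsI b hb)
        have h3 : g * π ∣ g * (t * b') := by
          have : g * π ∣ h := by rw [hh']; exact mul_dvd_mul_left g hπh'
          refine this.trans ?_
          rw [show g * (t * b') = t * b by rw [hb']; ring]
          exact htb
        have h4 : π ∣ t * b' := (mul_dvd_mul_iff_left hg0).mp h3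
        rcases hπp.dvd_or_dvd h4 with h5 | h5
        · exfalso
          obtain ⟨c, hc⟩ := h5
          exact htq (by rw [hc]; exact Ideal.mul_mem_right _ _ hπq)
        · show g * π ∣ b
          rw [hb']
          exact mul_dvd_mul_left g h5
      have h6 : g * π ∣ g * 1 := by
        rw [mul_one]
        exact Finset.dvd_gcd key
      have h7 : π ∣ 1 := (mul_dvd_mul_iff_left hg0).mp h6
      exact hπp.not_unit (isUnit_of_dvd_one h7)
    · exact ⟨h', hq', by rw [mul_comm, ← hh']; exact hhI⟩
  refine ⟨g, le_antisymm hle ?_⟩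
  rw [Ideal.span_le]
  intro b hb
  rw [Set.mem_singleton_iff.mp hb]
  exact hgI

variable {X : Scheme.{u}} (U : X.Opens) [QuasiCompact U.ι] (D : U.toScheme.IdealSheafData)

/-- at the points of `U`, the closure of an effective Cartier divisor is principal -/
theorem exists_generator_map_of_mem (hD : BlowUp.IsEffCartierIdeal D) (y : U.toScheme) :
    ∃ g ∈ nonZeroDivisors (X.presheaf.stalk (U.ι y)),
      stalkIdeal (D.map U.ι) (U.ι y) = Ideal.span {g} := by
  obtain ⟨π, hπ, hπI⟩ := exists_generator hD y
  have hbij : Function.Bijective (U.ι.stalkMap y).hom :=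
    ConcreteCategory.bijective_of_isIso (U.ι.stalkMap y)
  obtain ⟨g, hg⟩ := hbij.2 π
  refine ⟨g, ?_, ?_⟩
  · rw [mem_nonZeroDivisors_iff_right]
    intro a ha
    apply hbij.1
    rw [map_zero]
    apply (mem_nonZeroDivisors_iff_right.mp hπ)
    rw [← hg, ← map_mul, ha, map_zero]
  · rw [stalkIdeal_map_eq_comap U D y, hπI, ← hg]
    apply le_antisymm
    · intro a ha
      rw [Ideal.mem_comap, Ideal.mem_span_singleton] at ha
      obtain ⟨c, hc⟩ := ha
      obtain ⟨c', rfl⟩ := hbij.2 c
      rw [← map_mul] at hc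
      rw [Ideal.mem_span_singleton]
      exact ⟨c', hbij.1 hc⟩
    · rw [Ideal.span_le]
      intro b hb
      rw [Set.mem_singleton_iff.mp hb]
      show g ∈ Ideal.comap _ _
      rw [Ideal.mem_comap]
      exact Ideal.mem_span_singleton_self _

end Groth.Agent.Lib.Helper91.CartierExt
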