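import Mathlib
import Groth.Agent.Lib.Helper91.CartierExt3

/-!
# Extending effective Cartier divisors across factorial points: the stalks of the closure
-/

set_option autoImplicit false
universe u

open CategoryTheory AlgebraicGeometry TopologicalSpace Opposite
open Groth.Agent.Lib.Helper91.StalkIdeal Groth.Agent.Lib.Helper91.GenPrime

namespace Groth.Agent.Lib.Helper91.CartierExt

variable {X : Scheme.{u}} [IsLocallyNoetherian X] (U : X.Opens) [QuasiCompact U.ι]
  (D : U.toScheme.IdealSheafData)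

theorem exists_generator_map_of_ufd (hD : BlowUp.IsEffCartierIdeal D) (x : X)
    [IsDomain (X.presheaf.stalk x)] [UniqueFactorizationMonoid (X.presheaf.stalk x)] :
    ∃ g ∈ nonZeroDivisors (X.presheaf.stalk x), stalkIdeal (D.map U.ι) x = Ideal.span {g} := by
  -- facts about a generization in `U`
  have hgen : ∀ (ξ : X) (hξ : ξ ⤳ x), ξ ∈ U →
      ∃ γ ∈ nonZeroDivisors (X.presheaf.stalk ξ),
        (stalkIdeal (D.map U.ι) x).map (X.presheaf.stalkSpecializes hξ).hom = Ideal.span {γ} := by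
    intro ξ hξ hξU
    obtain ⟨γ, hγ, hγI⟩ := exists_generator_map_of_mem U D hD ⟨ξ, hξU⟩
    exact ⟨γ, hγ, (map_stalkSpecializes _ hξ).trans hγI⟩
  have hinj : ∀ (ξ : X) (hξ : ξ ⤳ x),
      Function.Injective (X.presheaf.stalkSpecializes hξ).hom := by
    intro ξ hξ
    letI := (X.presheaf.stalkSpecializes hξ).hom.toAlgebra
    haveI := isLocalization_stalkSpecializes hξ
    exact IsLocalization.injective (M := (primeOf hξ).primeCompl) (X.presheaf.stalk ξ)
      (fun a ha => mem_nonZeroDivisors_of_ne_zero (fun h0 => ha (h0 ▸ Ideal.zero_mem _)))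
  have hI : stalkIdeal (D.map U.ι) x ≠ ⊥ := by
    intro hbot
    by_cases hex : ∃ (ξ : X) (_ : ξ ⤳ x), ξ ∈ U
    · obtain ⟨ξ, hξ, hξU⟩ := hex
      obtain ⟨γ, hγ, hγI⟩ := hgen ξ hξ hξU
      rw [hbot, Ideal.map_bot] at hγI
      have : γ = 0 := Ideal.span_singleton_eq_bot.mp hγI.symm
      exact nonZeroDivisors.ne_zero hγ this
    · have h1 : (1 : X.presheaf.stalk x) ∈ stalkIdeal (D.map U.ι) x := by
        apply mem_stalkIdeal_map_of_forall U D x 1
        intro ξ hξ hξU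
        exact absurd ⟨ξ, hξ, hξU⟩ hex
      rw [hbot] at h1
      exact one_ne_zero ((Submodule.mem_bot _).mp h1)
  have H0 : ∀ q ∈ {q | ∃ (ξ : X) (hξ : ξ ⤳ x), ξ ∈ U ∧ q = primeOf hξ}, q.IsPrime := by
    rintro q ⟨ξ, hξ, -, rfl⟩
    infer_instance
  have H1 : ∀ q ∈ {q | ∃ (ξ : X) (hξ : ξ ⤳ x), ξ ∈ U ∧ q = primeOf hξ}, ∃ h ∈ stalkIdeal (D.map U.ι) x,
      ∀ b ∈ stalkIdeal (D.map U.ι) x, ∃ s ∉ q, h ∣ s * b := by
    rintro q ⟨ξ, hξ, hξU, rfl⟩
    obtain ⟨γ, hγ, hγI⟩ := hgen ξ hξ hξU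
    letI := (X.presheaf.stalkSpecializes hξ).hom.toAlgebra
    haveI := isLocalization_stalkSpecializes hξ
    have hγmem : γ ∈ (stalkIdeal (D.map U.ι) x).map
        (algebraMap (X.presheaf.stalk x) (X.presheaf.stalk ξ)) := by
      show γ ∈ (stalkIdeal (D.map U.ι) x).map (X.presheaf.stalkSpecializes hξ).hom
      rw [hγI]
      exact Ideal.mem_span_singleton_self γ
    obtain ⟨⟨⟨a, ha⟩, s⟩, has⟩ :=
      (IsLocalization.mem_map_algebraMap_iff (primeOf hξ).primeCompl (X.presheaf.stalk ξ)).mp hγmem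
    have has' : γ * (X.presheaf.stalkSpecializes hξ).hom s.1 =
        (X.presheaf.stalkSpecializes hξ).hom a := has
    refine ⟨a, ha, ?_⟩
    intro b hb
    have hbmem : (X.presheaf.stalkSpecializes hξ).hom b ∈ Ideal.span {γ} := by
      rw [← hγI]
      exact Ideal.mem_map_of_mem _ hb
    obtain ⟨c, hc⟩ := Ideal.mem_span_singleton'.mp hbmem
    obtain ⟨⟨c', t⟩, hct⟩ := IsLocalization.surj (primeOf hξ).primeCompl c
    have hct' : c * (X.presheaf.stalkSpecializes hξ).hom t.1 =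
        (X.presheaf.stalkSpecializes hξ).hom c' := hct
    refine ⟨t.1 * s.1, ?_, ?_⟩
    · exact (primeOf hξ).primeCompl.mul_mem t.2 s.2
    · refine ⟨c', ?_⟩
      apply hinj ξ hξ
      rw [map_mul, map_mul, map_mul, ← hc, ← has', ← hct']
      ring
  have H2 : ∀ a, (∀ q ∈ {q | ∃ (ξ : X) (hξ : ξ ⤳ x), ξ ∈ U ∧ q = primeOf hξ}, ∃ s ∉ q,
      s * a ∈ stalkIdeal (D.map U.ι) x) → a ∈ stalkIdeal (D.map U.ι) x := by
    intro a ha
    apply mem_stalkIdeal_map_of_forall U D x a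
    intro ξ hξ hξU
    obtain ⟨s, hsq, hsa⟩ := ha (primeOf hξ) ⟨ξ, hξ, hξU, rfl⟩
    have hu : IsUnit ((X.presheaf.stalkSpecializes hξ).hom s) := by
      by_contra hnu
      apply hsq
      show s ∈ Ideal.comap _ _
      rw [Ideal.mem_comap]
      exact (IsLocalRing.mem_maximalIdeal _).mpr hnu
    have h3 : (X.presheaf.stalkSpecializes hξ).hom (s * a) ∈ stalkIdeal (D.map U.ι) ξ := by
      rw [← map_stalkSpecializes _ hξ]
      exact Ideal.mem_map_of_mem _ hsa
    rw [map_mul] at h3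
    exact (Ideal.unit_mul_mem_iff_mem _ hu).mp h3
  obtain ⟨g, hg⟩ := exists_span_singleton_eq_of_ufd (stalkIdeal (D.map U.ι) x) _ H0 H1 H2
  refine ⟨g, ?_, hg⟩
  apply mem_nonZeroDivisors_of_ne_zero
  rintro rfl
  exact hI (hg.trans (Ideal.span_singleton_eq_bot.mpr rfl))

end Groth.Agent.Lib.Helper91.CartierExt
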