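import Mathlib
import Groth.Prelude.Def_CAlg
import Groth.Agent.Lib.Helper91.HartogsSch5
import Groth.Agent.Lib.Helper49.Serre4

/-!
# Algebraic Hartogs relative to an open subset
-/

set_option autoImplicit false
universe u

open CategoryTheory AlgebraicGeometry TopologicalSpace Opposite

namespace Groth.Agent.Lib.Helper91.Hartogs

variable {X : Scheme.{u}}

/-- the depth of the local ring of an open subscheme -/
theorem depth_stalk_opens [IsLocallyNoetherian X] (W : X.Opens) (x : W) :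
    LocCoh.depth (W.toScheme.presheaf.stalk x) (W.toScheme.presheaf.stalk x) =
      LocCoh.depth (X.presheaf.stalk x.1) (X.presheaf.stalk x.1) :=
  Groth.Agent.Lib.Helper49.Serre.depth_eq_of_ringEquiv
    (W.stalkIso x).commRingCatIsoToRingEquiv

/-- **Hartogs on an open subset**: morphisms to an affine scheme extend uniquely over points of
depth `≥ 2` -/
theorem existsUnique_extension_opens [IsLocallyNoetherian X] {V D : X.Opens} (hDV : D ≤ V)
    (hdepth : ∀ x : X, x ∈ V → x ∉ D →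
      (2 : ℕ∞) ≤ LocCoh.depth (X.presheaf.stalk x) (X.presheaf.stalk x))
    (Y : Scheme.{u}) [IsAffine Y] (f : (D : Scheme.{u}) ⟶ Y) :
    ∃! g : (V : Scheme.{u}) ⟶ Y, X.homOfLE hDV ≫ g = f := by
  have hdepth' : ∀ x : V.toScheme, x ∉ V.ι ⁻¹ᵁ D →
      (2 : ℕ∞) ≤ LocCoh.depth (V.toScheme.presheaf.stalk x) (V.toScheme.presheaf.stalk x) := by
    intro x hx
    rw [depth_stalk_opens V x]
    exact hdepth x.1 x.2 hx
  have hfac : X.homOfLE hDV = (Scheme.Opens.isoOfLE hDV).inv ≫ (V.ι ⁻¹ᵁ D).ι := by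
    rw [← cancel_mono V.ι, Scheme.homOfLE_ι, Category.assoc, Scheme.Opens.isoOfLE_inv_ι]
  obtain ⟨g, hg, huniq⟩ := existsUnique_extension (V.ι ⁻¹ᵁ D) hdepth' Y
    ((Scheme.Opens.isoOfLE hDV).hom ≫ f)
  refine ⟨g, ?_, ?_⟩
  · show X.homOfLE hDV ≫ g = f
    rw [hfac, Category.assoc, hg, Iso.inv_hom_id_assoc]
  · intro g' hg'
    apply huniq
    show (V.ι ⁻¹ᵁ D).ι ≫ g' = (Scheme.Opens.isoOfLE hDV).hom ≫ f
    rw [← hg', hfac, Category.assoc, Iso.hom_inv_id_assoc]

end Groth.Agent.Lib.Helper91.Hartogs
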