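import Mathlib
import Groth.Agent.Lib.Helper91.HartogsOpen
import Groth.Agent.Lib.Helper91.MaxPoint
import Groth.Agent.Lib.Helper49.Serre3

/-!
# Complements of dense open subsets whose intersections with affines are affine
-/

set_option autoImplicit false
universe u

open CategoryTheory AlgebraicGeometry TopologicalSpace Opposite

namespace Groth.Agent.Lib.Helper91.ComplCartier

variable {X : Scheme.{u}}

/-- the ideal sheaf of the complement of an open subset, with its reduced structure -/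
noncomputable def complIdeal (U : X.Opens) : X.IdealSheafData :=
  Scheme.IdealSheafData.vanishingIdeal ⟨(U : Set X)ᶜ, U.isOpen.isClosed_compl⟩

theorem mem_support_complIdeal (U : X.Opens) (x : X) :
    x ∈ (complIdeal U).support ↔ x ∉ U := by
  unfold complIdeal
  rw [← SetLike.mem_coe, Scheme.IdealSheafData.coe_support_vanishingIdeal]
  rfl

theorem coe_support_complIdeal (U : X.Opens) :
    ((complIdeal U).support : Set X) = (U : Set X)ᶜ := by
  unfold complIdeal
  rw [Scheme.IdealSheafData.coe_support_vanishingIdeal]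
  rfl

/-- a point outside a dense open subset of a locally Noetherian scheme has positive codimension -/
theorem ringKrullDim_ne_zero_of_notMem_dense [IsLocallyNoetherian X] (U : X.Opens)
    (hdense : Dense (U : Set X)) (ξ : X) (hξ : ξ ∉ U) :
    ringKrullDim (X.presheaf.stalk ξ) ≠ 0 := by
  intro h0
  have hcoh : Order.coheight ξ = 0 := by
    have h1 := ringKrullDim_stalk_eq_coheight ξ
    rw [h0] at h1
    exact_mod_cast h1.symm
  have hmaxξ : IsMax ξ := Order.coheight_eq_zero.mp hcoh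
  have hgen : ∀ y ∈ ((⊥ : X.IdealSheafData).support : Set X), y ⤳ ξ → y = ξ := by
    intro y _ hy
    have h1 : ξ ≤ y := hy
    have h2 : y ≤ ξ := hmaxξ h1
    exact (hy.antisymm h2).eq
  have hξs : ξ ∈ (⊥ : X.IdealSheafData).support := by
    rw [Scheme.IdealSheafData.support_bot]; trivial
  obtain ⟨W, -, hξW, hW⟩ :=
    Groth.Agent.Lib.Helper91.MaxPoint.exists_affine_nhd_of_maximal ⊥ ξ hξs hgen
  obtain ⟨x, hxW, hxD⟩ := hdense.inter_open_nonempty W W.isOpen ⟨ξ, hξW⟩
  have hsp : ξ ⤳ x := hW x hxW (by rw [Scheme.IdealSheafData.support_bot]; trivial)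
  exact hξ (hsp.mem_open U.isOpen hxD)

theorem ringKrullDim_eq_one_of_ne_zero_of_not_two_le (ξ : X)
    (hne0 : ringKrullDim (X.presheaf.stalk ξ) ≠ 0)
    (hnot2 : ¬ (2 : WithBot ℕ∞) ≤ ringKrullDim (X.presheaf.stalk ξ)) :
    ringKrullDim (X.presheaf.stalk ξ) = 1 := by
  have h1 := ringKrullDim_stalk_eq_coheight ξ
  rw [h1] at hne0 hnot2 ⊢
  have hne0' : Order.coheight ξ ≠ 0 := by
    intro h; apply hne0; rw [h]; rfl
  have hlt : Order.coheight ξ < 2 := by
    rw [← not_le]
    intro h; apply hnot2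
    have h3 : ((2 : ℕ∞) : WithBot ℕ∞) ≤ ((Order.coheight ξ : ℕ∞) : WithBot ℕ∞) :=
      WithBot.coe_le_coe.mpr h
    exact h3
  have : Order.coheight ξ = 1 := by
    have htop : Order.coheight ξ ≠ ⊤ := ne_top_of_lt hlt
    lift Order.coheight ξ to ℕ using htop with n
    have h3 : n < 2 := by exact_mod_cast hlt
    have h4 : n ≠ 0 := by exact_mod_cast hne0'
    have : n = 1 := by omega
    rw [this]; rfl
  rw [this]; rfl

theorem two_le_ringKrullDim_of_specializes {ξ x : X} (h : ξ ⤳ x)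
    (hdim2 : (2 : WithBot ℕ∞) ≤ ringKrullDim (X.presheaf.stalk ξ)) :
    (2 : WithBot ℕ∞) ≤ ringKrullDim (X.presheaf.stalk x) := by
  refine hdim2.trans ?_
  rw [Groth.Agent.Lib.Helper91.GenPrime.ringKrullDim_stalk_eq_height h]
  exact Ideal.height_le_ringKrullDim_of_ne_top Ideal.IsPrime.ne_top'

/-- **codimension one**: maximal points of the complement of a dense open `U` such that `W ∩ U` is
affine for affine `W`, at which the scheme is normal, have codimension one -/
theorem ringKrullDim_eq_one_of_maximal_compl [IsLocallyNoetherian X] (U : X.Opens)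
    (hdense : Dense (U : Set X))
    (haff : ∀ W : X.Opens, IsAffineOpen W → IsAffineOpen (W ⊓ U))
    (hnormal : ∀ x : X, x ∉ U →
      IsDomain (X.presheaf.stalk x) ∧ IsIntegrallyClosed (X.presheaf.stalk x))
    (ξ : X) (hξ : ξ ∉ U) (hmax : ∀ η : X, η ∉ U → η ⤳ ξ → η = ξ) :
    ringKrullDim (X.presheaf.stalk ξ) = 1 := by
  apply ringKrullDim_eq_one_of_ne_zero_of_not_two_le ξ
    (ringKrullDim_ne_zero_of_notMem_dense U hdense ξ hξ)
  intro hdim2
  obtain ⟨W, hWaff, hξW, hW⟩ :=
    Groth.Agent.Lib.Helper91.MaxPoint.exists_affine_nhd_of_maximal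
      (complIdeal U) ξ ((mem_support_complIdeal U ξ).mpr hξ)
      (fun y hy hyξ => hmax y ((mem_support_complIdeal U y).mp hy) hyξ)
  have hle : W ⊓ U ≤ W := inf_le_left
  have hdepth : ∀ x : X, x ∈ W → x ∉ W ⊓ U →
      (2 : ℕ∞) ≤ LocCoh.depth (X.presheaf.stalk x) (X.presheaf.stalk x) := by
    intro x hxW hxWU
    have hxU : x ∉ U := fun h => hxWU ⟨hxW, h⟩
    have hsp : ξ ⤳ x := hW x hxW ((mem_support_complIdeal U x).mpr hxU)
    have hdimx := two_le_ringKrullDim_of_specializes hsp hdim2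
    obtain ⟨hdom, hic⟩ := hnormal x hxU
    have h2 := Groth.Agent.Lib.Helper49.Serre.min_two_le_depth_of_isIntegrallyClosed
      (R := X.presheaf.stalk x)
    rw [min_eq_left hdimx] at h2
    have h3 : ((2 : ℕ∞) : WithBot ℕ∞) ≤
        ((LocCoh.depth (X.presheaf.stalk x) (X.presheaf.stalk x) : ℕ∞) : WithBot ℕ∞) := h2
    exact WithBot.coe_le_coe.mp h3
  haveI : IsAffine (W ⊓ U).toScheme := haff W hWaff
  haveI : IsAffine W.toScheme := hWaff
  obtain ⟨g, hg, -⟩ := Groth.Agent.Lib.Helper91.Hartogs.existsUnique_extension_opens hle hdepth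
    (W ⊓ U).toScheme (𝟙 _)
  obtain ⟨g', -, huniq⟩ := Groth.Agent.Lib.Helper91.Hartogs.existsUnique_extension_opens hle hdepth
    W.toScheme (X.homOfLE hle)
  have h1 : g ≫ X.homOfLE hle = g' :=
    huniq _ (by
      show X.homOfLE hle ≫ g ≫ X.homOfLE hle = X.homOfLE hle
      rw [← Category.assoc, hg, Category.id_comp])
  have h2 : 𝟙 _ = g' := huniq _ (Category.comp_id _)
  have h3 : g ≫ X.homOfLE hle = 𝟙 _ := h1.trans h2.symm
  have h4 : (g ≫ X.homOfLE hle) ⟨ξ, hξW⟩ = (⟨ξ, hξW⟩ : W.toScheme) := by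
    rw [h3]; rfl
  rw [Scheme.Hom.comp_apply] at h4
  have h5 : ((X.homOfLE hle) (g ⟨ξ, hξW⟩)).1 = ξ := congrArg Subtype.val h4
  have h6 : ((X.homOfLE hle) (g ⟨ξ, hξW⟩)).1 = (g ⟨ξ, hξW⟩).1 := by
    have := Scheme.homOfLE_apply' (X := X) hle (g ⟨ξ, hξW⟩).1 (g ⟨ξ, hξW⟩).2
    exact congrArg Subtype.val this
  have h7 : ξ ∈ W ⊓ U := by
    rw [← h5, h6]; exact (g ⟨ξ, hξW⟩).2
  exact hξ h7.2

end Groth.Agent.Lib.Helper91.ComplCartier
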