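import Mathlib

/-!
# Radical ideals of pure height one in a Noetherian UFD are principal
-/

set_option autoImplicit false

namespace Groth.Agent.Lib.Helper91.UFDRadical

variable {R : Type*} [CommRing R] [IsDomain R] [IsNoetherianRing R] [UniqueFactorizationMonoid R]

theorem eq_of_le_of_height_eq_one {P Q : Ideal R} [P.IsPrime] [Q.IsPrime] (hP : P.height = 1)
    (hQ : Q.height = 1) (h : Q ≤ P) : Q = P := by
  by_contra hne
  have hlt : Q < P := lt_of_le_of_ne h hne
  have := Ideal.height_strict_mono_of_isPrime_of_isPrime hlt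
  rw [hP, hQ] at this
  exact lt_irrefl _ this

theorem exists_span_eq_inf (s : Finset (Ideal R))
    (hs : ∀ P ∈ s, P.IsPrime ∧ P.height = 1) :
    ∃ t : R, t ≠ 0 ∧ s.inf id = Ideal.span {t} := by
  classical
  induction s using Finset.induction_on with
  | empty => exact ⟨1, one_ne_zero, by simp⟩
  | insert P s hPs ih =>
    obtain ⟨t, ht0, ht⟩ := ih (fun Q hQ => hs Q (Finset.mem_insert_of_mem hQ))
    obtain ⟨hPprime, hPht⟩ := hs P (Finset.mem_insert_self P s)
    obtain ⟨π, hπ⟩ := (UniqueFactorizationMonoid.isPrincipal_of_height_eq_one hPht).principal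
    have hπ' : P = Ideal.span {π} := hπ
    have hπ0 : π ≠ 0 := by
      rintro rfl
      apply Ideal.ne_bot_of_height_eq_one hPht
      rw [hπ']; simp
    have hπprime : Prime π := by
      rw [← Ideal.span_singleton_prime hπ0, ← hπ']
      exact hPprime
    have hndvd : ¬ π ∣ t := by
      intro hdvd
      have htP : t ∈ P := by
        rw [hπ', Ideal.mem_span_singleton]; exact hdvd
      have hle : s.inf id ≤ P := by
        rw [ht, Ideal.span_singleton_le_iff_mem]; exact htP
      rw [Ideal.IsPrime.inf_le' hPprime] at hle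
      obtain ⟨Q, hQs, hQP⟩ := hle
      obtain ⟨hQprime, hQht⟩ := hs Q (Finset.mem_insert_of_mem hQs)
      have : Q = P := eq_of_le_of_height_eq_one hPht hQht hQP
      exact hPs (this ▸ hQs)
    refine ⟨π * t, mul_ne_zero hπ0 ht0, ?_⟩
    rw [Finset.inf_insert, ht, id, hπ']
    apply le_antisymm
    · intro x hx
      obtain ⟨hx1, hx2⟩ := hx
      rw [SetLike.mem_coe, Ideal.mem_span_singleton] at hx1 hx2
      rw [Ideal.mem_span_singleton]
      obtain ⟨y, rfl⟩ := hx2
      rcases hπprime.dvd_or_dvd hx1 with h | h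
      · exact absurd h hndvd
      · obtain ⟨z, rfl⟩ := h
        exact ⟨z, by ring⟩
    · rw [Ideal.span_singleton_le_iff_mem]
      refine ⟨?_, ?_⟩
      · rw [SetLike.mem_coe, Ideal.mem_span_singleton]; exact dvd_mul_right π t
      · rw [SetLike.mem_coe, Ideal.mem_span_singleton]; exact dvd_mul_left t π

/-- a radical ideal all of whose minimal primes have height one is principal, in a Noetherian UFD -/
theorem exists_span_eq_of_isRadical (J : Ideal R) (hJ : J.IsRadical)
    (hmin : ∀ P ∈ J.minimalPrimes, P.height = 1) :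
    ∃ t : R, t ≠ 0 ∧ J = Ideal.span {t} := by
  classical
  have hfin := Ideal.finite_minimalPrimes_of_isNoetherianRing R J
  obtain ⟨t, ht0, ht⟩ := exists_span_eq_inf hfin.toFinset (by
    intro P hP
    rw [Set.Finite.mem_toFinset] at hP
    exact ⟨hP.1.1, hmin P hP⟩)
  refine ⟨t, ht0, ?_⟩
  rw [← ht]
  have h1 : J = sInf J.minimalPrimes := by
    rw [Ideal.sInf_minimalPrimes, hJ.radical]
  have h2 : hfin.toFinset.inf id = sInf J.minimalPrimes := by
    rw [Finset.inf_id_eq_sInf]
    congr 1
    ext P
    simp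
  rw [h2]
  exact h1
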