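import Mathlib
import Groth.Agent.Lib.Helper91.ComplCartier
import Groth.Agent.Lib.Helper91.UFDRadical
import Groth.Agent.S1570

/-!
# The complement of a dense open subset with affine intersections is an effective Cartier divisor
when the ambient scheme is factorial along it
-/

set_option autoImplicit false
universe u

open CategoryTheory AlgebraicGeometry TopologicalSpace Opposite

namespace Groth.Agent.Lib.Helper91.ComplCartier

variable {X : Scheme.{u}}

theorem isEffCartierIdeal_complIdeal [IsLocallyNoetherian X] (U : X.Opens)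
    (hdense : Dense (U : Set X))
    (haff : ∀ W : X.Opens, IsAffineOpen W → IsAffineOpen (W ⊓ U))
    (hufd : ∀ x : X, x ∉ U →
      IsDomain (X.presheaf.stalk x) ∧ UniqueFactorizationMonoid (X.presheaf.stalk x)) :
    BlowUp.IsEffCartierIdeal (complIdeal U) := by
  have hnormal : ∀ x : X, x ∉ U →
      IsDomain (X.presheaf.stalk x) ∧ IsIntegrallyClosed (X.presheaf.stalk x) := by
    intro x hx
    obtain ⟨hdom, hu⟩ := hufd x hx
    exact ⟨hdom, inferInstance⟩
  apply Groth.Agent.S1570.result
  intro x hx W hxW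
  have hxU := (mem_support_complIdeal U x).mp hx
  obtain ⟨hdom, hufdx⟩ := hufd x hxU
  letI ax : Algebra Γ(X, W.1) (X.presheaf.stalk x) :=
    TopCat.Presheaf.algebra_section_stalk X.presheaf ⟨x, hxW⟩
  haveI lx : IsLocalization.AtPrime (X.presheaf.stalk x) (W.2.primeIdealOf ⟨x, hxW⟩).asIdeal :=
    W.2.isLocalization_stalk ⟨x, hxW⟩
  have hIrad : ((complIdeal U).ideal W).IsRadical := by
    unfold complIdeal
    rw [Scheme.IdealSheafData.vanishingIdeal_ideal]
    exact PrimeSpectrum.isRadical_vanishingIdeal _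
  have hJrad : (((complIdeal U).ideal W).map
      (algebraMap Γ(X, W.1) (X.presheaf.stalk x))).IsRadical := by
    have h1 := IsLocalization.map_radical (W.2.primeIdealOf ⟨x, hxW⟩).asIdeal.primeCompl
      (S := X.presheaf.stalk x) ((complIdeal U).ideal W)
    rw [hIrad.radical] at h1
    rw [← Ideal.radical_eq_iff]
    exact h1.symm
  have hmin : ∀ P ∈ (((complIdeal U).ideal W).map
      (algebraMap Γ(X, W.1) (X.presheaf.stalk x))).minimalPrimes, P.height = 1 := by
    intro P hP
    rw [IsLocalization.minimalPrimes_map (W.2.primeIdealOf ⟨x, hxW⟩).asIdeal.primeCompl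
      (X.presheaf.stalk x) ((complIdeal U).ideal W)] at hP
    have hQ : P.under Γ(X, W.1) ∈ ((complIdeal U).ideal W).minimalPrimes := hP
    have hQprime : (P.under Γ(X, W.1)).IsPrime := hQ.1.1
    set Q := P.under Γ(X, W.1) with hQdef
    set η := W.2.fromSpec ⟨Q, hQprime⟩ with hη
    have hηW : η ∈ W.1 := Groth.Agent.Lib.Helper70.fromSpec_mem W.2 _
    have hηq : W.2.primeIdealOf ⟨η, hηW⟩ = ⟨Q, hQprime⟩ :=
      Groth.Agent.Lib.Helper70.primeIdealOf_fromSpec W.2 _
    have hηs : η ∈ (complIdeal U).support := by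
      rw [Groth.Agent.Lib.Helper70.mem_support_iff_le_primeIdealOf (complIdeal U) W η hηW, hηq]
      exact hQ.1.2
    have hηmax : ∀ y : X, y ∉ U → y ⤳ η → y = η := by
      intro y hyU hyη
      have hyW : y ∈ W.1 := hyη.mem_open W.1.isOpen hηW
      have hle := (Groth.Agent.Lib.Helper91.GenPrime.specializes_iff_primeIdealOf_le W.2 hyW hηW).mp
        hyη
      rw [hηq] at hle
      have hIy := (Groth.Agent.Lib.Helper70.mem_support_iff_le_primeIdealOf (complIdeal U) W y
        hyW).mp ((mem_support_complIdeal U y).mpr hyU)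
      have hQle := hQ.2 ⟨(W.2.primeIdealOf ⟨y, hyW⟩).isPrime, hIy⟩ hle
      have heq : W.2.primeIdealOf ⟨y, hyW⟩ = ⟨Q, hQprime⟩ :=
        PrimeSpectrum.ext (le_antisymm hle hQle)
      have h1 := W.2.fromSpec_primeIdealOf ⟨y, hyW⟩
      rw [heq] at h1
      exact h1.symm
    have hdimη := ringKrullDim_eq_one_of_maximal_compl U hdense haff hnormal η
      ((mem_support_complIdeal U η).mp hηs) hηmax
    have h2 := Groth.Agent.Lib.Helper70.ringKrullDim_stalk_eq_height W.2 η hηW
    rw [hηq, hdimη] at h2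
    have h3 : Q.height = 1 := by exact_mod_cast h2.symm
    rw [← IsLocalization.height_under (W.2.primeIdealOf ⟨x, hxW⟩).asIdeal.primeCompl P]
    exact h3
  obtain ⟨t, ht0, ht⟩ := Groth.Agent.Lib.Helper91.UFDRadical.exists_span_eq_of_isRadical _ hJrad hmin
  exact ⟨t, mem_nonZeroDivisors_of_ne_zero ht0, ht⟩

end Groth.Agent.Lib.Helper91.ComplCartier
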