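import Mathlib
import Groth.Agent.Lib.Helper21.HypersurfaceTd

/-!
# Krull's height theorem in transcendence-degree form, for sections over an open subset
-/

set_option autoImplicit false
set_option linter.style.haveILetI false
universe u

open CategoryTheory CategoryTheory.Limits AlgebraicGeometry TopologicalSpace

namespace Groth.Agent.Lib.Helper91.ProperInt

open Groth.Agent.Lib.Helper21.FieldDim Groth.Agent.Lib.Helper73 Groth.Agent.Lib.Helper73.SchemeDim

variable {X : Scheme.{u}}

/-- the point of `Spec O_{X,y}` given by a prime `Q` lies in `D(g)` iff the germ of `g` is not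
in `Q` -/
theorem fromSpecStalk_mem_basicOpen_iff (V : X.Opens) (g : Γ(X, V)) (y : X) (hy : y ∈ V)
    (Q : PrimeSpectrum (X.presheaf.stalk y)) :
    (X.fromSpecStalk y).base Q ∈ X.basicOpen g ↔ X.presheaf.germ V y hy g ∉ Q.asIdeal := by
  set z : X := (X.fromSpecStalk y).base Q with hz
  have h : z ⤳ y := fromSpecStalk_specializes y Q
  have hzV : z ∈ V := h.mem_open V.2 hy
  set φ := X.presheaf.stalkSpecializes h with hφ
  have hQ : Q = PrimeSpectrum.comap φ.hom (IsLocalRing.closedPoint (X.presheaf.stalk z)) := by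
    apply (X.fromSpecStalk y).isEmbedding.injective
    have h1 := Scheme.SpecMap_stalkSpecializes_fromSpecStalk h
    have h2 := congrArg (fun ψ => ψ.base (IsLocalRing.closedPoint (X.presheaf.stalk z))) h1
    have h3 : (X.fromSpecStalk z).base (IsLocalRing.closedPoint (X.presheaf.stalk z)) = z :=
      Scheme.fromSpecStalk_closedPoint
    exact (h2.trans h3).symm
  have hgerm : X.presheaf.germ V z hzV g = φ.hom (X.presheaf.germ V y hy g) := by
    have := TopCat.Presheaf.germ_stalkSpecializes X.presheaf (U := V) (y := y) hy h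
    rw [← this]
    rfl
  rw [Scheme.mem_basicOpen _ _ _ hzV, hgerm]
  conv_rhs => rw [hQ]
  change _ ↔ ¬ (φ.hom _ ∈ IsLocalRing.maximalIdeal _)
  rw [IsLocalRing.mem_maximalIdeal, mem_nonunits_iff, not_not]

variable {k : Type u} [Field k] (p : X ⟶ Spec (CommRingCat.of k)) [LocallyOfFiniteType p]

/-- Krull's principal ideal theorem, `td` form, for a section over an open -/
theorem exists_immediate (V : X.Opens) (g : Γ(X, V)) {ξ y : X} (hξy : ξ ⤳ y) (hy : y ∈ V)
    (hξ : ξ ∈ X.basicOpen g) (hyg : y ∉ X.basicOpen g) :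
    ∃ w : X, w ∉ X.basicOpen g ∧ ξ ⤳ w ∧ w ⤳ y ∧ td p ξ = td p w + 1 := by
  haveI : IsLocallyNoetherian X := LocallyOfFiniteType.isLocallyNoetherian p
  obtain ⟨P', hP'⟩ := exists_fromSpecStalk_eq hξy
  set a : X.presheaf.stalk y := X.presheaf.germ V y hy g with ha
  have hmem : ∀ Q : PrimeSpectrum (X.presheaf.stalk y),
      (X.fromSpecStalk y).base Q ∉ X.basicOpen g ↔ a ∈ Q.asIdeal := fun Q => by
    rw [fromSpecStalk_mem_basicOpen_iff V g y hy Q, not_not]
  have ham : a ∈ IsLocalRing.maximalIdeal (X.presheaf.stalk y) := by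
    have h1 := (hmem (IsLocalRing.closedPoint (X.presheaf.stalk y))).mp (by
      rw [Scheme.fromSpecStalk_closedPoint]
      exact hyg)
    exact h1
  have hIle : P'.asIdeal ⊔ Ideal.span {a} ≤ IsLocalRing.maximalIdeal (X.presheaf.stalk y) := by
    refine sup_le (IsLocalRing.le_maximalIdeal P'.2.ne_top) ?_
    rw [Ideal.span_le]
    exact Set.singleton_subset_iff.mpr ham
  obtain ⟨Q, hQ, -⟩ := Ideal.exists_minimalPrimes_le hIle
  haveI hQp : Q.IsPrime := hQ.1.1
  let Q' : PrimeSpectrum (X.presheaf.stalk y) := ⟨Q, hQp⟩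
  have haQ : a ∈ Q := hQ.1.2 (Ideal.mem_sup_right (Ideal.subset_span rfl))
  have hP'Q : P' ≤ Q' := fun r hr => hQ.1.2 (Ideal.mem_sup_left hr)
  set w : X := (X.fromSpecStalk y).base Q' with hw
  have hwY : w ∉ X.basicOpen g := (hmem Q').mpr haQ
  have hξw : ξ ⤳ w := by
    rw [← hP']
    exact (fromSpecStalk_specializes_iff y P' Q').mpr hP'Q
  have hne : ξ ≠ w := fun h => hwY (h ▸ hξ)
  refine ⟨w, hwY, hξw, fromSpecStalk_specializes y Q', td_eq_succ_of_immediate p hξw hne ?_⟩
  intro z hξz hzw
  obtain ⟨P, hP⟩ := exists_fromSpecStalk_eq (hzw.trans (fromSpecStalk_specializes y Q'))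
  have h1 : P' ≤ P := by
    rw [← fromSpecStalk_specializes_iff y, hP', hP]
    exact hξz
  have h2 : P ≤ Q' := by
    rw [← fromSpecStalk_specializes_iff y, hP]
    exact hzw
  by_cases e1 : P' = P
  · left
    rw [← hP, ← e1, hP']
  · by_cases e2 : P = Q'
    · right
      rw [← hP, e2]
    · exfalso
      have h1' : P'.asIdeal < P.asIdeal := lt_of_le_of_ne h1 (fun h => e1 (PrimeSpectrum.ext h))
      have h2' : P.asIdeal < Q := lt_of_le_of_ne h2 (fun h => e2 (PrimeSpectrum.ext h))
      haveI := P'.2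
      haveI := P.2
      exact Groth.Agent.Lib.Helper73.DimFormula.not_lt_lt_of_mem_minimalPrimes_sup_span
        P'.asIdeal a Q hQ P.asIdeal h1' h2'

/-- Krull's height theorem, `td` form -/
theorem td_le_add_length (V : X.Opens) : ∀ (gs : List Γ(X, V)) {ξ η : X}, ξ ⤳ η → η ∈ V →
    (∀ g ∈ gs, η ∉ X.basicOpen g) →
    (∀ z : X, ξ ⤳ z → z ⤳ η → (∀ g ∈ gs, z ∉ X.basicOpen g) → z = η) →
    td p ξ ≤ td p η + gs.length
  | [], ξ, η, hξη, _, _, hmax => by
    have : ξ = η := hmax ξ specializes_rfl hξη (by simp)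
    rw [this]; simp
  | g :: gs, ξ, η, hξη, hηV, hη, hmax => by
    by_cases hξg : ξ ∈ X.basicOpen g
    · obtain ⟨w, hwg, hξw, hwη, htd⟩ := exists_immediate p V g hξη hηV hξg
        (hη g List.mem_cons_self)
      have := td_le_add_length V gs hwη hηV (fun g' hg' => hη g' (List.mem_cons_of_mem _ hg'))
        (fun z hwz hzη hz => hmax z (hξw.trans hwz) hzη (by
          intro g' hg'
          rcases List.mem_cons.mp hg' with rfl | h
          · exact fun hzg => hwg (hwz.mem_open (X.basicOpen g').2 hzg)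
          · exact hz g' h))
      rw [List.length_cons]
      omega
    · have := td_le_add_length V gs hξη hηV (fun g' hg' => hη g' (List.mem_cons_of_mem _ hg'))
        (fun z hξz hzη hz => hmax z hξz hzη (by
          intro g' hg'
          rcases List.mem_cons.mp hg' with rfl | h
          · exact fun hzg => hξg (hξz.mem_open (X.basicOpen g').2 hzg)
          · exact hz g' h))
      rw [List.length_cons]
      omega

end Groth.Agent.Lib.Helper91.ProperInt
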