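import Mathlib
import Groth.Prelude.Def_RegImm
import Groth.Agent.Lib.Helper91.ImmStalk
import Groth.Agent.Lib.Helper91.KRegIdeal1

/-!
# The range of an immersion on a closed-immersion chart is the zero locus of the kernel
-/

set_option autoImplicit false
set_option linter.style.haveILetI false
universe u

open CategoryTheory CategoryTheory.Limits AlgebraicGeometry TopologicalSpace

namespace Groth.Agent.Lib.Helper91.ProperInt

open Groth.Agent.Lib.Helper91 Groth.Agent.Lib.Helper91.KRegIdeal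

variable {W X : Scheme.{u}}

theorem mem_range_iff_of_chart (ι : W ⟶ X) (U : X.affineOpens) [IsClosedImmersion (ι ∣_ U.1)]
    (rs : List Γ(X, U.1)) (hker : RingHom.ker (ι.app U.1).hom = Ideal.ofList rs)
    (x : X) (hx : x ∈ U.1) :
    x ∈ Set.range ι ↔ ∀ r ∈ rs, x ∉ X.basicOpen r := by
  constructor
  · rintro ⟨w, rfl⟩ r hr hmem
    have hrk : r ∈ RingHom.ker (ι.app U.1).hom := by
      rw [hker]; exact Ideal.subset_span hr
    have h2 : w ∈ ι ⁻¹ᵁ X.basicOpen r := hmem
    rw [Scheme.preimage_basicOpen, (RingHom.mem_ker.mp hrk : (ι.app U.1).hom r = 0)] at h2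
    simp at h2
  · intro h
    set 𝔭 := U.2.primeIdealOf ⟨x, hx⟩ with h𝔭
    have hle : RingHom.ker (ι.app U.1).hom ≤ 𝔭.asIdeal := by
      rw [hker]
      refine Ideal.span_le.mpr ?_
      intro r hr
      by_contra hcon
      have h1 : x ∈ X.basicOpen r := by
        have := (fromSpec_mem_basicOpen_iff U.2 𝔭 r).mpr hcon
        rwa [U.2.fromSpec_primeIdealOf] at this
      exact h r hr h1
    have hV : IsAffineOpen (ι ⁻¹ᵁ U.1) := ImmStalk.isAffineOpen_preimage_of_restrict ι U
    have hsurj : Function.Surjective (ι.app U.1).hom := ImmStalk.app_surjective_of_restrict ι U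
    haveI h𝔮 : (𝔭.asIdeal.map (ι.app U.1).hom).IsPrime :=
      Ideal.map_isPrime_of_surjective hsurj hle
    let 𝔮 : PrimeSpectrum Γ(W, ι ⁻¹ᵁ U.1) := ⟨𝔭.asIdeal.map (ι.app U.1).hom, h𝔮⟩
    have hcomap : PrimeSpectrum.comap (ι.app U.1).hom 𝔮 = 𝔭 := by
      apply PrimeSpectrum.ext
      show (𝔭.asIdeal.map (ι.app U.1).hom).comap (ι.app U.1).hom = 𝔭.asIdeal
      rw [Ideal.comap_map_of_surjective' _ hsurj, sup_eq_left]
      exact hle
    refine ⟨hV.fromSpec 𝔮, ?_⟩
    have h1 := IsAffineOpen.SpecMap_appLE_fromSpec ι U.2 hV le_rfl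
    have h2 := congrArg (fun ψ => ψ.base 𝔮) h1
    simp only [Scheme.Hom.comp_base, TopCat.hom_comp, ContinuousMap.comp_apply] at h2
    rw [← Scheme.Hom.app_eq_appLE] at h2
    have h3 : (Spec.map (ι.app U.1)).base 𝔮 = 𝔭 := hcomap
    rw [h3, U.2.fromSpec_primeIdealOf] at h2
    exact h2.symm

end Groth.Agent.Lib.Helper91.ProperInt
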