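import Mathlib
import Groth.Prelude.Def_RegImm
import Groth.Agent.Lib.Helper91.ProperInt1
import Groth.Agent.Lib.Helper91.ProperInt2
import Groth.Agent.Lib.Helper21.FieldDimBC

/-!
# Proper intersection with a regular immersion, dimension form
-/

set_option autoImplicit false
set_option linter.style.haveILetI false
universe u

open CategoryTheory CategoryTheory.Limits AlgebraicGeometry TopologicalSpace
open scoped Set.Notation

namespace Groth.Agent.Lib.Helper91.ProperInt

open Groth.Agent.Lib.Helper21.FieldDim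

section top

variable {A : Type*} [TopologicalSpace A]

theorem quasiSober_of_isLocallyClosed [QuasiSober A] (S : Set A) (hS : IsLocallyClosed S) :
    QuasiSober ↥S := by
  obtain ⟨U, C, hU, hC, rfl⟩ := hS
  haveI : QuasiSober ↥U := hU.isOpenEmbedding_subtypeVal.quasiSober
  have hcl : IsClosed (U ↓∩ (U ∩ C)) := by
    have : (U ↓∩ (U ∩ C)) = Subtype.val ⁻¹' C := by
      ext a
      simp only [Set.mem_preimage, Set.mem_inter_iff]
      exact ⟨fun h => h.2, fun h => ⟨a.2, h⟩⟩
    rw [this]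
    exact hC.preimage continuous_subtype_val
  exact (Topology.IsClosedEmbedding.inclusion Set.inter_subset_left hcl).quasiSober

end top

variable {k : Type u} [Field k] {C X W : Scheme.{u}}

/-- the pointwise Krull bound -/
theorem td_gen_le (p : C ⟶ Spec (CommRingCat.of k)) [LocallyOfFiniteType p]
    (π : C ⟶ X) (ι : W ⟶ X) (κ : RegImm.Kind) (c : ℕ)
    (hι : RegImm.IsRegularImmersionOfCodim κ c ι) {ξ η : C} (hξη : ξ ⤳ η)
    (hη : π η ∈ Set.range ι)
    (hmax : ∀ z : C, ξ ⤳ z → z ⤳ η → π z ∈ Set.range ι → z = η) :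
    td p ξ ≤ td p η + c := by
  obtain ⟨w, hw⟩ := hη
  obtain ⟨U, hwU, hcl, rs, hlen, -, hker⟩ := hι.2 w
  haveI := hcl
  have hηV : η ∈ π ⁻¹ᵁ U.1 := by
    show π η ∈ U.1
    rw [← hw]; exact hwU
  have hiff : ∀ z : C, z ∈ π ⁻¹ᵁ U.1 →
      ((∀ g ∈ rs.map (π.app U.1).hom, z ∉ C.basicOpen g) ↔ π z ∈ Set.range ι) := by
    intro z hz
    rw [mem_range_iff_of_chart ι U rs hker (π z) hz]
    simp only [List.mem_map, forall_exists_index, and_imp, forall_apply_eq_imp_iff₂]
    refine forall₂_congr fun r _ => ?_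
    rw [← Scheme.preimage_basicOpen]
    rfl
  have := td_le_add_length p (π ⁻¹ᵁ U.1) (rs.map (π.app U.1).hom) hξη hηV
    ((hiff η hηV).mpr ⟨w, hw⟩)
    (fun z hξz hzη hz => hmax z hξz hzη ((hiff z (hzη.mem_open (π ⁻¹ᵁ U.1).2 hηV)).mp hz))
  rwa [List.length_map, hlen] at this

variable (p : C ⟶ Spec (CommRingCat.of k)) [LocallyOfFiniteType p]

theorem dim_add_le_iff (S : Set C) (hS : IsLocallyClosed S) (c n : ℕ) :
    topologicalKrullDim ↥S + (c : WithBot ℕ∞) ≤ n ↔ ∀ x ∈ S, td p x + c ≤ n := by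
  constructor
  · intro h x hx
    have h1 := (dim_le_iff_of_isLocallyClosed p S hS _).mp le_rfl x hx
    have h2 : ((td p x : ℕ) : WithBot ℕ∞) + (c : WithBot ℕ∞) ≤ n :=
      (add_le_add h1 le_rfl).trans h
    exact_mod_cast h2
  · intro h
    rcases S.eq_empty_or_nonempty with rfl | ⟨x, hx⟩
    · have h0 : topologicalKrullDim ↥(∅ : Set C) ≤ ⊥ := by
        rw [dim_le_iff_of_isLocallyClosed p ∅ hS]
        intro x hx
        exact absurd hx (Set.notMem_empty x)
      rw [le_bot_iff.mp h0, WithBot.bot_add]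
      exact bot_le
    · have hc : c ≤ n := by have := h x hx; omega
      have h1 : topologicalKrullDim ↥S ≤ ((n - c : ℕ) : WithBot ℕ∞) := by
        rw [dim_le_iff_of_isLocallyClosed p S hS]
        intro y hy
        have := h y hy
        exact_mod_cast (by omega : td p y ≤ n - c)
      calc topologicalKrullDim ↥S + (c : WithBot ℕ∞)
          ≤ ((n - c : ℕ) : WithBot ℕ∞) + (c : WithBot ℕ∞) := add_le_add h1 le_rfl
        _ = n := by
          have : (n - c) + c = n := Nat.sub_add_cancel hc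
          exact_mod_cast congrArg (fun m : ℕ => (m : WithBot ℕ∞)) this

end Groth.Agent.Lib.Helper91.ProperInt
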