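import Mathlib
import Groth.Prelude.Def_RegImm
import Groth.Agent.Lib.Helper91.ProperInt3
import Groth.Agent.Lib.Helper21.FibreTd

/-!
# Semi-proper intersection: dimension of the preimage via the fibre-dimension strata
-/

set_option autoImplicit false
set_option linter.style.haveILetI false
universe u

open CategoryTheory CategoryTheory.Limits AlgebraicGeometry TopologicalSpace
open scoped Set.Notation

namespace Groth.Agent.Lib.Helper91.ProperInt

open Groth.Agent.Lib.Helper21.FieldDim Groth.Agent.Lib.Helper73 Groth.Agent.Lib.Helper73.SchemeDim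

theorem dim_preimage_of_isEmbedding {A B : Type*} [TopologicalSpace A] [TopologicalSpace B]
    (f : A → B) (hf : Topology.IsEmbedding f) (S : Set B) :
    topologicalKrullDim ↥(f ⁻¹' S) = topologicalKrullDim ↥(S ∩ Set.range f) := by
  let j : ↥(f ⁻¹' S) → ↥(S ∩ Set.range f) := fun a => ⟨f a.1, a.2, ⟨a.1, rfl⟩⟩
  have hjc : Continuous j := (hf.continuous.comp continuous_subtype_val).subtype_mk _
  have hemb : Topology.IsEmbedding j := by
    refine Topology.IsEmbedding.of_comp hjc continuous_subtype_val ?_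
    have : (Subtype.val : ↥(S ∩ Set.range f) → B) ∘ j = f ∘ (Subtype.val : ↥(f ⁻¹' S) → A) := rfl
    rw [this]
    exact hf.comp Topology.IsEmbedding.subtypeVal
  have hsurj : Function.Surjective j := by
    rintro ⟨_, hb, ⟨a, rfl⟩⟩
    exact ⟨⟨a, hb⟩, rfl⟩
  exact IsHomeomorph.topologicalKrullDim_eq j
    (isHomeomorph_iff_isEmbedding_surjective.mpr ⟨hemb, hsurj⟩)

variable {k : Type u} [Field k] {C X W : Scheme.{u}}

theorem td_comp (q : X ⟶ Spec (CommRingCat.of k)) (π : C ⟶ X) [LocallyOfFiniteType q]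
    [LocallyOfFiniteType π] (y : C) :
    td (π ≫ q) y = td q (π y) + tdR π y := by
  have h := trdegAt_comp π q y
  rw [trdegAt_eq_td (π ≫ q) y, trdegAt_eq_tdR π y] at h
  have h2 := trdegAt_eq_td q (π y)
  have h3 : ((td (π ≫ q) y : ℕ) : Cardinal.{u}) = ((td q (π y) : ℕ) : Cardinal.{u}) + tdR π y := by
    rw [h, ← h2]
  exact_mod_cast h3

theorem exists_tdR_ge (π : C ⟶ X) [LocallyOfFiniteType π] (x : X) (j : ℕ)
    (h : (j : WithBot ℕ∞) ≤ topologicalKrullDim (π.fiber x)) : ∃ y : C, π y = x ∧ j ≤ tdR π y := by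
  by_contra hcon
  push Not at hcon
  cases j with
  | zero =>
    have h1 : topologicalKrullDim (π.fiber x) ≤ ⊥ := by
      rw [dim_fiber_le_iff]
      intro y hy
      exact absurd (hcon y hy) (by omega)
    rw [le_bot_iff] at h1
    rw [h1] at h
    exact absurd h (by simp)
  | succ j =>
    have h1 : topologicalKrullDim (π.fiber x) ≤ ((j : ℕ) : WithBot ℕ∞) := by
      rw [dim_fiber_le_iff]
      intro y hy
      have := hcon y hy
      exact_mod_cast (by omega : tdR π y ≤ j)
    have h2 := h.trans h1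
    have h3 : j + 1 ≤ j := by exact_mod_cast h2
    omega

theorem main2 (q : X ⟶ Spec (CommRingCat.of k)) (π : C ⟶ X) (ι : W ⟶ X)
    [LocallyOfFiniteType q] [LocallyOfFiniteType π] [IsImmersion ι] (n c : ℕ)
    (hC : ∀ P ∈ irreducibleComponents (C : Type u), topologicalKrullDim P = n)
    (hB : ∀ j : ℕ, IsClosed {x : X | (j : WithBot ℕ∞) ≤ topologicalKrullDim (π.fiber x)}) :
    (∀ j : ℕ, topologicalKrullDim {x : X | (j : WithBot ℕ∞) ≤ topologicalKrullDim (π.fiber x)} +
        (j : WithBot ℕ∞) ≤ n) ∧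
      (topologicalKrullDim (π ⁻¹' Set.range ι : Set C) + (c : WithBot ℕ∞) ≤ n ↔
        ∀ j : ℕ, topologicalKrullDim
          (ι ⁻¹' {x : X | (j : WithBot ℕ∞) ≤ topologicalKrullDim (π.fiber x)} : Set W) +
            (c : WithBot ℕ∞) + (j : WithBot ℕ∞) ≤ n) := by
  have hT : IsLocallyClosed (π ⁻¹' Set.range ι : Set C) :=
    (IsImmersion.isLocallyClosed_range (f := ι)).preimage π.continuous
  have htdn : ∀ y : C, td (π ≫ q) y ≤ n := by
    intro y
    have hP : irreducibleComponent y ∈ irreducibleComponents (C : Type u) :=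
      irreducibleComponent_mem_irreducibleComponents y
    have h1 := (dim_le_iff_of_isLocallyClosed (π ≫ q) (irreducibleComponent y)
      isClosed_irreducibleComponent.isLocallyClosed _).mp le_rfl y mem_irreducibleComponent
    rw [hC _ hP] at h1
    exact_mod_cast h1
  constructor
  · intro j
    rw [dim_add_le_iff q _ (hB j).isLocallyClosed]
    intro x hx
    obtain ⟨y, rfl, hy⟩ := exists_tdR_ge π x j hx
    have h1 := td_comp q π y
    have h2 := htdn y
    omega
  · rw [dim_add_le_iff (π ≫ q) _ hT]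
    have hloc : ∀ j : ℕ, IsLocallyClosed
        ({x : X | (j : WithBot ℕ∞) ≤ topologicalKrullDim (π.fiber x)} ∩ Set.range ι) :=
      fun j => (hB j).isLocallyClosed.inter (IsImmersion.isLocallyClosed_range (f := ι))
    have hrw : ∀ j : ℕ, (topologicalKrullDim
          (ι ⁻¹' {x : X | (j : WithBot ℕ∞) ≤ topologicalKrullDim (π.fiber x)} : Set W) +
            (c : WithBot ℕ∞) + (j : WithBot ℕ∞) ≤ n) ↔
        ∀ x ∈ {x : X | (j : WithBot ℕ∞) ≤ topologicalKrullDim (π.fiber x)} ∩ Set.range ι,
          td q x + (c + j) ≤ n := by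
      intro j
      rw [dim_preimage_of_isEmbedding ι ι.isEmbedding, add_assoc,
        ← dim_add_le_iff q _ (hloc j) (c + j) n]
      push_cast
      rfl
    simp only [hrw]
    constructor
    · intro h j x hx
      obtain ⟨y, rfl, hy⟩ := exists_tdR_ge π x j hx.1
      have h1 := td_comp q π y
      have h2 := h y hx.2
      omega
    · intro h y hy
      have h1 := td_comp q π y
      have h2 := h (tdR π y) (π y) ⟨tdR_le_dim_fiber π y, hy⟩
      omega

end Groth.Agent.Lib.Helper91.ProperInt
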