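import Mathlib
import Groth.Prelude.Def_RegImm
import Groth.Agent.S8656
import Groth.Agent.Lib.Helper9.RootLCI2
import Groth.Agent.Lib.Helper11.RegSeqHeight
import Groth.Agent.Lib.Helper21.EtaleTrdeg
import Groth.Agent.Lib.Helper21.FieldDimStalk
import Groth.Agent.Lib.Helper21.FieldDimBC
import Groth.Agent.Lib.Helper91.ProperInt5
import Groth.Agent.Lib.Helper91.QRegNoeth1
import Groth.Agent.Lib.Helper91.QRegNoeth2

/-!
# The diagonal of a smooth integral scheme of dimension `n` over a field is a regular immersion of
codimension `n`
-/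

set_option autoImplicit false
set_option linter.style.haveILetI false
universe u

open CategoryTheory CategoryTheory.Limits AlgebraicGeometry TopologicalSpace

namespace Groth.Agent.Lib.Helper91.DiagReg

open Groth.Agent.Lib.Helper21.FieldDim Groth.Agent.Lib.Helper91.ProperInt
  Groth.Agent.Lib.Helper91.QRegNoeth

variable {k : Type u} [Field k] {X : Scheme.{u}} (f : X ⟶ Spec (CommRingCat.of k))

theorem td_diag [LocallyOfFiniteType f] (x : X) :
    td (pullback.fst f f ≫ f) (pullback.diagonal f x) = td f x := by
  have h1 := td_comp f (pullback.fst f f) (pullback.diagonal f x)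
  have h2 : (pullback.fst f f) (pullback.diagonal f x) = x := by
    rw [← Scheme.Hom.comp_apply, pullback.diagonal_fst]; rfl
  have h3 : tdR (pullback.fst f f) (pullback.diagonal f x) = 0 := by
    apply tdR_eq_of_trdegAt_eq
    have h4 := trdegAt_comp (pullback.diagonal f) (pullback.fst f f) x
    rw [trdegAt_congr (pullback.diagonal_fst f) x,
      trdegAt_eq_zero_of_locallyQuasiFinite (𝟙 X) x] at h4
    have h5 := h4.symm
    rw [add_eq_zero] at h5
    rw [h5.1]; rfl
  rw [h1, h3, add_zero]
  exact congrArg (td f) h2

end Groth.Agent.Lib.Helper91.DiagReg
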