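import Mathlib
import Groth.Prelude.Def_RegImm
import Groth.Agent.Lib.Helper91.DiagReg1

/-!
# The diagonal of a smooth integral scheme of dimension `n` over a field: charts have length `n`
-/

set_option autoImplicit false
set_option linter.style.haveILetI false
universe u

open CategoryTheory CategoryTheory.Limits AlgebraicGeometry TopologicalSpace

namespace Groth.Agent.Lib.Helper91.DiagReg

open Groth.Agent.Lib.Helper21.FieldDim Groth.Agent.Lib.Helper91.ProperInt
  Groth.Agent.Lib.Helper91.QRegNoeth

variable {k : Type u} [Field k] {X : Scheme.{u}} (f : X ⟶ Spec (CommRingCat.of k))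

theorem length_eq_of_chart [LocallyOfFiniteType f] [IsIntegral X] (n : ℕ)
    (hn : topologicalKrullDim X = n) (U : (pullback f f).affineOpens)
    [IsClosedImmersion (pullback.diagonal f ∣_ U.1)] (rs : List Γ(pullback f f, U.1))
    (hreg : RingTheory.Sequence.IsWeaklyRegular Γ(pullback f f, U.1) rs)
    (hker : RingHom.ker ((pullback.diagonal f).app U.1).hom = Ideal.ofList rs)
    (z : X) (hz : pullback.diagonal f z ∈ U.1) : rs.length = n := by
  set p : pullback f f ⟶ Spec (CommRingCat.of k) := pullback.fst f f ≫ f with hp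
  haveI : IsLocallyNoetherian (pullback f f) := LocallyOfFiniteType.isLocallyNoetherian p
  haveI : IsNoetherianRing Γ(pullback f f, U.1) := IsLocallyNoetherian.component_noetherian U
  set ξ := genericPoint X with hξdef
  have hξ : IsGenericPoint ξ (⊤ : Set X) := genericPoint_spec X
  have hξU : pullback.diagonal f ξ ∈ U.1 := by
    have h1 : ξ ∈ (pullback.diagonal f ⁻¹ᵁ U.1 : Set X) :=
      (hξ.mem_open_set_iff (pullback.diagonal f ⁻¹ᵁ U.1).2).mpr ⟨z, trivial, hz⟩
    exact h1
  set η := pullback.diagonal f ξ with hη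
  set 𝔭 := U.2.primeIdealOf ⟨η, hξU⟩ with h𝔭
  -- 𝔭 is the kernel
  have h𝔭ker : 𝔭.asIdeal = RingHom.ker ((pullback.diagonal f).app U.1).hom := by
    ext a
    rw [mem_primeIdealOf_iff U.2 η hξU a, RingHom.mem_ker]
    have hpre : η ∈ (pullback f f).basicOpen a ↔ ξ ∈ X.basicOpen (((pullback.diagonal f).app U.1).hom a) := by
      rw [← Scheme.preimage_basicOpen]
      rfl
    rw [hpre]
    constructor
    · intro h1
      rw [← basicOpen_eq_bot_iff]
      by_contra hne
      apply h1
      have hne' : (X.basicOpen (((pullback.diagonal f).app U.1).hom a) : Set X).Nonempty := by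
        rw [Set.nonempty_iff_ne_empty]
        intro h
        exact hne (Opens.ext h)
      obtain ⟨y, hy⟩ := hne'
      exact (hξ.mem_open_set_iff (X.basicOpen (((pullback.diagonal f).app U.1).hom a)).2).mpr ⟨y, trivial, hy⟩
    · intro h1 h2
      rw [h1] at h2
      simp at h2
  have hmin : 𝔭.asIdeal ∈ (Ideal.ofList rs).minimalPrimes := by
    rw [← hker, ← h𝔭ker, Ideal.minimalPrimes_eq_subsingleton_self]
    rfl
  have hht : 𝔭.asIdeal.height = rs.length :=
    Groth.Agent.Lib.Helper11.RegSeqHeight.height_eq_length_of_mem_minimalPrimes rs hreg _ hmin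
  have hstalk : ringKrullDim ((pullback f f).presheaf.stalk η) = 𝔭.asIdeal.height := by
    letI := (pullback f f).presheaf.algebra_section_stalk ⟨η, hξU⟩
    haveI := U.2.isLocalization_stalk ⟨η, hξU⟩
    exact IsLocalization.AtPrime.ringKrullDim_eq_height 𝔭.asIdeal ((pullback f f).presheaf.stalk η)
  have hloc := localDim_eq_stalk_add_td p η
  have htdξ : td f ξ = n := by
    have h1 := dim_eq_td_genericPoint f
    rw [hn] at h1
    exact_mod_cast h1.symm
  have htdη : td p η = n := by
    show td (pullback.fst f f ≫ f) (pullback.diagonal f ξ) = n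
    rw [td_diag, htdξ]
  have hdimY : topologicalKrullDim ↥(pullback f f) = ((n + n : ℕ) : WithBot ℕ∞) := by
    rw [dim_prod f f, hn]
    push_cast
    rfl
  have hlocdim : FlatMor.localDim ↥(pullback f f) η = ((n + n : ℕ) : WithBot ℕ∞) := by
    apply le_antisymm
    · rw [localDim_le_iff p]
      intro ξ' _
      rw [← hdimY]
      exact td_le_dim p ξ'
    · have hP : irreducibleComponent η ∈ irreducibleComponents ↥(pullback f f) :=
        irreducibleComponent_mem_irreducibleComponents η
      have hPcl : IsClosed (irreducibleComponent η) := isClosed_irreducibleComponent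
      obtain ⟨ξP, hξP⟩ := QuasiSober.sober hP.1 hPcl
      have hsp : ξP ⤳ η := by
        rw [specializes_iff_mem_closure, hξP.def]; exact mem_irreducibleComponent
      have h1 := dim_eq_td_of_isGenericPoint p hξP
      rw [dim_irreducibleComponent_prod f f _ hP, hn] at h1
      have h2 := (localDim_le_iff p η _).mp le_rfl ξP hsp
      rw [← h1] at h2
      refine le_trans ?_ h2
      push_cast
      exact le_rfl
  rw [hlocdim, hstalk, hht, htdη] at hloc
  have h3 : ((n + n : ℕ) : WithBot ℕ∞) = ((rs.length + n : ℕ) : WithBot ℕ∞) := by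
    rw [hloc]
    push_cast
    rfl
  have h4 : n + n = rs.length + n := by exact_mod_cast h3
  omega

theorem diagonal_regular [Smooth f] [IsIntegral X] (n : ℕ) (hn : topologicalKrullDim X = n) :
    RegImm.IsRegularImmersionOfCodim RegImm.Kind.regular n (pullback.diagonal f) := by
  haveI : IsLocallyNoetherian (pullback f f) :=
    LocallyOfFiniteType.isLocallyNoetherian (pullback.fst f f ≫ f)
  have hK : RegImm.IsRegularImmersion .koszul (pullback.diagonal f) :=
    Groth.Agent.S8656.result (𝟙 X)
      (fun x => Groth.Agent.Lib.Helper9.RootLCI2.isKoszulAt_of_smooth (𝟙 X) x)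
      (pullback.snd f f) (pullback.diagonal f) (pullback.diagonal_snd f)
  have hQ : RegImm.IsRegularImmersion .quasi (pullback.diagonal f) := by
    refine ⟨hK.1, fun z => ?_⟩
    obtain ⟨U, hzU, hcl, rs, hrs, hker⟩ := hK.2 z
    exact ⟨U, hzU, hcl, rs, quasi_of_h1 rs (h1_of_koszul rs hrs), hker⟩
  have hR := (regular_iff_quasi (pullback.diagonal f)).mpr hQ
  refine ⟨hR.1, fun z => ?_⟩
  obtain ⟨U, hzU, hcl, rs, hrs, hker⟩ := hR.2 z
  haveI := hcl
  have hrs' : RingTheory.Sequence.IsRegular Γ(pullback f f, U.1) rs := hrs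
  exact ⟨U, hzU, hcl, rs,
    length_eq_of_chart f n hn U rs hrs'.toIsWeaklyRegular hker z hzU, hrs, hker⟩

end Groth.Agent.Lib.Helper91.DiagReg
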