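import Mathlib
import Groth.Prelude.Def_RegImm
import Groth.Agent.Lib.Helper91.ProperInt3

/-!
# Proper intersection with a regular immersion, dimension form: main theorem
-/

set_option autoImplicit false
set_option linter.style.haveILetI false
universe u

open CategoryTheory CategoryTheory.Limits AlgebraicGeometry TopologicalSpace
open scoped Set.Notation

namespace Groth.Agent.Lib.Helper91.ProperInt

open Groth.Agent.Lib.Helper21.FieldDim

variable {k : Type u} [Field k] {C X W : Scheme.{u}}

/-- a component of a locally closed subset: image is locally closed -/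
theorem isLocallyClosed_image_of_isClosed {A : Type*} [TopologicalSpace A] (S : Set A)
    (hS : IsLocallyClosed S) (Q : Set ↥S) (hQ : IsClosed Q) :
    IsLocallyClosed (Subtype.val '' Q : Set A) := by
  obtain ⟨K, hK, rfl⟩ := isClosed_induced_iff.mp hQ
  have : (Subtype.val '' (Subtype.val ⁻¹' K : Set ↥S) : Set A) = S ∩ K := by
    ext a
    constructor
    · rintro ⟨b, hb, rfl⟩; exact ⟨b.2, hb⟩
    · rintro ⟨h1, h2⟩; exact ⟨⟨a, h1⟩, h2, rfl⟩
  rw [this]
  exact hS.inter hK.isLocallyClosed

theorem main (p : C ⟶ Spec (CommRingCat.of k)) [LocallyOfFiniteType p]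
    (π : C ⟶ X) (ι : W ⟶ X) (κ : RegImm.Kind) (n c : ℕ)
    (hι : RegImm.IsRegularImmersionOfCodim κ c ι)
    (hC : ∀ P ∈ irreducibleComponents (C : Type u), topologicalKrullDim P = n) :
    (∀ P ∈ irreducibleComponents (C : Type u),
        ∀ Q ∈ irreducibleComponents (P ∩ π ⁻¹' Set.range ι : Set C),
        topologicalKrullDim Q + (c : WithBot ℕ∞) = n) ↔
      topologicalKrullDim (π ⁻¹' Set.range ι : Set C) + (c : WithBot ℕ∞) ≤ n := by
  haveI := hι.1
  have hT : IsLocallyClosed (π ⁻¹' Set.range ι : Set C) :=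
    (IsImmersion.isLocallyClosed_range (f := ι)).preimage π.continuous
  constructor
  · intro ha
    rw [dim_add_le_iff p _ hT]
    intro x hx
    set P := irreducibleComponent x with hPdef
    have hP : P ∈ irreducibleComponents (C : Type u) := irreducibleComponent_mem_irreducibleComponents x
    have hPcl : IsClosed P := isClosed_irreducibleComponent
    have hS : IsLocallyClosed (P ∩ π ⁻¹' Set.range ι : Set C) := hPcl.isLocallyClosed.inter hT
    let x₀ : ↥(P ∩ π ⁻¹' Set.range ι : Set C) := ⟨x, mem_irreducibleComponent, hx⟩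
    set Q := irreducibleComponent x₀ with hQdef
    have hQ : Q ∈ irreducibleComponents ↥(P ∩ π ⁻¹' Set.range ι : Set C) :=
      irreducibleComponent_mem_irreducibleComponents x₀
    have hQcl : IsClosed Q := isClosed_irreducibleComponent
    have hdim := ha P hP Q hQ
    rw [dim_subtype_image] at hdim
    have hQ' := isLocallyClosed_image_of_isClosed _ hS Q hQcl
    have hxQ : x ∈ (Subtype.val '' Q : Set C) := ⟨x₀, mem_irreducibleComponent, rfl⟩
    exact (dim_add_le_iff p _ hQ' c n).mp hdim.le x hxQ
  · intro hb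
    have hbT := (dim_add_le_iff p _ hT c n).mp hb
    intro P hP Q hQ
    have hPcl : IsClosed P := isClosed_of_mem_irreducibleComponents P hP
    have hPirr : IsIrreducible P := hP.1
    have hS : IsLocallyClosed (P ∩ π ⁻¹' Set.range ι : Set C) := hPcl.isLocallyClosed.inter hT
    have hQcl : IsClosed Q := isClosed_of_mem_irreducibleComponents Q hQ
    have hQirr : IsIrreducible Q := hQ.1
    have hQ' := isLocallyClosed_image_of_isClosed _ hS Q hQcl
    rw [dim_subtype_image]
    apply le_antisymm
    · rw [dim_add_le_iff p _ hQ']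
      rintro _ ⟨y, -, rfl⟩
      exact hbT y.1 y.2.2
    · -- generic points
      haveI : QuasiSober ↥(P ∩ π ⁻¹' Set.range ι : Set C) := quasiSober_of_isLocallyClosed _ hS
      obtain ⟨η₀, hη₀⟩ := QuasiSober.sober hQirr hQcl
      obtain ⟨ξ, hξ⟩ := QuasiSober.sober hPirr hPcl
      have hη₀Q : η₀ ∈ Q := hη₀.mem
      have hηP : η₀.1 ∈ P := η₀.2.1
      have hξη : ξ ⤳ η₀.1 := by
        rw [specializes_iff_mem_closure, hξ.def]; exact hηP
      have htdξ : td p ξ = n := by
        have h1 := dim_eq_td_of_isGenericPoint p hξ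
        rw [hC P hP] at h1
        exact_mod_cast h1.symm
      have hmax : ∀ z : C, ξ ⤳ z → z ⤳ η₀.1 → π z ∈ Set.range ι → z = η₀.1 := by
        intro z hξz hzη hzT
        have hzP : z ∈ P := by
          rw [← hξ.def, ← specializes_iff_mem_closure]; exact hξz
        let z₀ : ↥(P ∩ π ⁻¹' Set.range ι : Set C) := ⟨z, hzP, hzT⟩
        have hz₀η₀ : z₀ ⤳ η₀ := Topology.IsInducing.subtypeVal.specializes_iff.mp hzη
        have hirr : IsIrreducible (closure ({z₀} : Set ↥(P ∩ π ⁻¹' Set.range ι : Set C))) :=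
          isIrreducible_singleton.closure
        have hsub : Q ⊆ closure ({z₀} : Set ↥(P ∩ π ⁻¹' Set.range ι : Set C)) := by
          rw [← hη₀.def]
          exact closure_minimal (Set.singleton_subset_iff.mpr
            (specializes_iff_mem_closure.mp hz₀η₀)) isClosed_closure
        have hle : closure ({z₀} : Set ↥(P ∩ π ⁻¹' Set.range ι : Set C)) ⊆ Q := hQ.2 hirr hsub
        have hz₀Q : z₀ ∈ Q := hle (subset_closure rfl)
        have hη₀z₀ : η₀ ⤳ z₀ := by
          rw [specializes_iff_mem_closure, hη₀.def]; exact hz₀Q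
        have : z₀ = η₀ := (hz₀η₀.antisymm hη₀z₀).eq
        exact congrArg Subtype.val this
      have hkrull := td_gen_le p π ι κ c hι hξη η₀.2.2 hmax
      have hηQ' : η₀.1 ∈ (Subtype.val '' Q : Set C) := ⟨η₀, hη₀Q, rfl⟩
      have h1 := (dim_le_iff_of_isLocallyClosed p _ hQ' _).mp le_rfl η₀.1 hηQ'
      calc (n : WithBot ℕ∞) ≤ ((td p η₀.1 + c : ℕ) : WithBot ℕ∞) := by
            rw [← htdξ]; exact_mod_cast hkrull
        _ = ((td p η₀.1 : ℕ) : WithBot ℕ∞) + (c : WithBot ℕ∞) := by push_cast; rfl
        _ ≤ _ := add_le_add h1 le_rfl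

end Groth.Agent.Lib.Helper91.ProperInt
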