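import Mathlib
import Groth.Prelude.Def_RegImm
import Groth.Agent.Lib.Helper91.ProperInt4

/-!
# Lower bound for the dimension of a component of the preimage of a regular immersion
-/

set_option autoImplicit false
set_option linter.style.haveILetI false
universe u

open CategoryTheory CategoryTheory.Limits AlgebraicGeometry TopologicalSpace
open scoped Set.Notation

namespace Groth.Agent.Lib.Helper91.ProperInt

open Groth.Agent.Lib.Helper21.FieldDim

variable {k : Type u} [Field k] {C X W : Scheme.{u}}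

/-- Krull: a component of `P ∩ π⁻¹(ι W)` has dimension at least `dim P - c` -/
theorem le_dim_component (p : C ⟶ Spec (CommRingCat.of k)) [LocallyOfFiniteType p]
    (π : C ⟶ X) (ι : W ⟶ X) (κ : RegImm.Kind) (n c : ℕ)
    (hι : RegImm.IsRegularImmersionOfCodim κ c ι)
    (P : Set C) (hPcl : IsClosed P) (hPirr : IsIrreducible P) (hPn : topologicalKrullDim P = n)
    (Q : Set ↥(P ∩ π ⁻¹' Set.range ι : Set C))
    (hQ : Q ∈ irreducibleComponents ↥(P ∩ π ⁻¹' Set.range ι : Set C)) :
    (n : WithBot ℕ∞) ≤ topologicalKrullDim Q + (c : WithBot ℕ∞) := by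
  haveI := hι.1
  have hT : IsLocallyClosed (π ⁻¹' Set.range ι : Set C) :=
    (IsImmersion.isLocallyClosed_range (f := ι)).preimage π.continuous
  have hS : IsLocallyClosed (P ∩ π ⁻¹' Set.range ι : Set C) := hPcl.isLocallyClosed.inter hT
  have hQcl : IsClosed Q := isClosed_of_mem_irreducibleComponents Q hQ
  have hQirr : IsIrreducible Q := hQ.1
  have hQ' := isLocallyClosed_image_of_isClosed _ hS Q hQcl
  rw [dim_subtype_image]
  haveI : QuasiSober ↥(P ∩ π ⁻¹' Set.range ι : Set C) := quasiSober_of_isLocallyClosed _ hS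
  obtain ⟨η₀, hη₀⟩ := QuasiSober.sober hQirr hQcl
  obtain ⟨ξ, hξ⟩ := QuasiSober.sober hPirr hPcl
  have hη₀Q : η₀ ∈ Q := hη₀.mem
  have hηP : η₀.1 ∈ P := η₀.2.1
  have hξη : ξ ⤳ η₀.1 := by
    rw [specializes_iff_mem_closure, hξ.def]; exact hηP
  have htdξ : td p ξ = n := by
    have h1 := dim_eq_td_of_isGenericPoint p hξ
    rw [hPn] at h1
    exact_mod_cast h1.symm
  have hmax : ∀ z : C, ξ ⤳ z → z ⤳ η₀.1 → π z ∈ Set.range ι → z = η₀.1 := by
    intro z hξz hzη hzT
    have hzP : z ∈ P := by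
      rw [← hξ.def, ← specializes_iff_mem_closure]; exact hξz
    let z₀ : ↥(P ∩ π ⁻¹' Set.range ι : Set C) := ⟨z, hzP, hzT⟩
    have hz₀η₀ : z₀ ⤳ η₀ := Topology.IsInducing.subtypeVal.specializes_iff.mp hzη
    have hirr : IsIrreducible (closure ({z₀} : Set ↥(P ∩ π ⁻¹' Set.range ι : Set C))) :=
      isIrreducible_singleton.closure
    have hsub : Q ⊆ closure ({z₀} : Set ↥(P ∩ π ⁻¹' Set.range ι : Set C)) := by
      rw [← hη₀.def]
      exact closure_minimal (Set.singleton_subset_iff.mpr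
        (specializes_iff_mem_closure.mp hz₀η₀)) isClosed_closure
    have hle : closure ({z₀} : Set ↥(P ∩ π ⁻¹' Set.range ι : Set C)) ⊆ Q := hQ.2 hirr hsub
    have hz₀Q : z₀ ∈ Q := hle (subset_closure rfl)
    have hη₀z₀ : η₀ ⤳ z₀ := by
      rw [specializes_iff_mem_closure, hη₀.def]; exact hz₀Q
    have : z₀ = η₀ := (hz₀η₀.antisymm hη₀z₀).eq
    exact congrArg Subtype.val this
  have hkrull := td_gen_le p π ι κ c hι hξη η₀.2.2 hmax
  have hηQ' : η₀.1 ∈ (Subtype.val '' Q : Set C) := ⟨η₀, hη₀Q, rfl⟩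
  have h1 := (dim_le_iff_of_isLocallyClosed p _ hQ' _).mp le_rfl η₀.1 hηQ'
  calc (n : WithBot ℕ∞) ≤ ((td p η₀.1 + c : ℕ) : WithBot ℕ∞) := by
        rw [← htdξ]; exact_mod_cast hkrull
    _ = ((td p η₀.1 : ℕ) : WithBot ℕ∞) + (c : WithBot ℕ∞) := by push_cast; rfl
    _ ≤ _ := add_le_add h1 le_rfl

/-- irreducible components are transported by homeomorphisms -/
theorem image_mem_irreducibleComponents {A B : Type*} [TopologicalSpace A] [TopologicalSpace B]
    (e : A ≃ₜ B) (T : Set A) (hT : T ∈ irreducibleComponents A) :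
    e '' T ∈ irreducibleComponents B := by
  refine ⟨hT.1.image e e.continuous.continuousOn, ?_⟩
  intro V hV hTV
  have h1 : IsIrreducible (e.symm '' V) := hV.image e.symm e.symm.continuous.continuousOn
  have h2 : T ⊆ e.symm '' V := by
    intro t ht
    exact ⟨e t, hTV ⟨t, ht, rfl⟩, e.symm_apply_apply t⟩
  have h3 : e.symm '' V ⊆ T := hT.2 h1 h2
  intro v hv
  exact ⟨e.symm v, h3 ⟨v, hv, rfl⟩, e.apply_symm_apply v⟩

theorem dim_image_homeomorph {A B : Type*} [TopologicalSpace A] [TopologicalSpace B]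
    (e : A ≃ₜ B) (T : Set A) :
    topologicalKrullDim ↥(e '' T) = topologicalKrullDim ↥T :=
  ((e.image T).isHomeomorph.topologicalKrullDim_eq).symm

end Groth.Agent.Lib.Helper91.ProperInt
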