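import Mathlib
import Groth.Prelude.Def_RegImm
import Groth.Agent.Lib.Helper91.DiagReg2
import Groth.Agent.Lib.Helper91.ProperInt6

/-!
# Dimension of intersections on a smooth variety (reduction to the diagonal)
-/

set_option autoImplicit false
set_option linter.style.haveILetI false
universe u

open CategoryTheory CategoryTheory.Limits AlgebraicGeometry TopologicalSpace

namespace Groth.Agent.Lib.Helper91.DiagReg

open Groth.Agent.Lib.Helper21.FieldDim Groth.Agent.Lib.Helper91.ProperInt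

variable {k : Type u} [Field k] {X : Scheme.{u}} (f : X ⟶ Spec (CommRingCat.of k))

theorem exists_closed_subscheme (V : Set X) (hVc : IsClosed V) (hVi : IsIrreducible V) :
    ∃ (V' : Scheme.{u}) (ι : V' ⟶ X), IsClosedImmersion ι ∧ Set.range ι = V ∧
      IrreducibleSpace V' ∧ topologicalKrullDim V' = topologicalKrullDim ↥V := by
  have hr : Set.range (Scheme.IdealSheafData.vanishingIdeal ⟨V, hVc⟩).subschemeι = V := by
    rw [Scheme.IdealSheafData.range_subschemeι, Scheme.IdealSheafData.coe_support_vanishingIdeal]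
    rfl
  have hemb : Topology.IsEmbedding
      (Scheme.IdealSheafData.vanishingIdeal ⟨V, hVc⟩).subschemeι :=
    (Scheme.IdealSheafData.vanishingIdeal ⟨V, hVc⟩).subschemeι.isEmbedding
  have hdim := hemb.toHomeomorph.isHomeomorph.topologicalKrullDim_eq
  rw [hr] at hdim
  refine ⟨_, (Scheme.IdealSheafData.vanishingIdeal ⟨V, hVc⟩).subschemeι, inferInstance, hr,
    ?_, hdim⟩
  have hi : IsIrreducible ((Scheme.IdealSheafData.vanishingIdeal ⟨V, hVc⟩).support : Set X) := by
    rw [Scheme.IdealSheafData.coe_support_vanishingIdeal]; exact hVi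
  exact Subtype.irreducibleSpace hi

theorem td_congr' {P : Scheme.{u}} {h h' : P ⟶ Spec (CommRingCat.of k)} (e : h = h')
    [LocallyOfFiniteType h] [LocallyOfFiniteType h'] (z : P) : td h z = td h' z := by
  subst e
  rfl

theorem inter_dim [Smooth f] [IsIntegral X] (n r s : ℕ) (hn : topologicalKrullDim X = n)
    (V W : Set X) (hVc : IsClosed V) (hVi : IsIrreducible V) (hWc : IsClosed W)
    (hWi : IsIrreducible W) (hr : topologicalKrullDim ↥V = r) (hs : topologicalKrullDim ↥W = s)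
    (Z : Set ↥(V ∩ W)) (hZ : Z ∈ irreducibleComponents ↥(V ∩ W)) :
    ((r + s : ℕ) : WithBot ℕ∞) ≤ topologicalKrullDim ↥Z + n := by
  obtain ⟨V', ιV, hιV, hrV, hirrV, hdimV⟩ := exists_closed_subscheme V hVc hVi
  obtain ⟨W', ιW, hιW, hrW, hirrW, hdimW⟩ := exists_closed_subscheme W hWc hWi
  haveI := hιV
  haveI := hιW
  haveI := hirrV
  haveI := hirrW
  -- `Z` as a closed irreducible subset of `X`
  have hVWc : IsClosed (V ∩ W) := hVc.inter hWc
  have hZcl : IsClosed Z := isClosed_of_mem_irreducibleComponents Z hZ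
  have hZirr : IsIrreducible Z := hZ.1
  have hZ'cl : IsClosed (Subtype.val '' Z : Set X) :=
    hVWc.isClosedEmbedding_subtypeVal.isClosedMap _ hZcl
  have hZ'irr : IsIrreducible (Subtype.val '' Z : Set X) :=
    hZirr.image _ continuous_subtype_val.continuousOn
  obtain ⟨ζ, hζ⟩ := QuasiSober.sober hZ'irr hZ'cl
  have hζZ : ζ ∈ (Subtype.val '' Z : Set X) := hζ.mem
  obtain ⟨ζ₀, hζ₀Z, hζ₀⟩ := hζZ
  have hζV : ζ ∈ V := hζ₀ ▸ ζ₀.2.1
  have hζW : ζ ∈ W := hζ₀ ▸ ζ₀.2.2
  -- maximality of `ζ` in `V ∩ W`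
  have hζmax : ∀ x : X, x ∈ V → x ∈ W → x ⤳ ζ → x = ζ := by
    intro x hxV hxW hxζ
    let x₀ : ↥(V ∩ W) := ⟨x, hxV, hxW⟩
    have hirr : IsIrreducible (closure ({x₀} : Set ↥(V ∩ W))) := isIrreducible_singleton.closure
    have hsub : Z ⊆ closure ({x₀} : Set ↥(V ∩ W)) := by
      intro z hz
      have h1 : ζ ⤳ z.1 := by
        rw [specializes_iff_mem_closure, hζ.def]; exact ⟨z, hz, rfl⟩
      have h2 : x₀ ⤳ z := Topology.IsInducing.subtypeVal.specializes_iff.mp (hxζ.trans h1)
      exact specializes_iff_mem_closure.mp h2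
    have hle : closure ({x₀} : Set ↥(V ∩ W)) ⊆ Z := hZ.2 hirr hsub
    have hx₀Z : x₀ ∈ Z := hle (subset_closure rfl)
    have h3 : ζ ⤳ x := by
      rw [specializes_iff_mem_closure, hζ.def]; exact ⟨x₀, hx₀Z, rfl⟩
    exact (hxζ.antisymm h3).eq
  -- the product of the subschemes
  have e₁ : (ιV ≫ f) = ιV ≫ f := rfl
  have e₂ : (ιW ≫ f) = ιW ≫ f := rfl
  haveI hπcl : IsClosedImmersion (pullback.map (ιV ≫ f) (ιW ≫ f) f f ιV ιW (𝟙 _)
      ((Category.comp_id _).trans e₁) ((Category.comp_id _).trans e₂)) :=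
    MorphismProperty.pullbackMap (P := @IsClosedImmersion) hιV hιW e₁ e₂
  set π : pullback (ιV ≫ f) (ιW ≫ f) ⟶ pullback f f :=
    pullback.map (ιV ≫ f) (ιW ≫ f) f f ιV ιW (𝟙 _)
      ((Category.comp_id _).trans e₁) ((Category.comp_id _).trans e₂) with hπ
  have hrange : Set.range π = pullback.fst f f ⁻¹' Set.range ιV ∩
      pullback.snd f f ⁻¹' Set.range ιW :=
    Scheme.Pullback.range_map _ _ _ _ _ _ _ _ _
  have hΔfst : ∀ x : X, pullback.fst f f (pullback.diagonal f x) = x := by
    intro x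
    rw [← Scheme.Hom.comp_apply, pullback.diagonal_fst]; rfl
  have hΔsnd : ∀ x : X, pullback.snd f f (pullback.diagonal f x) = x := by
    intro x
    rw [← Scheme.Hom.comp_apply, pullback.diagonal_snd]; rfl
  have hΔζ : pullback.diagonal f ζ ∈ Set.range π := by
    rw [hrange]
    refine ⟨?_, ?_⟩
    · show pullback.fst f f (pullback.diagonal f ζ) ∈ Set.range ιV
      rw [hΔfst, hrV]; exact hζV
    · show pullback.snd f f (pullback.diagonal f ζ) ∈ Set.range ιW
      rw [hΔsnd, hrW]; exact hζW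
  obtain ⟨t, ht⟩ := hΔζ
  set p : pullback (ιV ≫ f) (ιW ≫ f) ⟶ Spec (CommRingCat.of k) :=
    pullback.fst (ιV ≫ f) (ιW ≫ f) ≫ (ιV ≫ f) with hp
  have hP : irreducibleComponent t ∈ irreducibleComponents ↥(pullback (ιV ≫ f) (ιW ≫ f)) :=
    irreducibleComponent_mem_irreducibleComponents t
  have hPcl : IsClosed (irreducibleComponent t) := isClosed_irreducibleComponent
  obtain ⟨ξ, hξ⟩ := QuasiSober.sober hP.1 hPcl
  have hξt : ξ ⤳ t := by
    rw [specializes_iff_mem_closure, hξ.def]; exact mem_irreducibleComponent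
  have htdξ : td p ξ = r + s := by
    have h1 := dim_eq_td_of_isGenericPoint p hξ
    rw [dim_irreducibleComponent_prod (ιV ≫ f) (ιW ≫ f) _ hP, hdimV, hdimW, hr, hs] at h1
    exact_mod_cast h1.symm
  have hreg := diagonal_regular f n hn
  have hmax : ∀ z, ξ ⤳ z → z ⤳ t → π z ∈ Set.range (pullback.diagonal f) → z = t := by
    rintro z - hzt ⟨x, hx⟩
    have hx1 : pullback.fst f f (π z) = x := by rw [← hx, hΔfst]
    have hx2 : pullback.snd f f (π z) = x := by rw [← hx, hΔsnd]
    have hπz : π z ∈ Set.range π := ⟨z, rfl⟩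
    rw [hrange] at hπz
    have hxV : x ∈ V := by rw [← hrV, ← hx1]; exact hπz.1
    have hxW : x ∈ W := by rw [← hrW, ← hx2]; exact hπz.2
    have hsp : π z ⤳ π t := hzt.map π.continuous
    have hsp2 : x ⤳ ζ := by
      have := hsp.map (pullback.fst f f).continuous
      rw [hx1, ht, hΔfst] at this
      exact this
    have hxζ := hζmax x hxV hxW hsp2
    have : π z = π t := by rw [← hx, hxζ, ht]
    exact π.isEmbedding.injective this
  have hkrull := td_gen_le p π (pullback.diagonal f) .regular n hreg hξt ⟨ζ, ht.symm⟩ hmax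
  have htdt : td p t = td f ζ := by
    have e : p = π ≫ (pullback.fst f f ≫ f) := by
      rw [hp, hπ, ← Category.assoc, ← Category.assoc (pullback.map _ _ _ _ _ _ _ _ _)]
      congr 1
      exact (pullback.lift_fst _ _ _).symm
    rw [td_congr' e t, td_comp, ht, td_diag]
    have : tdR π t = 0 :=
      tdR_eq_of_trdegAt_eq _ (trdegAt_eq_zero_of_locallyQuasiFinite π t)
    omega
  have hdimZ : topologicalKrullDim ↥Z = td f ζ := by
    rw [dim_subtype_image]; exact dim_eq_td_of_isGenericPoint f hζ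
  rw [hdimZ]
  rw [htdξ, htdt] at hkrull
  exact_mod_cast hkrull

end Groth.Agent.Lib.Helper91.DiagReg
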