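import Mathlib
import Groth.Prelude
import Groth.Agent.Lib.Helper91.StalkIdeal
import Groth.Agent.Lib.Helper91.MaxPoint

/-!
# The locus where two ideal sheaves agree
-/

set_option autoImplicit false
universe u

open CategoryTheory AlgebraicGeometry TopologicalSpace Opposite

namespace Groth.Agent.Lib.Helper91.StalkIdeal

variable {X : Scheme.{u}}

/-- the locus where an ideal sheaf agrees with a larger one is open -/
theorem isOpen_eqLocus [IsLocallyNoetherian X] {𝓘 𝓙 : X.IdealSheafData} (hle : 𝓘 ≤ 𝓙) :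
    IsOpen {x : X | stalkIdeal 𝓘 x = stalkIdeal 𝓙 x} := by
  classical
  rw [isOpen_iff_forall_mem_open]
  intro x hx
  obtain ⟨W, hxW⟩ := exists_affine x
  haveI : IsNoetherianRing Γ(X, W.1) := IsLocallyNoetherian.component_noetherian W
  letI ax : Algebra Γ(X, W.1) (X.presheaf.stalk x) :=
    TopCat.Presheaf.algebra_section_stalk X.presheaf ⟨x, hxW⟩
  haveI lx : IsLocalization.AtPrime (X.presheaf.stalk x) (W.2.primeIdealOf ⟨x, hxW⟩).asIdeal :=
    W.2.isLocalization_stalk ⟨x, hxW⟩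
  have hsg : ∀ g ∈ 𝓙.ideal W, ∃ s ∈ (W.2.primeIdealOf ⟨x, hxW⟩).asIdeal.primeCompl,
      s * g ∈ 𝓘.ideal W := by
    intro g hg
    have h1 : algebraMap Γ(X, W.1) (X.presheaf.stalk x) g ∈
        (𝓘.ideal W).map (algebraMap Γ(X, W.1) (X.presheaf.stalk x)) := by
      have h2 : algebraMap Γ(X, W.1) (X.presheaf.stalk x) g ∈ stalkIdeal 𝓙 x := by
        rw [stalkIdeal_eq 𝓙 W hxW]
        exact Ideal.mem_map_of_mem _ hg
      have hx' : stalkIdeal 𝓘 x = stalkIdeal 𝓙 x := hx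
      rw [← hx', stalkIdeal_eq 𝓘 W hxW] at h2
      exact h2
    rw [IsLocalization.mem_map_algebraMap_iff (W.2.primeIdealOf ⟨x, hxW⟩).asIdeal.primeCompl] at h1
    obtain ⟨⟨a, m⟩, ham⟩ := h1
    rw [← map_mul] at ham
    obtain ⟨c, hc⟩ := (IsLocalization.eq_iff_exists (W.2.primeIdealOf ⟨x, hxW⟩).asIdeal.primeCompl
      (X.presheaf.stalk x)).mp ham
    refine ⟨c * m, (c * m).2, ?_⟩
    have h3 : (c : Γ(X, W.1)) * (m : Γ(X, W.1)) * g = c * (a : Γ(X, W.1)) := by
      have hc' : (c : Γ(X, W.1)) * (g * (m : Γ(X, W.1))) = c * (a : Γ(X, W.1)) := hc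
      rw [← hc']
      ring
    rw [h3]
    exact Ideal.mul_mem_left _ _ a.2
  choose! σ hσ using hsg
  obtain ⟨G, hG⟩ : (𝓙.ideal W).FG := IsNoetherian.noetherian _
  have hGsub : ∀ g ∈ G, g ∈ 𝓙.ideal W := by
    intro g hg
    rw [← hG]
    exact Ideal.subset_span hg
  set s := ∏ g ∈ G, σ g with hs
  have hsP : s ∈ (W.2.primeIdealOf ⟨x, hxW⟩).asIdeal.primeCompl :=
    Submonoid.prod_mem _ (fun g hg => (hσ g (hGsub g hg)).1)
  have hkey : ∀ g ∈ 𝓙.ideal W, s * g ∈ 𝓘.ideal W := by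
    intro g hg
    rw [← hG] at hg
    induction hg using Submodule.span_induction with
    | mem g hg =>
      obtain ⟨c, hc⟩ := Finset.dvd_prod_of_mem σ hg
      rw [hs, hc]
      have : σ g * c * g = c * (σ g * g) := by ring
      rw [this]
      exact Ideal.mul_mem_left _ _ (hσ g (hGsub g hg)).2
    | zero => rw [mul_zero]; exact Ideal.zero_mem _
    | add a b _ _ ha hb => rw [mul_add]; exact Ideal.add_mem _ ha hb
    | smul a b _ hb =>
      have : s * (a • b) = a * (s * b) := by rw [smul_eq_mul]; ring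
      rw [this]
      exact Ideal.mul_mem_left _ _ hb
  refine ⟨(X.basicOpen s : Set X), ?_, (X.basicOpen s).isOpen, ?_⟩
  · intro y hy
    have hyW : y ∈ W.1 := X.basicOpen_le s hy
    have hsy : s ∉ (W.2.primeIdealOf ⟨y, hyW⟩).asIdeal :=
      (Groth.Agent.Lib.Helper91.MaxPoint.mem_basicOpen_iff_notMem_primeIdealOf W.2 s y hyW).mp hy
    letI ay : Algebra Γ(X, W.1) (X.presheaf.stalk y) :=
      TopCat.Presheaf.algebra_section_stalk X.presheaf ⟨y, hyW⟩
    haveI ly : IsLocalization.AtPrime (X.presheaf.stalk y) (W.2.primeIdealOf ⟨y, hyW⟩).asIdeal :=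
      W.2.isLocalization_stalk ⟨y, hyW⟩
    have hu : IsUnit (algebraMap Γ(X, W.1) (X.presheaf.stalk y) s) :=
      IsLocalization.map_units (X.presheaf.stalk y)
        (⟨s, hsy⟩ : (W.2.primeIdealOf ⟨y, hyW⟩).asIdeal.primeCompl)
    show stalkIdeal 𝓘 y = stalkIdeal 𝓙 y
    apply le_antisymm (stalkIdeal_mono hle y)
    rw [stalkIdeal_eq 𝓙 W hyW, stalkIdeal_eq 𝓘 W hyW, Ideal.map_le_iff_le_comap]
    intro g hg
    rw [Ideal.mem_comap]
    have h1 : algebraMap Γ(X, W.1) (X.presheaf.stalk y) s *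
        algebraMap Γ(X, W.1) (X.presheaf.stalk y) g ∈
        (𝓘.ideal W).map (algebraMap Γ(X, W.1) (X.presheaf.stalk y)) := by
      rw [← map_mul]
      exact Ideal.mem_map_of_mem _ (hkey g hg)
    exact (Ideal.unit_mul_mem_iff_mem _ hu).mp h1
  · exact (Groth.Agent.Lib.Helper91.MaxPoint.mem_basicOpen_iff_notMem_primeIdealOf W.2 s x hxW).mpr
      hsP

/-- ideal sheaves with the same stalks on an open subset have the same restriction to it -/
theorem comap_ι_eq_of_forall (U : X.Opens) {𝓘 𝓙 : X.IdealSheafData}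
    (h : ∀ x ∈ U, stalkIdeal 𝓘 x = stalkIdeal 𝓙 x) : 𝓘.comap U.ι = 𝓙.comap U.ι := by
  apply Scheme.IdealSheafData.ext
  funext V
  rw [Scheme.IdealSheafData.ideal_comap_of_isOpenImmersion,
    Scheme.IdealSheafData.ideal_comap_of_isOpenImmersion]
  congr 1
  apply ideal_eq_of_forall_stalkIdeal_eq
  intro x hx
  apply h
  obtain ⟨y, -, rfl⟩ := hx
  exact y.2

theorem two_le_ringKrullDim_iff (z : X) :
    (2 : WithBot ℕ∞) ≤ ringKrullDim (X.presheaf.stalk z) ↔ 2 ≤ Order.coheight z := by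
  rw [ringKrullDim_stalk_eq_coheight z]
  constructor
  · intro h
    have h3 : ((2 : ℕ∞) : WithBot ℕ∞) ≤ ((Order.coheight z : ℕ∞) : WithBot ℕ∞) := h
    exact WithBot.coe_le_coe.mp h3
  · intro h
    have h3 : ((2 : ℕ∞) : WithBot ℕ∞) ≤ ((Order.coheight z : ℕ∞) : WithBot ℕ∞) :=
      WithBot.coe_le_coe.mpr h
    exact h3

end Groth.Agent.Lib.Helper91.StalkIdeal
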