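import Groth.Prelude.Def_W4c5stcicurvesp3Euclid
import Mathlib.Tactic

set_option autoImplicit false

namespace Groth.Agent.Lib.Helper91

open W4c5stcicurvesp3

theorem irem_zero (a b : ℕ) : irem a b 0 = b := rfl
theorem irem_one (a b : ℕ) : irem a b 1 = a % b := rfl
theorem irem_succ_succ (a b n : ℕ) :
    irem a b (n + 2) = if irem a b (n + 1) = 0 then 0 else irem a b n % irem a b (n + 1) := rfl
theorem idiv_zero (a b : ℕ) : idiv a b 0 = 0 := rfl
theorem idiv_one (a b : ℕ) : idiv a b 1 = a / b := rfl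
theorem idiv_succ_succ (a b n : ℕ) :
    idiv a b (n + 2) = if irem a b (n + 1) = 0 then 0 else irem a b n / irem a b (n + 1) := rfl

/-- shifting the Euclidean algorithm by one step -/
theorem irem_shift (a b : ℕ) (h : a % b ≠ 0) : ∀ n, irem a b (n + 1) = irem b (a % b) n := by
  have key : ∀ n, irem a b (n + 1) = irem b (a % b) n ∧ irem a b (n + 2) = irem b (a % b) (n + 1) := by
    intro n
    induction n with
    | zero =>
      refine ⟨rfl, ?_⟩
      rw [irem_succ_succ, irem_one, irem_zero, irem_one, if_neg h]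
    | succ n ih =>
      refine ⟨ih.2, ?_⟩
      rw [irem_succ_succ a b (n + 1), irem_succ_succ b (a % b) n, ← ih.1, ← ih.2]
  exact fun n => (key n).1

theorem idiv_shift (a b : ℕ) (h : a % b ≠ 0) : ∀ n, 0 < n → idiv a b (n + 1) = idiv b (a % b) n := by
  intro n hn
  obtain ⟨m, rfl⟩ : ∃ m, n = m + 1 := ⟨n - 1, by omega⟩
  cases m with
  | zero =>
    rw [idiv_succ_succ, irem_one, irem_zero, idiv_one, if_neg h]
  | succ m =>
    show idiv a b ((m + 1) + 2) = idiv b (a % b) (m + 2)
    rw [idiv_succ_succ a b (m + 1), idiv_succ_succ b (a % b) m, irem_shift a b h (m + 1),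
      irem_shift a b h m]

/-- once a remainder vanishes, all later ones vanish -/
theorem irem_eq_zero_of_le (a b : ℕ) {m : ℕ} (hm : 0 < m) (h : irem a b m = 0) :
    ∀ n, m ≤ n → irem a b n = 0 := by
  intro n hn
  induction n, hn using Nat.le_induction with
  | base => exact h
  | succ n hmn ih =>
    obtain ⟨j, rfl⟩ : ∃ j, n = j + 1 := ⟨n - 1, by omega⟩
    rw [irem_succ_succ, if_pos ih]

/-- basic division identity for the iterated Euclidean algorithm -/
theorem irem_div_add (a b n : ℕ) (h : irem a b (n + 1) ≠ 0) :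
    irem a b n = idiv a b (n + 2) * irem a b (n + 1) + irem a b (n + 2) := by
  rw [idiv_succ_succ, irem_succ_succ, if_neg h, if_neg h, Nat.mul_comm]
  exact (Nat.div_add_mod _ _).symm

theorem irem_succ_lt (a b n : ℕ) (h : irem a b (n + 1) ≠ 0) :
    irem a b (n + 2) < irem a b (n + 1) := by
  rw [irem_succ_succ, if_neg h]
  exact Nat.mod_lt _ (Nat.pos_of_ne_zero h)

end Groth.Agent.Lib.Helper91
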