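import Mathlib
import Groth.Agent.Lib.Helper91.TwoPtCusp

/-!
# Extremal members of a `g^r_d` for a pair of points (FunFld family)
-/

namespace Groth.Agent.Lib.Helper91.LimLin

open FunFld Module Groth.Agent.Lib.Helper55

variable {k K : Type*} [Field k] [Field K] [Algebra k K]

/-- if `dim V(-nP) + dim V(-(d-n)Q) = r + 2` there is a member with divisor `nP + (d-n)Q`. -/
theorem extremal_member [IsAlgClosed k] (hK : IsFunctionField k K)
    (d r : ℕ) (D : Divisor k K) (hD : D.deg = d)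
    (V : Submodule k K) (hVr : finrank k ↥V = r + 1)
    (P Q : Place k K) (hPQ : P ≠ Q) (n : ℕ) (hnd : n ≤ d)
    (hen : finrank k ↥(V ⊓ L (D - Finsupp.single P (n : ℤ))) +
      finrank k ↥(V ⊓ L (D - Finsupp.single Q ((d - n : ℕ) : ℤ))) = r + 2) :
    ∃ f : K, f ∈ V ∧ f ≠ 0 ∧
      FunFld.div k f + D = Finsupp.single P (n : ℤ) + Finsupp.single Q ((d - n : ℕ) : ℤ) := by
  classical
  have hVfin : Module.Finite k V := Module.finite_of_finrank_pos (by omega)
  set A := V ⊓ L (D - Finsupp.single P (n : ℤ)) with hA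
  set B := V ⊓ L (D - Finsupp.single Q ((d - n : ℕ) : ℤ)) with hB
  have hAfin : Module.Finite k A := Submodule.finiteDimensional_of_le inf_le_left
  have hBfin : Module.Finite k B := Submodule.finiteDimensional_of_le inf_le_left
  have h1 := Submodule.finrank_sup_add_finrank_inf_eq A B
  have h2 : finrank k ↥(A ⊔ B) ≤ r + 1 := by
    rw [← hVr]
    exact Submodule.finrank_mono (sup_le inf_le_left inf_le_left)
  have h3 : finrank k ↥A + finrank k ↥B = r + 2 := hen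
  have h4 : 0 < finrank k ↥(A ⊓ B) := by omega
  have h5 : A ⊓ B ≠ ⊥ := by
    intro h
    rw [h, finrank_bot] at h4
    exact lt_irrefl _ h4
  obtain ⟨f, hf, hf0⟩ := Submodule.exists_mem_ne_zero_of_ne_bot h5
  refine ⟨f, hf.1.1, hf0, ?_⟩
  have hfL : f ∈ L (D - Finsupp.single P (n : ℤ) - Finsupp.single Q ((d - n : ℕ) : ℤ)) :=
    Groth.Agent.S18176.L_inf_le D P Q hPQ _ _ ⟨hf.1.2, hf.2.2⟩
  have h6 := (ff_mem_L_iff_div hK _ hf0).mp hfL
  have hdeg : (0 : Divisor k K).deg =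
      (D - Finsupp.single P (n : ℤ) - Finsupp.single Q ((d - n : ℕ) : ℤ) + FunFld.div k f).deg := by
    rw [ff_deg_zero, ff_deg_add, ff_deg_div hK, ff_deg_sub, ff_deg_sub, ff_deg_single,
      ff_deg_single, hD, ff_deg_eq_one_of_isAlgClosed hK P, ff_deg_eq_one_of_isAlgClosed hK Q]
    push_cast
    omega
  have h7 := ff_eq_of_le_of_deg_eq hK h6 hdeg
  have h8 : FunFld.div k f + D - (Finsupp.single P (n : ℤ) + Finsupp.single Q ((d - n : ℕ) : ℤ)) = 0 := by
    rw [h7]; abel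
  exact sub_eq_zero.mp h8

/-- with a cusp at a third point (genus `0`, char `0`) there is at most one extremal `n`. -/
theorem extremal_unique [IsAlgClosed k] [CharZero k] (hK : IsFunctionField k K)
    (hg0 : genus k K = 0)
    (d r : ℕ) (D : Divisor k K) (hD : D.deg = d)
    (V : Submodule k K) (hVr : finrank k ↥V = r + 1)
    (P Q : Place k K) (hPQ : P ≠ Q)
    (C : Place k K) (hPC : P ≠ C) (hQC : Q ≠ C)
    (hcusp : r ≤ finrank k ↥(V ⊓ L (D - Finsupp.single C (2 : ℤ))))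
    (n₁ n₂ : ℕ) (h₁ : n₁ ≤ d) (h₂ : n₂ ≤ d)
    (he₁ : finrank k ↥(V ⊓ L (D - Finsupp.single P (n₁ : ℤ))) +
      finrank k ↥(V ⊓ L (D - Finsupp.single Q ((d - n₁ : ℕ) : ℤ))) = r + 2)
    (he₂ : finrank k ↥(V ⊓ L (D - Finsupp.single P (n₂ : ℤ))) +
      finrank k ↥(V ⊓ L (D - Finsupp.single Q ((d - n₂ : ℕ) : ℤ))) = r + 2) :
    n₁ = n₂ := by
  classical
  obtain ⟨f₁, hf₁V, hf₁, hd₁⟩ := extremal_member hK d r D hD V hVr P Q hPQ n₁ h₁ he₁
  obtain ⟨f₂, hf₂V, hf₂, hd₂⟩ := extremal_member hK d r D hD V hVr P Q hPQ n₂ h₂ he₂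
  have hs : ∀ (n : ℕ) (f : K), FunFld.div k f + D =
      Finsupp.single P (n : ℤ) + Finsupp.single Q ((d - n : ℕ) : ℤ) →
      ∀ R : Place k K, R ≠ P → R ≠ Q → (FunFld.div k f + D) R = 0 := by
    intro n f h R hRP hRQ
    rw [h]
    simp [Finsupp.single_apply, Ne.symm hRP, Ne.symm hRQ]
  obtain ⟨c, hc⟩ := Cusp.unique_member hK hg0 r D V hVr C hcusp P Q hPC hQC f₁ f₂ hf₁V hf₂V
    hf₁ hf₂ (hs n₁ f₁ hd₁) (hs n₂ f₂ hd₂)
  have hc0 : c ≠ 0 := by
    rintro rfl
    rw [zero_smul] at hc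
    exact hf₂ hc
  have hdiv : FunFld.div k f₂ = FunFld.div k f₁ := by
    rw [hc, Algebra.smul_def, ff_div_mul hK (by simpa using hc0) hf₁, ff_div_const hK, zero_add]
  have h9 : (FunFld.div k f₁ + D) P = (FunFld.div k f₂ + D) P := by rw [hdiv]
  rw [hd₁, hd₂] at h9
  simpa [Finsupp.single_apply, hPQ, Ne.symm hPQ] using h9

end Groth.Agent.Lib.Helper91.LimLin
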