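import Mathlib
import Groth.Agent.Lib.Helper91.GenPrime2

/-!
# Locally factorial schemes via codimension one points (stalk level)
-/

set_option autoImplicit false
universe u

open CategoryTheory AlgebraicGeometry TopologicalSpace Opposite

namespace Groth.Agent.Lib.Helper91.GenPrime

/-- **L3**: a Noetherian local ring with a principal prime generated by a non-zero-divisor is a
domain -/
theorem isDomain_of_principal_prime {R : Type*} [CommRing R] [IsNoetherianRing R] [IsLocalRing R]
    (t : R) (ht : t ∈ nonZeroDivisors R) (hp : (Ideal.span {t}).IsPrime) : IsDomain R := by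
  have hK : ⨅ i, Ideal.span {t} ^ i = ⊥ := Ideal.iInf_pow_eq_bot_of_isLocalRing _ hp.ne_top
  have key : ∀ a : R, a ≠ 0 → ∃ (n : ℕ) (a' : R), a = t ^ n * a' ∧ a' ∉ Ideal.span {t} := by
    classical
    intro a ha
    have hex : ∃ n, a ∉ Ideal.span {t} ^ n := by
      by_contra hall
      push Not at hall
      have : a ∈ ⨅ i, Ideal.span {t} ^ i := (Ideal.mem_iInf).mpr hall
      rw [hK] at this
      exact ha (by simpa using this)
    have hn := Nat.find_spec hex
    have hn0 : Nat.find hex ≠ 0 := by
      intro h0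
      rw [h0, pow_zero, Ideal.one_eq_top] at hn
      exact hn trivial
    obtain ⟨m, hm⟩ := Nat.exists_eq_succ_of_ne_zero hn0
    have hmem : a ∈ Ideal.span {t} ^ m := by
      by_contra hnot
      exact Nat.find_min hex (by omega) hnot
    rw [Ideal.span_singleton_pow, Ideal.mem_span_singleton'] at hmem
    obtain ⟨a', ha'⟩ := hmem
    refine ⟨m, a', by rw [← ha']; ring, ?_⟩
    intro hcon
    apply hn
    rw [hm, Ideal.span_singleton_pow, Ideal.mem_span_singleton']
    obtain ⟨c, hc⟩ := Ideal.mem_span_singleton'.mp hcon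
    refine ⟨c, ?_⟩
    rw [← ha', ← hc, pow_succ]
    ring
  haveI : NoZeroDivisors R := by
    refine ⟨fun {a b} hab => ?_⟩
    by_contra hcon
    push Not at hcon
    obtain ⟨n, a', rfl, ha'⟩ := key a hcon.1
    obtain ⟨m, b', rfl, hb'⟩ := key b hcon.2
    have h1 : (a' * b') * t ^ (n + m) = 0 := by
      rw [← hab, pow_add]; ring
    have h2 : a' * b' = 0 := (mem_nonZeroDivisors_iff_right.mp (pow_mem ht (n + m))) _ h1
    have h3 : a' * b' ∈ Ideal.span {t} := by rw [h2]; exact Ideal.zero_mem _
    rcases hp.mem_or_mem h3 with h | h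
    · exact ha' h
    · exact hb' h
  exact NoZeroDivisors.to_isDomain R

/-- **L4 (algebra)**: a Noetherian local ring of positive dimension has a prime of height one -/
theorem exists_isPrime_height_eq_one {R : Type*} [CommRing R] [IsNoetherianRing R] [IsLocalRing R]
    (h : 1 ≤ ringKrullDim R) : ∃ p : Ideal R, p.IsPrime ∧ p.height = 1 := by
  have h1 := IsLocalRing.maximalIdeal_height_eq_ringKrullDim (R := R)
  have hfin : (IsLocalRing.maximalIdeal R).height ≠ ⊤ :=
    Ideal.height_ne_top_of_isPrime
  have hge : 1 ≤ (IsLocalRing.maximalIdeal R).height := by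
    rw [← h1] at h
    exact_mod_cast h
  rcases hge.eq_or_lt with heq | hlt
  · exact ⟨IsLocalRing.maximalIdeal R, inferInstance, heq.symm⟩
  · have h2 := PrimeSpectrum.height_eq_orderHeight (IsLocalRing.closedPoint R)
    have hlt' : ((1 : ℕ) : ℕ∞) < Order.height (IsLocalRing.closedPoint R) := by
      rw [← h2]; exact_mod_cast hlt
    have hfin' : Order.height (IsLocalRing.closedPoint R) < ⊤ := by
      rw [← h2]; exact lt_top_iff_ne_top.mpr hfin
    obtain ⟨y, -, hy⟩ := (Order.coe_lt_height_iff hfin').mp hlt'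
    refine ⟨y.asIdeal, y.isPrime, ?_⟩
    rw [PrimeSpectrum.height_eq_orderHeight, hy]
    rfl

variable {X : Scheme.{u}}

/-- **L4 (scheme)** -/
theorem exists_specializes_dim_one [IsLocallyNoetherian X] (x : X)
    (hx : 1 ≤ ringKrullDim (X.presheaf.stalk x)) :
    ∃ (ζ : X) (_ : ζ ⤳ x), ringKrullDim (X.presheaf.stalk ζ) = 1 := by
  obtain ⟨p, hp, hp1⟩ := exists_isPrime_height_eq_one hx
  obtain ⟨ζ, h, rfl⟩ := exists_specializes_primeOf_eq x p
  refine ⟨ζ, h, ?_⟩
  rw [ringKrullDim_stalk_eq_height h, hp1]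
  rfl

end Groth.Agent.Lib.Helper91.GenPrime
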