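import Mathlib
import Groth.Agent.Lib.Helper91.GenPrime3

/-!
# Locally factorial schemes via codimension one points (stalk level), II
-/

set_option autoImplicit false
universe u

open CategoryTheory AlgebraicGeometry TopologicalSpace Opposite

namespace Groth.Agent.Lib.Helper91.GenPrime

variable {X : Scheme.{u}}

/-- a point without proper generization and without proper specialization is isolated -/
theorem isOpen_singleton_of_isolated [IsLocallyNoetherian X] (x : X)
    (hx : ringKrullDim (X.presheaf.stalk x) = 0) (hcl : ∀ y : X, x ⤳ y → y = x) :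
    IsOpen ({x} : Set X) := by
  obtain ⟨_, ⟨W, hW, rfl⟩, hxW, -⟩ := (X.isBasis_affineOpens).exists_subset_of_mem_open
    (Set.mem_univ x) isOpen_univ
  haveI : IsNoetherianRing Γ(X, W) := IsLocallyNoetherian.component_noetherian ⟨W, hW⟩
  letI ax : Algebra Γ(X, W) (X.presheaf.stalk x) :=
    TopCat.Presheaf.algebra_section_stalk X.presheaf ⟨x, hxW⟩
  haveI lx : IsLocalization.AtPrime (X.presheaf.stalk x) (hW.primeIdealOf ⟨x, hxW⟩).asIdeal :=
    hW.isLocalization_stalk ⟨x, hxW⟩
  have hclosed : IsClosed ({x} : Set X) := by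
    rw [← closure_subset_iff_isClosed]
    intro y hy
    exact hcl y (specializes_iff_mem_closure.mpr hy)
  have hmax : (hW.primeIdealOf ⟨x, hxW⟩).asIdeal.IsMaximal :=
    hW.primeIdealOf_isMaximal_of_isClosed ⟨x, hxW⟩ hclosed
  have hmin : (hW.primeIdealOf ⟨x, hxW⟩).asIdeal ∈ minimalPrimes Γ(X, W) := by
    rw [← Ideal.height_eq_zero_iff]
    have h1 := IsLocalization.AtPrime.ringKrullDim_eq_height
      (hW.primeIdealOf ⟨x, hxW⟩).asIdeal (X.presheaf.stalk x)
    rw [hx] at h1
    exact_mod_cast h1.symm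
  -- the complement of the point in `Spec Γ(X, W)` is closed
  have hcompl : ({hW.primeIdealOf ⟨x, hxW⟩} : Set (PrimeSpectrum Γ(X, W)))ᶜ =
      ⋃ Q ∈ {Q ∈ minimalPrimes Γ(X, W) | Q ≠ (hW.primeIdealOf ⟨x, hxW⟩).asIdeal},
        PrimeSpectrum.zeroLocus (Q : Set Γ(X, W)) := by
    ext P'
    simp only [Set.mem_compl_iff, Set.mem_singleton_iff, Set.mem_iUnion, Set.mem_setOf_eq,
      PrimeSpectrum.mem_zeroLocus, SetLike.coe_subset_coe, exists_prop]
    constructor
    · intro hne
      obtain ⟨Q, hQ, hQP⟩ := Ideal.exists_minimalPrimes_le (bot_le : ⊥ ≤ P'.asIdeal)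
      refine ⟨Q, ⟨hQ, ?_⟩, hQP⟩
      rintro rfl
      apply hne
      exact PrimeSpectrum.ext (hmax.eq_of_le P'.isPrime.ne_top hQP).symm
    · rintro ⟨Q, ⟨hQ, hQne⟩, hQP⟩ rfl
      apply hQne
      exact le_antisymm hQP (hmin.2 ⟨hQ.1.1, bot_le⟩ hQP)
  have hopen : IsOpen ({hW.primeIdealOf ⟨x, hxW⟩} : Set (PrimeSpectrum Γ(X, W))) := by
    rw [← isClosed_compl_iff, hcompl]
    apply Set.Finite.isClosed_biUnion
    · exact (minimalPrimes.finite_of_isNoetherianRing Γ(X, W)).subset (fun Q hQ => hQ.1)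
    · intro Q _
      exact PrimeSpectrum.isClosed_zeroLocus _
  have := hW.fromSpec.isOpenEmbedding.isOpenMap _ hopen
  have himg : (hW.fromSpec '' ({hW.primeIdealOf ⟨x, hxW⟩} : Set (PrimeSpectrum Γ(X, W)))) =
      {x} := by
    ext y
    constructor
    · rintro ⟨z, hz, rfl⟩
      have hz' : z = hW.primeIdealOf ⟨x, hxW⟩ := hz
      rw [hz']
      exact hW.fromSpec_primeIdealOf ⟨x, hxW⟩
    · intro hy
      have hy' : y = x := hy
      exact ⟨_, rfl, by rw [hy']; exact hW.fromSpec_primeIdealOf ⟨x, hxW⟩⟩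
  rw [← himg]
  exact this

theorem exists_specialization_ne [IsLocallyNoetherian X] (x : X)
    (hx : ringKrullDim (X.presheaf.stalk x) = 0) (hopen : ¬ IsOpen ({x} : Set X)) :
    ∃ y : X, x ⤳ y ∧ y ≠ x := by
  by_contra hcon
  push Not at hcon
  exact hopen (isOpen_singleton_of_isolated x hx hcon)

end Groth.Agent.Lib.Helper91.GenPrime
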