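import Mathlib
import Groth.Agent.Lib.Helper91.LimLin

/-!
# Small tools for function fields of genus one (FunFld family)
-/

namespace Groth.Agent.Lib.Helper91.GenusOne

open FunFld Module Groth.Agent.Lib.Helper55 Groth.Agent.Lib.Helper91.LimLin

variable {k K : Type*} [Field k] [Field K] [Algebra k K]

/-- `L D₁ ⊓ L D₂ ≤ L D` as soon as `D` dominates the pointwise minimum. -/
theorem L_inf_le_of_pointwise (D₁ D₂ D : Divisor k K)
    (h : ∀ P : Place k K, D₁ P ≤ D P ∨ D₂ P ≤ D P) : L D₁ ⊓ L D₂ ≤ L D := by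
  rintro x ⟨h1, h2⟩ P
  rcases h P with hP | hP
  · exact (h1 P).trans (WithZero.exp_le_exp.mpr hP)
  · exact (h2 P).trans (WithZero.exp_le_exp.mpr hP)

theorem ell_of_deg_pos (hK : IsFunctionField k K) (hg1 : genus k K = 1) (D : Divisor k K)
    (n : ℕ) (hn : 1 ≤ n) (hD : D.deg = n) : ell D = n := by
  have h1 := ff_ell_eq_of_deg_ge hK D (by rw [hg1, hD]; push_cast; omega)
  rw [hD, hg1] at h1
  push_cast at h1
  omega

theorem ell_le_one_of_deg_zero [IsAlgClosed k] (hK : IsFunctionField k K) (D : Divisor k K)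
    (hD : D.deg = 0) : ell D ≤ 1 := by
  have := ell_le_deg_add_one hK D 0 (by rw [hD]; rfl)
  omega

theorem ell_eq_zero_of_deg_neg (hK : IsFunctionField k K) (D : Divisor k K)
    (hD : D.deg < 0) : ell D = 0 := ff_ell_eq_zero_of_deg_neg hK hD

/-- a nonzero member of `L E` with `deg E = 0` has divisor `-E` -/
theorem exists_div_eq_neg (hK : IsFunctionField k K) (E : Divisor k K) (hdeg : E.deg = 0)
    (hne : L E ≠ ⊥) : ∃ t : K, t ≠ 0 ∧ FunFld.div k t = -E := by
  obtain ⟨t, ht0, ht⟩ := (ff_L_ne_bot_iff hK E).mp hne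
  refine ⟨t, ht0, ?_⟩
  have hd0 : (0 : Divisor k K).deg = (E + FunFld.div k t).deg := by
    rw [ff_deg_zero, ff_deg_add, ff_deg_div hK, hdeg, add_zero]
  have h1 := ff_eq_of_le_of_deg_eq hK ht hd0
  rw [eq_neg_iff_add_eq_zero, add_comm]
  exact h1.symm

end Groth.Agent.Lib.Helper91.GenusOne
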