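import Mathlib
import Groth.Prelude.Def_W4bk4goldsch23FF
import Groth.Agent.Lib.Helper86.KaehlerField
import Groth.Agent.Lib.Helper13.SepDiff3

/-!
# Geometric function fields of one variable: separating elements and differentials
-/

set_option autoImplicit false

universe u v

open scoped TensorProduct

namespace Groth.Agent.Lib.Helper91.GeomFF

variable {k : Type u} {K : Type v} [Field k] [Field K] [Algebra k K]

/-- in a domain of characteristic `p`, a sum vanishes if the sum of `p`-th powers does -/
theorem sum_eq_zero_of_sum_pow_eq_zero {T : Type*} [CommRing T] [IsDomain T] (p : ℕ)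
    [hp : Fact p.Prime] [CharP T p] {ι : Type*} [Fintype ι] (f : ι → T)
    (h : ∑ i, f i ^ p = 0) : ∑ i, f i = 0 := by
  have : ExpChar T p := ExpChar.prime hp.out
  have h2 : (∑ i, f i) ^ p = 0 := by rw [sum_pow_char p, h]
  exact eq_zero_of_pow_eq_zero h2

/-- MacLane's condition (H) for a geometric extension: `p`-th powers of `k`-independent finite
families stay independent. -/
theorem hcond (hg : FunFld.IsGeometric k K) (p : ℕ) [hp : Fact p.Prime] [CharP k p] :
    ∀ s : Finset K, LinearIndepOn k _root_.id (s : Set K) → LinearIndepOn k (· ^ p) (s : Set K) := by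
  classical
  intro s hs
  have hs' : LinearIndependent k (fun i : (s : Set K) => (i : K)) := hs
  show LinearIndependent k (fun i : (s : Set K) => (i : K) ^ p)
  rw [Fintype.linearIndependent_iff]
  intro g hsum
  -- p-th roots in the algebraic closure
  have hroot : ∀ i : (s : Set K), ∃ z : AlgebraicClosure k,
      z ^ p = algebraMap k (AlgebraicClosure k) (g i) :=
    fun i => IsAlgClosed.exists_pow_nat_eq _ hp.out.pos
  choose d hd using hroot
  let k' : IntermediateField k (AlgebraicClosure k) := IntermediateField.adjoin k (Set.range d)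
  have : FiniteDimensional k k' :=
    IntermediateField.finiteDimensional_adjoin fun x _ => (Algebra.IsAlgebraic.isAlgebraic x).isIntegral
  let d' : ↥(s : Set K) → k' := fun i => ⟨d i, IntermediateField.subset_adjoin _ _ ⟨i, rfl⟩⟩
  have hd' : ∀ i, d' i ^ p = algebraMap k k' (g i) := by
    intro i
    apply Subtype.ext
    simp only [SubmonoidClass.coe_pow, d']
    rw [hd i]
    rfl
  have hT : IsField (k' ⊗[k] K) := hg k' inferInstance
  have : Nontrivial (k' ⊗[k] K) := hT.nontrivial
  have : IsDomain (k' ⊗[k] K) := hT.isDomain
  have : CharP (k' ⊗[k] K) p :=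
    charP_of_injective_algebraMap (algebraMap k (k' ⊗[k] K)).injective p
  have hz0 : ∑ i : (s : Set K), d' i ⊗ₜ[k] (i : K) = 0 := by
    refine sum_eq_zero_of_sum_pow_eq_zero (T := k' ⊗[k] K) p
      (fun i : ↥(s : Set K) => d' i ⊗ₜ[k] (i : K)) ?_
    have : ∀ i : (s : Set K), (d' i ⊗ₜ[k] (i : K)) ^ p = (1 : k') ⊗ₜ[k] (g i • (i : K) ^ p) := by
      intro i
      rw [Algebra.TensorProduct.tmul_pow, hd', Algebra.algebraMap_eq_smul_one,
        TensorProduct.smul_tmul]
    simp_rw [this]
    rw [← TensorProduct.tmul_sum, hsum, TensorProduct.tmul_zero]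
  let c : ↥(s : Set K) →₀ k' := Finsupp.equivFunOnFinite.symm d'
  have hc : c = 0 := by
    apply Groth.Agent.Lib.Helper13.SepDiff.finsupp_eq_zero_of_sum_tmul_eq_zero
      (fun i : (s : Set K) => (i : K)) hs' c
    have := Finsupp.sum_fintype c (fun (l : ↥(s : Set K)) (m : k') => m ⊗ₜ[k] (l : K))
      (fun i => TensorProduct.zero_tmul _ _)
    rw [this]
    exact hz0
  intro i
  have h1 : d' i = 0 := by
    have := DFunLike.congr_fun hc i
    simpa [c] using this
  have h2 : algebraMap k k' (g i) = 0 := by rw [← hd', h1, zero_pow hp.out.ne_zero]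
  exact (map_eq_zero _).mp h2

/-- a function field of one variable is essentially of finite type -/
theorem essFiniteType (hK : FunFld.IsFunctionField k K) : Algebra.EssFiniteType k K := by
  obtain ⟨⟨x, hx, hfin⟩, -⟩ := hK
  have h1 : Algebra.EssFiniteType k (IntermediateField.adjoin k ({x} : Set K)) := by
    rw [IntermediateField.essFiniteType_iff]
    exact ⟨{x}, by simp⟩
  have h2 : Algebra.EssFiniteType (IntermediateField.adjoin k ({x} : Set K)) K := inferInstance
  exact Algebra.EssFiniteType.comp k (IntermediateField.adjoin k ({x} : Set K)) K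

open scoped IntermediateField.algebraAdjoinAdjoin in
/-- a transcendental element over which `K` is finite is a transcendence basis -/
theorem isTranscendenceBasis_unit {x : K} (hx : Transcendental k x)
    (hfin : Algebra.IsAlgebraic (IntermediateField.adjoin k ({x} : Set K)) K) :
    IsTranscendenceBasis k (fun _ : Unit => x) := by
  have hind : AlgebraicIndependent k (fun _ : Unit => x) :=
    algebraicIndependent_unique_type_iff.mpr hx
  rw [hind.isTranscendenceBasis_iff_isAlgebraic]
  have hr : Set.range (fun _ : Unit => x) = {x} := by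
    ext y; simp [eq_comm]
  rw [hr, ← IntermediateField.isAlgebraic_adjoin_iff_top]
  exact hfin

/-- **separating element** of a geometric function field -/
theorem exists_separating (hK : FunFld.IsFunctionField k K) (hg : FunFld.IsGeometric k K) :
    ∃ t : K, Transcendental k t ∧
      Algebra.IsSeparable (IntermediateField.adjoin k ({t} : Set K)) K := by
  classical
  have hE := essFiniteType hK
  have hsep : ∃ s : Finset K, IsTranscendenceBasis k ((↑) : s → K) ∧
      Algebra.IsSeparable (IntermediateField.adjoin k (s : Set K)) K := by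
    obtain h0 | ⟨p, hp, hpk⟩ := CharP.exists' k
    · exact exists_isTranscendenceBasis_and_isSeparable_of_perfectField k K
    · have : ExpChar k p := .prime hp.out
      exact exists_isTranscendenceBasis_and_isSeparable_of_linearIndepOn_pow_of_essFiniteType
        p hp.out (hcond hg p)
  obtain ⟨s, hs, hsep⟩ := hsep
  obtain ⟨⟨x, hx, hfin⟩, -⟩ := hK
  have hB := isTranscendenceBasis_unit hx inferInstance
  have hcard := hs.lift_cardinalMk_eq hB
  have hcard1 : s.card = 1 := by
    have : Cardinal.mk s = 1 := by
      have h2 := hcard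
      rw [Cardinal.mk_fintype, Cardinal.mk_fintype] at h2
      simp at h2
      simp [h2]
    rw [Cardinal.mk_fintype] at this
    simpa using this
  obtain ⟨t, rfl⟩ := Finset.card_eq_one.mp hcard1
  refine ⟨t, ?_, ?_⟩
  · have := hs.1
    have h3 : AlgebraicIndependent k (fun i : ({t} : Finset K) => (i : K)) := this
    have := h3.transcendental ⟨t, by simp⟩
    exact this
  · convert hsep using 3 <;> simp

/-- for a separating element `t`, `dt` is a basis of `Ω[K⁄k]` -/
theorem exists_basis_D {t : K} (ht : Transcendental k t)
    [hsep : Algebra.IsSeparable (IntermediateField.adjoin k ({t} : Set K)) K] :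
    ∃ b : Module.Basis Unit K (Ω[K⁄k]), b () = KaehlerDifferential.D k K t := by
  have hind : AlgebraicIndependent k (fun _ : Unit => t) :=
    algebraicIndependent_unique_type_iff.mpr ht
  have hr : Set.range (fun _ : Unit => t) = {t} := by
    ext y; simp [eq_comm]
  have : Algebra.IsSeparable (IntermediateField.adjoin k (Set.range (fun _ : Unit => t))) K := by
    rw [hr]; exact hsep
  obtain ⟨b, hb⟩ := Groth.Agent.Lib.Helper86.exists_basis_D_of_isSeparable (fun _ : Unit => t) hind
  exact ⟨b, hb ()⟩

/-- `dim_K Ω[K⁄k] = 1` for a geometric function field -/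
theorem finrank_kaehler (hK : FunFld.IsFunctionField k K) (hg : FunFld.IsGeometric k K) :
    Module.finrank K (Ω[K⁄k]) = 1 := by
  obtain ⟨t, ht, hsep⟩ := exists_separating hK hg
  obtain ⟨b, -⟩ := exists_basis_D ht
  rw [Module.finrank_eq_card_basis b]
  simp

/-- for a separating element, `dt ≠ 0` -/
theorem D_ne_zero_of_separating {t : K} (ht : Transcendental k t)
    [hsep : Algebra.IsSeparable (IntermediateField.adjoin k ({t} : Set K)) K] :
    KaehlerDifferential.D k K t ≠ 0 := by
  obtain ⟨b, hb⟩ := exists_basis_D ht
  rw [← hb]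
  exact b.ne_zero ()

end Groth.Agent.Lib.Helper91.GeomFF
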