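import Mathlib
import Groth.Agent.Lib.Helper91.GeomFF

/-!
# Geometric function fields in characteristic `p`: the subfield `k K^p`
-/

set_option autoImplicit false

universe u v

open scoped IntermediateField

namespace Groth.Agent.Lib.Helper91.GeomFF

variable {k : Type u} {K : Type v} [Field k] [Field K] [Algebra k K]

variable (k K) in
/-- the subfield `k K^p` -/
noncomputable abbrev kKp (p : ℕ) : IntermediateField k K :=
  IntermediateField.adjoin k (Set.range fun y : K => y ^ p)

/-- every `k`-derivation kills `k K^p` -/
theorem derivation_eq_zero_of_mem {M : Type*} [AddCommGroup M] [Module K M] [Module k M]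
    [IsScalarTower k K M] (D : Derivation k K M) (p : ℕ) [CharP K p] {x : K} (hx : x ∈ kKp k K p) :
    D x = 0 := by
  induction hx using IntermediateField.adjoin_induction with
  | mem x hx =>
    obtain ⟨y, rfl⟩ := hx
    rw [Derivation.leibniz_pow]
    have : ((p : ℕ) : K) = 0 := CharP.cast_eq_zero K p
    rw [← Nat.cast_smul_eq_nsmul K, this, zero_smul]
  | algebraMap x => exact D.map_algebraMap x
  | add x y _ _ hx hy => rw [map_add, hx, hy, add_zero]
  | inv x _ hx => rw [Derivation.leibniz_inv, hx, smul_zero]
  | mul x y _ _ hx hy => rw [Derivation.leibniz, hx, hy, smul_zero, smul_zero, add_zero]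

theorem pow_mem_kKp (p : ℕ) (y : K) : y ^ p ∈ kKp k K p :=
  IntermediateField.subset_adjoin _ _ ⟨y, rfl⟩

/-- a separating element is not in `k K^p` -/
theorem not_mem_kKp_of_separating (p : ℕ) [CharP K p] {t : K} (ht : Transcendental k t)
    [hsep : Algebra.IsSeparable (IntermediateField.adjoin k ({t} : Set K)) K] :
    t ∉ kKp k K p := by
  intro hmem
  exact D_ne_zero_of_separating ht (derivation_eq_zero_of_mem (KaehlerDifferential.D k K) p hmem)

/-- `K = (k K^p)(t)` for a separating element `t` -/
theorem adjoin_separating_eq_top (p : ℕ) [hp : Fact p.Prime] [CharP K p] {t : K}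
    [hsep : Algebra.IsSeparable (IntermediateField.adjoin k ({t} : Set K)) K] :
    (kKp k K p)⟮t⟯ = ⊤ := by
  set F := kKp k K p with hF
  set E : IntermediateField F K := F⟮t⟯ with hE
  have hkE : ∀ x ∈ IntermediateField.adjoin k ({t} : Set K), x ∈ E := by
    intro x hx
    induction hx using IntermediateField.adjoin_induction with
    | mem x hx =>
      rw [Set.mem_singleton_iff] at hx
      rw [hx]
      exact IntermediateField.mem_adjoin_simple_self F t
    | algebraMap x =>
      have : algebraMap k K x = algebraMap F K (algebraMap k F x) := rfl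
      rw [this]
      exact E.algebraMap_mem _
    | add x y _ _ hx hy => exact add_mem hx hy
    | inv x _ hx => exact inv_mem hx
    | mul x y _ _ hx hy => exact mul_mem hx hy
  -- the ring hom `k(t) → E`
  let φ : IntermediateField.adjoin k ({t} : Set K) →+* E :=
    { toFun := fun x => ⟨x.1, hkE x.1 x.2⟩
      map_one' := rfl
      map_mul' := fun _ _ => rfl
      map_zero' := rfl
      map_add' := fun _ _ => rfl }
  have hφ : (algebraMap E K).comp φ = algebraMap (IntermediateField.adjoin k ({t} : Set K)) K := rfl
  have hsepE : Algebra.IsSeparable E K := by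
    refine ⟨fun y => ?_⟩
    have hy : IsSeparable (IntermediateField.adjoin k ({t} : Set K)) y := Algebra.IsSeparable.isSeparable _ y
    have hy' : (minpoly (IntermediateField.adjoin k ({t} : Set K)) y).Separable := hy
    have h1 : ((minpoly (IntermediateField.adjoin k ({t} : Set K)) y).map φ).Separable := hy'.map
    have h2 : Polynomial.aeval y ((minpoly (IntermediateField.adjoin k ({t} : Set K)) y).map φ) = 0 := by
      rw [Polynomial.aeval_def, Polynomial.eval₂_map, hφ, ← Polynomial.aeval_def, minpoly.aeval]
    exact h1.of_dvd (minpoly.dvd E y h2)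
  have hE' : ExpChar E p := by
    have : CharP E p := (RingHom.charP_iff (algebraMap E K) (algebraMap E K).injective p).mpr inferInstance
    exact ExpChar.prime hp.out
  have hpi : IsPurelyInseparable E K := by
    rw [isPurelyInseparable_iff_pow_mem E p]
    intro y
    refine ⟨1, ?_⟩
    rw [pow_one]
    have h1 : y ^ p ∈ F := pow_mem_kKp p y
    exact ⟨algebraMap F E ⟨y ^ p, h1⟩, rfl⟩
  have hsurj := IsPurelyInseparable.surjective_algebraMap_of_isSeparable E K
  rw [eq_top_iff]
  intro y _
  obtain ⟨e, he⟩ := hsurj y
  rw [← he]
  exact e.2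

/-- `[K : k K^p] = p` for a geometric function field of characteristic `p` -/
theorem finrank_kKp (hK : FunFld.IsFunctionField k K) (hg : FunFld.IsGeometric k K)
    (p : ℕ) [hp : Fact p.Prime] [CharP K p] :
    Module.finrank (kKp k K p) K = p := by
  obtain ⟨t, ht, hsep⟩ := exists_separating hK hg
  set F := kKp k K p with hF
  have htop : F⟮t⟯ = ⊤ := adjoin_separating_eq_top p
  have htF : t ∉ F := not_mem_kKp_of_separating p ht
  let a : F := ⟨t ^ p, pow_mem_kKp p t⟩
  have hirr : Irreducible (Polynomial.X ^ p - Polynomial.C a : Polynomial F) := by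
    apply X_pow_sub_C_irreducible_of_prime hp.out
    intro b hb
    have h1 : (b : K) ^ p = t ^ p := congrArg (fun x : F => (x : K)) hb
    have h2 : (b : K) = t := by
      have : CharP K p := inferInstance
      exact frobenius_inj K p h1
    exact htF (h2 ▸ b.2)
  have hmonic : (Polynomial.X ^ p - Polynomial.C a : Polynomial F).Monic :=
    Polynomial.monic_X_pow_sub_C a hp.out.ne_zero
  have hroot : Polynomial.aeval t (Polynomial.X ^ p - Polynomial.C a : Polynomial F) = 0 := by
    simp only [map_sub, map_pow, Polynomial.aeval_X, Polynomial.aeval_C]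
    show t ^ p - (a : K) = 0
    exact sub_self _
  have hmin : minpoly F t = Polynomial.X ^ p - Polynomial.C a :=
    (minpoly.eq_of_irreducible_of_monic hirr hroot hmonic).symm
  have hint : IsIntegral F t := ⟨_, hmonic, by rw [← Polynomial.aeval_def]; exact hroot⟩
  have h3 := IntermediateField.adjoin.finrank hint
  rw [htop, IntermediateField.finrank_top', hmin, Polynomial.natDegree_X_pow_sub_C] at h3
  exact h3

end Groth.Agent.Lib.Helper91.GeomFF
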