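import Mathlib
import Groth.Agent.Lib.Helper91.GeomFF2

/-!
# Geometric function fields in characteristic `p`: `x ∈ k K^p ↔ dx = 0 ↔ x` not separating
-/

set_option autoImplicit false

universe u v

open scoped IntermediateField

namespace Groth.Agent.Lib.Helper91.GeomFF

variable {k : Type u} {K : Type v} [Field k] [Field K] [Algebra k K]

/-- `dx = 0 → x ∈ k K^p` -/
theorem mem_kKp_of_D_eq_zero (hK : FunFld.IsFunctionField k K) (hg : FunFld.IsGeometric k K)
    (p : ℕ) [hp : Fact p.Prime] [CharP K p] {x : K} (hx : KaehlerDifferential.D k K x = 0) :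
    x ∈ kKp k K p := by
  by_contra hxF
  set F := kKp k K p with hF
  have hfr : Module.finrank F K = p := finrank_kKp hK hg p
  have hsimple : IsSimpleOrder (IntermediateField F K) :=
    IntermediateField.isSimpleOrder_of_finrank_prime F K (hfr.symm ▸ hp.out)
  have htop : F⟮x⟯ = ⊤ := by
    rcases hsimple.eq_bot_or_eq_top F⟮x⟯ with h | h
    · exfalso
      rw [IntermediateField.adjoin_simple_eq_bot_iff, IntermediateField.mem_bot] at h
      obtain ⟨y, rfl⟩ := h
      exact hxF y.2
    · exact h
  have hall : ∀ y : K, KaehlerDifferential.D k K y = 0 := by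
    intro y
    have hy : y ∈ F⟮x⟯ := by rw [htop]; trivial
    induction hy using IntermediateField.adjoin_induction with
    | mem y hy =>
      rw [Set.mem_singleton_iff] at hy
      rw [hy]; exact hx
    | algebraMap y => exact derivation_eq_zero_of_mem _ p y.2
    | add a b _ _ ha hb => rw [map_add, ha, hb, add_zero]
    | inv a _ ha => rw [Derivation.leibniz_inv, ha, smul_zero]
    | mul a b _ _ ha hb => rw [Derivation.leibniz, ha, hb, smul_zero, smul_zero, add_zero]
  have hspan := KaehlerDifferential.span_range_derivation k K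
  have hbot : (⊤ : Submodule K (Ω[K⁄k])) = ⊥ := by
    rw [← hspan, Submodule.span_eq_bot]
    rintro _ ⟨y, rfl⟩
    exact hall y
  have hsub : Subsingleton (Ω[K⁄k]) := by
    refine ⟨fun a b => ?_⟩
    have ha : a ∈ (⊤ : Submodule K (Ω[K⁄k])) := trivial
    have hb : b ∈ (⊤ : Submodule K (Ω[K⁄k])) := trivial
    rw [hbot, Submodule.mem_bot] at ha hb
    rw [ha, hb]
  have h1 := finrank_kaehler hK hg
  rw [Module.finrank_zero_of_subsingleton] at h1
  exact zero_ne_one h1

/-- an element `x` with `K / k(x)` separable algebraic is transcendental -/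
theorem transcendental_of_isSeparable (hK : FunFld.IsFunctionField k K) {x : K}
    (hsep : Algebra.IsSeparable (IntermediateField.adjoin k ({x} : Set K)) K) :
    Transcendental k x := by
  intro halg
  obtain ⟨⟨x₀, hx₀, -⟩, -⟩ := hK
  have h1 : Algebra.IsAlgebraic k (IntermediateField.adjoin k ({x} : Set K)) :=
    IntermediateField.isAlgebraic_adjoin_simple halg.isIntegral
  have h2 : Algebra.IsAlgebraic (IntermediateField.adjoin k ({x} : Set K)) K := inferInstance
  have h3 : Algebra.IsAlgebraic k K := Algebra.IsAlgebraic.trans k (IntermediateField.adjoin k ({x} : Set K)) K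
  exact hx₀ (h3.isAlgebraic x₀)

/-- `x ∉ k K^p → K / k(x)` separable -/
theorem isSeparable_of_not_mem_kKp (hK : FunFld.IsFunctionField k K) (hg : FunFld.IsGeometric k K)
    (p : ℕ) [hp : Fact p.Prime] [CharP K p] {x : K} (hx : x ∉ kKp k K p) :
    Algebra.IsSeparable (IntermediateField.adjoin k ({x} : Set K)) K := by
  have hD : KaehlerDifferential.D k K x ≠ 0 := fun h => hx (mem_kKp_of_D_eq_zero hK hg p h)
  have hspan : Submodule.span K ({KaehlerDifferential.D k K x} : Set (Ω[K⁄k])) = ⊤ :=
    (finrank_eq_one_iff_of_nonzero _ hD).mp (finrank_kaehler hK hg)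
  have hE := essFiniteType hK
  apply Groth.Agent.Lib.Helper86.isSeparable_of_span_D_eq_top
    (IntermediateField.adjoin k ({x} : Set K)) {x}
  · intro y hy
    rw [Set.mem_singleton_iff] at hy
    rw [hy]
    exact IntermediateField.mem_adjoin_simple_self k x
  · rw [Set.image_singleton]; exact hspan

end Groth.Agent.Lib.Helper91.GeomFF
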