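import Mathlib
import Groth.Agent.Lib.Helper91.GeomFF3

/-!
# Geometric function fields in characteristic `p`: uniqueness of `k K^p`
-/

set_option autoImplicit false

universe u v

open scoped IntermediateField

namespace Groth.Agent.Lib.Helper91.GeomFF

variable {k : Type u} {K : Type v} [Field k] [Field K] [Algebra k K]

theorem isPurelyInseparable_kKp (p : ℕ) [hp : Fact p.Prime] [CharP K p] :
    IsPurelyInseparable (kKp k K p) K := by
  have : CharP (kKp k K p) p :=
    (RingHom.charP_iff (algebraMap (kKp k K p) K) (algebraMap (kKp k K p) K).injective p).mpr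
      inferInstance
  have : ExpChar (kKp k K p) p := ExpChar.prime hp.out
  rw [isPurelyInseparable_iff_pow_mem (kKp k K p) p]
  intro y
  exact ⟨1, ⟨⟨y ^ p, pow_mem_kKp p y⟩, by rw [pow_one]; rfl⟩⟩

/-- if `K / K₀` is purely inseparable of prime degree `p`, then `K^p ⊆ K₀` -/
theorem pow_mem_of_isPurelyInseparable_of_finrank (p : ℕ) [hp : Fact p.Prime] [CharP K p]
    (K₀ : IntermediateField k K) [hpi : IsPurelyInseparable K₀ K]
    (hfr : Module.finrank K₀ K = p) (y : K) : y ^ p ∈ K₀ := by
  have : CharP K₀ p :=
    (RingHom.charP_iff (algebraMap K₀ K) (algebraMap K₀ K).injective p).mpr inferInstance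
  have : ExpChar K₀ p := ExpChar.prime hp.out
  have hsimple : IsSimpleOrder (IntermediateField K₀ K) :=
    IntermediateField.isSimpleOrder_of_finrank_prime K₀ K (hfr.symm ▸ hp.out)
  rcases hsimple.eq_bot_or_eq_top K₀⟮y⟯ with h | h
  · rw [IntermediateField.adjoin_simple_eq_bot_iff, IntermediateField.mem_bot] at h
    obtain ⟨z, rfl⟩ := h
    exact pow_mem z.2 p
  · obtain ⟨n, a, hmin⟩ := IsPurelyInseparable.minpoly_eq_X_pow_sub_C K₀ p y
    have hfin : FiniteDimensional K₀ K := Module.finite_of_finrank_pos (hfr.symm ▸ hp.out.pos)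
    have hint : IsIntegral K₀ y := Algebra.IsIntegral.isIntegral y
    have h3 := IntermediateField.adjoin.finrank hint
    rw [h, IntermediateField.finrank_top', hfr, hmin, Polynomial.natDegree_X_pow_sub_C] at h3
    have hn : n = 1 := by
      have : p ^ 1 = p ^ n := by rw [pow_one]; exact h3
      exact (Nat.pow_right_injective hp.out.two_le this).symm
    have hroot := minpoly.aeval K₀ y
    rw [hmin, hn, pow_one] at hroot
    simp only [map_sub, map_pow, Polynomial.aeval_X, Polynomial.aeval_C] at hroot
    have : y ^ p = algebraMap K₀ K a := sub_eq_zero.mp hroot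
    rw [this]
    exact a.2

/-- `k K^p` is the only intermediate field over which `K` is purely inseparable of degree `p` -/
theorem eq_kKp_iff (hK : FunFld.IsFunctionField k K) (hg : FunFld.IsGeometric k K)
    (p : ℕ) [hp : Fact p.Prime] [CharP K p] (K₀ : IntermediateField k K) :
    (IsPurelyInseparable K₀ K ∧ Module.finrank K₀ K = p) ↔ K₀ = kKp k K p := by
  constructor
  · rintro ⟨hpi, hfr⟩
    have hle : kKp k K p ≤ K₀ := by
      rw [IntermediateField.adjoin_le_iff]
      rintro _ ⟨y, rfl⟩
      exact pow_mem_of_isPurelyInseparable_of_finrank p K₀ hfr y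
    set F := kKp k K p with hF
    have hfrF : Module.finrank F K = p := finrank_kKp hK hg p
    have hsimple : IsSimpleOrder (IntermediateField F K) :=
      IntermediateField.isSimpleOrder_of_finrank_prime F K (hfrF.symm ▸ hp.out)
    rcases hsimple.eq_bot_or_eq_top (IntermediateField.extendScalars hle) with h | h
    · ext x
      rw [← IntermediateField.mem_extendScalars (h := hle), h, IntermediateField.mem_bot]
      constructor
      · rintro ⟨z, rfl⟩
        exact z.2
      · intro hx
        exact ⟨⟨x, hx⟩, rfl⟩
    · exfalso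
      have htop : K₀ = ⊤ := by
        ext x
        rw [← IntermediateField.mem_extendScalars (h := hle), h]
        simp
      have h1 : Module.finrank K₀ K = 1 := IntermediateField.finrank_eq_one_iff_eq_top.mpr htop
      rw [hfr] at h1
      exact hp.out.one_lt.ne' h1
  · rintro rfl
    exact ⟨isPurelyInseparable_kKp p, finrank_kKp hK hg p⟩

end Groth.Agent.Lib.Helper91.GeomFF
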