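/-
Helper library (helper91): the graph of an endomorphism is the pullback of the diagonal along
`ψ × id`.
-/
import Mathlib

set_option autoImplicit false
universe u

open CategoryTheory CategoryTheory.Limits AlgebraicGeometry

namespace Groth.Agent.Lib.Helper91.GraphCyc

variable {X S : Scheme.{u}}

theorem isPullback_graph (f : X ⟶ S) (ψ : X ⟶ X)
    (m : pullback f f ⟶ pullback f f) (hm₁ : m ≫ pullback.fst f f = pullback.fst f f ≫ ψ)
    (hm₂ : m ≫ pullback.snd f f = pullback.snd f f) (g : X ⟶ pullback f f)
    (hg₁ : g ≫ pullback.fst f f = 𝟙 X) (hg₂ : g ≫ pullback.snd f f = ψ) :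
    IsPullback g ψ m (pullback.diagonal f) := by
  have w : g ≫ m = ψ ≫ pullback.diagonal f := by
    apply pullback.hom_ext
    · rw [Category.assoc, hm₁, ← Category.assoc, hg₁, Category.id_comp, Category.assoc,
        pullback.diagonal_fst, Category.comp_id]
    · rw [Category.assoc, hm₂, hg₂, Category.assoc, pullback.diagonal_snd, Category.comp_id]
  refine ⟨⟨w⟩, ⟨PullbackCone.IsLimit.mk w (fun s => s.fst ≫ pullback.fst f f) ?_ ?_ ?_⟩⟩
  · intro s
    have hs := s.condition
    have h1 : s.fst ≫ pullback.fst f f ≫ ψ = s.snd := by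
      rw [← hm₁, ← Category.assoc, hs, Category.assoc, pullback.diagonal_fst, Category.comp_id]
    have h2 : s.fst ≫ pullback.snd f f = s.snd := by
      rw [← hm₂, ← Category.assoc, hs, Category.assoc, pullback.diagonal_snd, Category.comp_id]
    apply pullback.hom_ext
    · rw [Category.assoc, Category.assoc, hg₁, Category.comp_id]
    · rw [Category.assoc, Category.assoc, hg₂, h1, h2]
  · intro s
    have hs := s.condition
    rw [Category.assoc, ← hm₁, ← Category.assoc, hs, Category.assoc, pullback.diagonal_fst,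
      Category.comp_id]
  · intro s l hl _
    rw [← hl, Category.assoc, hg₁, Category.comp_id]

/-- points of the graph -/
theorem exists_preimage (f : X ⟶ S) (ψ : X ⟶ X)
    (m : pullback f f ⟶ pullback f f) (g : X ⟶ pullback f f)
    (H : IsPullback g ψ m (pullback.diagonal f)) (y : ↥(pullback f f)) (x₀ : X)
    (h : m y = pullback.diagonal f x₀) : ∃ x : X, g x = y ∧ ψ x = x₀ := by
  obtain ⟨z, hz₁, hz₂⟩ := Scheme.Pullback.exists_preimage_pullback y x₀ h
  refine ⟨H.isoPullback.inv z, ?_, ?_⟩
  · rw [← hz₁, ← Scheme.Hom.comp_apply, H.isoPullback_inv_fst]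
  · rw [← hz₂, ← Scheme.Hom.comp_apply, H.isoPullback_inv_snd]

end Groth.Agent.Lib.Helper91.GraphCyc
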