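/-
Helper library (helper91): for a cartesian square of closed immersions, at the image of the generic
point of an integral source the maximal ideal upstairs is generated by the maximal ideal downstairs.
-/
import Mathlib
import Groth.Agent.Lib.Helper20.IdealComap

set_option autoImplicit false
set_option linter.style.haveILetI false
universe u

open CategoryTheory CategoryTheory.Limits AlgebraicGeometry TopologicalSpace Opposite

namespace Groth.Agent.Lib.Helper91.GraphCyc

variable {X' X Y' Y : Scheme.{u}}

theorem map_maximalIdeal_eq [IsIntegral X'] (g : X' ⟶ Y') (ψ : X' ⟶ X) (m : Y' ⟶ Y) (d : X ⟶ Y)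
    [IsClosedImmersion g] [IsClosedImmersion d] (H : IsPullback g ψ m d) :
    Ideal.map (m.stalkMap (g (genericPoint X'))).hom
      (IsLocalRing.maximalIdeal (Y.presheaf.stalk (m (g (genericPoint X'))))) =
    IsLocalRing.maximalIdeal (Y'.presheaf.stalk (g (genericPoint X'))) := by
  have hker : g.ker = d.ker.comap m := by
    have h0 : g = H.isoPullback.hom ≫ pullback.fst m d := (H.isoPullback_hom_fst).symm
    rw [h0, Scheme.Hom.ker_comp_of_isIso, Scheme.IdealSheafData.ker_fst_of_isClosedImmersion]
  apply le_antisymm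
  · exact Ideal.map_le_iff_le_comap.mpr (fun a ha => map_nonunit _ a ha)
  · intro t ht
    obtain ⟨V, hV, hmyV, -⟩ := exists_isAffineOpen_mem_and_subset
      (x := m (g (genericPoint X'))) (U := ⊤) trivial
    obtain ⟨W, hyW, a, rfl⟩ := Y'.presheaf.exists_germ_eq t
    obtain ⟨U, hU, hyU, hUle⟩ := exists_isAffineOpen_mem_and_subset
      (x := g (genericPoint X')) (U := W ⊓ m ⁻¹ᵁ V) ⟨hyW, hmyV⟩
    have e : U ≤ m ⁻¹ᵁ V := hUle.trans inf_le_right
    obtain ⟨a', ha'def⟩ : ∃ a' : Γ(Y', U),
        a' = Y'.presheaf.map (homOfLE (hUle.trans inf_le_left)).op a := ⟨_, rfl⟩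
    have hgerm : Y'.presheaf.germ U (g (genericPoint X')) hyU a' =
        Y'.presheaf.germ W (g (genericPoint X')) hyW a := by
      rw [ha'def]
      exact TopCat.Presheaf.germ_res_apply _ _ _ _ _
    -- `a'` vanishes on the closed subscheme
    have ha' : g.app U a' = 0 := by
      apply germ_injective_of_isIntegral X' (genericPoint X') (U := g ⁻¹ᵁ U) hyU
      rw [map_zero, ← Scheme.Hom.germ_stalkMap_apply]
      have hmem : g.stalkMap (genericPoint X')
          (Y'.presheaf.germ U (g (genericPoint X')) hyU a') ∈
          IsLocalRing.maximalIdeal (X'.presheaf.stalk (genericPoint X')) :=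
        map_nonunit (g.stalkMap (genericPoint X')).hom _ (by rw [hgerm]; exact ht)
      have hbot : IsLocalRing.maximalIdeal (X'.presheaf.stalk (genericPoint X')) = ⊥ :=
        IsLocalRing.maximalIdeal_eq_bot (R := X'.functionField)
      rw [hbot] at hmem
      exact hmem
    have hmem : a' ∈ (d.ker.ideal ⟨V, hV⟩).map (m.appLE V U e).hom := by
      rw [← Groth.Agent.Lib.Helper20.ideal_comap m d.ker ⟨U, hU⟩ ⟨V, hV⟩ e, ← hker,
        Scheme.Hom.ker_apply, RingHom.mem_ker]
      exact ha'
    have hcomp : ∀ b : Γ(Y, V), Y'.presheaf.germ U (g (genericPoint X')) hyU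
        ((m.appLE V U e).hom b) =
        (m.stalkMap (g (genericPoint X'))).hom
          (Y.presheaf.germ V (m (g (genericPoint X'))) hmyV b) := by
      intro b
      have h1 : (m.appLE V U e).hom b =
          Y'.presheaf.map (homOfLE e).op (m.app V b) := rfl
      rw [h1]
      erw [TopCat.Presheaf.germ_res_apply]
      exact (Scheme.Hom.germ_stalkMap_apply m V (g (genericPoint X')) hmyV b).symm
    rw [← hgerm]
    have hle : (d.ker.ideal ⟨V, hV⟩).map (m.appLE V U e).hom ≤
        Ideal.comap (Y'.presheaf.germ U (g (genericPoint X')) hyU).hom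
          (Ideal.map (m.stalkMap (g (genericPoint X'))).hom
            (IsLocalRing.maximalIdeal (Y.presheaf.stalk (m (g (genericPoint X')))))) := by
      rw [Ideal.map_le_iff_le_comap]
      intro b hb
      rw [Ideal.mem_comap, Ideal.mem_comap]
      show Y'.presheaf.germ U (g (genericPoint X')) hyU ((m.appLE V U e).hom b) ∈ _
      rw [hcomp b]
      apply Ideal.mem_map_of_mem
      rw [Scheme.Hom.ker_apply, RingHom.mem_ker] at hb
      rw [IsLocalRing.mem_maximalIdeal, mem_nonunits_iff]
      intro hunit
      have h2 : m (g (genericPoint X')) ∈ Y.basicOpen b :=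
        (Scheme.mem_basicOpen _ _ _ hmyV).mpr hunit
      have h3 : m (g (genericPoint X')) = d (ψ (genericPoint X')) := by
        rw [← Scheme.Hom.comp_apply, ← Scheme.Hom.comp_apply, H.w]
      rw [h3] at h2
      have h4 : ψ (genericPoint X') ∈ d ⁻¹ᵁ Y.basicOpen b := h2
      rw [Scheme.preimage_basicOpen] at h4
      have h5 : (d.app V) b = 0 := hb
      rw [h5, Scheme.basicOpen_zero] at h4
      exact h4
    exact hle hmem

end Groth.Agent.Lib.Helper91.GraphCyc
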