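/-
Helper library (helper91): `(ψ × id)^*[Δ] = [Γ_ψ]` on the square of a smooth proper curve.
-/
import Mathlib
import Groth.Prelude.Def_Cyc
import Groth.Agent.Lib.Helper73.GenericFibreDimField
import Groth.Agent.Lib.Helper91.DimOneTop
import Groth.Agent.Lib.Helper91.GraphCyc1
import Groth.Agent.Lib.Helper91.GraphCyc2

set_option autoImplicit false
set_option linter.style.haveILetI false
universe u

open CategoryTheory CategoryTheory.Limits AlgebraicGeometry TopologicalSpace Opposite

namespace Groth.Agent.Lib.Helper91.GraphCyc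

/-- `δ` of a point is the dimension of its closure -/
theorem exists_delta_eq {Y : Scheme.{u}} (k : Type u) [Field k]
    (F : Y ⟶ Spec (CommRingCat.of k)) [LocallyOfFiniteType F]
    (δ : Y → ℤ) (hδ : Cyc.DeltaCompat F δ (fun _ => 0)) (y : Y) :
    ∃ n : ℕ, δ y = n ∧ topologicalKrullDim ↥(closure ({y} : Set Y)) = n := by
  obtain ⟨n, hn, hn'⟩ := hδ y
  refine ⟨n, by simpa using hn', ?_⟩
  exact Groth.Agent.Lib.Helper73.FieldDim.topologicalKrullDim_closure_singleton_of_subsingleton
    F y n hn

theorem delta_section_generic {X Y : Scheme.{u}} [IsIntegral X]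
    (hdim : topologicalKrullDim ↥X = 1) (s : X ⟶ Y) [IsClosedImmersion s]
    (k : Type u) [Field k] (F : Y ⟶ Spec (CommRingCat.of k)) [LocallyOfFiniteType F]
    (δ : Y → ℤ) (hδ : Cyc.DeltaCompat F δ (fun _ => 0)) :
    δ (s (genericPoint ↥X)) = 1 := by
  obtain ⟨n, hn, hd⟩ := exists_delta_eq k F δ hδ (s (genericPoint ↥X))
  have hcl : closure ({s (genericPoint ↥X)} : Set Y) = s '' Set.univ := by
    rw [← Set.image_singleton, s.isClosedEmbedding.closure_image_eq,
      (genericPoint_spec ↥X : closure {genericPoint ↥X} = Set.univ)]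
  have h1 : topologicalKrullDim ↥(closure ({s (genericPoint ↥X)} : Set Y)) =
      topologicalKrullDim ↥X := by
    rw [hcl]
    have e1 := (s.isClosedEmbedding.isEmbedding.homeomorphImage Set.univ)
    have e2 := Homeomorph.Set.univ ↥X
    exact ((e2.symm.trans e1).isHomeomorph.topologicalKrullDim_eq _).symm
  rw [h1, hdim] at hd
  have h2 : n = 1 := by exact_mod_cast hd.symm
  rw [hn, h2]
  rfl

theorem delta_section_ne {X Y : Scheme.{u}} [IsIntegral X]
    (hdim : topologicalKrullDim ↥X = 1) (s : X ⟶ Y) [IsClosedImmersion s]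
    (k : Type u) [Field k] (F : Y ⟶ Spec (CommRingCat.of k)) [LocallyOfFiniteType F]
    (δ : Y → ℤ) (hδ : Cyc.DeltaCompat F δ (fun _ => 0)) (x : X) (hx : x ≠ genericPoint ↥X) :
    δ (s x) = 0 := by
  obtain ⟨n, hn, hd⟩ := exists_delta_eq k F δ hδ (s x)
  have hclx : closure ({x} : Set X) = {x} := by
    apply Groth.Agent.Lib.Helper91.DimOneTop.closure_singleton_eq_of_lt (hdim.le)
      (Z := Groth.Agent.Lib.Helper91.DimOneTop.cl (genericPoint ↥X))
    refine lt_of_le_of_ne ?_ ?_
    · rw [Groth.Agent.Lib.Helper91.DimOneTop.cl_le_iff]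
      show x ∈ closure ({genericPoint ↥X} : Set X)
      rw [(genericPoint_spec ↥X : closure {genericPoint ↥X} = Set.univ)]
      trivial
    · intro h
      exact hx (Groth.Agent.Lib.Helper91.DimOneTop.cl_injective h)
  have hcl : closure ({s x} : Set Y) = {s x} := by
    rw [← Set.image_singleton, s.isClosedEmbedding.closure_image_eq, hclx]
  rw [hcl] at hd
  have h0 : topologicalKrullDim ↥({s x} : Set Y) ≤ 0 :=
    topologicalKrullDim_zero_of_discreteTopology _
  rw [hd] at h0
  have h2 : n = 0 := by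
    have : (n : WithBot ℕ∞) ≤ ((0 : ℕ) : WithBot ℕ∞) := h0
    have := WithBot.coe_le_coe.mp this
    have h3 : n ≤ 0 := by exact_mod_cast this
    omega
  rw [hn, h2]
  rfl

theorem psi_genericPoint {X : Scheme.{u}} [IsIntegral X] (ψ : X ⟶ X) [Flat ψ] :
    ψ (genericPoint ↥X) = genericPoint ↥X := by
  have hgen : GeneralizingMap ψ := Flat.generalizingMap ψ
  obtain ⟨x', hx', hψx'⟩ := hgen (genericPoint_specializes (ψ (genericPoint ↥X)))
  have : x' = genericPoint ↥X :=
    (hx'.antisymm (genericPoint_specializes x')).eq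
  rw [this] at hψx'
  exact hψx'

theorem length_quot_maximalIdeal (R : Type u) [CommRing R] [IsLocalRing R] :
    ((Module.length R (R ⧸ IsLocalRing.maximalIdeal R)).toNat : ℤ) = 1 := by
  haveI : IsSimpleModule R (R ⧸ IsLocalRing.maximalIdeal R) :=
    isSimpleModule_iff_quot_maximal.mpr ⟨_, IsLocalRing.maximalIdeal.isMaximal R, ⟨LinearEquiv.refl _ _⟩⟩
  rw [Module.length_eq_one]
  rfl

theorem main (k : Type u) [Field k]
    (X : Scheme.{u}) (f : X ⟶ Spec (CommRingCat.of k)) [Smooth f] [IsProper f]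
    [IsIntegral X] (hdim : topologicalKrullDim ↥X = 1) (ψ : X ⟶ X) [Flat ψ]
    (m : pullback f f ⟶ pullback f f) (hm₁ : m ≫ pullback.fst f f = pullback.fst f f ≫ ψ)
    (hm₂ : m ≫ pullback.snd f f = pullback.snd f f) (g : X ⟶ pullback f f)
    (hg₁ : g ≫ pullback.fst f f = 𝟙 X) (hg₂ : g ≫ pullback.snd f f = ψ)
    (δ : ↥(pullback f f) → ℤ) (hδ : Cyc.DeltaCompat (pullback.fst f f ≫ f) δ (fun _ => 0)) :
    Cyc.pullFun m δ δ 0
        (Set.indicator ({pullback.diagonal f (genericPoint ↥X)} : Set ↥(pullback f f))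
          (fun _ => (1 : ℤ))) =
      Set.indicator ({g (genericPoint ↥X)} : Set ↥(pullback f f)) (fun _ => (1 : ℤ)) := by
  have H := isPullback_graph f ψ m hm₁ hm₂ g hg₁ hg₂
  haveI : IsClosedImmersion (pullback.diagonal f) := inferInstance
  haveI : IsClosedImmersion g := by
    haveI : IsClosedImmersion (g ≫ pullback.fst f f) := by rw [hg₁]; infer_instance
    exact IsClosedImmersion.of_comp g (pullback.fst f f)
  haveI : LocallyOfFiniteType (pullback.fst f f ≫ f) := inferInstance
  have hψη : ψ (genericPoint ↥X) = genericPoint ↥X := psi_genericPoint ψ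
  have hmg : m (g (genericPoint ↥X)) = pullback.diagonal f (genericPoint ↥X) := by
    rw [← Scheme.Hom.comp_apply, H.w, Scheme.Hom.comp_apply, hψη]
  have hδg : δ (g (genericPoint ↥X)) = 1 :=
    delta_section_generic hdim g k (pullback.fst f f ≫ f) δ hδ
  have hδd : δ (pullback.diagonal f (genericPoint ↥X)) = 1 :=
    delta_section_generic hdim (pullback.diagonal f) k (pullback.fst f f ≫ f) δ hδ
  funext y
  by_cases hy : y = g (genericPoint ↥X)
  · subst hy
    have hlen := map_maximalIdeal_eq g ψ m (pullback.diagonal f) H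
    simp only [Cyc.pullFun]
    rw [if_pos (by rw [hmg, hδg, hδd]; rfl)]
    rw [Set.indicator_of_mem (show m (g (genericPoint ↥X)) ∈
        ({pullback.diagonal f (genericPoint ↥X)} : Set ↥(pullback f f)) from hmg),
      Set.indicator_of_mem (Set.mem_singleton _), hlen,
      length_quot_maximalIdeal, one_mul]
  · rw [Set.indicator_of_notMem (show y ∉ ({g (genericPoint ↥X)} : Set ↥(pullback f f)) from hy)]
    simp only [Cyc.pullFun]
    by_cases hmy : m y = pullback.diagonal f (genericPoint ↥X)
    · obtain ⟨x, hx, hψx⟩ := exists_preimage f ψ m g H y (genericPoint ↥X) hmy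
      have hxη : x ≠ genericPoint ↥X := by
        rintro rfl
        exact hy hx.symm
      have h0 : δ y = 0 := by
        rw [← hx]
        exact delta_section_ne hdim g k (pullback.fst f f ≫ f) δ hδ x hxη
      rw [if_neg (by rw [hmy, hδd, h0]; norm_num)]
    · rw [Set.indicator_of_notMem (show m y ∉
        ({pullback.diagonal f (genericPoint ↥X)} : Set ↥(pullback f f)) from hmy)]
      split_ifs <;> simp

end Groth.Agent.Lib.Helper91.GraphCyc
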