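import Mathlib
import Groth.Prelude.Def_CAlg
import Groth.Agent.Lib.Helper91.HartogsOpen
import Groth.Agent.Lib.Helper91.ImmRestrict

/-!
# Hartogs: schematic density, extension along open immersions, and a separated ext lemma
-/

set_option autoImplicit false
universe u

open CategoryTheory CategoryTheory.Limits AlgebraicGeometry TopologicalSpace Opposite

namespace Groth.Agent.Lib.Helper91.HartogsRel

open Groth.Agent.Lib.Helper91.Hartogs

/-- two morphisms over a separated base that agree on a schematically dense subscheme are equal -/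
theorem ext_of_schemeTheoreticallyDominant {W X Y Z : Scheme.{u}} {f g : X ⟶ Y} (s : Y ⟶ Z)
    [IsSeparated s] (h : f ≫ s = g ≫ s) (ι : W ⟶ X) [IsSchemeTheoreticallyDominant ι]
    (hU : ι ≫ f = ι ≫ g) : f = g := by
  let X' : Over Z := Over.mk (f ≫ s)
  let Y' : Over Z := Over.mk s
  let U' : Over Z := Over.mk (ι ≫ f ≫ s)
  let f' : X' ⟶ Y' := Over.homMk f
  let g' : X' ⟶ Y' := Over.homMk g h.symm
  let ι' : U' ⟶ X' := Over.homMk ι
  have : IsSeparated Y'.hom := ‹_›
  have hιeq : ι' ≫ f' = ι' ≫ g' := by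
    ext1
    exact hU
  have hfac : (equalizer.lift ι' hιeq).left ≫ (equalizer.ι f' g').left = ι := by
    rw [← Over.comp_left, equalizer.lift_ι]
    rfl
  have hker : (equalizer.ι f' g').left.ker = ⊥ := by
    apply le_bot_iff.mp
    calc (equalizer.ι f' g').left.ker
        ≤ ((equalizer.lift ι' hιeq).left ≫ (equalizer.ι f' g').left).ker :=
          Scheme.Hom.le_ker_comp _ _
      _ = ι.ker := by rw [hfac]
      _ = ⊥ := ι.ker_eq_bot
  have := IsClosedImmersion.isIso_iff_ker_eq_bot.mpr hker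
  rw [← cancel_epi (equalizer.ι f' g').left]
  exact congr($(equalizer.condition f' g').left)

variable {X : Scheme.{u}} [IsLocallyNoetherian X]

/-- an open subscheme containing all points of depth `≤ 1` is schematically dense -/
theorem isSchemeTheoreticallyDominant_ι (U : X.Opens)
    (hdepth : ∀ x : X, x ∉ U →
      (2 : ℕ∞) ≤ LocCoh.depth (X.presheaf.stalk x) (X.presheaf.stalk x)) :
    IsSchemeTheoreticallyDominant U.ι := by
  haveI : QuasiCompact U.ι :=
    Groth.Agent.Lib.Helper91.ImmRestrict.quasiCompact_of_isLocallyNoetherian U.ι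
  rw [isSchemeTheoreticallyDominant_iff]
  apply le_bot_iff.mp
  rw [Scheme.IdealSheafData.le_def]
  intro V
  rw [Scheme.Hom.ker_apply, Scheme.IdealSheafData.ideal_bot]
  intro a ha
  rw [RingHom.mem_ker] at ha
  show a = 0
  have hle : V.1 ⊓ U ≤ U.ι ''ᵁ U.ι ⁻¹ᵁ V.1 := by
    rintro x ⟨hxV, hxU⟩
    exact ⟨⟨x, hxU⟩, hxV, rfl⟩
  have hle' : U.ι ''ᵁ U.ι ⁻¹ᵁ V.1 ≤ V.1 := Set.image_preimage_subset _ _
  have ha' : res hle' a = 0 := ha
  apply res_injective U hdepth V.1
  rw [map_zero]
  have : res (inf_le_left : V.1 ⊓ U ≤ V.1) a = res hle (res hle' a) := by rw [res_res]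
  rw [this, ha', map_zero]

/-- **Hartogs along an open immersion**: morphisms to an affine scheme extend uniquely -/
theorem existsUnique_extension_of_isOpenImmersion {D : Scheme.{u}} (j : D ⟶ X) [IsOpenImmersion j]
    (hdepth : ∀ x : X, x ∉ Set.range j →
      (2 : ℕ∞) ≤ LocCoh.depth (X.presheaf.stalk x) (X.presheaf.stalk x))
    (Y : Scheme.{u}) [IsAffine Y] (f : D ⟶ Y) : ∃! g : X ⟶ Y, j ≫ g = f := by
  have hdepth' : ∀ x : X, x ∉ j.opensRange →
      (2 : ℕ∞) ≤ LocCoh.depth (X.presheaf.stalk x) (X.presheaf.stalk x) := hdepth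
  obtain ⟨g, hg, huniq⟩ := existsUnique_extension j.opensRange hdepth' Y (j.isoOpensRange.inv ≫ f)
  refine ⟨g, ?_, ?_⟩
  · show j ≫ g = f
    rw [← j.isoOpensRange_hom_ι, Category.assoc, hg, Iso.hom_inv_id_assoc]
  · intro g' hg'
    apply huniq
    show j.opensRange.ι ≫ g' = j.isoOpensRange.inv ≫ f
    rw [← hg', ← Category.assoc, j.isoOpensRange_inv_comp]

end Groth.Agent.Lib.Helper91.HartogsRel
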