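import Mathlib
import Groth.Prelude.Def_CAlg
import Groth.Agent.Lib.Helper91.HartogsRel

/-!
# Hartogs extension for morphisms into a scheme affine over the base
-/

set_option autoImplicit false
universe u

open CategoryTheory CategoryTheory.Limits AlgebraicGeometry TopologicalSpace Opposite

namespace Groth.Agent.Lib.Helper91.HartogsRel

open Groth.Agent.Lib.Helper91.Hartogs

/-- depth does not drop along a flat local homomorphism -/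
theorem depth_le_of_flat {A B : Type u} [CommRing A] [CommRing B] [IsLocalRing A] [IsLocalRing B]
    (φ : A →+* B) [IsLocalHom φ] (hφ : φ.Flat) : LocCoh.depth A A ≤ LocCoh.depth B B := by
  letI := φ.toAlgebra
  haveI : Module.Flat A B := hφ
  unfold LocCoh.depth LocCoh.idealDepth
  rw [if_neg maximalIdeal_smul_top_ne_top, if_neg maximalIdeal_smul_top_ne_top]
  apply iSup₂_le
  rintro rs ⟨hreg, hmem⟩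
  refine le_iSup₂_of_le (rs.map (algebraMap A B)) ⟨hreg.of_flat, ?_⟩ (by rw [List.length_map])
  intro r hr
  obtain ⟨a, ha, rfl⟩ := List.mem_map.mp hr
  rw [IsLocalRing.mem_maximalIdeal]
  intro hu
  exact (IsLocalRing.mem_maximalIdeal _).mp (hmem a ha) (isUnit_of_map_unit φ a hu)

variable {S G₁ G₂ : Scheme.{u}} [IsLocallyNoetherian G₁]

theorem existsUnique_extension_affineHom (f₁ : G₁ ⟶ S) (f₂ : G₂ ⟶ S) [IsAffineHom f₂]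
    (D : G₁.Opens)
    (hdepth : ∀ x : G₁, x ∉ D →
      (2 : ℕ∞) ≤ LocCoh.depth (G₁.presheaf.stalk x) (G₁.presheaf.stalk x))
    (ψ : (D : Scheme.{u}) ⟶ G₂) (hψ : ψ ≫ f₂ = D.ι ≫ f₁) :
    ∃! φ : G₁ ⟶ G₂, φ ≫ f₂ = f₁ ∧ D.ι ≫ φ = ψ := by
  haveI hdom : IsSchemeTheoreticallyDominant D.ι := isSchemeTheoreticallyDominant_ι D hdepth
  haveI : QuasiCompact D.ι :=
    Groth.Agent.Lib.Helper91.ImmRestrict.quasiCompact_of_isLocallyNoetherian D.ι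
  -- local pieces
  have key : ∀ W : S.affineOpens, ∃ h : ((f₁ ⁻¹ᵁ W.1 : G₁.Opens) : Scheme.{u}) ⟶ G₂,
      h ≫ f₂ = (f₁ ⁻¹ᵁ W.1).ι ≫ f₁ ∧
      pullback.snd D.ι (f₁ ⁻¹ᵁ W.1).ι ≫ h = pullback.fst D.ι (f₁ ⁻¹ᵁ W.1).ι ≫ ψ := by
    intro W
    haveI : IsAffine ((f₂ ⁻¹ᵁ W.1 : G₂.Opens) : Scheme.{u}) := W.2.preimage f₂
    haveI : IsAffine (W.1 : Scheme.{u}) := W.2
    have hdepthV : ∀ x : (f₁ ⁻¹ᵁ W.1).toScheme,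
        x ∉ Set.range (pullback.snd D.ι (f₁ ⁻¹ᵁ W.1).ι) →
        (2 : ℕ∞) ≤ LocCoh.depth ((f₁ ⁻¹ᵁ W.1).toScheme.presheaf.stalk x)
          ((f₁ ⁻¹ᵁ W.1).toScheme.presheaf.stalk x) := by
      intro x hx
      rw [depth_stalk_opens (f₁ ⁻¹ᵁ W.1) x]
      apply hdepth
      intro hxD
      apply hx
      rw [Scheme.Pullback.range_snd]
      show (f₁ ⁻¹ᵁ W.1).ι x ∈ Set.range D.ι
      rw [Scheme.Opens.range_ι]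
      exact hxD
    have hrange : Set.range (pullback.fst D.ι (f₁ ⁻¹ᵁ W.1).ι ≫ ψ) ⊆
        Set.range (f₂ ⁻¹ᵁ W.1).ι := by
      rintro _ ⟨p, rfl⟩
      rw [Scheme.Opens.range_ι]
      show f₂ ((pullback.fst D.ι (f₁ ⁻¹ᵁ W.1).ι ≫ ψ) p) ∈ W.1
      rw [← Scheme.Hom.comp_apply, Category.assoc, hψ, ← Category.assoc, pullback.condition,
        Category.assoc, Scheme.Hom.comp_apply]
      exact (pullback.snd D.ι (f₁ ⁻¹ᵁ W.1).ι p).2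
    have hl : IsOpenImmersion.lift (f₂ ⁻¹ᵁ W.1).ι (pullback.fst D.ι (f₁ ⁻¹ᵁ W.1).ι ≫ ψ) hrange ≫
        (f₂ ⁻¹ᵁ W.1).ι = pullback.fst D.ι (f₁ ⁻¹ᵁ W.1).ι ≫ ψ := IsOpenImmersion.lift_fac _ _ _
    obtain ⟨g, hg, -⟩ := existsUnique_extension_of_isOpenImmersion
      (pullback.snd D.ι (f₁ ⁻¹ᵁ W.1).ι) hdepthV _
      (IsOpenImmersion.lift (f₂ ⁻¹ᵁ W.1).ι (pullback.fst D.ι (f₁ ⁻¹ᵁ W.1).ι ≫ ψ) hrange)
    have hg' : pullback.snd D.ι (f₁ ⁻¹ᵁ W.1).ι ≫ g ≫ (f₂ ⁻¹ᵁ W.1).ι =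
        pullback.fst D.ι (f₁ ⁻¹ᵁ W.1).ι ≫ ψ := by
      rw [← Category.assoc, hg, hl]
    refine ⟨g ≫ (f₂ ⁻¹ᵁ W.1).ι, ?_, hg'⟩
    have h1 : g ≫ (f₂ ∣_ W.1) = f₁ ∣_ W.1 := by
      apply (existsUnique_extension_of_isOpenImmersion (pullback.snd D.ι (f₁ ⁻¹ᵁ W.1).ι) hdepthV
        (W.1 : Scheme.{u}) (pullback.snd D.ι (f₁ ⁻¹ᵁ W.1).ι ≫ (f₁ ∣_ W.1))).unique _ rfl
      rw [← cancel_mono W.1.ι]
      simp only [Category.assoc, morphismRestrict_ι]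
      rw [reassoc_of% hg', hψ, ← Category.assoc, pullback.condition, Category.assoc]
    rw [Category.assoc, ← morphismRestrict_ι, ← Category.assoc, h1, morphismRestrict_ι]
  choose h hh₁ hh₂ using key
  have hcov : IsOpenCover (fun W : S.affineOpens => f₁ ⁻¹ᵁ W.1) := by
    rw [IsOpenCover, eq_top_iff]
    intro x _
    obtain ⟨_, ⟨W, hW, rfl⟩, hxW, -⟩ := (S.isBasis_affineOpens).exists_subset_of_mem_open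
      (Set.mem_univ (f₁ x)) isOpen_univ
    exact Opens.mem_iSup.mpr ⟨⟨W, hW⟩, hxW⟩
  let 𝒰 := G₁.openCoverOfIsOpenCover _ hcov
  have hglue : ∀ W W' : S.affineOpens,
      pullback.fst (f₁ ⁻¹ᵁ W.1).ι (f₁ ⁻¹ᵁ W'.1).ι ≫ h W =
        pullback.snd (f₁ ⁻¹ᵁ W.1).ι (f₁ ⁻¹ᵁ W'.1).ι ≫ h W' := by
    intro W W'
    refine ext_of_schemeTheoreticallyDominant f₂ ?_
      (pullback.snd D.ι (pullback.fst (f₁ ⁻¹ᵁ W.1).ι (f₁ ⁻¹ᵁ W'.1).ι ≫ (f₁ ⁻¹ᵁ W.1).ι)) ?_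
    · rw [Category.assoc, Category.assoc, hh₁, hh₁]
      exact pullback.condition_assoc _
    · have hq : pullback.fst D.ι
            (pullback.fst (f₁ ⁻¹ᵁ W.1).ι (f₁ ⁻¹ᵁ W'.1).ι ≫ (f₁ ⁻¹ᵁ W.1).ι) ≫ D.ι =
          (pullback.snd D.ι (pullback.fst (f₁ ⁻¹ᵁ W.1).ι (f₁ ⁻¹ᵁ W'.1).ι ≫ (f₁ ⁻¹ᵁ W.1).ι) ≫
            pullback.fst (f₁ ⁻¹ᵁ W.1).ι (f₁ ⁻¹ᵁ W'.1).ι) ≫ (f₁ ⁻¹ᵁ W.1).ι :=
        (pullback.condition (f := D.ι)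
          (g := pullback.fst (f₁ ⁻¹ᵁ W.1).ι (f₁ ⁻¹ᵁ W'.1).ι ≫ (f₁ ⁻¹ᵁ W.1).ι)).trans
          (Category.assoc _ _ _).symm
      have hq' : pullback.fst D.ι
            (pullback.fst (f₁ ⁻¹ᵁ W.1).ι (f₁ ⁻¹ᵁ W'.1).ι ≫ (f₁ ⁻¹ᵁ W.1).ι) ≫ D.ι =
          (pullback.snd D.ι (pullback.fst (f₁ ⁻¹ᵁ W.1).ι (f₁ ⁻¹ᵁ W'.1).ι ≫ (f₁ ⁻¹ᵁ W.1).ι) ≫
            pullback.snd (f₁ ⁻¹ᵁ W.1).ι (f₁ ⁻¹ᵁ W'.1).ι) ≫ (f₁ ⁻¹ᵁ W'.1).ι := by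
        refine hq.trans ?_
        simp only [Category.assoc]
        congr 1
        exact pullback.condition
      have e1 : (pullback.snd D.ι
            (pullback.fst (f₁ ⁻¹ᵁ W.1).ι (f₁ ⁻¹ᵁ W'.1).ι ≫ (f₁ ⁻¹ᵁ W.1).ι) ≫
            pullback.fst (f₁ ⁻¹ᵁ W.1).ι (f₁ ⁻¹ᵁ W'.1).ι) ≫ h W =
          pullback.fst D.ι
            (pullback.fst (f₁ ⁻¹ᵁ W.1).ι (f₁ ⁻¹ᵁ W'.1).ι ≫ (f₁ ⁻¹ᵁ W.1).ι) ≫ ψ := by
        rw [← pullback.lift_snd (f := D.ι) (g := (f₁ ⁻¹ᵁ W.1).ι) _ _ hq, Category.assoc, hh₂,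
          ← Category.assoc, pullback.lift_fst]
      have e2 : (pullback.snd D.ι
            (pullback.fst (f₁ ⁻¹ᵁ W.1).ι (f₁ ⁻¹ᵁ W'.1).ι ≫ (f₁ ⁻¹ᵁ W.1).ι) ≫
            pullback.snd (f₁ ⁻¹ᵁ W.1).ι (f₁ ⁻¹ᵁ W'.1).ι) ≫ h W' =
          pullback.fst D.ι
            (pullback.fst (f₁ ⁻¹ᵁ W.1).ι (f₁ ⁻¹ᵁ W'.1).ι ≫ (f₁ ⁻¹ᵁ W.1).ι) ≫ ψ := by
        rw [← pullback.lift_snd (f := D.ι) (g := (f₁ ⁻¹ᵁ W'.1).ι) _ _ hq', Category.assoc, hh₂,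
          ← Category.assoc, pullback.lift_fst]
      rw [← Category.assoc, ← Category.assoc, e1, e2]
  have hφ : ∀ W : S.affineOpens, (f₁ ⁻¹ᵁ W.1).ι ≫ 𝒰.glueMorphisms h hglue = h W :=
    fun W => 𝒰.ι_glueMorphisms h hglue W
  refine ⟨𝒰.glueMorphisms h hglue, ⟨?_, ?_⟩, ?_⟩
  · apply 𝒰.hom_ext
    intro W
    show (f₁ ⁻¹ᵁ W.1).ι ≫ 𝒰.glueMorphisms h hglue ≫ f₂ = (f₁ ⁻¹ᵁ W.1).ι ≫ f₁
    rw [← Category.assoc, hφ W, hh₁]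
  · apply (𝒰.pullback₁ D.ι).hom_ext
    intro W
    show pullback.fst D.ι (f₁ ⁻¹ᵁ W.1).ι ≫ D.ι ≫ 𝒰.glueMorphisms h hglue =
      pullback.fst D.ι (f₁ ⁻¹ᵁ W.1).ι ≫ ψ
    rw [← Category.assoc, pullback.condition, Category.assoc, hφ W, hh₂]
  · rintro φ' ⟨h1, h2⟩
    refine ext_of_schemeTheoreticallyDominant f₂ ?_ D.ι ?_
    · rw [h1]
      apply 𝒰.hom_ext
      intro W
      show (f₁ ⁻¹ᵁ W.1).ι ≫ f₁ = (f₁ ⁻¹ᵁ W.1).ι ≫ 𝒰.glueMorphisms h hglue ≫ f₂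
      rw [← Category.assoc, hφ W, hh₁]
    · rw [h2]
      symm
      apply (𝒰.pullback₁ D.ι).hom_ext
      intro W
      show pullback.fst D.ι (f₁ ⁻¹ᵁ W.1).ι ≫ D.ι ≫ 𝒰.glueMorphisms h hglue =
        pullback.fst D.ι (f₁ ⁻¹ᵁ W.1).ι ≫ ψ
      rw [← Category.assoc, pullback.condition, Category.assoc, hφ W, hh₂]

end Groth.Agent.Lib.Helper91.HartogsRel
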