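import Mathlib
import Groth.Agent.Lib.Helper91.HartogsAlg2

/-!
# Non-Noetherian algebraic Hartogs: commutative algebra core

`A → R` a ring map (think `Γ(W) → Γ(W ∩ U)`).  If at every prime `p` of `A` either the map is
"locally an isomorphism" or the local ring `A_p` has a regular pair in its maximal ideal (and a
cancellation property holds), then `A → R` is bijective.
-/

set_option autoImplicit false

namespace Groth.Agent.Lib.Helper91.HartogsNN

open IsLocalRing

/-- elements of a minimal prime over `J` are nilpotent modulo `J` up to a factor outside `p` -/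
theorem exists_notMem_mul_pow_mem {A : Type*} [CommRing A] {J p : Ideal A}
    (hp : p ∈ J.minimalPrimes) {α : A} (hα : α ∈ p) :
    ∃ (n : ℕ) (w : A), w ∉ p ∧ w * α ^ n ∈ J := by
  haveI := hp.1.1
  have h := IsLocalization.AtPrime.radical_map_of_mem_minimalPrimes
    (A := Localization.AtPrime p) p J hp
  have hmem : algebraMap A (Localization.AtPrime p) α ∈
      (J.map (algebraMap A (Localization.AtPrime p))).radical := by
    rw [h]
    exact Ideal.mem_map_of_mem _ hα
  obtain ⟨n, hn⟩ := hmem
  rw [← map_pow, IsLocalization.mem_map_algebraMap_iff p.primeCompl] at hn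
  obtain ⟨⟨i, w⟩, hiw⟩ := hn
  rw [← map_mul, IsLocalization.eq_iff_exists p.primeCompl] at hiw
  obtain ⟨c, hc⟩ := hiw
  refine ⟨n, c * w, ?_, ?_⟩
  · exact (c * w).2
  · have : (c : A) * (w : A) * α ^ n = c * i := by
      rw [← hc]; ring
    rw [this]
    exact J.mul_mem_left _ i.2

/-- elementary form of a weakly regular pair -/
theorem regular_pair_of_isWeaklyRegular {B : Type*} [CommRing B] {a b : B}
    (h : RingTheory.Sequence.IsWeaklyRegular B [a, b]) :
    (∀ c : B, a * c = 0 → c = 0) ∧ ∀ c : B, (∃ d, b * c = a * d) → ∃ e, c = a * e := by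
  rw [RingTheory.Sequence.isWeaklyRegular_cons_iff] at h
  obtain ⟨h1, h'⟩ := h
  rw [RingTheory.Sequence.isWeaklyRegular_cons_iff] at h'
  obtain ⟨h2, -⟩ := h'
  refine ⟨?_, ?_⟩
  · intro c hc
    apply h1
    show a • c = a • 0
    rw [smul_eq_mul, hc, smul_zero]
  · rintro c ⟨d, hd⟩
    have hzero : (Submodule.Quotient.mk c : QuotSMulTop a B) = 0 := by
      apply h2
      show b • (Submodule.Quotient.mk c : QuotSMulTop a B) = b • 0
      rw [smul_zero, ← Submodule.Quotient.mk_smul, Submodule.Quotient.mk_eq_zero, smul_eq_mul,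
        hd]
      exact Submodule.smul_mem_pointwise_smul d a ⊤ trivial
    rw [Submodule.Quotient.mk_eq_zero, Submodule.mem_smul_pointwise_iff_exists] at hzero
    obtain ⟨w, -, hw⟩ := hzero
    exact ⟨w, hw.symm⟩

/-- a regular pair stays regular after multiplying by units -/
theorem regular_pair_mul_units {B : Type*} [CommRing B] {a b u v : B} (hu : IsUnit u)
    (hv : IsUnit v) (h1 : ∀ c : B, a * c = 0 → c = 0)
    (h2 : ∀ c : B, (∃ d, b * c = a * d) → ∃ e, c = a * e) :
    (∀ c : B, (a * u) * c = 0 → c = 0) ∧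
      ∀ c : B, (∃ d, (b * v) * c = (a * u) * d) → ∃ e, c = (a * u) * e := by
  obtain ⟨u', hu'⟩ := hu.exists_right_inv
  obtain ⟨v', hv'⟩ := hv.exists_right_inv
  refine ⟨?_, ?_⟩
  · intro c hc
    have : u * c = 0 := h1 _ (by rw [← mul_assoc]; exact hc)
    calc c = u' * (u * c) := by rw [← mul_assoc, mul_comm u' u, hu', one_mul]
      _ = 0 := by rw [this, mul_zero]
  · rintro c ⟨d, hd⟩
    obtain ⟨e, he⟩ := h2 (v * c) ⟨u * d, by rw [← mul_assoc, hd, mul_assoc]⟩
    refine ⟨u' * v' * e, ?_⟩
    calc c = v' * (v * c) := by rw [← mul_assoc, mul_comm v' v, hv', one_mul]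
      _ = v' * (a * e) := by rw [he]
      _ = (u * u') * (v' * (a * e)) := by rw [hu', one_mul]
      _ = a * u * (u' * v' * e) := by ring

/-- cancellation in a localization `A_g`: if `α` is regular in `A_p` and kills `m ∈ A_g`, then some
`w ∉ p` kills `m` -/
theorem exists_notMem_mul_eq_zero {A : Type*} [CommRing A] (p : Ideal A) [p.IsPrime]
    (B : Type*) [CommRing B] [Algebra A B] [IsLocalization.AtPrime B p]
    (g : A) (M : Type*) [CommRing M] [Algebra A M] [IsLocalization.Away g M]
    (α : A) (hα : ∀ x : B, algebraMap A B α * x = 0 → x = 0)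
    (m : M) (hm : algebraMap A M α * m = 0) :
    ∃ w : A, w ∉ p ∧ algebraMap A M w * m = 0 := by
  obtain ⟨⟨x, ⟨_, k, rfl⟩⟩, hx⟩ := IsLocalization.surj (Submonoid.powers g) m
  simp only at hx
  have hu : ∀ j : ℕ, IsUnit (algebraMap A M (g ^ j)) := fun j =>
    IsLocalization.map_units M (⟨g ^ j, j, rfl⟩ : Submonoid.powers g)
  have h0 : algebraMap A M (α * x) = 0 := by
    rw [map_mul, ← hx, ← mul_assoc, hm, zero_mul]
  obtain ⟨⟨_, N, rfl⟩, hN⟩ := (IsLocalization.map_eq_zero_iff (Submonoid.powers g) M _).mp h0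
  simp only at hN
  have h1 : algebraMap A B (g ^ N * x) = 0 := by
    apply hα
    rw [← map_mul]
    have : α * (g ^ N * x) = g ^ N * (α * x) := by ring
    rw [this, hN, map_zero]
  obtain ⟨w, hw⟩ := (IsLocalization.map_eq_zero_iff p.primeCompl B _).mp h1
  refine ⟨w, w.2, ?_⟩
  have h2 : algebraMap A M ((w : A) * x) = 0 := by
    apply (hu N).mul_right_injective
    simp only
    rw [← map_mul, mul_zero]
    have : g ^ N * ((w : A) * x) = w * (g ^ N * x) := by ring
    rw [this, hw, map_zero]
  apply (hu k).mul_left_injective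
  simp only
  rw [zero_mul, mul_assoc, hx, ← map_mul, h2]

end Groth.Agent.Lib.Helper91.HartogsNN
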