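import Mathlib
import Groth.Agent.Lib.Helper91.HartogsNN1

/-!
# Non-Noetherian algebraic Hartogs: the abstract bijectivity criterion
-/

set_option autoImplicit false
universe u

namespace Groth.Agent.Lib.Helper91.HartogsNN

variable (A R : Type u) [CommRing A] [CommRing R] [Algebra A R]

/-- local data at a "bad" prime: a regular pair in `A_p` and the cancellation property -/
def BadAt (p : Ideal A) [p.IsPrime] : Prop :=
  ∃ (B : Type u) (_ : CommRing B) (_ : Algebra A B) (_ : IsLocalization.AtPrime B p) (α β : A),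
    α ∈ p ∧ β ∈ p ∧ (∀ c : B, algebraMap A B α * c = 0 → c = 0) ∧
    (∀ c : B, (∃ d, algebraMap A B β * c = algebraMap A B α * d) →
      ∃ e, c = algebraMap A B α * e) ∧
    (∀ α' : A, (∀ x : B, algebraMap A B α' * x = 0 → x = 0) → ∀ δ : R,
      algebraMap A R α' * δ = 0 → ∃ w : A, w ∉ p ∧ algebraMap A R w * δ = 0)

variable {A R}

theorem pow_mul_eq_zero' {B : Type*} [CommRing B] {g : B} (hg : ∀ x : B, g * x = 0 → x = 0)
    (m : ℕ) {x : B} (h : g ^ m * x = 0) : x = 0 := by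
  induction m with
  | zero => simpa using h
  | succ m ih =>
    apply ih
    apply hg
    rw [← mul_assoc, ← pow_succ']
    exact h

theorem injective_core
    (h : ∀ (p : Ideal A) [p.IsPrime],
      (∀ s : A, algebraMap A R s = 0 → ∃ w : A, w ∉ p ∧ w * s = 0) ∨ BadAt A R p) :
    Function.Injective (algebraMap A R) := by
  rw [injective_iff_map_eq_zero]
  intro s hs
  by_contra hs0
  set J : Ideal A := (Submodule.span A {s}).annihilator with hJ
  have hmemJ : ∀ r : A, r ∈ J ↔ r * s = 0 := fun r => by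
    rw [hJ, Submodule.mem_annihilator_span_singleton, smul_eq_mul]
  have hJtop : J ≠ ⊤ := by
    intro htop
    have : (1 : A) ∈ J := by rw [htop]; trivial
    rw [hmemJ, one_mul] at this
    exact hs0 this
  obtain ⟨m, hm, hJm⟩ := Ideal.exists_le_maximal J hJtop
  have := hm.isPrime
  obtain ⟨p, hp, -⟩ := Ideal.exists_minimalPrimes_le hJm
  haveI : p.IsPrime := hp.1.1
  rcases h p with hgood | ⟨B, _, _, _, α, β, hα, -, h1, -, -⟩
  · obtain ⟨w, hw, hws⟩ := hgood s hs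
    exact hw (hp.1.2 ((hmemJ w).mpr hws))
  · obtain ⟨n, w, hw, hwn⟩ := exists_notMem_mul_pow_mem hp hα
    rw [hmemJ] at hwn
    have h0 : algebraMap A B α ^ n * algebraMap A B (w * s) = 0 := by
      rw [← map_pow, ← map_mul]
      have : α ^ n * (w * s) = w * α ^ n * s := by ring
      rw [this, hwn, map_zero]
    have h2 := pow_mul_eq_zero' h1 n h0
    obtain ⟨w', hw'⟩ := (IsLocalization.map_eq_zero_iff p.primeCompl B _).mp h2
    have : (w' : A) * w ∈ p := hp.1.2 ((hmemJ _).mpr (by rw [mul_assoc]; exact hw'))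
    rcases Ideal.IsPrime.mem_or_mem ‹p.IsPrime› this with h' | h'
    · exact w'.2 h'
    · exact hw h'

/-- the ideal of denominators of `τ` -/
def den (τ : R) : Ideal A where
  carrier := {d | ∃ s : A, algebraMap A R s = algebraMap A R d * τ}
  add_mem' := by
    rintro a b ⟨s, hs⟩ ⟨t, ht⟩
    exact ⟨s + t, by rw [map_add, map_add, add_mul, hs, ht]⟩
  zero_mem' := ⟨0, by simp⟩
  smul_mem' := by
    rintro c a ⟨s, hs⟩
    exact ⟨c * s, by rw [smul_eq_mul, map_mul, map_mul, hs, mul_assoc]⟩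

theorem mem_den {τ : R} {d : A} :
    d ∈ den (A := A) τ ↔ ∃ s : A, algebraMap A R s = algebraMap A R d * τ := Iff.rfl

theorem mem_den_mul {τ : R} {c d : A} :
    d ∈ den (A := A) (algebraMap A R c * τ) ↔ d * c ∈ den (A := A) τ := by
  rw [mem_den, mem_den, map_mul, mul_assoc]

theorem den_le_den_mul (τ : R) (c : A) : den (A := A) τ ≤ den (A := A) (algebraMap A R c * τ) := by
  intro d hd
  rw [mem_den_mul]
  exact Ideal.mul_mem_right _ _ hd

section core

variable (p : Ideal A) [p.IsPrime] (hinj : Function.Injective (algebraMap A R))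
  (B : Type u) [CommRing B] [Algebra A B] [IsLocalization.AtPrime B p] (α β : A)
  (h1 : ∀ c : B, algebraMap A B α * c = 0 → c = 0)
  (h2 : ∀ c : B, (∃ d, algebraMap A B β * c = algebraMap A B α * d) →
      ∃ e, c = algebraMap A B α * e)
  (hK : ∀ α' : A, (∀ x : B, algebraMap A B α' * x = 0 → x = 0) → ∀ δ : R,
      algebraMap A R α' * δ = 0 → ∃ w : A, w ∉ p ∧ algebraMap A R w * δ = 0)

include hinj h1 h2 hK in
theorem core (τ : R) (w₁ w₂ : A) (hw₁ : w₁ ∉ p) (hw₂ : w₂ ∉ p)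
    (h₁ : w₁ * α ∈ den (A := A) τ) (h₂ : w₂ * β ∈ den (A := A) τ) :
    ∃ w : A, w ∉ p ∧ w ∈ den (A := A) τ := by
  obtain ⟨s₁, hs₁⟩ := h₁
  obtain ⟨s₂, hs₂⟩ := h₂
  have e1 : w₂ * β * s₁ = w₁ * α * s₂ := by
    apply hinj
    rw [map_mul (algebraMap A R) (w₂ * β) s₁, map_mul (algebraMap A R) (w₁ * α) s₂, hs₁, hs₂]
    simp only [map_mul]
    ring
  -- in `B`
  have e2 : algebraMap A B β * algebraMap A B (w₂ * s₁) =
      algebraMap A B α * algebraMap A B (w₁ * s₂) := by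
    rw [← map_mul, ← map_mul]
    congr 1
    calc β * (w₂ * s₁) = w₂ * β * s₁ := by ring
      _ = w₁ * α * s₂ := e1
      _ = α * (w₁ * s₂) := by ring
  obtain ⟨e, he⟩ := h2 _ ⟨_, e2⟩
  obtain ⟨γ, w₃, rfl⟩ := IsLocalization.exists_mk'_eq p.primeCompl e
  have e3 : algebraMap A B ((w₃ : A) * (w₂ * s₁)) = algebraMap A B (α * γ) := by
    rw [map_mul, he, map_mul, ← IsLocalization.mk'_spec B γ w₃]
    ring
  obtain ⟨w₄, hw₄⟩ := (IsLocalization.eq_iff_exists p.primeCompl B).mp e3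
  -- `w' s₁ = α γ'`
  set w' : A := w₄ * w₃ * w₂ with hw'
  set γ' : A := w₄ * γ with hγ'
  have e4 : w' * s₁ = α * γ' := by
    rw [hw', hγ']
    calc (w₄ : A) * w₃ * w₂ * s₁ = w₄ * ((w₃ : A) * (w₂ * s₁)) := by ring
      _ = w₄ * (α * γ) := hw₄
      _ = α * (w₄ * γ) := by ring
  have e5 : algebraMap A R α * (algebraMap A R γ' - algebraMap A R (w' * w₁) * τ) = 0 := by
    have e5' : algebraMap A R α * algebraMap A R γ' =
        algebraMap A R w' * (algebraMap A R (w₁ * α) * τ) := by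
      rw [← map_mul, ← e4, map_mul, hs₁]
    rw [mul_sub, e5']
    simp only [map_mul]
    ring
  obtain ⟨w₅, hw₅, e6⟩ := hK α h1 _ e5
  refine ⟨w₅ * (w' * w₁), ?_, w₅ * γ', ?_⟩
  · intro hmem
    rcases Ideal.IsPrime.mem_or_mem ‹p.IsPrime› hmem with h' | h'
    · exact hw₅ h'
    · rcases Ideal.IsPrime.mem_or_mem ‹p.IsPrime› h' with h'' | h''
      · rw [hw'] at h''
        rcases Ideal.IsPrime.mem_or_mem ‹p.IsPrime› h'' with h3 | h3
        · rcases Ideal.IsPrime.mem_or_mem ‹p.IsPrime› h3 with h4 | h4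
          · exact w₄.2 h4
          · exact w₃.2 h4
        · exact hw₂ h3
      · exact hw₁ h''
  · rw [mul_sub, sub_eq_zero] at e6
    rw [map_mul, e6, map_mul (algebraMap A R) w₅]
    ring

include hinj h1 h2 hK in
theorem core_pow_right (m : ℕ) : ∀ (τ : R) (w₁ w₂ : A), w₁ ∉ p → w₂ ∉ p →
    w₁ * α ∈ den (A := A) τ → w₂ * β ^ m ∈ den (A := A) τ →
    ∃ w : A, w ∉ p ∧ w ∈ den (A := A) τ := by
  induction m with
  | zero =>
    intro τ w₁ w₂ _ hw₂ _ h₂
    rw [pow_zero, mul_one] at h₂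
    exact ⟨w₂, hw₂, h₂⟩
  | succ m ih =>
    intro τ w₁ w₂ hw₁ hw₂ h₁ h₂
    have h₁' : w₁ * α ∈ den (A := A) (algebraMap A R (β ^ m) * τ) := den_le_den_mul τ _ h₁
    have h₂' : w₂ * β ∈ den (A := A) (algebraMap A R (β ^ m) * τ) := by
      rw [mem_den_mul]
      have : w₂ * β * β ^ m = w₂ * β ^ (m + 1) := by ring
      rw [this]
      exact h₂
    obtain ⟨w, hw, hwd⟩ := core p hinj B α β h1 h2 hK _ w₁ w₂ hw₁ hw₂ h₁' h₂'
    rw [mem_den_mul] at hwd
    exact ih τ w₁ w hw₁ hw h₁ hwd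

include hinj h1 h2 hK in
theorem core_pow (n m : ℕ) : ∀ (τ : R) (w₁ w₂ : A), w₁ ∉ p → w₂ ∉ p →
    w₁ * α ^ n ∈ den (A := A) τ → w₂ * β ^ m ∈ den (A := A) τ →
    ∃ w : A, w ∉ p ∧ w ∈ den (A := A) τ := by
  induction n with
  | zero =>
    intro τ w₁ w₂ hw₁ _ h₁ _
    rw [pow_zero, mul_one] at h₁
    exact ⟨w₁, hw₁, h₁⟩
  | succ n ih =>
    intro τ w₁ w₂ hw₁ hw₂ h₁ h₂
    have h₁' : w₁ * α ∈ den (A := A) (algebraMap A R (α ^ n) * τ) := by
      rw [mem_den_mul]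
      have : w₁ * α * α ^ n = w₁ * α ^ (n + 1) := by ring
      rw [this]
      exact h₁
    have h₂' : w₂ * β ^ m ∈ den (A := A) (algebraMap A R (α ^ n) * τ) := den_le_den_mul τ _ h₂
    obtain ⟨w, hw, hwd⟩ := core_pow_right p hinj B α β h1 h2 hK m _ w₁ w₂ hw₁ hw₂ h₁' h₂'
    rw [mem_den_mul] at hwd
    exact ih τ w w₂ hw hw₂ hwd h₂

end core

theorem surjective_core (hinj : Function.Injective (algebraMap A R))
    (h : ∀ (p : Ideal A) [p.IsPrime],
      (∀ τ : R, ∃ g : A, g ∉ p ∧ g ∈ den (A := A) τ) ∨ BadAt A R p) :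
    Function.Surjective (algebraMap A R) := by
  intro τ
  by_contra hτ
  have hJtop : den (A := A) τ ≠ ⊤ := by
    intro htop
    have : (1 : A) ∈ den (A := A) τ := by rw [htop]; trivial
    obtain ⟨s, hs⟩ := this
    rw [map_one, one_mul] at hs
    exact hτ ⟨s, hs⟩
  obtain ⟨m, hm, hJm⟩ := Ideal.exists_le_maximal _ hJtop
  have := hm.isPrime
  obtain ⟨p, hp, -⟩ := Ideal.exists_minimalPrimes_le hJm
  haveI : p.IsPrime := hp.1.1
  rcases h p with hgood | ⟨B, _, _, _, α, β, hα, hβ, h1, h2, hK⟩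
  · obtain ⟨g, hg, hgd⟩ := hgood τ
    exact hg (hp.1.2 hgd)
  · obtain ⟨n, w₁, hw₁, h₁⟩ := exists_notMem_mul_pow_mem hp hα
    obtain ⟨m', w₂, hw₂, h₂⟩ := exists_notMem_mul_pow_mem hp hβ
    obtain ⟨w, hw, hwd⟩ := core_pow p hinj B α β h1 h2 hK n m' τ w₁ w₂ hw₁ hw₂ h₁ h₂
    exact hw (hp.1.2 hwd)

end Groth.Agent.Lib.Helper91.HartogsNN
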