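import Mathlib
import Groth.Agent.Lib.Helper91.HartogsNN2
import Groth.Agent.Lib.Helper91.HartogsSch2

/-!
# Non-Noetherian algebraic Hartogs on an affine open

`U ⊆ X` open with quasi-compact inclusion such that every point outside `U` has a weakly regular
pair in its maximal ideal.  Then `Γ(W) → Γ(W ∩ U)` is bijective for every affine open `W`.
-/

set_option autoImplicit false
universe u

open CategoryTheory AlgebraicGeometry TopologicalSpace Opposite

namespace Groth.Agent.Lib.Helper91.HartogsNN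

open Groth.Agent.Lib.Helper91.Hartogs

variable {X : Scheme.{u}} (U : X.Opens)

theorem isCompact_inf [QuasiCompact U.ι] {W : X.Opens} (hW : IsAffineOpen W) :
    IsCompact ((W ⊓ U : X.Opens) : Set X) := by
  have h1 : IsCompact ((U.ι ⁻¹ᵁ W : U.toScheme.Opens) : Set U.toScheme) :=
    U.ι.isCompact_preimage hW.isCompact
  have h2 := h1.image U.ι.continuous
  convert h2 using 1
  ext x
  simp only [Opens.coe_inf, Set.mem_inter_iff, SetLike.mem_coe, Set.mem_image]
  constructor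
  · rintro ⟨hxW, hxU⟩
    exact ⟨⟨x, hxU⟩, hxW, rfl⟩
  · rintro ⟨y, hy, rfl⟩
    exact ⟨hy, y.2⟩

/-- the algebra structure `Γ(W) → Γ(W ∩ U)` -/
@[reducible] noncomputable def algInf (U W : X.Opens) : Algebra Γ(X, W) Γ(X, W ⊓ U) :=
  (res (inf_le_left : W ⊓ U ≤ W)).toAlgebra

attribute [local instance] algInf

section affine

variable {W : X.Opens} (hW : IsAffineOpen W) (hc : IsCompact ((W ⊓ U : X.Opens) : Set X))

include hc in
theorem cancel (y : PrimeSpectrum Γ(X, W)) (α : Γ(X, W))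
    (hα : ∀ x : X.presheaf.stalk (hW.fromSpec y),
      (X.presheaf.germ W (hW.fromSpec y) (fromSpec_mem hW y)).hom α * x = 0 → x = 0)
    (δ : Γ(X, W ⊓ U)) (hδ : res inf_le_left α * δ = 0) :
    ∃ w : Γ(X, W), w ∉ y.asIdeal ∧ res inf_le_left w * δ = 0 := by
  classical
  have hz := fromSpec_mem hW y
  letI az : Algebra Γ(X, W) (X.presheaf.stalk (hW.fromSpec y)) :=
    TopCat.Presheaf.algebra_section_stalk X.presheaf ⟨hW.fromSpec y, hz⟩
  haveI lz : IsLocalization.AtPrime (X.presheaf.stalk (hW.fromSpec y)) y.asIdeal :=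
    hW.isLocalization_stalk' y hz
  have hex : ∀ x : (W ⊓ U : X.Opens), ∃ g : Γ(X, W), X.basicOpen g ≤ W ⊓ U ∧
      ↑x ∈ X.basicOpen g := fun x => hW.exists_basicOpen_le x x.2.1
  choose g hgle hxg using hex
  have hw : ∀ x : (W ⊓ U : X.Opens), ∃ w : Γ(X, W), w ∉ y.asIdeal ∧
      res (X.basicOpen_le (g x)) w * res (hgle x) δ = 0 := by
    intro x
    haveI := hW.isLocalization_basicOpen (g x)
    refine exists_notMem_mul_eq_zero y.asIdeal (X.presheaf.stalk (hW.fromSpec y)) (g x)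
      Γ(X, X.basicOpen (g x)) α hα (res (hgle x) δ) ?_
    rw [algebraMap_basicOpen_eq_res]
    have : res (X.basicOpen_le (g x)) α = res (hgle x) (res inf_le_left α) := by rw [res_res]
    rw [this, ← map_mul, hδ, map_zero]
  choose w hwp hw0 using hw
  obtain ⟨t, ht⟩ := hc.elim_finite_subcover
    (fun x : (W ⊓ U : X.Opens) => ((X.basicOpen (g x) : X.Opens) : Set X))
    (fun x => (X.basicOpen (g x)).isOpen)
    (fun x hx => Set.mem_iUnion.mpr ⟨⟨x, hx⟩, hxg ⟨x, hx⟩⟩)
  refine ⟨∏ x ∈ t, w x, ?_, ?_⟩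
  · rw [Ideal.IsPrime.prod_mem_iff]
    rintro ⟨x, -, hx⟩
    exact hwp x hx
  · apply TopCat.Sheaf.eq_of_locally_eq' X.sheaf (fun x : t => X.basicOpen (g x.1)) (W ⊓ U)
      (fun x => homOfLE (hgle x.1))
    · intro x hx
      obtain ⟨x', hx'⟩ := Set.mem_iUnion.mp (ht hx)
      obtain ⟨hx't, hx''⟩ := Set.mem_iUnion.mp hx'
      exact Opens.mem_iSup.mpr ⟨⟨x', hx't⟩, hx''⟩
    · intro x
      show res (hgle x.1) (res inf_le_left (∏ x ∈ t, w x) * δ) = res (hgle x.1) 0
      rw [map_zero, map_mul, res_res, ← Finset.mul_prod_erase t w x.2, map_mul, mul_right_comm]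
      have := hw0 x.1
      rw [this, zero_mul]

theorem good_inj (y : PrimeSpectrum Γ(X, W)) (hyU : hW.fromSpec y ∈ U) (s : Γ(X, W))
    (hs : res (inf_le_left : W ⊓ U ≤ W) s = 0) :
    ∃ w : Γ(X, W), w ∉ y.asIdeal ∧ w * s = 0 := by
  have hz := fromSpec_mem hW y
  letI az : Algebra Γ(X, W) (X.presheaf.stalk (hW.fromSpec y)) :=
    TopCat.Presheaf.algebra_section_stalk X.presheaf ⟨hW.fromSpec y, hz⟩
  haveI lz : IsLocalization.AtPrime (X.presheaf.stalk (hW.fromSpec y)) y.asIdeal :=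
    hW.isLocalization_stalk' y hz
  have h0 : algebraMap Γ(X, W) (X.presheaf.stalk (hW.fromSpec y)) s = 0 := by
    show (X.presheaf.germ W _ hz).hom s = 0
    have := TopCat.Presheaf.germ_res_apply X.presheaf (homOfLE (inf_le_left : W ⊓ U ≤ W))
      (hW.fromSpec y) ⟨hz, hyU⟩ s
    have h2 : (X.presheaf.germ W _ hz).hom s =
        (X.presheaf.germ (W ⊓ U) (hW.fromSpec y) ⟨hz, hyU⟩).hom (res inf_le_left s) := this.symm
    rw [h2, hs, map_zero]
  obtain ⟨w, hw⟩ := (IsLocalization.map_eq_zero_iff y.asIdeal.primeCompl _ _).mp h0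
  exact ⟨w, w.2, hw⟩

include hc in
theorem good_surj (y : PrimeSpectrum Γ(X, W)) (hyU : hW.fromSpec y ∈ U) (τ : Γ(X, W ⊓ U)) :
    ∃ g : Γ(X, W), g ∉ y.asIdeal ∧ g ∈ den (A := Γ(X, W)) τ := by
  have hz := fromSpec_mem hW y
  obtain ⟨g, hgle, hzg⟩ := hW.exists_basicOpen_le (V := W ⊓ U) ⟨hW.fromSpec y, ⟨hz, hyU⟩⟩ hz
  have hgy : g ∉ y.asIdeal := (mem_basicOpen_fromSpec_iff hW g y).mp hzg
  haveI := hW.isLocalization_basicOpen g
  obtain ⟨⟨e, ⟨_, k, rfl⟩⟩, he⟩ := IsLocalization.surj (Submonoid.powers g) (res hgle τ)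
  simp only at he
  set δ : Γ(X, W ⊓ U) := res inf_le_left (g ^ k) * τ - res inf_le_left e with hδ
  have hδ0 : res hgle δ = 0 := by
    rw [hδ, map_sub, map_mul, res_res, res_res, mul_comm]
    rw [algebraMap_basicOpen_eq_res, algebraMap_basicOpen_eq_res] at he
    rw [he, sub_self]
  have hle : X.basicOpen (res (inf_le_left : W ⊓ U ≤ W) g) ≤ X.basicOpen g := by
    rw [Scheme.basicOpen_res]
    exact inf_le_right
  have H : δ |_ X.basicOpen (res (inf_le_left : W ⊓ U ≤ W) g) = 0 := by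
    show res (X.basicOpen_le _) δ = 0
    have : res (X.basicOpen_le (res (inf_le_left : W ⊓ U ≤ W) g)) δ = res hle (res hgle δ) := by
      rw [res_res]
    rw [this, hδ0, map_zero]
  obtain ⟨n, hn⟩ := exists_pow_mul_eq_zero_of_res_basicOpen_eq_zero_of_isCompact X hc δ
    (res inf_le_left g) H
  refine ⟨g ^ (n + k), fun h => hgy (Ideal.IsPrime.mem_of_pow_mem y.2 _ h), g ^ n * e, ?_⟩
  show res inf_le_left (g ^ n * e) = res inf_le_left (g ^ (n + k)) * τ
  rw [hδ, mul_sub, sub_eq_zero] at hn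
  rw [map_mul, map_pow, ← hn, map_pow, map_pow, pow_add, mul_assoc]

include hc in
theorem bad
    (hZ : ∀ z : X, z ∉ U → ∃ a b : X.presheaf.stalk z,
      a ∈ IsLocalRing.maximalIdeal (X.presheaf.stalk z) ∧
      b ∈ IsLocalRing.maximalIdeal (X.presheaf.stalk z) ∧
      RingTheory.Sequence.IsWeaklyRegular (X.presheaf.stalk z) [a, b])
    (y : PrimeSpectrum Γ(X, W)) (hyU : hW.fromSpec y ∉ U) :
    BadAt Γ(X, W) Γ(X, W ⊓ U) y.asIdeal := by
  have hz := fromSpec_mem hW y
  letI az : Algebra Γ(X, W) (X.presheaf.stalk (hW.fromSpec y)) :=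
    TopCat.Presheaf.algebra_section_stalk X.presheaf ⟨hW.fromSpec y, hz⟩
  haveI lz : IsLocalization.AtPrime (X.presheaf.stalk (hW.fromSpec y)) y.asIdeal :=
    hW.isLocalization_stalk' y hz
  obtain ⟨a, b, ha, hb, hab⟩ := hZ _ hyU
  obtain ⟨h1, h2⟩ := regular_pair_of_isWeaklyRegular hab
  obtain ⟨α, hα, s, hs, hαs⟩ := exists_num_of_mem_maximalIdeal y.asIdeal
    (X.presheaf.stalk (hW.fromSpec y)) ha
  obtain ⟨β, hβ, s', hs', hβs⟩ := exists_num_of_mem_maximalIdeal y.asIdeal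
    (X.presheaf.stalk (hW.fromSpec y)) hb
  have hu := isUnit_algebraMap_of_notMem y.asIdeal (X.presheaf.stalk (hW.fromSpec y)) hs
  have hv := isUnit_algebraMap_of_notMem y.asIdeal (X.presheaf.stalk (hW.fromSpec y)) hs'
  obtain ⟨h1', h2'⟩ := regular_pair_mul_units hu hv h1 h2
  rw [hαs] at h1' h2'
  rw [hβs] at h2'
  refine ⟨X.presheaf.stalk (hW.fromSpec y), inferInstance,
    az, lz, α, β, hα, hβ, h1', h2', ?_⟩
  intro α' hα' δ hδ
  exact cancel U hW hc y α' hα' δ hδ

end affine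

variable [QuasiCompact U.ι]
  (hZ : ∀ z : X, z ∉ U → ∃ a b : X.presheaf.stalk z,
      a ∈ IsLocalRing.maximalIdeal (X.presheaf.stalk z) ∧
      b ∈ IsLocalRing.maximalIdeal (X.presheaf.stalk z) ∧
      RingTheory.Sequence.IsWeaklyRegular (X.presheaf.stalk z) [a, b])

include hZ in
theorem res_injective_affine {W : X.Opens} (hW : IsAffineOpen W) :
    Function.Injective (res (inf_le_left : W ⊓ U ≤ W)) := by
  have hc := isCompact_inf U hW
  apply injective_core (A := Γ(X, W)) (R := Γ(X, W ⊓ U))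
  intro p _
  by_cases hyU : hW.fromSpec ⟨p, inferInstance⟩ ∈ U
  · left
    intro s hs
    exact good_inj U hW ⟨p, inferInstance⟩ hyU s hs
  · right
    exact bad U hW hc hZ ⟨p, inferInstance⟩ hyU

include hZ in
theorem res_surjective_affine {W : X.Opens} (hW : IsAffineOpen W) :
    Function.Surjective (res (inf_le_left : W ⊓ U ≤ W)) := by
  have hc := isCompact_inf U hW
  apply surjective_core (A := Γ(X, W)) (R := Γ(X, W ⊓ U)) (res_injective_affine U hZ hW)
  intro p _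
  by_cases hyU : hW.fromSpec ⟨p, inferInstance⟩ ∈ U
  · left
    intro τ
    exact good_surj U hW hc ⟨p, inferInstance⟩ hyU τ
  · right
    exact bad U hW hc hZ ⟨p, inferInstance⟩ hyU

end Groth.Agent.Lib.Helper91.HartogsNN
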