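import Mathlib
import Groth.Agent.Lib.Helper91.HartogsNN3
import Groth.Agent.Lib.Helper91.HartogsAffineHom

/-!
# The abstract Hartogs property of an open subscheme and its consequences
-/

set_option autoImplicit false
universe u

open CategoryTheory CategoryTheory.Limits AlgebraicGeometry TopologicalSpace Opposite

namespace Groth.Agent.Lib.Helper91.HartogsNN

open Groth.Agent.Lib.Helper91.Hartogs Groth.Agent.Lib.Helper91.HartogsRel

variable {X : Scheme.{u}}

/-- the Hartogs property of an open `U ⊆ X`: functions extend uniquely from `V ∩ U` to `V` -/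
def IsHartogs (U : X.Opens) : Prop :=
  ∀ V : X.Opens, Function.Bijective (res (inf_le_left : V ⊓ U ≤ V))

theorem exists_affine_cover' (V : X.Opens) :
    ∃ W : V → X.Opens, (∀ x, IsAffineOpen (W x)) ∧ (∀ x, W x ≤ V) ∧ ∀ x : V, ↑x ∈ W x := by
  have hex : ∀ x : V, ∃ W : X.Opens, IsAffineOpen W ∧ W ≤ V ∧ ↑x ∈ W := fun x => by
    obtain ⟨_, ⟨W, hW, rfl⟩, hxW, hWV⟩ :=
      (X.isBasis_affineOpens).exists_subset_of_mem_open x.2 V.isOpen
    exact ⟨W, hW, hWV, hxW⟩
  choose W hW hWV hxW using hex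
  exact ⟨W, hW, hWV, hxW⟩

section glue

variable (U : X.Opens)
  (hinj : ∀ W : X.Opens, IsAffineOpen W → Function.Injective (res (inf_le_left : W ⊓ U ≤ W)))
  (hsurj : ∀ W : X.Opens, IsAffineOpen W → Function.Surjective (res (inf_le_left : W ⊓ U ≤ W)))

include hinj in
theorem res_injective_of_affine (V : X.Opens) :
    Function.Injective (res (inf_le_left : V ⊓ U ≤ V)) := by
  rw [injective_iff_map_eq_zero]
  intro s hs
  obtain ⟨W, hW, hWV, hxW⟩ := exists_affine_cover' V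
  apply TopCat.Sheaf.eq_of_locally_eq' X.sheaf W V (fun x => homOfLE (hWV x))
  · intro x hx
    exact Opens.mem_iSup.mpr ⟨⟨x, hx⟩, hxW ⟨x, hx⟩⟩
  · intro x
    show res (hWV x) s = res (hWV x) 0
    rw [map_zero]
    apply hinj _ (hW x)
    rw [map_zero, res_res]
    have : res ((inf_le_left : W x ⊓ U ≤ W x).trans (hWV x)) s =
        res (inf_le_inf_right U (hWV x)) (res inf_le_left s) := by rw [res_res]
    rw [this, hs, map_zero]

include hinj hsurj in
theorem res_surjective_of_affine (V : X.Opens) :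
    Function.Surjective (res (inf_le_left : V ⊓ U ≤ V)) := by
  intro s
  obtain ⟨W, hW, hWV, hxW⟩ := exists_affine_cover' V
  have hex : ∀ x : V, ∃ t : Γ(X, W x),
      res inf_le_left t = res (inf_le_inf_right U (hWV x)) s :=
    fun x => hsurj _ (hW x) _
  choose t ht using hex
  have hcover : V ≤ iSup W := by
    intro x hx
    exact Opens.mem_iSup.mpr ⟨⟨x, hx⟩, hxW ⟨x, hx⟩⟩
  have compat : TopCat.Presheaf.IsCompatible X.sheaf.1 W t := by
    intro i j
    show res inf_le_left (t i) = res inf_le_right (t j)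
    apply res_injective_of_affine U hinj (W i ⊓ W j)
    rw [res_res, res_res]
    have e1 : res ((inf_le_left : W i ⊓ W j ⊓ U ≤ W i ⊓ W j).trans inf_le_left) (t i) =
        res (inf_le_inf_right U inf_le_left) (res inf_le_left (t i)) := by rw [res_res]
    have e2 : res ((inf_le_left : W i ⊓ W j ⊓ U ≤ W i ⊓ W j).trans inf_le_right) (t j) =
        res (inf_le_inf_right U inf_le_right) (res inf_le_left (t j)) := by rw [res_res]
    rw [e1, e2, ht, ht, res_res, res_res]
  obtain ⟨gl, hgl, -⟩ := X.sheaf.existsUnique_gluing' W V (fun x => homOfLE (hWV x)) hcover t compat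
  refine ⟨gl, ?_⟩
  apply TopCat.Sheaf.eq_of_locally_eq' X.sheaf (fun x : V => W x ⊓ U) (V ⊓ U)
    (fun x => homOfLE (inf_le_inf_right U (hWV x)))
  · intro x hx
    exact Opens.mem_iSup.mpr ⟨⟨x, hx.1⟩, ⟨hxW ⟨x, hx.1⟩, hx.2⟩⟩
  · intro x
    show res (inf_le_inf_right U (hWV x)) (res inf_le_left gl) =
      res (inf_le_inf_right U (hWV x)) s
    rw [res_res, ← ht x]
    have h1 : res (hWV x) gl = t x := hgl x
    rw [← h1, res_res]

include hinj hsurj in
theorem isHartogs_of_affine : IsHartogs U := fun V =>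
  ⟨res_injective_of_affine U hinj V, res_surjective_of_affine U hinj hsurj V⟩

end glue

/-- **non-Noetherian Hartogs**: an open with quasi-compact inclusion whose complement consists of
points having a weakly regular pair in their maximal ideal -/
theorem isHartogs_of_regular_pair (U : X.Opens) [QuasiCompact U.ι]
    (hZ : ∀ z : X, z ∉ U → ∃ a b : X.presheaf.stalk z,
      a ∈ IsLocalRing.maximalIdeal (X.presheaf.stalk z) ∧
      b ∈ IsLocalRing.maximalIdeal (X.presheaf.stalk z) ∧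
      RingTheory.Sequence.IsWeaklyRegular (X.presheaf.stalk z) [a, b]) :
    IsHartogs U :=
  isHartogs_of_affine U (fun _ hW => res_injective_affine U hZ hW)
    (fun _ hW => res_surjective_affine U hZ hW)

namespace IsHartogs

variable {U : X.Opens} (hU : IsHartogs U)

include hU in
theorem res_bijective_top {V' : X.Opens} (h : V' ≤ ⊤) (h1 : V' ≤ U) (h2 : U ≤ V') :
    Function.Bijective (res h) := by
  have hb : Function.Bijective (res (inf_le_left : ⊤ ⊓ U ≤ ⊤)) := hU ⊤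
  have hle : V' ≤ ⊤ ⊓ U := le_inf le_top h1
  have hle' : ⊤ ⊓ U ≤ V' := inf_le_right.trans h2
  have hb2 := res_bijective_of_le hle hle'
  have : res h = (res hle).comp (res (inf_le_left : ⊤ ⊓ U ≤ ⊤)) := by
    ext s
    rw [RingHom.comp_apply, res_res]
  rw [this, RingHom.coe_comp]
  exact hb2.comp hb

include hU in
theorem isIso_ι_appTop : IsIso U.ι.appTop := by
  rw [ConcreteCategory.isIso_iff_bijective]
  have h1 : U.ι ''ᵁ ⊤ ≤ U := U.ι_image_top.le
  have h2 : U ≤ U.ι ''ᵁ ⊤ := U.ι_image_top.ge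
  exact hU.res_bijective_top (V' := U.ι ''ᵁ ⊤) le_top h1 h2

include hU in
theorem existsUnique_extension (Y : Scheme.{u}) [IsAffine Y] (f : (U : Scheme.{u}) ⟶ Y) :
    ∃! g : X ⟶ Y, U.ι ≫ g = f := by
  haveI := hU.isIso_ι_appTop
  refine ⟨X.toSpecΓ ≫ Spec.map (f.appTop ≫ inv U.ι.appTop) ≫ Y.isoSpec.inv, ?_, ?_⟩
  · show U.ι ≫ X.toSpecΓ ≫ Spec.map (f.appTop ≫ inv U.ι.appTop) ≫ Y.isoSpec.inv = f
    rw [← cancel_mono Y.isoSpec.hom]
    simp only [Category.assoc, Iso.inv_hom_id, Category.comp_id]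
    rw [Scheme.isoSpec_hom, Scheme.toSpecΓ_naturality, Scheme.toSpecΓ_naturality_assoc,
      ← Spec.map_comp]
    simp
  · intro g hg
    apply ext_of_isAffine
    have h1 : (U.ι ≫ g).appTop = f.appTop := by rw [hg]
    rw [Scheme.Hom.comp_appTop] at h1
    have h2 : (U.ι ≫ X.toSpecΓ ≫ Spec.map (f.appTop ≫ inv U.ι.appTop) ≫ Y.isoSpec.inv).appTop =
        f.appTop := by
      have : U.ι ≫ X.toSpecΓ ≫ Spec.map (f.appTop ≫ inv U.ι.appTop) ≫ Y.isoSpec.inv = f := by
        rw [← cancel_mono Y.isoSpec.hom]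
        simp only [Category.assoc, Iso.inv_hom_id, Category.comp_id]
        rw [Scheme.isoSpec_hom, Scheme.toSpecΓ_naturality, Scheme.toSpecΓ_naturality_assoc,
          ← Spec.map_comp]
        simp
      rw [this]
    rw [Scheme.Hom.comp_appTop] at h2
    rw [← cancel_mono U.ι.appTop, h1, h2]

include hU in
theorem isSchemeTheoreticallyDominant_ι [QuasiCompact U.ι] :
    IsSchemeTheoreticallyDominant U.ι := by
  rw [isSchemeTheoreticallyDominant_iff]
  apply le_bot_iff.mp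
  rw [Scheme.IdealSheafData.le_def]
  intro V
  rw [Scheme.Hom.ker_apply, Scheme.IdealSheafData.ideal_bot]
  intro a ha
  rw [RingHom.mem_ker] at ha
  show a = 0
  have hle : V.1 ⊓ U ≤ U.ι ''ᵁ U.ι ⁻¹ᵁ V.1 := by
    rintro x ⟨hxV, hxU⟩
    exact ⟨⟨x, hxU⟩, hxV, rfl⟩
  have hle' : U.ι ''ᵁ U.ι ⁻¹ᵁ V.1 ≤ V.1 := Set.image_preimage_subset _ _
  have ha' : res hle' a = 0 := ha
  apply (hU V.1).1
  rw [map_zero]
  have : res (inf_le_left : V.1 ⊓ U ≤ V.1) a = res hle (res hle' a) := by rw [res_res]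
  rw [this, ha', map_zero]

include hU in
/-- the Hartogs property restricts to open subschemes -/
theorem restrict (V : X.Opens) : IsHartogs (X := V.toScheme) (V.ι ⁻¹ᵁ U) := by
  intro V'
  have hle1 : V.ι ''ᵁ (V' ⊓ V.ι ⁻¹ᵁ U) ≤ V.ι ''ᵁ V' ⊓ U := by
    rintro _ ⟨v, ⟨hv1, hv2⟩, rfl⟩
    exact ⟨⟨v, hv1, rfl⟩, hv2⟩
  have hle2 : V.ι ''ᵁ V' ⊓ U ≤ V.ι ''ᵁ (V' ⊓ V.ι ⁻¹ᵁ U) := by
    rintro _ ⟨⟨v, hv1, rfl⟩, hv2⟩
    exact ⟨v, ⟨hv1, hv2⟩, rfl⟩
  have hb := res_bijective_of_le hle1 hle2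
  have hb' := hU (V.ι ''ᵁ V')
  have key : ⇑(res (X := V.toScheme) (inf_le_left : V' ⊓ V.ι ⁻¹ᵁ U ≤ V')) =
      ⇑((res hle1).comp (res (X := X) (inf_le_left : V.ι ''ᵁ V' ⊓ U ≤ V.ι ''ᵁ V'))) := by
    ext s
    rw [RingHom.comp_apply, res_res]
    rfl
  rw [key, RingHom.coe_comp]
  exact hb.comp hb'

end IsHartogs

/-- Hartogs along an open immersion -/
theorem existsUnique_extension_of_isOpenImmersion {D : Scheme.{u}} (j : D ⟶ X) [IsOpenImmersion j]
    (hj : IsHartogs j.opensRange)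
    (Y : Scheme.{u}) [IsAffine Y] (f : D ⟶ Y) : ∃! g : X ⟶ Y, j ≫ g = f := by
  obtain ⟨g, hg, huniq⟩ := hj.existsUnique_extension Y (j.isoOpensRange.inv ≫ f)
  refine ⟨g, ?_, ?_⟩
  · show j ≫ g = f
    rw [← j.isoOpensRange_hom_ι, Category.assoc, hg, Iso.hom_inv_id_assoc]
  · intro g' hg'
    apply huniq
    show j.opensRange.ι ≫ g' = j.isoOpensRange.inv ≫ f
    rw [← hg', ← Category.assoc, j.isoOpensRange_inv_comp]

end Groth.Agent.Lib.Helper91.HartogsNN
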