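/-
Helper library (helper91): if `A` is integrally closed in `A_f` (integral elements of `A_f` come
from `A`) and `B` is a smooth `A`-algebra, then `B` is integrally closed in `B_f`.
-/
import Mathlib

set_option autoImplicit false
universe u

namespace Groth.Agent.Lib.Helper91.IntClEt

open TensorProduct

theorem mem_range_of_isIntegral_of_smooth (A B A' B' : Type u) [CommRing A] [CommRing B]
    [CommRing A'] [CommRing B'] [Algebra A B] [Algebra.Smooth A B] (f : A)
    [Algebra A A'] [IsLocalization.Away f A']
    [Algebra B B'] [IsLocalization.Away (algebraMap A B f) B']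
    (hA : ∀ a' : A', IsIntegral A a' → a' ∈ Set.range (algebraMap A A'))
    (b' : B') (hb' : IsIntegral B b') : b' ∈ Set.range (algebraMap B B') := by
  haveI h0 : IsLocalization (Algebra.algebraMapSubmonoid B (Submonoid.powers f)) (B ⊗[A] A') :=
    inferInstance
  have hsub : Algebra.algebraMapSubmonoid B (Submonoid.powers f) =
      Submonoid.powers (algebraMap A B f) := by
    simp [Algebra.algebraMapSubmonoid, Submonoid.map_powers]
  haveI : IsLocalization.Away (algebraMap A B f) (B ⊗[A] A') := by
    rw [IsLocalization.Away, ← hsub]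
    exact h0
  let e : (B ⊗[A] A') ≃ₐ[B] B' :=
    IsLocalization.algEquiv (Submonoid.powers (algebraMap A B f)) (B ⊗[A] A') B'
  have h1 : IsIntegral B (e.symm b') := hb'.map e.symm
  obtain ⟨z, hz⟩ := (TensorProduct.toIntegralClosure_bijective_of_smooth
    (R := A) (S := B) (B := A')).2 ⟨e.symm b', h1⟩
  have key : ∀ z : B ⊗[A] integralClosure A A',
      ((TensorProduct.toIntegralClosure A B A' z : integralClosure B (B ⊗[A] A')) : B ⊗[A] A') ∈
        Set.range (algebraMap B (B ⊗[A] A')) := by
    intro z
    induction z with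
    | zero => exact ⟨0, by simp⟩
    | add x y hx hy =>
      obtain ⟨a, ha⟩ := hx
      obtain ⟨b, hb⟩ := hy
      refine ⟨a + b, ?_⟩
      rw [map_add, map_add, ha, hb]
      rfl
    | tmul b a' =>
      obtain ⟨a, ha⟩ := hA a'.1 a'.2
      refine ⟨a • b, ?_⟩
      have : ((TensorProduct.toIntegralClosure A B A' (b ⊗ₜ[A] a') :
          integralClosure B (B ⊗[A] A')) : B ⊗[A] A') = b ⊗ₜ[A] (a'.1) := by
        simp [TensorProduct.toIntegralClosure]
      rw [this, ← ha, Algebra.TensorProduct.algebraMap_apply, Algebra.algebraMap_eq_smul_one a,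
        ← TensorProduct.smul_tmul]
      simp
  obtain ⟨b, hb⟩ := key z
  refine ⟨b, ?_⟩
  have h2 : e.symm b' = algebraMap B (B ⊗[A] A') b := by rw [hb, hz]
  calc algebraMap B B' b = e (algebraMap B (B ⊗[A] A') b) := (e.commutes b).symm
    _ = e (e.symm b') := by rw [h2]
    _ = b' := e.apply_symm_apply b'

end Groth.Agent.Lib.Helper91.IntClEt
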