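/-
Helper library (helper91): integral closedness of `O_X` in `O_{X°}` (interior of a modulus pair)
passes to étale `X`-schemes.
-/
import Mathlib
import Groth.Prelude.Def_W4c6modpairsegaMP
import Groth.Agent.Lib.Helper91.IntClEt1

set_option autoImplicit false
set_option linter.style.haveILetI false
universe u

open CategoryTheory AlgebraicGeometry TopologicalSpace Opposite

namespace Groth.Agent.Lib.Helper91.IntClEt

/-- restriction of sections of the structure sheaf -/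
noncomputable abbrev res {X : Scheme.{u}} {V V' : X.Opens} (h : V' ≤ V) : Γ(X, V) →+* Γ(X, V') :=
  (X.presheaf.map (homOfLE h).op).hom

theorem res_res {X : Scheme.{u}} {V V' V'' : X.Opens} (h1 : V' ≤ V) (h2 : V'' ≤ V')
    (s : Γ(X, V)) : res h2 (res h1 s) = res (h2.trans h1) s := by
  simp only [res]
  rw [← CommRingCat.comp_apply, ← Functor.map_comp]
  rfl

variable {X Y : Scheme.{u}}

theorem mem_interior_iff (IX : X.IdealSheafData) (x : X) :
    x ∈ ModPair.interior IX ↔ x ∉ IX.support := Iff.rfl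

/-- on a small affine open the interior is a basic open -/
theorem inf_interior_eq_basicOpen (IX : X.IdealSheafData) (U : X.affineOpens) (f : Γ(X, U.1))
    (hf : IX.ideal U = Ideal.span {f}) : U.1 ⊓ ModPair.interior IX = X.basicOpen f := by
  ext x
  constructor
  · rintro ⟨hxU, hxW⟩
    have h1 : x ∉ IX.support := hxW
    rw [Scheme.IdealSheafData.mem_support_iff_of_mem (U := U) hxU, hf, Scheme.zeroLocus_span,
      Scheme.zeroLocus_singleton] at h1
    simpa using h1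
  · intro hx
    have hxU : x ∈ U.1 := X.basicOpen_le f hx
    refine ⟨hxU, ?_⟩
    show x ∉ IX.support
    rw [Scheme.IdealSheafData.mem_support_iff_of_mem (U := U) hxU, hf, Scheme.zeroLocus_span,
      Scheme.zeroLocus_singleton]
    simpa using hx

theorem preimage_interior_eq_basicOpen (IX : X.IdealSheafData) (g : Y ⟶ X)
    (U : X.affineOpens) (f : Γ(X, U.1)) (hf : IX.ideal U = Ideal.span {f})
    (V' : Y.Opens) (e : V' ≤ g ⁻¹ᵁ U.1) :
    V' ⊓ g ⁻¹ᵁ ModPair.interior IX = Y.basicOpen (g.appLE U.1 V' e f) := by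
  rw [Scheme.basicOpen_appLE, ← inf_interior_eq_basicOpen IX U f hf]
  ext y
  constructor
  · rintro ⟨h1, h2⟩
    exact ⟨h1, e h1, h2⟩
  · rintro ⟨h1, -, h2⟩
    exact ⟨h1, h2⟩

/-- local surjectivity on a small affine chart -/
theorem local_surj (IX : X.IdealSheafData) (g : Y ⟶ X) [Etale g]
    (U : X.affineOpens) (f : Γ(X, U.1)) (hfI : IX.ideal U = Ideal.span {f})
    (hint : ∀ s : Γ(X, U.1 ⊓ ModPair.interior IX),
      (res (inf_le_left : U.1 ⊓ ModPair.interior IX ≤ U.1)).IsIntegralElem s →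
        s ∈ Set.range (res (inf_le_left : U.1 ⊓ ModPair.interior IX ≤ U.1)))
    (V' : Y.Opens) (hV' : IsAffineOpen V') (e : V' ≤ g ⁻¹ᵁ U.1)
    (t : Γ(Y, V' ⊓ g ⁻¹ᵁ ModPair.interior IX))
    (ht : (res (inf_le_left : V' ⊓ g ⁻¹ᵁ ModPair.interior IX ≤ V')).IsIntegralElem t) :
    t ∈ Set.range (res (inf_le_left : V' ⊓ g ⁻¹ᵁ ModPair.interior IX ≤ V')) := by
  letI : Algebra Γ(X, U.1) Γ(Y, V') := (g.appLE U.1 V' e).hom.toAlgebra
  letI : Algebra Γ(X, U.1) Γ(X, U.1 ⊓ ModPair.interior IX) :=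
    (res (inf_le_left : U.1 ⊓ ModPair.interior IX ≤ U.1)).toAlgebra
  letI : Algebra Γ(Y, V') Γ(Y, V' ⊓ g ⁻¹ᵁ ModPair.interior IX) :=
    (res (inf_le_left : V' ⊓ g ⁻¹ᵁ ModPair.interior IX ≤ V')).toAlgebra
  have het : (g.appLE U.1 V' e).hom.Etale := g.etale_appLE U.2 hV' e
  haveI : Algebra.Etale Γ(X, U.1) Γ(Y, V') := het
  haveI : Algebra.Smooth Γ(X, U.1) Γ(Y, V') := inferInstance
  haveI : IsLocalization.Away f Γ(X, U.1 ⊓ ModPair.interior IX) :=
    U.2.isLocalization_of_eq_basicOpen f (homOfLE inf_le_left)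
      (inf_interior_eq_basicOpen IX U f hfI)
  haveI : IsLocalization.Away (algebraMap Γ(X, U.1) Γ(Y, V') f)
      Γ(Y, V' ⊓ g ⁻¹ᵁ ModPair.interior IX) :=
    hV'.isLocalization_of_eq_basicOpen (g.appLE U.1 V' e f) (homOfLE inf_le_left)
      (preimage_interior_eq_basicOpen IX g U f hfI V' e)
  exact mem_range_of_isIntegral_of_smooth Γ(X, U.1) Γ(Y, V')
    Γ(X, U.1 ⊓ ModPair.interior IX) Γ(Y, V' ⊓ g ⁻¹ᵁ ModPair.interior IX) f
    (fun a' h => hint a' h) t ht

/-- local injectivity on a small affine chart -/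
theorem local_inj (IX : X.IdealSheafData) (g : Y ⟶ X) [Flat g]
    (U : X.affineOpens) (f : Γ(X, U.1)) (hf : f ∈ nonZeroDivisors Γ(X, U.1))
    (hfI : IX.ideal U = Ideal.span {f})
    (V' : Y.Opens) (hV' : IsAffineOpen V') (e : V' ≤ g ⁻¹ᵁ U.1) :
    Function.Injective (res (inf_le_left : V' ⊓ g ⁻¹ᵁ ModPair.interior IX ≤ V')) := by
  letI : Algebra Γ(X, U.1) Γ(Y, V') := (g.appLE U.1 V' e).hom.toAlgebra
  letI : Algebra Γ(Y, V') Γ(Y, V' ⊓ g ⁻¹ᵁ ModPair.interior IX) :=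
    (res (inf_le_left : V' ⊓ g ⁻¹ᵁ ModPair.interior IX ≤ V')).toAlgebra
  have hfl : (g.appLE U.1 V' e).hom.Flat := Flat.flat_appLE g U.2 hV' e
  haveI : Module.Flat Γ(X, U.1) Γ(Y, V') := hfl
  haveI : IsLocalization.Away (algebraMap Γ(X, U.1) Γ(Y, V') f)
      Γ(Y, V' ⊓ g ⁻¹ᵁ ModPair.interior IX) :=
    hV'.isLocalization_of_eq_basicOpen (g.appLE U.1 V' e f) (homOfLE inf_le_left)
      (preimage_interior_eq_basicOpen IX g U f hfI V' e)
  have hreg : IsSMulRegular Γ(X, U.1) f := by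
    intro a b hab
    have h1 : (a - b) * f = 0 := by
      have : f * a = f * b := hab
      rw [sub_mul, mul_comm a f, mul_comm b f, this, sub_self]
    have := (mem_nonZeroDivisors_iff_right.mp hf) _ h1
    exact sub_eq_zero.mp this
  have hreg' : IsSMulRegular Γ(Y, V') f := hreg.of_flat
  have hnzd : algebraMap Γ(X, U.1) Γ(Y, V') f ∈ nonZeroDivisors Γ(Y, V') := by
    rw [mem_nonZeroDivisors_iff_right]
    intro c hc
    apply hreg'
    show f • c = f • (0 : Γ(Y, V'))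
    rw [smul_zero, Algebra.smul_def, mul_comm]
    exact hc
  have : Function.Injective (algebraMap Γ(Y, V') Γ(Y, V' ⊓ g ⁻¹ᵁ ModPair.interior IX)) :=
    IsLocalization.injective _ (M := Submonoid.powers (algebraMap Γ(X, U.1) Γ(Y, V') f))
      (Submonoid.powers_le.mpr hnzd)
  exact this

/-- small affine charts -/
theorem exists_chart (IX : X.IdealSheafData) (hX : BlowUp.IsEffCartierIdeal IX) (g : Y ⟶ X)
    (V : Y.Opens) (y : V) :
    ∃ (W : Y.Opens) (U : X.affineOpens) (f : Γ(X, U.1)), IsAffineOpen W ∧ W ≤ V ∧ ↑y ∈ W ∧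
      W ≤ g ⁻¹ᵁ U.1 ∧ f ∈ nonZeroDivisors Γ(X, U.1) ∧ IX.ideal U = Ideal.span {f} := by
  obtain ⟨U, hxU, f, hf, hfI⟩ := hX (g y)
  obtain ⟨_, ⟨W, hW, rfl⟩, hyW, hWle⟩ := (Y.isBasis_affineOpens).exists_subset_of_mem_open
    (show (y : Y) ∈ (V ⊓ g ⁻¹ᵁ U.1 : Y.Opens) from ⟨y.2, hxU⟩) (V ⊓ g ⁻¹ᵁ U.1).isOpen
  exact ⟨W, U, f, hW, fun z hz => (hWle hz).1, hyW, fun z hz => (hWle hz).2, hf, hfI⟩

theorem res_injective (IX : X.IdealSheafData) (hX : BlowUp.IsEffCartierIdeal IX) (g : Y ⟶ X)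
    [Flat g] (V : Y.Opens) :
    Function.Injective (res (inf_le_left : V ⊓ g ⁻¹ᵁ ModPair.interior IX ≤ V)) := by
  rw [injective_iff_map_eq_zero]
  intro s hs
  choose W U f hW hWV hyW hWU hf hfI using exists_chart IX hX g V
  apply TopCat.Sheaf.eq_of_locally_eq' Y.sheaf W V (fun x => homOfLE (hWV x))
  · intro x hx
    exact Opens.mem_iSup.mpr ⟨⟨x, hx⟩, hyW ⟨x, hx⟩⟩
  · intro x
    show res (hWV x) s = res (hWV x) 0
    rw [map_zero]
    apply local_inj IX g (U x) (f x) (hf x) (hfI x) (W x) (hW x) (hWU x)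
    rw [map_zero, res_res]
    have : res ((inf_le_left : W x ⊓ g ⁻¹ᵁ ModPair.interior IX ≤ W x).trans (hWV x)) s =
        res (inf_le_inf_right _ (hWV x)) (res inf_le_left s) := by rw [res_res]
    rw [this, hs, map_zero]

theorem isIntegralElem_res (Wint : Y.Opens) {V W : Y.Opens} (hWV : W ≤ V) (t : Γ(Y, V ⊓ Wint))
    (ht : (res (inf_le_left : V ⊓ Wint ≤ V)).IsIntegralElem t) :
    (res (inf_le_left : W ⊓ Wint ≤ W)).IsIntegralElem (res (inf_le_inf_right Wint hWV) t) := by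
  obtain ⟨p, hp, hpt⟩ := ht
  refine ⟨p.map (res hWV), hp.map _, ?_⟩
  rw [Polynomial.eval₂_map]
  have hcomp : (res (inf_le_left : W ⊓ Wint ≤ W)).comp (res hWV) =
      (res (inf_le_inf_right Wint hWV)).comp (res (inf_le_left : V ⊓ Wint ≤ V)) := by
    ext a
    simp only [RingHom.comp_apply]
    rw [res_res, res_res]
  rw [hcomp, ← Polynomial.hom_eval₂, hpt, map_zero]

theorem main (IX : X.IdealSheafData) (hX : BlowUp.IsEffCartierIdeal IX)
    (hint : ∀ U ∈ X.affineOpens, ∀ s : Γ(X, U ⊓ ModPair.interior IX),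
      (res (inf_le_left : U ⊓ ModPair.interior IX ≤ U)).IsIntegralElem s →
        s ∈ Set.range (res (inf_le_left : U ⊓ ModPair.interior IX ≤ U)))
    (g : Y ⟶ X) [Etale g] (V : Y.Opens) (t : Γ(Y, V ⊓ g ⁻¹ᵁ ModPair.interior IX))
    (ht : (res (inf_le_left : V ⊓ g ⁻¹ᵁ ModPair.interior IX ≤ V)).IsIntegralElem t) :
    t ∈ Set.range (res (inf_le_left : V ⊓ g ⁻¹ᵁ ModPair.interior IX ≤ V)) := by
  haveI : Flat g := inferInstance
  choose W U f hW hWV hyW hWU hf hfI using exists_chart IX hX g V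
  have hex : ∀ x : V, ∃ s : Γ(Y, W x),
      res inf_le_left s = res (inf_le_inf_right (g ⁻¹ᵁ ModPair.interior IX) (hWV x)) t :=
    fun x => local_surj IX g (U x) (f x) (hfI x) (fun s hs => hint (U x).1 (U x).2 s hs)
      (W x) (hW x) (hWU x) _ (isIntegralElem_res _ (hWV x) t ht)
  choose s hs using hex
  have hcover : V ≤ iSup W := by
    intro x hx
    exact Opens.mem_iSup.mpr ⟨⟨x, hx⟩, hyW ⟨x, hx⟩⟩
  have compat : TopCat.Presheaf.IsCompatible Y.sheaf.1 W s := by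
    intro i j
    show res inf_le_left (s i) = res inf_le_right (s j)
    apply res_injective IX hX g (W i ⊓ W j)
    rw [res_res, res_res]
    have e1 : res ((inf_le_left : W i ⊓ W j ⊓ g ⁻¹ᵁ ModPair.interior IX ≤ W i ⊓ W j).trans
        inf_le_left) (s i) =
        res (inf_le_inf_right _ inf_le_left) (res inf_le_left (s i)) := by rw [res_res]
    have e2 : res ((inf_le_left : W i ⊓ W j ⊓ g ⁻¹ᵁ ModPair.interior IX ≤ W i ⊓ W j).trans
        inf_le_right) (s j) =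
        res (inf_le_inf_right _ inf_le_right) (res inf_le_left (s j)) := by rw [res_res]
    rw [e1, e2, hs, hs, res_res, res_res]
  obtain ⟨gl, hgl, -⟩ :=
    Y.sheaf.existsUnique_gluing' W V (fun x => homOfLE (hWV x)) hcover s compat
  refine ⟨gl, ?_⟩
  apply TopCat.Sheaf.eq_of_locally_eq' Y.sheaf
    (fun x : V => W x ⊓ g ⁻¹ᵁ ModPair.interior IX) (V ⊓ g ⁻¹ᵁ ModPair.interior IX)
    (fun x => homOfLE (inf_le_inf_right _ (hWV x)))
  · intro x hx
    exact Opens.mem_iSup.mpr ⟨⟨x, hx.1⟩, ⟨hyW ⟨x, hx.1⟩, hx.2⟩⟩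
  · intro x
    show res (inf_le_inf_right _ (hWV x)) (res inf_le_left gl) =
      res (inf_le_inf_right _ (hWV x)) t
    rw [res_res, ← hs x]
    have h1 : res (hWV x) gl = s x := hgl x
    rw [← h1, res_res]

end Groth.Agent.Lib.Helper91.IntClEt
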