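import Mathlib.LinearAlgebra.Lagrange
import Mathlib.Algebra.Polynomial.Lifts
import Mathlib.Data.Nat.Factorial.BigOperators
import Mathlib.Tactic

/-! A rational polynomial of degree `≤ g` taking integer values at `g+1` consecutive
integers has coefficients in `(1/g!)ℤ`. -/

namespace Groth.Agent.Lib.Helper91

open Polynomial Finset

/-- `∏_{j<i} (i - j) = i!` -/
theorem prod_range_sub (i : ℕ) : ∏ j ∈ range i, ((i : ℚ) - j) = (i.factorial : ℚ) := by
  have h1 : ∏ j ∈ range i, ((i : ℚ) - j) = ∏ j ∈ range i, (((i - 1 - j : ℕ) : ℚ) + 1) := by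
    refine prod_congr rfl fun j hj => ?_
    have hj' : j < i := mem_range.mp hj
    have : i - 1 - j + 1 + j = i := by omega
    have h2 : ((i - 1 - j : ℕ) : ℚ) + 1 + j = i := by exact_mod_cast this
    linarith
  rw [h1, prod_range_reflect (fun m => ((m : ℕ) : ℚ) + 1) i, ← prod_range_add_one_eq_factorial]
  push_cast
  rfl

/-- `∏_{j ≤ g, j ≠ i} (i - j) = (-1)^(g-i) i! (g-i)!` -/
theorem prod_erase_sub (i : ℕ) : ∀ g : ℕ, i ≤ g →
    ∏ j ∈ (range (g + 1)).erase i, ((i : ℚ) - j) =
      (-1) ^ (g - i) * (i.factorial : ℚ) * ((g - i).factorial : ℚ) := by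
  intro g hg
  induction g, hg using Nat.le_induction with
  | base =>
    rw [range_add_one, erase_insert (by simp), prod_range_sub]
    simp
  | succ g hg ih =>
    have h1 : (range (g + 1 + 1)).erase i = insert (g + 1) ((range (g + 1)).erase i) := by
      rw [range_add_one (n := g + 1), erase_insert_of_ne (by omega)]
    rw [h1, prod_insert (by simp), ih]
    have h2 : g + 1 - i = (g - i) + 1 := by omega
    rw [h2, pow_succ, Nat.factorial_succ]
    have h3 : ((g + 1 : ℕ) : ℚ) = ((g - i : ℕ) : ℚ) + 1 + i := by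
      have : g + 1 = g - i + 1 + i := by omega
      exact_mod_cast this
    push_cast
    rw [show ((g : ℚ) + 1) = ((g - i : ℕ) : ℚ) + 1 + i by exact_mod_cast h3]
    ring

/-- integrality of `g! / ∏_{j≠i}(i-j)` -/
theorem factorial_mul_inv_prod (g i : ℕ) (hi : i ≤ g) :
    ∃ z : ℤ, (g.factorial : ℚ) * (∏ j ∈ (range (g + 1)).erase i, ((i : ℚ) - j))⁻¹ = z := by
  rw [prod_erase_sub i g hi]
  refine ⟨(-1) ^ (g - i) * (g.choose i : ℤ), ?_⟩
  have h1 : (g.factorial : ℚ) = (g.choose i : ℚ) * i.factorial * (g - i).factorial := by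
    exact_mod_cast (Nat.choose_mul_factorial_mul_factorial hi).symm
  have hi0 : (i.factorial : ℚ) ≠ 0 := by exact_mod_cast i.factorial_ne_zero
  have hg0 : ((g - i).factorial : ℚ) ≠ 0 := by exact_mod_cast (g - i).factorial_ne_zero
  have hs : ((-1 : ℚ) ^ (g - i)) * ((-1 : ℚ) ^ (g - i)) = 1 := by
    rw [← mul_pow]; simp
  have hs0 : ((-1 : ℚ) ^ (g - i)) ≠ 0 := pow_ne_zero _ (by norm_num)
  push_cast
  rw [h1]
  field_simp
  rw [pow_two, hs, mul_one]

theorem intValued_coeff (g : ℕ) (R : ℚ[X]) (hR : R.natDegree ≤ g) (a₀ : ℤ)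
    (hval : ∀ i : ℕ, i ≤ g → ∃ z : ℤ, R.eval ((a₀ : ℚ) + i) = z) (j : ℕ) :
    ∃ z : ℤ, (g.factorial : ℚ) * R.coeff j = z := by
  classical
  set v : ℕ → ℚ := fun i => (a₀ : ℚ) + i with hv
  have hvs : Set.InjOn v (range (g + 1) : Set ℕ) := by
    intro x _ y _ hxy
    simp only [hv, add_right_inj] at hxy
    exact_mod_cast hxy
  have hdeg : R.degree < ((range (g + 1)).card : ℕ) := by
    rw [card_range]
    exact lt_of_le_of_lt (Polynomial.degree_le_natDegree) (by exact_mod_cast Nat.lt_succ_of_le hR)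
  have hR' := Lagrange.eq_interpolate hvs hdeg
  rw [Lagrange.interpolate_apply] at hR'
  -- membership in the lifts subsemiring
  have hmem : C (g.factorial : ℚ) * R ∈ Polynomial.lifts (Int.castRingHom ℚ) := by
    rw [hR', mul_sum]
    refine Subsemiring.sum_mem _ fun i hi => ?_
    have hi' : i ≤ g := Nat.lt_succ_iff.mp (mem_range.mp hi)
    rw [Lagrange.basis_eq_prod_sub_inv_mul_nodal_div hi, ← Lagrange.nodal_erase_eq_nodal_div hi]
    obtain ⟨z, hz⟩ := hval i hi'
    have hw : Lagrange.nodalWeight (range (g + 1)) v i =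
        (∏ j ∈ (range (g + 1)).erase i, ((i : ℚ) - j))⁻¹ := by
      rw [Lagrange.nodalWeight, prod_inv_distrib]
      congr 1
      refine prod_congr rfl fun j _ => ?_
      simp only [hv]; ring
    obtain ⟨w, hw'⟩ := factorial_mul_inv_prod g i hi'
    have e : C (g.factorial : ℚ) * (C (R.eval (v i)) *
        (C (Lagrange.nodalWeight (range (g + 1)) v i) * Lagrange.nodal ((range (g + 1)).erase i) v)) =
        C ((z : ℚ)) * C ((w : ℚ)) * Lagrange.nodal ((range (g + 1)).erase i) v := by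
      rw [← hw', ← hz, hw]
      simp only [map_mul]
      ring
    rw [e]
    refine Subsemiring.mul_mem _ (Subsemiring.mul_mem _ ?_ ?_) ?_
    · rw [Polynomial.lifts_iff_coeff_lifts]; intro n
      rw [coeff_C]; split_ifs
      · exact ⟨z, rfl⟩
      · exact ⟨0, by simp⟩
    · rw [Polynomial.lifts_iff_coeff_lifts]; intro n
      rw [coeff_C]; split_ifs
      · exact ⟨w, rfl⟩
      · exact ⟨0, by simp⟩
    · rw [Lagrange.nodal_eq]
      refine Subsemiring.prod_mem _ fun m _ => ?_
      rw [Polynomial.mem_lifts]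
      refine ⟨X - C (a₀ + (m : ℤ)), ?_⟩
      simp [hv]
  rw [Polynomial.lifts_iff_coeff_lifts] at hmem
  obtain ⟨z, hz⟩ := hmem j
  refine ⟨z, ?_⟩
  rw [coeff_C_mul] at hz
  exact hz.symm

end Groth.Agent.Lib.Helper91
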