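import Mathlib
import Groth.Prelude.Def_RegImm
import Groth.Agent.Lib.Helper9.KoszulAppend
import Groth.Agent.Lib.Helper9.KoszulSwap
import Groth.Agent.Lib.Helper9.KoszulLoc
import Groth.Agent.Lib.Helper9.KoszulIndep
import Groth.Agent.Lib.Helper33.KoszulDepth

/-!
# A Koszul-regular sequence becomes regular after a smooth surjective base change

Ring-level: if `w` is weakly regular and `w ++ e` is Koszul-regular in `A`, there is a smooth
`A`-algebra `B`, with `Spec B → Spec A` surjective, such that `(w ++ e) B` is generated by a weakly
regular sequence.  The induction step passes to `A[t]` and replaces the first element `a` of `e` by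
the polynomial `a + e₁ t + e₂ t² + …`, a nonzerodivisor modulo `w` by McCoy's theorem.
-/

set_option autoImplicit false
set_option linter.style.haveILetI false
universe u

namespace Groth.Agent.Lib.Helper91.KosReg

open Polynomial RingTheory.Sequence Groth.Agent.Lib.Helper9 Groth.Agent.Lib.Helper94.KoszulReg

section poly

variable {A : Type u} [CommRing A]

/-- the polynomial with coefficient list `l` -/
noncomputable def P : List A → A[X]
  | [] => 0
  | x :: l => C x + X * P l

theorem P_cons (x : A) (l : List A) : P (x :: l) = C x + X * P l := rfl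

theorem X_mul_eq_zero {q : A[X]} (h : X * q = 0) : q = 0 := by
  ext n
  have := congrArg (fun p => p.coeff (n + 1)) h
  simpa [coeff_X_mul] using this

theorem mul_eq_zero_of_smul_P (c : A) : ∀ l : List A, c • P l = 0 → ∀ x ∈ l, c * x = 0
  | [], _, x, hx => by simp at hx
  | y :: l, h, x, hx => by
    rw [P_cons, smul_add, smul_C, smul_eq_mul, ← mul_smul_comm] at h
    have h0 : c * y = 0 := by
      have := congrArg (fun p => p.coeff 0) h
      simpa using this
    have h1 : c • P l = 0 := by
      rw [h0, C_0, zero_add] at h
      exact X_mul_eq_zero h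
    rcases List.mem_cons.mp hx with rfl | hx'
    · exact h0
    · exact mul_eq_zero_of_smul_P c l h1 x hx'

theorem map_P {B : Type u} [CommRing B] (π : A →+* B) :
    ∀ l : List A, (P l).map π = P (l.map π)
  | [] => by simp [P]
  | x :: l => by
    rw [P_cons, List.map_cons, P_cons, Polynomial.map_add, Polynomial.map_mul, map_C, map_X,
      map_P π l]

theorem P_mem : ∀ l : List A, P l ∈ Ideal.ofList (l.map (C : A →+* A[X]))
  | [] => by simp [P]
  | x :: l => by
    rw [P_cons, List.map_cons, Ideal.ofList_cons]
    refine Ideal.add_mem _ (Ideal.mem_sup_left (Ideal.mem_span_singleton_self _))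
      (Ideal.mem_sup_right (Ideal.mul_mem_left _ _ (P_mem l)))

/-- McCoy: `P l` is a nonzerodivisor as soon as `l` has zero annihilator -/
theorem P_mem_nonZeroDivisors (l : List A) (h : ∀ c : A, (∀ x ∈ l, c * x = 0) → c = 0) :
    P l ∈ nonZeroDivisors A[X] :=
  Polynomial.mem_nonZeroDivisors_iff.mpr fun c hc => h c (mul_eq_zero_of_smul_P c l hc)

end poly

section ann

variable {A : Type u} [CommRing A]

/-- a nonempty Koszul-regular sequence has zero annihilator -/
theorem eq_zero_of_koszul (l : List A) (hl : l ≠ []) (h : LCI.IsKoszulRegularSeq A l) (c : A)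
    (hc : ∀ x ∈ l, c * x = 0) : c = 0 := by
  by_contra hne
  have h1 := Groth.Agent.Lib.Helper33.KoszulDepth.not_isZero_homology_bot A c hne l
    (fun x hx => by rw [smul_eq_mul, mul_comm]; exact hc x hx)
  apply h1
  have h2 := (KoszulSwap.isKoszulRegularSeq_iff l).mp h
  apply h2
  have : 0 < l.length := List.length_pos_of_ne_nil hl
  omega

end ann

end Groth.Agent.Lib.Helper91.KosReg
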