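import Mathlib
import Groth.Agent.Lib.Helper91.KosReg1

/-!
# The induction: Koszul-regular ⟹ regular after smooth surjective base change (ring level)
-/

set_option autoImplicit false
set_option linter.style.haveILetI false
universe u

namespace Groth.Agent.Lib.Helper91.KosReg

open Polynomial RingTheory.Sequence Groth.Agent.Lib.Helper9

theorem comap_C_surjective (A : Type u) [CommRing A] :
    Function.Surjective (PrimeSpectrum.comap (C : A →+* A[X])) := by
  intro p
  refine ⟨PrimeSpectrum.comap (Polynomial.evalRingHom (0 : A)) p, ?_⟩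
  rw [← PrimeSpectrum.comap_comp_apply]
  have : (Polynomial.evalRingHom (0 : A)).comp (C : A →+* A[X]) = RingHom.id A := by
    ext a; simp
  rw [this]
  rfl

/-- the step: regularity of the new element modulo `w` -/
theorem step_regular {A : Type u} [CommRing A] (w : List A) (a : A) (e' : List A)
    (hw : IsWeaklyRegular A w) (hKR : LCI.IsKoszulRegularSeq A (w ++ a :: e')) :
    IsWeaklyRegular A[X] (w.map (C : A →+* A[X]) ++ [P (a :: e')]) := by
  set π := Ideal.Quotient.mk (Ideal.ofList w) with hπ
  have hKR' : LCI.IsKoszulRegularSeq (A ⧸ Ideal.ofList w) ((a :: e').map π) :=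
    (KoszulAppend.isKoszulRegularSeq_append_iff π Ideal.Quotient.mk_surjective w Ideal.mk_ker hw
      (a :: e')).mp hKR
  have hnzd : P ((a :: e').map π) ∈ nonZeroDivisors (A ⧸ Ideal.ofList w)[X] :=
    P_mem_nonZeroDivisors _ (fun c hc => eq_zero_of_koszul _ (by simp) hKR' c hc)
  rw [isWeaklyRegular_append_iff]
  refine ⟨?_, ?_⟩
  · have := KoszulIndep.isWeaklyRegular_map_of_flat (S := A) (S' := A[X]) w hw
    rwa [Polynomial.algebraMap_eq] at this
  · rw [isWeaklyRegular_singleton_iff, isSMulRegular_quotient_iff_mem_of_smul_mem]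
    intro p hp
    have hJ : (Ideal.ofList (w.map (C : A →+* A[X])) • ⊤ : Submodule A[X] A[X]) =
        (Ideal.ofList w).map (C : A →+* A[X]) := by
      rw [smul_eq_mul, Ideal.mul_top, Ideal.map_ofList]
    rw [hJ] at hp ⊢
    rw [Ideal.mem_map_C_iff] at hp ⊢
    have h0 : (P (a :: e') * p).map π = 0 := by
      ext n
      rw [coeff_map, coeff_zero]
      exact Ideal.Quotient.eq_zero_iff_mem.mpr (by simpa [smul_eq_mul] using hp n)
    rw [Polynomial.map_mul, map_P] at h0
    have h1 : p.map π = 0 := by
      have := hnzd.1 (p.map π)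
      exact this h0
    intro n
    have := congrArg (fun q => q.coeff n) h1
    simp only [coeff_map, coeff_zero] at this
    exact Ideal.Quotient.eq_zero_iff_mem.mp this

/-- the step: Koszul-regularity of the modified sequence -/
theorem step_koszul {A : Type u} [CommRing A] (w : List A) (a : A) (e' : List A)
    (hKR : LCI.IsKoszulRegularSeq A (w ++ a :: e')) :
    LCI.IsKoszulRegularSeq A[X]
      ((w.map (C : A →+* A[X]) ++ [P (a :: e')]) ++ e'.map (C : A →+* A[X])) := by
  have h1 := KoszulLoc.isKoszulRegularSeq_map_of_flat A[X] _ hKR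
  rw [Polynomial.algebraMap_eq, List.map_append, List.map_cons] at h1
  have hp1 : (w.map (C : A →+* A[X]) ++ C a :: e'.map (C : A →+* A[X])).Perm
      (C a :: (w.map (C : A →+* A[X]) ++ e'.map (C : A →+* A[X]))) := List.perm_middle
  rw [KoszulSwap.isKoszulRegularSeq_perm hp1] at h1
  have ht : X * P e' ∈ Ideal.span {x | x ∈ w.map (C : A →+* A[X]) ++ e'.map (C : A →+* A[X])} := by
    have h2 : Ideal.ofList (e'.map (C : A →+* A[X])) ≤
        Ideal.ofList (w.map (C : A →+* A[X]) ++ e'.map (C : A →+* A[X])) := by
      rw [Ideal.ofList_append]; exact le_sup_right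
    exact h2 (Ideal.mul_mem_left _ _ (P_mem e'))
  rw [KoszulSwap.isKoszulRegularSeq_add_of_mem_span _ _ ht] at h1
  have hp2 : ((w.map (C : A →+* A[X]) ++ [P (a :: e')]) ++ e'.map (C : A →+* A[X])).Perm
      (P (a :: e') :: (w.map (C : A →+* A[X]) ++ e'.map (C : A →+* A[X]))) := by
    rw [List.append_assoc, List.singleton_append]
    exact List.perm_middle
  rw [KoszulSwap.isKoszulRegularSeq_perm hp2]
  exact h1

/-- the step: the ideal is unchanged -/
theorem step_ideal {A : Type u} [CommRing A] (w : List A) (a : A) (e' : List A) :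
    (Ideal.ofList (w ++ a :: e')).map (C : A →+* A[X]) =
      Ideal.ofList ((w.map (C : A →+* A[X]) ++ [P (a :: e')]) ++ e'.map (C : A →+* A[X])) := by
  rw [Ideal.map_ofList, List.map_append, List.map_cons]
  simp only [Ideal.ofList_append, Ideal.ofList_cons, Ideal.ofList_nil, sup_bot_eq]
  rw [sup_assoc]
  congr 1
  have ht : X * P e' ∈ Ideal.ofList (e'.map (C : A →+* A[X])) :=
    Ideal.mul_mem_left _ _ (P_mem e')
  apply le_antisymm
  · refine sup_le ?_ le_sup_right
    rw [Ideal.span_singleton_le_iff_mem]
    have : C a = P (a :: e') - X * P e' := by rw [P_cons]; ring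
    rw [this]
    exact Ideal.sub_mem _ (Ideal.mem_sup_left (Ideal.mem_span_singleton_self _))
      (Ideal.mem_sup_right ht)
  · refine sup_le ?_ le_sup_right
    rw [Ideal.span_singleton_le_iff_mem, P_cons]
    exact Ideal.add_mem _ (Ideal.mem_sup_left (Ideal.mem_span_singleton_self _))
      (Ideal.mem_sup_right ht)

theorem main (r : ℕ) : ∀ (A : Type u) [CommRing A] (w e : List A), e.length = r →
    IsWeaklyRegular A w → LCI.IsKoszulRegularSeq A (w ++ e) →
    ∃ (B : Type u) (_ : CommRing B) (_ : Algebra A B), Algebra.Smooth A B ∧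
      Function.Surjective (PrimeSpectrum.comap (algebraMap A B)) ∧
      ∃ l : List B, IsWeaklyRegular B l ∧
        (Ideal.ofList (w ++ e)).map (algebraMap A B) = Ideal.ofList l := by
  induction r with
  | zero =>
    intro A _ w e he hw _
    obtain rfl : e = [] := List.length_eq_zero_iff.mp he
    refine ⟨A, inferInstance, inferInstance, inferInstance, ?_, w, hw, ?_⟩
    · intro p; exact ⟨p, rfl⟩
    · rw [List.append_nil, Algebra.algebraMap_self, Ideal.map_id]
  | succ r ih =>
    intro A _ w e he hw hKR
    obtain ⟨a, e', rfl⟩ : ∃ a e', e = a :: e' := by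
      cases e with
      | nil => simp at he
      | cons a e' => exact ⟨a, e', rfl⟩
    have he' : (e'.map (C : A →+* A[X])).length = r := by
      rw [List.length_map]; simpa using he
    obtain ⟨B, _, _, hsm, hsurj, l, hl, hI⟩ := ih A[X] (w.map C ++ [P (a :: e')]) (e'.map C) he'
      (step_regular w a e' hw hKR) (step_koszul w a e' hKR)
    letI : Algebra A B := ((algebraMap A[X] B).comp (C : A →+* A[X])).toAlgebra
    haveI : IsScalarTower A A[X] B := IsScalarTower.of_algebraMap_eq fun x => by
      rw [RingHom.algebraMap_toAlgebra, Polynomial.algebraMap_eq]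
      rfl
    haveI : Algebra.Smooth A A[X] :=
      ⟨inferInstance, inferInstance⟩
    refine ⟨B, inferInstance, inferInstance, Algebra.Smooth.comp A A[X] B, ?_, l, hl, ?_⟩
    · have : algebraMap A B = (algebraMap A[X] B).comp (C : A →+* A[X]) :=
        RingHom.algebraMap_toAlgebra _
      rw [this]
      intro p
      obtain ⟨q, rfl⟩ := comap_C_surjective A p
      obtain ⟨q', rfl⟩ := hsurj q
      exact ⟨q', by rw [PrimeSpectrum.comap_comp_apply]⟩
    · have : algebraMap A B = (algebraMap A[X] B).comp (C : A →+* A[X]) :=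
        RingHom.algebraMap_toAlgebra _
      rw [this, ← Ideal.map_map, step_ideal, hI]

end Groth.Agent.Lib.Helper91.KosReg
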