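import Mathlib
import Groth.Prelude.Def_RegImm
import Groth.Agent.Lib.Helper91.KosReg2
import Groth.Agent.Lib.Helper91.RegBC1
import Groth.Agent.Lib.Helper91.ImmStalk

/-!
# A Koszul-regular closed immersion becomes regular after a smooth surjective base change
-/

set_option autoImplicit false
set_option linter.style.haveILetI false
universe u

open CategoryTheory CategoryTheory.Limits AlgebraicGeometry TopologicalSpace Opposite

namespace Groth.Agent.Lib.Helper91.KosReg

open RingTheory.Sequence Groth.Agent.Lib.Helper9 Groth.Agent.Lib.Helper91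

/-- identify the sections over an affine component -/
theorem exists_iso {X X' : Scheme.{u}} {B : CommRingCat.{u}} (ι : Spec B ⟶ X') [IsOpenImmersion ι]
    (g : X' ⟶ X) (U : X.affineOpens) (φ : Γ(X, U.1) ⟶ B)
    (h : ι ≫ g = Spec.map φ ≫ U.2.fromSpec) :
    ∃ (e : ι.opensRange ≤ g ⁻¹ᵁ U.1) (ψ : B ≅ Γ(X', ι.opensRange)),
      φ ≫ ψ.hom = g.appLE U.1 ι.opensRange e := by
  have hV' : IsAffineOpen ι.opensRange := isAffineOpen_opensRange ι
  have e : ι.opensRange ≤ g ⁻¹ᵁ U.1 := by
    rintro _ ⟨y, rfl⟩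
    show g (ι y) ∈ U.1
    rw [← Scheme.Hom.comp_apply, h, Scheme.Hom.comp_apply]
    have : U.2.fromSpec ((Spec.map φ) y) ∈ Set.range U.2.fromSpec := ⟨_, rfl⟩
    rw [U.2.range_fromSpec] at this
    exact this
  have hrange : Set.range ι = Set.range hV'.fromSpec := by
    rw [hV'.range_fromSpec]; rfl
  let θ : Spec B ≅ Spec Γ(X', ι.opensRange) := IsOpenImmersion.isoOfRangeEq ι hV'.fromSpec hrange
  have hθ : θ.hom ≫ hV'.fromSpec = ι := IsOpenImmersion.isoOfRangeEq_hom_fac _ _ _
  have h1 : θ.hom ≫ Spec.map (g.appLE U.1 ι.opensRange e) = Spec.map φ := by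
    rw [← cancel_mono U.2.fromSpec, Category.assoc, IsAffineOpen.SpecMap_appLE_fromSpec g U.2 hV' e,
      ← Category.assoc, hθ, h]
  -- θ comes from a ring iso
  let ψ' : Γ(X', ι.opensRange) ≅ B :=
    { hom := Spec.preimage θ.hom
      inv := Spec.preimage θ.inv
      hom_inv_id := by
        apply Spec.map_injective
        rw [Spec.map_comp, Spec.map_preimage, Spec.map_preimage, θ.inv_hom_id, Spec.map_id]
      inv_hom_id := by
        apply Spec.map_injective
        rw [Spec.map_comp, Spec.map_preimage, Spec.map_preimage, θ.hom_inv_id, Spec.map_id] }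
  refine ⟨e, ψ'.symm, ?_⟩
  rw [Iso.symm_hom, Iso.comp_inv_eq]
  apply Spec.map_injective
  rw [Spec.map_comp, Spec.map_preimage, h1]

end Groth.Agent.Lib.Helper91.KosReg
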