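import Mathlib
import Groth.Prelude.Def_RegImm
import Groth.Agent.Lib.Helper91.KosReg3

/-!
# A Koszul-regular closed immersion becomes regular after a smooth surjective base change (global)
-/

set_option autoImplicit false
set_option linter.style.haveILetI false
universe u

open CategoryTheory CategoryTheory.Limits AlgebraicGeometry TopologicalSpace Opposite

namespace Groth.Agent.Lib.Helper91.KosReg

open RingTheory.Sequence Groth.Agent.Lib.Helper9 Groth.Agent.Lib.Helper91

variable {Z X : Scheme.{u}}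

theorem exists_local (i : Z ⟶ X) [IsClosedImmersion i]
    (hi : RegImm.IsRegularImmersion .koszul i) (x : X) :
    ∃ (U : X.affineOpens) (_ : x ∈ U.1) (B : CommRingCat.{u}) (φ : Γ(X, U.1) ⟶ B),
      φ.hom.Smooth ∧ (∀ p : Spec Γ(X, U.1), ∃ q : Spec B, (Spec.map φ) q = p) ∧
      IsClosedImmersion (i ∣_ U.1) ∧
      ∃ l : List B, IsWeaklyRegular B l ∧
        (RingHom.ker (i.app U.1).hom).map φ.hom = Ideal.ofList l := by
  by_cases hx : x ∈ Set.range i
  · obtain ⟨z, rfl⟩ := hx
    obtain ⟨U, hzU, hcl, rs, hrs, hker⟩ := hi.2 z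
    obtain ⟨B', _, _, hsm, hsurj, l, hl, hI⟩ := main rs.length Γ(X, U.1) [] rs rfl
      (IsWeaklyRegular.nil _ _) hrs
    refine ⟨U, hzU, CommRingCat.of B', CommRingCat.ofHom (algebraMap Γ(X, U.1) B'), ?_, ?_, hcl,
      l, hl, ?_⟩
    · exact RingHom.smooth_algebraMap.mpr hsm
    · intro p
      obtain ⟨q, hq⟩ := hsurj p
      exact ⟨q, hq⟩
    · rw [hker]
      simpa using hI
  · have hopen : IsOpen (Set.range i)ᶜ := i.isClosedEmbedding.isClosed_range.isOpen_compl
    obtain ⟨U, hU, hxU, hle⟩ := exists_isAffineOpen_mem_and_subset (x := x)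
      (U := ⟨(Set.range i)ᶜ, hopen⟩) hx
    have hbot : i ⁻¹ᵁ U = ⊥ := by
      ext z
      simp only [Opens.coe_bot, Set.mem_empty_iff_false, iff_false]
      intro hz
      exact hle hz ⟨z, rfl⟩
    refine ⟨⟨U, hU⟩, hxU, Γ(X, U), 𝟙 _, ?_, ?_, inferInstance, [1], ?_, ?_⟩
    · exact RingHom.Smooth.id _
    · intro p
      exact ⟨p, by rw [Spec.map_id]; rfl⟩
    · rw [isWeaklyRegular_singleton_iff]
      exact IsSMulRegular.one _
    · have htop : RingHom.ker (i.app U).hom = ⊤ := by
        rw [Ideal.eq_top_iff_one, RingHom.mem_ker]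
        haveI : Subsingleton Γ(Z, i ⁻¹ᵁ U) := by
          rw [hbot]; infer_instance
        exact Subsingleton.elim _ _
      show (RingHom.ker (i.app U).hom).map _ = _
      rw [htop, Ideal.ofList_singleton, Ideal.span_singleton_one]
      exact Ideal.map_top _

theorem main_scheme (i : Z ⟶ X) [IsClosedImmersion i]
    (hi : RegImm.IsRegularImmersion .koszul i) :
    ∃ (X' : Scheme.{u}) (g : X' ⟶ X), Smooth g ∧ Surjective g ∧
      RegImm.IsRegularImmersion .regular (pullback.snd i g) := by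
  choose U hxU B φ hsm hsurj hcl l hl hI using exists_local i hi
  let gx : ∀ x : X, Spec (B x) ⟶ X := fun x => Spec.map (φ x) ≫ (U x).2.fromSpec
  haveI : ∀ x, Smooth (gx x) := fun x => by
    haveI : Smooth (Spec.map (φ x)) := (HasRingHomProperty.Spec_iff (P := @Smooth)).mpr (hsm x)
    infer_instance
  refine ⟨∐ fun x => Spec (B x), Sigma.desc gx, ?_, ?_, ?_⟩
  · exact IsZariskiLocalAtSource.sigmaDesc (fun x => inferInstance)
  · apply Surjective.sigmaDesc_of_union_range_eq_univ
    rw [Set.eq_univ_iff_forall]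
    intro x
    rw [Set.mem_iUnion]
    refine ⟨x, ?_⟩
    have h1 : x ∈ Set.range (U x).2.fromSpec := by
      rw [(U x).2.range_fromSpec]; exact hxU x
    obtain ⟨p, hp⟩ := h1
    obtain ⟨q, hq⟩ := hsurj x p
    exact ⟨q, by rw [Scheme.Hom.comp_apply, hq, hp]⟩
  · set g := Sigma.desc gx with hg
    refine ⟨inferInstance, fun z' => ?_⟩
    obtain ⟨x₀, y, hy⟩ := (sigmaOpenCover fun x => Spec (B x)).exists_eq ((pullback.snd i g) z')
    let ι : Spec (B x₀) ⟶ ∐ fun x => Spec (B x) := Sigma.ι (fun x => Spec (B x)) x₀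
    have hy' : ι y = (pullback.snd i g) z' := hy
    have hιg : ι ≫ g = Spec.map (φ x₀) ≫ (U x₀).2.fromSpec := Sigma.ι_desc gx x₀
    obtain ⟨e, ψ, hψ⟩ := exists_iso ι g (U x₀) (φ x₀) hιg
    haveI := hcl x₀
    obtain ⟨hcl', hker'⟩ := RegBC.chart (IsPullback.of_hasPullback i g) (U x₀)
      ⟨ι.opensRange, isAffineOpen_opensRange ι⟩ e
    have hzV : (pullback.snd i g) z' ∈ ι.opensRange := ⟨y, hy'⟩
    have hkereq : RingHom.ker ((pullback.snd i g).app ι.opensRange).hom =
        Ideal.ofList ((l x₀).map ψ.hom.hom) := by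
      rw [hker']
      show (RingHom.ker (i.app (U x₀).1).hom).map (g.appLE (U x₀).1 ι.opensRange e).hom = _
      rw [← hψ, CommRingCat.hom_comp, ← Ideal.map_map, hI x₀, Ideal.map_ofList]
    have hbij : Function.Bijective ψ.hom.hom :=
      ConcreteCategory.bijective_of_isIso ψ.hom
    have hwr : IsWeaklyRegular Γ(∐ fun x => Spec (B x), ι.opensRange)
        ((l x₀).map ψ.hom.hom) := by
      letI : Algebra (B x₀) Γ(∐ fun x => Spec (B x), ι.opensRange) := ψ.hom.hom.toAlgebra
      haveI : Module.Flat (B x₀) Γ(∐ fun x => Spec (B x), ι.opensRange) :=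
        RingHom.Flat.of_bijective hbij
      exact KoszulIndep.isWeaklyRegular_map_of_flat (l x₀) (hl x₀)
    refine ⟨⟨ι.opensRange, isAffineOpen_opensRange ι⟩, hzV, hcl', (l x₀).map ψ.hom.hom,
      ⟨hwr, ?_⟩, hkereq⟩
    rw [smul_eq_mul, Ideal.mul_top, ← hkereq]
    intro htop
    have h1 : (1 : Γ(∐ fun x => Spec (B x), ι.opensRange)) ∈
        RingHom.ker ((pullback.snd i g).app ι.opensRange).hom := by
      rw [← htop]; trivial
    rw [RingHom.mem_ker, map_one] at h1
    haveI : Nonempty ↥((pullback.snd i g) ⁻¹ᵁ ι.opensRange) := ⟨⟨z', hzV⟩⟩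
    haveI : Nontrivial Γ(pullback i g, (pullback.snd i g) ⁻¹ᵁ ι.opensRange) := inferInstance
    exact one_ne_zero h1

end Groth.Agent.Lib.Helper91.KosReg
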