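import Mathlib
import Groth.Prelude
import Groth.Agent.Lib.Helper91.CodimOne

/-!
# Closed subschemes of codimension one and integral effective Cartier divisors
-/

set_option autoImplicit false
universe u v

open CategoryTheory AlgebraicGeometry TopologicalSpace Opposite
open Groth.Agent.Lib.Helper91.StalkIdeal Groth.Agent.Lib.Helper91.CodimOne

namespace Groth.Agent.Lib.Helper91.PrimeDecomp

variable {X : Scheme.{u}} {I : Type v} (𝓩 : X.IdealSheafData) (𝓓 : I → X.IdealSheafData)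
  [hDint : ∀ i, IsIntegral (𝓓 i).subscheme]

section

variable {𝓩 𝓓}

/-- no point of `Z` is a maximal point of `X` -/
theorem coheight_ne_zero_of_mem (hD : ∀ i, BlowUp.IsEffCartierIdeal (𝓓 i))
    (hcov : ∀ z ∈ 𝓩.support, 2 ≤ Order.coheight z ∨ ∃ i, z ∈ (𝓓 i).support)
    {z : X} (hz : z ∈ 𝓩.support) : Order.coheight z ≠ 0 := by
  intro h0
  rcases hcov z hz with h2 | ⟨i, hi⟩
  · rw [h0] at h2
    exact absurd h2 (by decide)
  · exact coheight_ne_zero_of_mem_support (hD i) hi h0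

theorem gp_eq_of_specializes [IsLocallyNoetherian X] (hD : ∀ i, BlowUp.IsEffCartierIdeal (𝓓 i))
    {i j : I} (h : gp (𝓓 i) ⤳ gp (𝓓 j)) : gp (𝓓 i) = gp (𝓓 j) := by
  by_contra hne
  have h1 := coheight_add_one_le_of_specializes_ne h hne
  rw [coheight_gp (hD i), coheight_gp (hD j)] at h1
  exact absurd h1 (by decide)

/-- the codimension-one points of `Z` are generic points of the given divisors -/
theorem exists_gp_eq_of_coheight_eq_one [IsLocallyNoetherian X]
    (hD : ∀ i, BlowUp.IsEffCartierIdeal (𝓓 i))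
    (hcov : ∀ z ∈ 𝓩.support, 2 ≤ Order.coheight z ∨ ∃ i, z ∈ (𝓓 i).support)
    {z : X} (hz : z ∈ 𝓩.support) (h1 : Order.coheight z = 1) : ∃ i, gp (𝓓 i) = z := by
  rcases hcov z hz with h2 | ⟨i, hi⟩
  · rw [h1] at h2
    exact absurd h2 (by decide)
  · refine ⟨i, ?_⟩
    by_contra hne
    have h3 := coheight_add_one_le_of_specializes_ne (gp_specializes (𝓓 i) hi) hne
    rw [coheight_gp (hD i), h1] at h3
    exact absurd h3 (by decide)

theorem stalkIdeal_gp_ne_bot [IsLocallyNoetherian X] (hD : ∀ i, BlowUp.IsEffCartierIdeal (𝓓 i))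
    (hcov : ∀ z ∈ 𝓩.support, 2 ≤ Order.coheight z ∨ ∃ i, z ∈ (𝓓 i).support) (i : I) :
    stalkIdeal 𝓩 (gp (𝓓 i)) ≠ ⊥ := by
  intro hbot
  have hnotmax : ¬ IsMax (gp (𝓓 i)) := by
    rw [← Order.coheight_eq_zero, coheight_gp (hD i)]
    exact one_ne_zero
  obtain ⟨η, hη⟩ := not_isMax_iff.mp hnotmax
  have hsp : η ⤳ gp (𝓓 i) := hη.le
  have hne : η ≠ gp (𝓓 i) := hη.ne'
  have h1 := coheight_add_one_le_of_specializes_ne hsp hne
  rw [coheight_gp (hD i)] at h1
  have h0 : Order.coheight η = 0 := by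
    have h2 : Order.coheight η + 1 ≤ 0 + 1 := by simpa using h1
    have h3 := (ENat.add_le_add_iff_right ENat.one_ne_top).mp h2
    exact le_antisymm h3 zero_le
  have hmap := map_stalkSpecializes 𝓩 hsp
  rw [hbot, Ideal.map_bot] at hmap
  have hηs : η ∈ 𝓩.support := by
    by_contra hcon
    have := (stalkIdeal_eq_top_iff 𝓩 η).mpr hcon
    rw [← hmap] at this
    exact bot_ne_top this
  exact coheight_ne_zero_of_mem hD hcov hηs h0

theorem exists_exponent [IsLocallyNoetherian X] (hD : ∀ i, BlowUp.IsEffCartierIdeal (𝓓 i))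
    (hcov : ∀ z ∈ 𝓩.support, 2 ≤ Order.coheight z ∨ ∃ i, z ∈ (𝓓 i).support) (i : I) :
    ∃ n : ℕ, stalkIdeal 𝓩 (gp (𝓓 i)) = stalkIdeal (𝓓 i) (gp (𝓓 i)) ^ n := by
  obtain ⟨π, hπ, hgen⟩ := exists_generator (hD i) (gp (𝓓 i))
  have hm : IsLocalRing.maximalIdeal (X.presheaf.stalk (gp (𝓓 i))) = Ideal.span {π} := by
    rw [← stalkIdeal_gp, hgen]
  rw [stalkIdeal_gp]
  exact Groth.Agent.Lib.Helper91.PrimePow.exists_eq_pow_of_principal_maximalIdeal hm _
    (stalkIdeal_gp_ne_bot hD hcov i)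

/-- only finitely many points of `Z` are generic points of the given divisors -/
theorem finite_gp [IsNoetherian X] (hD : ∀ i, BlowUp.IsEffCartierIdeal (𝓓 i))
    (hcov : ∀ z ∈ 𝓩.support, 2 ≤ Order.coheight z ∨ ∃ i, z ∈ (𝓓 i).support) :
    {t : X | t ∈ 𝓩.support ∧ ∃ i, gp (𝓓 i) = t}.Finite := by
  obtain ⟨T, hTf, hTc, hTi, hTe⟩ :=
    NoetherianSpace.exists_finite_set_isClosed_irreducible 𝓩.support.isClosed
  have hG : (⋃ C ∈ T, {g : X | IsGenericPoint g C}).Finite := by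
    apply Set.Finite.biUnion hTf
    intro C _
    apply Set.Subsingleton.finite
    intro g hg g' hg'
    exact hg.eq hg'
  apply hG.subset
  rintro t ⟨hts, i, rfl⟩
  have ht' : gp (𝓓 i) ∈ ⋃₀ T := by rw [← hTe]; exact hts
  obtain ⟨C, hCT, htC⟩ := ht'
  obtain ⟨g, hg⟩ := QuasiSober.sober (hTi C hCT) (hTc C hCT)
  have hgC : g ∈ C := hg.mem
  have hgs : g ∈ 𝓩.support := by
    have : g ∈ ⋃₀ T := ⟨C, hCT, hgC⟩
    rw [← hTe] at this
    exact this
  have hsp : g ⤳ gp (𝓓 i) := hg.specializes htC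
  have heq : g = gp (𝓓 i) := by
    by_contra hne
    have h1 := coheight_add_one_le_of_specializes_ne hsp hne
    rw [coheight_gp (hD i)] at h1
    have h0 : Order.coheight g = 0 := by
      have h2 : Order.coheight g + 1 ≤ 0 + 1 := by simpa using h1
      have h3 := (ENat.add_le_add_iff_right ENat.one_ne_top).mp h2
      exact le_antisymm h3 zero_le
    exact coheight_ne_zero_of_mem hD hcov hgs h0
  rw [Set.mem_iUnion₂]
  exact ⟨C, hCT, heq ▸ hg⟩

end

end Groth.Agent.Lib.Helper91.PrimeDecomp
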