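import Mathlib
import Groth.Prelude
import Groth.Agent.Lib.Helper91.PrimeDecomp

/-!
# Closed subschemes of codimension one and integral effective Cartier divisors, II
-/

set_option autoImplicit false
universe u v

open CategoryTheory AlgebraicGeometry TopologicalSpace Opposite
open Groth.Agent.Lib.Helper91.StalkIdeal Groth.Agent.Lib.Helper91.CodimOne

namespace Groth.Agent.Lib.Helper91.PrimeDecomp

variable {X : Scheme.{u}} {I : Type v} {𝓩 : X.IdealSheafData} {𝓓 : I → X.IdealSheafData}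
  [hDint : ∀ i, IsIntegral (𝓓 i).subscheme]

/-- the stalk of a product of powers of integral effective Cartier divisors contains the stalk
of `𝓩` as soon as this holds at the generic points of the divisors -/
theorem stalkIdeal_le_prod [IsLocallyNoetherian X] (hD : ∀ i, BlowUp.IsEffCartierIdeal (𝓓 i))
    [DecidableEq I] (J : Finset I) (n : I → ℕ)
    (hinj : ∀ i ∈ J, ∀ j ∈ J, gp (𝓓 i) = gp (𝓓 j) → i = j)
    (hn : ∀ i ∈ J, stalkIdeal 𝓩 (gp (𝓓 i)) ≤ stalkIdeal (𝓓 i) (gp (𝓓 i)) ^ n i) (x : X) :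
    stalkIdeal 𝓩 x ≤ stalkIdeal (∏ i ∈ J, 𝓓 i ^ n i) x := by
  rw [stalkIdeal_prod]
  simp only [stalkIdeal_pow]
  choose π hπ hgen using fun i => exists_generator (hD i) x
  have hprod : ∏ i ∈ J, stalkIdeal (𝓓 i) x ^ n i = Ideal.span {∏ i ∈ J, π i ^ n i} := by
    rw [← Ideal.prod_span_singleton]
    apply Finset.prod_congr rfl
    intro i _
    rw [hgen i, Ideal.span_singleton_pow]
  rw [hprod]
  intro f hf
  rw [Ideal.mem_span_singleton]
  have hunit : ∀ i, x ∉ (𝓓 i).support → IsUnit (π i) := by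
    intro i hx
    have := (stalkIdeal_eq_top_iff (𝓓 i) x).mpr hx
    rw [hgen i] at this
    exact Ideal.span_singleton_eq_top.mp this
  have hsupp : ∀ i, ¬ IsUnit (π i) → x ∈ (𝓓 i).support := by
    intro i hu
    by_contra hx
    exact hu (hunit i hx)
  apply Groth.Agent.Lib.Helper91.PrimePow.prod_pow_dvd J π n (fun i _ => hπ i)
  · intro i _
    by_cases hx : x ∈ (𝓓 i).support
    · right
      rw [← hgen i]
      exact isPrime_stalkIdeal (𝓓 i) hx
    · left
      exact hunit i hx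
  · intro i hi j hj hij hju hmem
    have hxj := hsupp j hju
    have hsp := gp_specializes (𝓓 j) hxj
    have hle : stalkIdeal (𝓓 i) x ≤ stalkIdeal (𝓓 j) x := by
      rw [hgen i, hgen j, Ideal.span_singleton_le_iff_mem]
      exact hmem
    have hle2 : stalkIdeal (𝓓 i) (gp (𝓓 j)) ≤ stalkIdeal (𝓓 j) (gp (𝓓 j)) := by
      rw [← map_stalkSpecializes (𝓓 i) hsp, ← map_stalkSpecializes (𝓓 j) hsp]
      exact Ideal.map_mono hle
    have hmem2 : gp (𝓓 j) ∈ (𝓓 i).support := by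
      by_contra hcon
      have h1 := (stalkIdeal_eq_top_iff (𝓓 i) (gp (𝓓 j))).mpr hcon
      rw [h1, stalkIdeal_gp, top_le_iff] at hle2
      exact (IsLocalRing.maximalIdeal.isMaximal _).ne_top hle2
    exact hij (hinj i hi j hj (gp_eq_of_specializes hD (gp_specializes (𝓓 i) hmem2)))
  · intro i hi
    by_cases hx : x ∈ (𝓓 i).support
    · have hsp := gp_specializes (𝓓 i) hx
      letI alg := (X.presheaf.stalkSpecializes hsp).hom.toAlgebra
      haveI hloc := Groth.Agent.Lib.Helper91.GenPrime.isLocalization_stalkSpecializes hsp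
      have hP : Groth.Agent.Lib.Helper91.GenPrime.primeOf hsp = Ideal.span {π i} := by
        rw [← hgen i]
        exact (stalkIdeal_eq_primeOf (𝓓 i) hx).symm
      apply Groth.Agent.Lib.Helper91.PrimePow.pow_dvd_of_mem_map' (hπ i) _ hP
        (X.presheaf.stalk (gp (𝓓 i))) (n i) f
      have h1 : algebraMap (X.presheaf.stalk x) (X.presheaf.stalk (gp (𝓓 i))) f ∈
          stalkIdeal 𝓩 (gp (𝓓 i)) := by
        rw [← map_stalkSpecializes 𝓩 hsp]
        exact Ideal.mem_map_of_mem _ hf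
      have h2 := hn i hi h1
      rw [← map_stalkSpecializes (𝓓 i) hsp, hgen i, Ideal.map_span, Set.image_singleton,
        Ideal.span_singleton_pow] at h2
      exact h2
    · exact ((hunit i hx).pow (n i)).dvd

/-- at a point where only one of the divisors passes the product is a power of that divisor -/
theorem stalkIdeal_prod_eq_of_forall_notMem [DecidableEq I] (J : Finset I) (n : I → ℕ) (z : X)
    (i₀ : I) (hi₀ : i₀ ∈ J) (hz : ∀ j ∈ J, j ≠ i₀ → z ∉ (𝓓 j).support) :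
    stalkIdeal (∏ i ∈ J, 𝓓 i ^ n i) z = stalkIdeal (𝓓 i₀) z ^ n i₀ := by
  rw [stalkIdeal_prod]
  simp only [stalkIdeal_pow]
  rw [Finset.prod_eq_single i₀]
  · intro j hj hne
    rw [(stalkIdeal_eq_top_iff (𝓓 j) z).mpr (hz j hj hne), ← Ideal.one_eq_top, one_pow]
  · intro h
    exact absurd hi₀ h

/-- **prime decomposition in codimension one** -/
theorem exists_exponents [IsNoetherian X] (hD : ∀ i, BlowUp.IsEffCartierIdeal (𝓓 i))
    (hcov : ∀ z ∈ 𝓩.support, 2 ≤ Order.coheight z ∨ ∃ i, z ∈ (𝓓 i).support) :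
    ∃ (J : Finset I) (n : I → ℕ), 𝓩 ≤ ∏ i ∈ J, 𝓓 i ^ n i ∧
      ∀ z : X, Order.coheight z ≤ 1 →
        stalkIdeal 𝓩 z = stalkIdeal (∏ i ∈ J, 𝓓 i ^ n i) z := by
  classical
  set s : Set I := {i | gp (𝓓 i) ∈ 𝓩.support} with hs
  have hfin : ((fun i => gp (𝓓 i)) '' s).Finite := by
    apply (finite_gp (𝓩 := 𝓩) hD hcov).subset
    rintro _ ⟨i, hi, rfl⟩
    exact ⟨hi, i, rfl⟩
  obtain ⟨s', hs's, hbij⟩ :=
    Set.SurjOn.exists_bijOn_subset (Set.surjOn_image (fun i => gp (𝓓 i)) s)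
  have hs'fin : s'.Finite := hbij.finite_iff_finite.mpr hfin
  choose n hn using exists_exponent (𝓩 := 𝓩) hD hcov
  set J := hs'fin.toFinset with hJ
  have hinj : ∀ i ∈ J, ∀ j ∈ J, gp (𝓓 i) = gp (𝓓 j) → i = j := by
    intro i hi j hj hij
    exact hbij.injOn (hs'fin.mem_toFinset.mp hi) (hs'fin.mem_toFinset.mp hj) hij
  have hle : ∀ x, stalkIdeal 𝓩 x ≤ stalkIdeal (∏ i ∈ J, 𝓓 i ^ n i) x :=
    stalkIdeal_le_prod hD J n hinj (fun i _ => (hn i).le)
  refine ⟨J, n, le_of_forall_stalkIdeal_le hle, ?_⟩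
  intro z hz1
  by_cases hz : z ∈ 𝓩.support
  · have h0 := coheight_ne_zero_of_mem hD hcov hz
    have h1 : Order.coheight z = 1 := by
      apply le_antisymm hz1
      rw [Order.one_le_iff_pos, pos_iff_ne_zero]
      exact h0
    obtain ⟨i, rfl⟩ := exists_gp_eq_of_coheight_eq_one hD hcov hz h1
    have his : i ∈ s := hz
    obtain ⟨i₀, hi₀s', hi₀⟩ := hbij.surjOn ⟨i, his, rfl⟩
    have hi₀' : gp (𝓓 i₀) = gp (𝓓 i) := hi₀
    have hi₀J : i₀ ∈ J := hs'fin.mem_toFinset.mpr hi₀s'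
    rw [← hi₀']
    rw [stalkIdeal_prod_eq_of_forall_notMem J n (gp (𝓓 i₀)) i₀ hi₀J]
    · exact hn i₀
    · intro j hj hne hmem
      apply hne
      exact hinj j hj i₀ hi₀J (gp_eq_of_specializes hD (gp_specializes (𝓓 j) hmem))
  · have h1 := (stalkIdeal_eq_top_iff 𝓩 z).mpr hz
    have h2 := hle z
    rw [h1, top_le_iff] at h2
    rw [h1, h2]

end Groth.Agent.Lib.Helper91.PrimeDecomp
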