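import Mathlib
import Groth.Prelude
import Groth.Agent.Lib.Helper91.PrimeDecomp2
import Groth.Agent.Lib.Helper91.GenPrime2

/-!
# Effective Cartier divisors agreeing in codimension one agree
-/

set_option autoImplicit false
universe u

open CategoryTheory AlgebraicGeometry TopologicalSpace Opposite
open Groth.Agent.Lib.Helper91.StalkIdeal

namespace Groth.Agent.Lib.Helper91.KrullEq

/-- two principal ideals `(d) ≤ (e)` generated by nonzerodivisors which agree at all primes of
height at most one are equal -/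
theorem span_eq_of_forall_height_le_one {R : Type*} [CommRing R] [IsNoetherianRing R] {d e : R}
    (he : e ∈ nonZeroDivisors R) (hde : e ∣ d)
    (h : ∀ (p : Ideal R) [p.IsPrime], p.height ≤ 1 → ∃ s, s ∉ p ∧ s * e ∈ Ideal.span {d}) :
    Ideal.span {d} = Ideal.span {e} := by
  obtain ⟨c, rfl⟩ := hde
  have hc : IsUnit c := by
    by_contra hcu
    have hne : Ideal.span {c} ≠ ⊤ := fun htop => hcu (Ideal.span_singleton_eq_top.mp htop)
    obtain ⟨p, hp⟩ := Ideal.nonempty_minimalPrimes hne
    haveI hpp : p.IsPrime := hp.1.1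
    have hcp : c ∈ p := hp.1.2 (Ideal.mem_span_singleton_self c)
    have hht : p.height ≤ 1 :=
      Ideal.height_le_one_of_isPrincipal_of_mem_minimalPrimes (Ideal.span {c}) p hp
    obtain ⟨s, hs, hse⟩ := h p hht
    obtain ⟨y, hy⟩ := Ideal.mem_span_singleton.mp hse
    have h1 : e * (s - c * y) = 0 := by
      have : e * (s - c * y) = s * e - e * c * y := by ring
      rw [this, hy, sub_self]
    have h2 := (mem_nonZeroDivisors_iff.mp he).1 _ h1
    have h3 : s = c * y := sub_eq_zero.mp h2
    apply hs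
    rw [h3]
    exact Ideal.mul_mem_right _ _ hcp
  apply le_antisymm
  · rw [Ideal.span_singleton_le_iff_mem, Ideal.mem_span_singleton]
    exact ⟨c, rfl⟩
  · rw [Ideal.span_singleton_le_iff_mem, Ideal.mem_span_singleton]
    refine ⟨↑hc.unit⁻¹, ?_⟩
    rw [mul_assoc, IsUnit.mul_val_inv, mul_one]

variable {X : Scheme.{u}}

/-- ideal sheaves `𝓩 ≤ 𝓟` which are locally generated by nonzerodivisors and agree at all points
of codimension at most one are equal -/
theorem eq_of_forall_coheight_le_one [IsLocallyNoetherian X] {𝓩 𝓟 : X.IdealSheafData}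
    (hle : 𝓩 ≤ 𝓟)
    (hZ : ∀ x : X, ∃ d : X.presheaf.stalk x, stalkIdeal 𝓩 x = Ideal.span {d})
    (hP : ∀ x : X, ∃ e : X.presheaf.stalk x, e ∈ nonZeroDivisors (X.presheaf.stalk x) ∧
      stalkIdeal 𝓟 x = Ideal.span {e})
    (heq : ∀ z : X, Order.coheight z ≤ 1 → stalkIdeal 𝓩 z = stalkIdeal 𝓟 z) : 𝓩 = 𝓟 := by
  apply eq_of_forall_stalkIdeal_eq
  intro x
  obtain ⟨d, hd⟩ := hZ x
  obtain ⟨e, he, hPe⟩ := hP x
  rw [hd, hPe]
  have hde : e ∣ d := by
    have h1 := stalkIdeal_mono hle x
    rw [hd, hPe, Ideal.span_singleton_le_iff_mem, Ideal.mem_span_singleton] at h1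
    exact h1
  apply span_eq_of_forall_height_le_one he hde
  intro p hp hht
  obtain ⟨z, h, rfl⟩ := Groth.Agent.Lib.Helper91.GenPrime.exists_specializes_primeOf_eq x p
  have hz1 : Order.coheight z ≤ 1 := by
    have h1 := Groth.Agent.Lib.Helper91.GenPrime.ringKrullDim_stalk_eq_height h
    rw [ringKrullDim_stalk_eq_coheight z] at h1
    have h2 : Order.coheight z = (Groth.Agent.Lib.Helper91.GenPrime.primeOf h).height := by
      exact_mod_cast h1
    rw [h2]
    exact hht
  have hzeq := heq z hz1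
  rw [← map_stalkSpecializes 𝓩 h, ← map_stalkSpecializes 𝓟 h, hd, hPe] at hzeq
  letI alg := (X.presheaf.stalkSpecializes h).hom.toAlgebra
  haveI hloc := Groth.Agent.Lib.Helper91.GenPrime.isLocalization_stalkSpecializes h
  have h1 : algebraMap (X.presheaf.stalk x) (X.presheaf.stalk z) e ∈
      (Ideal.span {d}).map (algebraMap (X.presheaf.stalk x) (X.presheaf.stalk z)) := by
    have h2 : algebraMap (X.presheaf.stalk x) (X.presheaf.stalk z) e ∈
        (Ideal.span {e}).map (algebraMap (X.presheaf.stalk x) (X.presheaf.stalk z)) :=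
      Ideal.mem_map_of_mem _ (Ideal.mem_span_singleton_self e)
    have hzeq' : (Ideal.span {d}).map (algebraMap (X.presheaf.stalk x) (X.presheaf.stalk z)) =
        (Ideal.span {e}).map (algebraMap (X.presheaf.stalk x) (X.presheaf.stalk z)) := hzeq
    rw [← hzeq'] at h2
    exact h2
  rw [IsLocalization.mem_map_algebraMap_iff
    (Groth.Agent.Lib.Helper91.GenPrime.primeOf h).primeCompl] at h1
  obtain ⟨⟨a, m⟩, ham⟩ := h1
  rw [← map_mul] at ham
  obtain ⟨c, hc⟩ := (IsLocalization.eq_iff_exists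
    (Groth.Agent.Lib.Helper91.GenPrime.primeOf h).primeCompl (X.presheaf.stalk z)).mp ham
  have hc' : (c : X.presheaf.stalk x) * (e * (m : X.presheaf.stalk x)) =
      c * (a : X.presheaf.stalk x) := hc
  refine ⟨c * m, (c * m).2, ?_⟩
  have h3 : (c : X.presheaf.stalk x) * (m : X.presheaf.stalk x) * e =
      c * (a : X.presheaf.stalk x) := by
    rw [← hc']
    ring
  rw [h3]
  exact Ideal.mul_mem_left _ _ a.2

/-- the stalk of a product of powers of effective Cartier divisors is generated by a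
nonzerodivisor -/
theorem exists_generator_prod {I : Type*} {𝓓 : I → X.IdealSheafData}
    (hD : ∀ i, BlowUp.IsEffCartierIdeal (𝓓 i)) (J : Finset I) (n : I → ℕ) (x : X) :
    ∃ e : X.presheaf.stalk x, e ∈ nonZeroDivisors (X.presheaf.stalk x) ∧
      stalkIdeal (∏ i ∈ J, 𝓓 i ^ n i) x = Ideal.span {e} := by
  choose π hπ hgen using fun i => exists_generator (hD i) x
  refine ⟨∏ i ∈ J, π i ^ n i, Submonoid.prod_mem _ (fun i _ => pow_mem (hπ i) _), ?_⟩
  rw [stalkIdeal_prod]
  simp only [stalkIdeal_pow]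
  rw [← Ideal.prod_span_singleton]
  apply Finset.prod_congr rfl
  intro i _
  rw [hgen i, Ideal.span_singleton_pow]

end Groth.Agent.Lib.Helper91.KrullEq
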