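import Groth.Prelude.Def_W4c5cptfessfintypeLocImm
import Mathlib.RingTheory.RingHom.Locally
import Mathlib.RingTheory.Localization.LocalizationLocalization
import Mathlib.RingTheory.Localization.BaseChange
import Mathlib.RingTheory.Localization.Away.Basic
import Mathlib.AlgebraicGeometry.Morphisms.RingHomProperties

/-! Ring-level stability properties of localizing ring maps (`LocImm.IsLocHom`), and
the resulting description of `LocImm.IsLocalizing` as `affineLocally (Locally IsLocHom)`. -/

universe u

namespace Groth.Agent.Lib.Helper91.LocHom

open RingHom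

variable {R S T : Type*} [CommRing R] [CommRing S] [CommRing T]

theorem isLocHom_algebraMap [Algebra R S] (M : Submonoid R) [IsLocalization M S] :
    LocImm.IsLocHom (algebraMap R S) := by
  unfold LocImm.IsLocHom
  rw [toAlgebra_algebraMap]
  exact ⟨M, inferInstance⟩

theorem isLocHom_iff_algebraMap [Algebra R S] :
    LocImm.IsLocHom (algebraMap R S) ↔ ∃ M : Submonoid R, IsLocalization M S := by
  unfold LocImm.IsLocHom
  rw [toAlgebra_algebraMap]

theorem of_bijective {f : R →+* S} (hf : Function.Bijective f) : LocImm.IsLocHom f := by
  let _ := f.toAlgebra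
  exact ⟨Submonoid.powers 1, IsLocalization.away_of_isUnit_of_bijective _ isUnit_one hf⟩

theorem comp {f : R →+* S} {g : S →+* T} (hf : LocImm.IsLocHom f) (hg : LocImm.IsLocHom g) :
    LocImm.IsLocHom (g.comp f) := by
  algebraize [f, g, g.comp f]
  obtain ⟨M, hM⟩ := hf
  obtain ⟨N, hN⟩ := hg
  exact ⟨_, IsLocalization.localization_localization_isLocalization M N T⟩

/-- universe-monomorphic version of `LocImm.IsLocHom`, as a property of ring homs -/
abbrev Q {R S : Type u} [CommRing R] [CommRing S] (f : R →+* S) : Prop := LocImm.IsLocHom f

theorem stableUnderComposition : StableUnderComposition.{u} @Q :=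
  fun _ _ _ _ _ _ _ _ hf hg => comp hf hg

theorem respectsIso : RespectsIso.{u} @Q :=
  stableUnderComposition.respectsIso fun e ↦ of_bijective e.bijective

theorem holdsForLocalizationAway : HoldsForLocalizationAway.{u} @Q := by
  introv R h
  exact isLocHom_algebraMap (Submonoid.powers r)

theorem stableUnderCompositionWithLocalizationAway :
    StableUnderCompositionWithLocalizationAway.{u} @Q :=
  ⟨fun _ _ _ _ _ _ _ r _ _ hf => comp (isLocHom_algebraMap (Submonoid.powers r)) hf,
   fun _ _ _ _ _ _ _ s _ _ hf => comp hf (isLocHom_algebraMap (Submonoid.powers s))⟩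

theorem isStableUnderBaseChange : IsStableUnderBaseChange.{u} @Q := by
  refine .mk respectsIso ?_
  introv h
  rw [Q, isLocHom_iff_algebraMap] at h ⊢
  obtain ⟨M, hM⟩ := h
  exact ⟨_, IsLocalization.tensor T M⟩

theorem localizationAwayPreserves : LocalizationAwayPreserves.{u} @Q := by
  intro R S _ _ f r R' S' _ _ _ _ _ _ hf
  algebraize [f, (algebraMap S S').comp f, IsLocalization.Away.map R' S' f r]
  obtain ⟨M, hM⟩ := hf
  have hL₀ : IsLocalization
      (IsLocalization.localizationLocalizationSubmodule M (Submonoid.powers (f r))) S' :=
    IsLocalization.localization_localization_isLocalization M (Submonoid.powers (f r)) S'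
  set L : Submonoid R := (IsUnit.submonoid S').comap (algebraMap R S') with hLdef
  have hL : IsLocalization L S' :=
    IsLocalization.of_le
      (IsLocalization.localizationLocalizationSubmodule M (Submonoid.powers (f r))) L
      (fun x hx => IsLocalization.map_units (M :=
        IsLocalization.localizationLocalizationSubmodule M (Submonoid.powers (f r))) S' ⟨x, hx⟩)
      (fun x hx => hx)
  have hrL : Submonoid.powers r ≤ L := by
    rw [Submonoid.powers_le]
    show IsUnit (algebraMap R S' r)
    rw [RingHom.algebraMap_toAlgebra, RingHom.comp_apply]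
    exact IsLocalization.Away.algebraMap_isUnit (f r)
  have : IsScalarTower R R' S' := by
    refine IsScalarTower.of_algebraMap_eq fun x => ?_
    rw [RingHom.algebraMap_toAlgebra, RingHom.algebraMap_toAlgebra, RingHom.comp_apply,
      IsLocalization.Away.map, IsLocalization.map_eq]
  exact ⟨_, IsLocalization.isLocalization_of_submonoid_le R' S' (Submonoid.powers r) L hrL⟩

end Groth.Agent.Lib.Helper91.LocHom
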