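import Groth.Agent.S18196
import Mathlib.AlgebraicGeometry.Morphisms.Flat
import Mathlib.AlgebraicGeometry.Morphisms.UniversallyOpen
import Mathlib.AlgebraicGeometry.Morphisms.UniversallyInjective
import Mathlib.AlgebraicGeometry.Noetherian
import Mathlib.Topology.NoetherianSpace
import Mathlib.Topology.Sober

/-! Basic properties of localizing morphisms / localizing immersions. -/

universe u

namespace Groth.Agent.Lib.Helper91.LocImmLib

open CategoryTheory AlgebraicGeometry

/-- a localizing morphism is flat -/
theorem flat_of_isLocalizing {X Y : Scheme.{u}} (f : X ⟶ Y) (h : LocImm.IsLocalizing f) :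
    Flat f := by
  have hQ : RingHom.StableUnderCompositionWithLocalizationAwaySource RingHom.Flat := by
    intro R S T _ _ _ _ r _ f hf
    refine RingHom.Flat.comp ?_ hf
    rw [RingHom.flat_algebraMap_iff]
    exact IsLocalization.flat S (Submonoid.powers r)
  rw [HasRingHomProperty.iff_exists_appLE (P := @Flat) hQ]
  intro x
  obtain ⟨U, V, hxV, e, hLoc⟩ := h x
  refine ⟨U, V, hxV, e, ?_⟩
  let _ := (f.appLE U V e).hom.toAlgebra
  obtain ⟨S, hS⟩ := hLoc
  exact IsLocalization.flat _ S

/-- stalk maps of a flat morphism are injective -/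
theorem stalkMap_injective_of_flat {X Y : Scheme.{u}} (f : X ⟶ Y) [Flat f] (x : X) :
    Function.Injective (f.stalkMap x) := by
  algebraize [(f.stalkMap x).hom]
  have : Module.FaithfullyFlat (Y.presheaf.stalk (f x)) (X.presheaf.stalk x) :=
    @Module.FaithfullyFlat.of_flat_of_isLocalHom _ _ _ _ _ _ _
      (Flat.stalkMap f x) (f.toLRSHom.prop x)
  exact ‹RingHom.FaithfullyFlat _›.injective

/-- stalk maps of a localizing morphism are isomorphisms -/
theorem isIso_stalkMap_of_isLocalizing {X Y : Scheme.{u}} (f : X ⟶ Y) (h : LocImm.IsLocalizing f)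
    (x : X) : IsIso (f.stalkMap x) := by
  have := flat_of_isLocalizing f h
  have hS : SurjectiveOnStalks f := Groth.Agent.S18196.surjectiveOnStalks_of_isLocalizing f h
  rw [ConcreteCategory.isIso_iff_bijective]
  exact ⟨stalkMap_injective_of_flat f x, f.stalkMap_surjective x⟩

/-- A continuous injective generalizing map out of a Noetherian quasi-sober space is an embedding. -/
theorem isEmbedding_of_generalizing {X Y : Type*} [TopologicalSpace X] [TopologicalSpace Y]
    [TopologicalSpace.NoetherianSpace X] [QuasiSober X] (f : X → Y) (hc : Continuous f)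
    (hinj : Function.Injective f) (hg : GeneralizingMap f) : Topology.IsEmbedding f := by
  refine ⟨⟨?_⟩, hinj⟩
  rw [TopologicalSpace.ext_iff_isClosed]
  intro Z
  rw [isClosed_induced_iff]
  constructor
  · intro hZ
    refine ⟨closure (f '' Z), isClosed_closure, ?_⟩
    apply Set.Subset.antisymm
    · intro x hx
      -- decompose Z into irreducible closed pieces
      obtain ⟨S, hSfin, hScl, hSirr, hSeq⟩ :=
        TopologicalSpace.NoetherianSpace.exists_finite_set_isClosed_irreducible hZ
      have hx' : f x ∈ closure (f '' Z) := hx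
      rw [hSeq, Set.sUnion_eq_biUnion, Set.image_iUnion₂, hSfin.closure_biUnion] at hx'
      obtain ⟨t, htS, hxt⟩ := Set.mem_iUnion₂.mp hx'
      obtain ⟨z, hz⟩ := QuasiSober.sober (hSirr t htS) (hScl t htS)
      -- f '' t ⊆ closure {f z}
      have h1 : f '' t ⊆ closure {f z} := by
        rw [← hz.def]
        refine (image_closure_subset_closure_image hc).trans ?_
        rw [Set.image_singleton]
      have h2 : f x ∈ closure {f z} := closure_minimal h1 isClosed_closure hxt
      have h3 : f z ⤳ f x := specializes_iff_mem_closure.mpr h2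
      obtain ⟨x', hx'x, hfx'⟩ := hg h3
      have : x' = z := hinj hfx'
      subst this
      have hxt' : x ∈ t := by
        rw [← hz.def]; exact specializes_iff_mem_closure.mp hx'x
      rw [hSeq]
      exact Set.mem_sUnion.mpr ⟨t, htS, hxt'⟩
    · intro x hx
      exact subset_closure ⟨x, hx, rfl⟩
  · rintro ⟨t, ht, rfl⟩
    exact ht.preimage hc

/-- in a Noetherian quasi-sober space a closed set stable under generization is open -/
theorem isOpen_of_isClosed_of_stableUnderGeneralization {Y : Type*} [TopologicalSpace Y]
    [TopologicalSpace.NoetherianSpace Y] [QuasiSober Y] {T : Set Y} (hc : IsClosed T)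
    (hg : StableUnderGeneralization T) : IsOpen T := by
  rw [← isClosed_compl_iff]
  have hfin := TopologicalSpace.NoetherianSpace.finite_irreducibleComponents (α := Y)
  have key : Tᶜ = ⋃₀ {Z ∈ irreducibleComponents Y | Disjoint Z T} := by
    ext y; constructor
    · intro hy
      refine ⟨irreducibleComponent y,
        ⟨irreducibleComponent_mem_irreducibleComponents y, ?_⟩, mem_irreducibleComponent⟩
      rw [Set.disjoint_left]
      intro z hz hzT
      obtain ⟨η, hη⟩ := QuasiSober.sober (isIrreducible_irreducibleComponent (x := y))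
        isClosed_irreducibleComponent
      have h1 : η ⤳ z := by rw [specializes_iff_mem_closure, hη.def]; exact hz
      have h2 : η ∈ T := hg h1 hzT
      have h3 : irreducibleComponent y ⊆ T := by
        rw [← hη.def]; exact closure_minimal (Set.singleton_subset_iff.mpr h2) hc
      exact hy (h3 mem_irreducibleComponent)
    · rintro ⟨Z, ⟨hZ, hdisj⟩, hyZ⟩ hyT
      exact Set.disjoint_left.mp hdisj hyZ hyT
  rw [key, Set.sUnion_eq_biUnion]
  have hfin' : {Z ∈ irreducibleComponents Y | Disjoint Z T}.Finite :=
    hfin.subset (fun Z hZ => hZ.1)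
  exact hfin'.isClosed_biUnion
    (fun Z hZ => isClosed_of_mem_irreducibleComponents Z hZ.1)

/-- every point of a quasi-sober space has a maximal generization -/
theorem exists_maximal_generization {T : Type*} [TopologicalSpace T] [QuasiSober T] [T0Space T]
    (z : T) : ∃ ζ : T, ζ ⤳ z ∧ ∀ ζ' : T, ζ' ⤳ ζ → ζ' = ζ := by
  obtain ⟨ζ, hζ⟩ := QuasiSober.sober (isIrreducible_irreducibleComponent (x := z))
    isClosed_irreducibleComponent
  refine ⟨ζ, ?_, ?_⟩
  · rw [specializes_iff_mem_closure, hζ.def]; exact mem_irreducibleComponent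
  · intro ζ' h
    have h1 : irreducibleComponent z ⊆ closure {ζ'} := by
      rw [← hζ.def]
      exact closure_minimal (Set.singleton_subset_iff.mpr (specializes_iff_mem_closure.mp h))
        isClosed_closure
    have h2 : IsIrreducible (closure ({ζ'} : Set T)) := isIrreducible_singleton.closure
    have h3 : closure {ζ'} = irreducibleComponent z :=
      ((irreducibleComponent_mem_irreducibleComponents z).2 h2 h1).antisymm h1
    have h4 : IsGenericPoint ζ' (irreducibleComponent z) := h3
    exact h4.eq hζ

/-- a generalizing map sends maximal points to maximal points -/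
theorem maximal_map_of_generalizing {X Y : Type*} [TopologicalSpace X] [TopologicalSpace Y]
    {f : X → Y} (hg : GeneralizingMap f) {ζ : X} (hζ : ∀ ζ' : X, ζ' ⤳ ζ → ζ' = ζ)
    (η : Y) (h : η ⤳ f ζ) : η = f ζ := by
  obtain ⟨ζ', h1, h2⟩ := hg h
  rw [← h2, hζ ζ' h1]

end Groth.Agent.Lib.Helper91.LocImmLib
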