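import Groth.Agent.Lib.Helper91.LocalizingProp
import Groth.Agent.Lib.Helper91.LocImm

/-! Small affine neighbourhoods adapted to a localizing immersion. -/

universe u

namespace Groth.Agent.Lib.Helper91.LocImmLib

open CategoryTheory AlgebraicGeometry

/-- For a localizing immersion `f` of Noetherian schemes, a point `x` and an open neighbourhood `N`
of `x`, there is an affine open `V ∋ f x` with `f⁻¹V` affine, contained in `N`, and
`Γ(Y, V) → Γ(X, f⁻¹V)` localizing. -/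
theorem exists_affine_nhd {X Y : Scheme.{u}} [IsNoetherian X] [IsNoetherian Y] (f : X ⟶ Y)
    (hf : LocImm.IsLocImmersion f) (x : X) (N : X.Opens) (hxN : x ∈ N) :
    ∃ V : Y.Opens, f x ∈ V ∧ IsAffineOpen V ∧ IsAffineOpen (f ⁻¹ᵁ V) ∧ f ⁻¹ᵁ V ≤ N ∧
      LocImm.IsLocHom (f.app V).hom := by
  obtain ⟨hloc, hinj⟩ := hf
  have hflat := flat_of_isLocalizing f hloc
  have hgen : GeneralizingMap f := Flat.generalizingMap f
  have hemb := isEmbedding_of_generalizing (fun x => f x) f.continuous hinj hgen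
  obtain ⟨U, V', hxV', e, hφ⟩ := hloc x
  obtain ⟨O, hO, hOeq⟩ := hemb.isInducing.isOpen_iff.mp (V'.1 ⊓ N).isOpen
  have hfxO : f x ∈ O := by
    have : x ∈ (fun x => f x) ⁻¹' O := by rw [hOeq]; exact ⟨hxV', hxN⟩
    exact this
  have hfxU : f x ∈ U.1 := e hxV'
  obtain ⟨a, ha1, ha2⟩ := U.2.exists_basicOpen_le
    (V := (⟨O, hO⟩ : Y.Opens) ⊓ U.1) ⟨f x, ⟨hfxO, hfxU⟩⟩ hfxU
  have hsub : f ⁻¹ᵁ Y.basicOpen a ≤ V'.1 ⊓ N := by
    intro z hz
    have hz' : f z ∈ Y.basicOpen a := hz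
    have hzO : f z ∈ O := (ha1 hz').1
    have : z ∈ (fun x => f x) ⁻¹' O := hzO
    rw [hOeq] at this
    exact this
  have hpre : f ⁻¹ᵁ Y.basicOpen a = X.basicOpen (f.appLE U.1 V'.1 e a) := by
    have h1 : f.appLE U.1 V'.1 e a = X.presheaf.map (homOfLE e).op (f.app U.1 a) := by
      simp [Scheme.Hom.appLE]
    rw [h1, Scheme.basicOpen_res, ← Scheme.preimage_basicOpen]
    apply le_antisymm
    · exact le_inf (hsub.trans inf_le_left) le_rfl
    · exact inf_le_right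
  refine ⟨Y.basicOpen a, ha2, U.2.basicOpen a, ?_, hsub.trans inf_le_right, ?_⟩
  · rw [hpre]
    exact V'.2.basicOpen _
  · have key := IsAffineOpen.appLE_eq_away_map f U.2 V'.2 e a
    have hQ : LocImm.IsLocHom (f.appLE (Y.basicOpen a) (X.basicOpen (f.appLE U.1 V'.1 e a))
        (by simp [Scheme.Hom.appLE])).hom := by
      rw [key]
      exact @Groth.Agent.Lib.Helper91.LocHom.localizationAwayPreserves _ _ _ _
        (f.appLE U.1 V'.1 e).hom a _ _ _ _ _ _ (U.2.isLocalization_basicOpen a)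
        (V'.2.isLocalization_basicOpen (f.appLE U.1 V'.1 e a)) hφ
    rw [Scheme.Hom.app_eq_appLE]
    exact (Scheme.Hom.appLE_congr f le_rfl rfl hpre
      (fun g => LocImm.IsLocHom g.hom)).mpr hQ

/-- If `θ ∘ ψ` is localizing and `θ` is injective then `θ` is localizing. -/
theorem isLocHom_of_comp_of_injective {C A B : Type*} [CommRing C] [CommRing A] [CommRing B]
    (ψ : C →+* A) (θ : A →+* B) (h : LocImm.IsLocHom (θ.comp ψ)) (hθ : Function.Injective θ) :
    LocImm.IsLocHom θ := by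
  algebraize [θ, θ.comp ψ]
  obtain ⟨T, hT⟩ := h
  refine ⟨T.map ψ, ?_⟩
  refine ⟨?_, ?_, ?_⟩
  · rintro ⟨_, t, ht, rfl⟩
    exact IsLocalization.map_units B (⟨t, ht⟩ : T)
  · intro b
    obtain ⟨⟨c, t⟩, hct⟩ := IsLocalization.surj T b
    exact ⟨⟨ψ c, ⟨ψ t, t, t.2, rfl⟩⟩, hct⟩
  · intro a a' haa'
    exact ⟨1, by rw [hθ haa']⟩

end Groth.Agent.Lib.Helper91.LocImmLib
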