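import Groth.Agent.Lib.Helper91.LocHom
import Mathlib.AlgebraicGeometry.Morphisms.RingHomProperties

/-! `LocImm.IsLocalizing` as the affine-local morphism property attached to
`RingHom.Locally IsLocHom`; stability under base change and composition. -/

universe u

namespace Groth.Agent.Lib.Helper91.LocHom

open AlgebraicGeometry CategoryTheory RingHom

/-- the morphism property "localizing" as an affine-local property -/
def P : MorphismProperty Scheme.{u} := affineLocally (RingHom.Locally @Q)

instance : HasRingHomProperty P (RingHom.Locally @Q) :=
  ⟨RingHom.locally_propertyIsLocal localizationAwayPreserves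
    stableUnderCompositionWithLocalizationAway, rfl⟩

theorem isLocalizing_iff {X Y : Scheme.{u}} (f : X ⟶ Y) : LocImm.IsLocalizing f ↔ P f :=
  (HasRingHomProperty.iff_exists_appLE_locally (P := P)
    stableUnderCompositionWithLocalizationAway.left respectsIso).symm

instance : P.IsStableUnderBaseChange :=
  HasRingHomProperty.isStableUnderBaseChange
    (RingHom.locally_isStableUnderBaseChange respectsIso isStableUnderBaseChange)

theorem isLocalizing_pullback_snd {X Y Y' : Scheme.{u}} (f : X ⟶ Y) (g : Y' ⟶ Y)
    (hf : LocImm.IsLocalizing f) : LocImm.IsLocalizing (Limits.pullback.snd f g) := by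
  rw [isLocalizing_iff] at hf ⊢
  exact MorphismProperty.pullback_snd _ _ hf

theorem isLocalizing_pullback_fst {X Y Y' : Scheme.{u}} (f : Y' ⟶ Y) (g : X ⟶ Y)
    (hg : LocImm.IsLocalizing g) : LocImm.IsLocalizing (Limits.pullback.fst f g) := by
  rw [isLocalizing_iff] at hg ⊢
  exact MorphismProperty.pullback_fst _ _ hg

end Groth.Agent.Lib.Helper91.LocHom
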