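import Mathlib
import Groth.Agent.Lib.Helper21.FieldDim
import Groth.Agent.Lib.Helper21.FieldDimBC
import Groth.Agent.Lib.Helper21.EtaleTrdeg
import Groth.Agent.Lib.Helper21.MaximalPoints
import Groth.Agent.Lib.Helper91.ProperInt5
import Groth.Agent.Lib.Helper91.DiagReg3

/-!
# Dimension of a scheme of finite type over a field via maps to affine space (part 1)
-/

set_option autoImplicit false
set_option linter.style.haveILetI false
universe u

open CategoryTheory CategoryTheory.Limits AlgebraicGeometry TopologicalSpace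

namespace Groth.Agent.Lib.Helper91.NNDim

open Groth.Agent.Lib.Helper21.FieldDim Groth.Agent.Lib.Helper91.ProperInt
  Groth.Agent.Lib.Helper21 Groth.Agent.Lib.Helper91.DiagReg

variable {k : Type u} [Field k] {X : Scheme.{u}} (f : X ⟶ Spec (CommRingCat.of k))
  [LocallyOfFiniteType f]

theorem td_open (U : X.Opens) (u : U) : td (U.ι ≫ f) u = td f (U.ι u) := by
  rw [td_comp]
  have : tdR U.ι u = 0 := tdR_eq_of_trdegAt_eq _ (trdegAt_eq_zero_of_locallyQuasiFinite U.ι u)
  omega

theorem td_mono {x y : X} (h : x ⤳ y) : td f y ≤ td f x := by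
  have h1 := relHt_add_td f h
  have h2 : ((td f y : ℕ) : ℕ∞) ≤ td f x := by
    rw [← h1]; exact le_add_self
  exact_mod_cast h2

include f in
theorem dim_eq_of_dense (U : X.Opens) (hU : Dense (U : Set X)) :
    topologicalKrullDim ↥U = topologicalKrullDim X := by
  haveI : IsLocallyNoetherian X := LocallyOfFiniteType.isLocallyNoetherian f
  apply le_antisymm
  · exact topologicalKrullDim_subspace_le _ _
  · rw [dim_le_iff f]
    intro x
    obtain ⟨ξ, hξ, hξx⟩ := exists_maximal_specializes x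
    have hξU : ξ ∈ U := mem_of_dense_of_maximal U hU hξ
    have h2 : td f x ≤ td f ξ := td_mono f hξx
    have h3 := td_le_dim (U.ι ≫ f) ⟨ξ, hξU⟩
    rw [td_open] at h3
    refine le_trans ?_ h3
    exact_mod_cast h2

theorem dim_affineSpace (n : ℕ) :
    topologicalKrullDim 𝔸(ULift.{u} (Fin n); Spec (CommRingCat.of k)) = n := by
  have h1 := (AffineSpace.SpecIso (ULift.{u} (Fin n))
    (CommRingCat.of k)).hom.homeomorph.isHomeomorph.topologicalKrullDim_eq
  rw [h1]
  show topologicalKrullDim (PrimeSpectrum (MvPolynomial (ULift.{u} (Fin n)) k)) = n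
  rw [PrimeSpectrum.topologicalKrullDim_eq_ringKrullDim,
    MvPolynomial.ringKrullDim_of_isNoetherianRing, ringKrullDim_eq_zero_of_field]
  simp

theorem le_dim_of_surjective (n : ℕ) (U : X.Opens)
    (g : (U : Scheme.{u}) ⟶ 𝔸(ULift.{u} (Fin n); Spec (CommRingCat.of k)))
    (hg : g ≫ (𝔸(ULift.{u} (Fin n); Spec (CommRingCat.of k)) ↘ Spec (CommRingCat.of k)) = U.ι ≫ f)
    (hs : Function.Surjective g.base) : (n : WithBot ℕ∞) ≤ topologicalKrullDim X := by
  haveI : LocallyOfFiniteType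
      (g ≫ (𝔸(ULift.{u} (Fin n); Spec (CommRingCat.of k)) ↘ Spec (CommRingCat.of k))) := by
    rw [hg]; infer_instance
  haveI : LocallyOfFiniteType g := locallyOfFiniteType_of_comp g
    (𝔸(ULift.{u} (Fin n); Spec (CommRingCat.of k)) ↘ Spec (CommRingCat.of k))
  obtain ⟨u, hu⟩ := hs (genericPoint 𝔸(ULift.{u} (Fin n); Spec (CommRingCat.of k)))
  have h1 : td (U.ι ≫ f) u = td (g ≫
      (𝔸(ULift.{u} (Fin n); Spec (CommRingCat.of k)) ↘ Spec (CommRingCat.of k))) u :=
    td_congr' hg.symm u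
  have h2 := td_comp (𝔸(ULift.{u} (Fin n); Spec (CommRingCat.of k)) ↘ Spec (CommRingCat.of k)) g u
  have h3 := dim_eq_td_genericPoint
    (𝔸(ULift.{u} (Fin n); Spec (CommRingCat.of k)) ↘ Spec (CommRingCat.of k))
  rw [dim_affineSpace] at h3
  have h4 : td (𝔸(ULift.{u} (Fin n); Spec (CommRingCat.of k)) ↘ Spec (CommRingCat.of k))
      (genericPoint 𝔸(ULift.{u} (Fin n); Spec (CommRingCat.of k))) = n := by
    exact_mod_cast h3.symm
  have h5 : n ≤ td (U.ι ≫ f) u := by
    rw [h1, h2]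
    have : g u = genericPoint 𝔸(ULift.{u} (Fin n); Spec (CommRingCat.of k)) := hu
    rw [this, h4]
    omega
  have h6 := td_le_dim (U.ι ≫ f) u
  have h7 : topologicalKrullDim ↥U ≤ topologicalKrullDim X := topologicalKrullDim_subspace_le _ _
  refine le_trans ?_ (h6.trans h7)
  exact_mod_cast h5

theorem dim_le_of_finite (n : ℕ) (U : X.Opens) (hU : Dense (U : Set X))
    (g : (U : Scheme.{u}) ⟶ 𝔸(ULift.{u} (Fin n); Spec (CommRingCat.of k)))
    (hg : g ≫ (𝔸(ULift.{u} (Fin n); Spec (CommRingCat.of k)) ↘ Spec (CommRingCat.of k)) = U.ι ≫ f)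
    [IsFinite g] : topologicalKrullDim X ≤ n := by
  rw [← dim_eq_of_dense f U hU]
  show topologicalKrullDim ↥(U : Scheme.{u}) ≤ n
  rw [dim_le_iff (U.ι ≫ f)]
  intro u
  haveI : LocallyOfFiniteType
      (g ≫ (𝔸(ULift.{u} (Fin n); Spec (CommRingCat.of k)) ↘ Spec (CommRingCat.of k))) := by
    rw [hg]; infer_instance
  have h1 : td (U.ι ≫ f) u = td (g ≫
      (𝔸(ULift.{u} (Fin n); Spec (CommRingCat.of k)) ↘ Spec (CommRingCat.of k))) u :=
    td_congr' hg.symm u
  have h2 := td_comp (𝔸(ULift.{u} (Fin n); Spec (CommRingCat.of k)) ↘ Spec (CommRingCat.of k)) g u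
  have h3 : tdR g u = 0 := tdR_eq_of_trdegAt_eq _ (trdegAt_eq_zero_of_locallyQuasiFinite g u)
  have h4 := td_le_dim (𝔸(ULift.{u} (Fin n); Spec (CommRingCat.of k)) ↘ Spec (CommRingCat.of k))
    (g u)
  rw [dim_affineSpace] at h4
  rw [h1, h2, h3, add_zero]
  exact h4

end Groth.Agent.Lib.Helper91.NNDim
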