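import Mathlib

/-!
# Dense affine opens and Noether normalization (part 2)
-/

set_option autoImplicit false
set_option linter.style.haveILetI false
universe u

open CategoryTheory CategoryTheory.Limits AlgebraicGeometry TopologicalSpace

namespace Groth.Agent.Lib.Helper91.NNDim

theorem exists_dense_affineOpen (X : Scheme.{u}) [IsNoetherian X] :
    ∃ V : X.Opens, IsAffineOpen V ∧ Dense (V : Set X) := by
  have hwf : WellFoundedGT (Opens X) := inferInstanceAs (NoetherianSpace X)
  obtain ⟨V, hV, hmax⟩ := hwf.wf.has_min {V : X.Opens | IsAffineOpen V} ⟨⊥, isAffineOpen_bot X⟩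
  refine ⟨V, hV, ?_⟩
  by_contra hnd
  have hne : ((closure (V : Set X))ᶜ).Nonempty := by
    rw [Set.nonempty_compl]
    intro h
    exact hnd (dense_iff_closure_eq.mpr h)
  obtain ⟨x, hx⟩ := hne
  obtain ⟨_, ⟨W, hW, rfl⟩, hxW, hWsub⟩ :=
    X.isBasis_affineOpens.exists_subset_of_mem_open hx isClosed_closure.isOpen_compl
  have hW' : IsAffineOpen W := hW
  have hdisj : Disjoint V W := by
    rw [← Opens.coe_disjoint]
    exact Set.disjoint_left.mpr (fun y hyV hyW => hWsub hyW (subset_closure hyV))
  have haff : IsAffineOpen (V ⊔ W) := hV.sup_of_disjoint hW' hdisj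
  have hlt : V < V ⊔ W := by
    refine lt_of_le_of_ne le_sup_left ?_
    intro h
    have hxV : x ∈ V := by
      rw [h]; exact Or.inr hxW
    exact hx (subset_closure hxV)
  exact hmax (V ⊔ W) haff hlt

section Algebra

variable (k B : Type u) [Field k] [CommRing B] [Algebra k B]

theorem exists_normalization [Nontrivial B] [Algebra.FiniteType k B] :
    ∃ (s : ℕ) (φ : MvPolynomial (ULift.{u} (Fin s)) k →ₐ[k] B),
      Function.Injective φ ∧ φ.toRingHom.Finite := by
  obtain ⟨s, φ₀, hinj, hfin⟩ := exists_finite_inj_algHom_of_fg k B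
  refine ⟨s, φ₀.comp (MvPolynomial.renameEquiv k (Equiv.ulift.{u} (α := Fin s))).toAlgHom, ?_, ?_⟩
  · exact hinj.comp (MvPolynomial.renameEquiv k Equiv.ulift).injective
  · exact RingHom.Finite.comp hfin
      (RingHom.Finite.of_surjective _ (MvPolynomial.renameEquiv k Equiv.ulift).surjective)

variable {k B}

theorem surj_of_le {s n : ℕ} (h : n ≤ s) (φ : MvPolynomial (ULift.{u} (Fin s)) k →ₐ[k] B)
    (hinj : Function.Injective φ) (hfin : φ.toRingHom.Finite) :
    ∃ φ' : MvPolynomial (ULift.{u} (Fin n)) k →ₐ[k] B,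
      Function.Surjective (PrimeSpectrum.comap φ'.toRingHom) := by
  have hι : Function.Injective (ULift.map (Fin.castLE h) : ULift.{u} (Fin n) → ULift.{u} (Fin s)) :=
    ULift.map_injective.2 (Fin.castLE_injective h)
  refine ⟨φ.comp (MvPolynomial.rename (ULift.map (Fin.castLE h))), ?_⟩
  have h1 : Function.Surjective (PrimeSpectrum.comap φ.toRingHom) :=
    RingHom.IsIntegral.comap_surjective hfin.to_isIntegral hinj
  have h2 : Function.Surjective (PrimeSpectrum.comap
      (MvPolynomial.rename (R := k) (ULift.map (Fin.castLE h))).toRingHom) := by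
    intro p
    refine ⟨PrimeSpectrum.comap (MvPolynomial.killCompl hι).toRingHom p, ?_⟩
    rw [← PrimeSpectrum.comap_comp_apply]
    have : (MvPolynomial.killCompl hι).toRingHom.comp
        (MvPolynomial.rename (R := k) (ULift.map (Fin.castLE h))).toRingHom = RingHom.id _ := by
      have := MvPolynomial.killCompl_comp_rename (R := k) hι
      exact congrArg AlgHom.toRingHom this
    rw [this]
    rfl
  intro p
  obtain ⟨q, hq⟩ := h2 p
  obtain ⟨r, hr⟩ := h1 q
  refine ⟨r, ?_⟩
  rw [← hq, ← hr]
  rfl

theorem finite_of_ge {s n : ℕ} (h : s ≤ n) (φ : MvPolynomial (ULift.{u} (Fin s)) k →ₐ[k] B)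
    (hfin : φ.toRingHom.Finite) :
    ∃ φ' : MvPolynomial (ULift.{u} (Fin n)) k →ₐ[k] B, φ'.toRingHom.Finite := by
  have hι : Function.Injective (ULift.map (Fin.castLE h) : ULift.{u} (Fin s) → ULift.{u} (Fin n)) :=
    ULift.map_injective.2 (Fin.castLE_injective h)
  refine ⟨φ.comp (MvPolynomial.killCompl hι), ?_⟩
  have hsurj : Function.Surjective (MvPolynomial.killCompl (R := k) hι) := by
    intro p
    refine ⟨MvPolynomial.rename (ULift.map (Fin.castLE h)) p, ?_⟩
    have := MvPolynomial.killCompl_comp_rename (R := k) hι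
    exact DFunLike.congr_fun this p
  exact RingHom.Finite.comp hfin (RingHom.Finite.of_surjective _ hsurj)

end Algebra

end Groth.Agent.Lib.Helper91.NNDim
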