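import Mathlib
import Groth.Agent.Lib.Helper91.NNDim1
import Groth.Agent.Lib.Helper91.NNDim2

/-!
# Dimension via maps to affine space (part 3): construction of the morphisms
-/

set_option autoImplicit false
set_option linter.style.haveILetI false
universe u

open CategoryTheory CategoryTheory.Limits AlgebraicGeometry TopologicalSpace

namespace Groth.Agent.Lib.Helper91.NNDim

variable {k : Type u} [Field k] {X : Scheme.{u}} (f : X ⟶ Spec (CommRingCat.of k))

theorem exists_hom_of_ringHom {U : X.Opens} (hU : IsAffineOpen U) (σ : Type u)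
    (φ : MvPolynomial σ k →+* Γ(X, U))
    (hφ : φ.comp MvPolynomial.C = (Spec.preimage (hU.fromSpec ≫ f)).hom) :
    ∃ g : (U : Scheme.{u}) ⟶ 𝔸(σ; Spec (CommRingCat.of k)),
      g ≫ (𝔸(σ; Spec (CommRingCat.of k)) ↘ Spec (CommRingCat.of k)) = U.ι ≫ f ∧
      (φ.Finite → IsFinite g) ∧
      (Function.Surjective (PrimeSpectrum.comap φ) → Function.Surjective g.base) := by
  refine ⟨hU.isoSpec.hom ≫ Spec.map (CommRingCat.ofHom φ) ≫
    (AffineSpace.SpecIso σ (CommRingCat.of k)).inv, ?_, ?_, ?_⟩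
  · rw [Category.assoc, Category.assoc, AffineSpace.SpecIso_inv_over, ← Spec.map_comp]
    have : CommRingCat.ofHom (MvPolynomial.C (R := k) (σ := σ)) ≫ CommRingCat.ofHom φ =
        Spec.preimage (hU.fromSpec ≫ f) := by
      ext1
      exact hφ
    rw [this, Spec.map_preimage, IsAffineOpen.fromSpec, Category.assoc, Iso.hom_inv_id_assoc]
  · intro hfin
    haveI : IsFinite (Spec.map (CommRingCat.ofHom φ)) := (IsFinite.SpecMap_iff _).mpr hfin
    infer_instance
  · intro hs y
    obtain ⟨p, hp⟩ := hs ((AffineSpace.SpecIso σ (CommRingCat.of k)).hom y)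
    refine ⟨hU.isoSpec.inv p, ?_⟩
    show (hU.isoSpec.hom ≫ Spec.map (CommRingCat.ofHom φ) ≫
      (AffineSpace.SpecIso σ (CommRingCat.of k)).inv) (hU.isoSpec.inv p) = y
    rw [Scheme.Hom.comp_apply, Scheme.Hom.comp_apply, Scheme.inv_hom_apply]
    have : (Spec.map (CommRingCat.ofHom φ)) p = (AffineSpace.SpecIso σ (CommRingCat.of k)).hom y :=
      hp
    rw [this, Scheme.hom_inv_apply]

end Groth.Agent.Lib.Helper91.NNDim
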