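import Mathlib
import Groth.Agent.Lib.Helper91.NNDim3

/-!
# Dimension via maps to affine space (part 4): the characterization
-/

set_option autoImplicit false
set_option linter.style.haveILetI false
universe u

open CategoryTheory CategoryTheory.Limits AlgebraicGeometry TopologicalSpace

namespace Groth.Agent.Lib.Helper91.NNDim

open Groth.Agent.Lib.Helper21.FieldDim

variable {k : Type u} [Field k] {X : Scheme.{u}} (f : X ⟶ Spec (CommRingCat.of k))

theorem main [LocallyOfFiniteType f] [QuasiCompact f] (n : ℕ) :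
    ((n : WithBot ℕ∞) ≤ topologicalKrullDim (X : Type u) ↔
      ∃ (U : X.Opens) (g : (U : Scheme.{u}) ⟶ 𝔸(ULift.{u} (Fin n); Spec (CommRingCat.of k))),
        Dense (U : Set X) ∧ g ≫ (𝔸(ULift.{u} (Fin n); Spec (CommRingCat.of k)) ↘ Spec (CommRingCat.of k)) = U.ι ≫ f ∧ Function.Surjective g.base) ∧
    (topologicalKrullDim (X : Type u) ≤ n ↔
      ∃ (U : X.Opens) (g : (U : Scheme.{u}) ⟶ 𝔸(ULift.{u} (Fin n); Spec (CommRingCat.of k))),
        Dense (U : Set X) ∧ g ≫ (𝔸(ULift.{u} (Fin n); Spec (CommRingCat.of k)) ↘ Spec (CommRingCat.of k)) = U.ι ≫ f ∧ IsFinite g) ∧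
    (topologicalKrullDim (X : Type u) = n ↔
      ∃ (U : X.Opens) (g : (U : Scheme.{u}) ⟶ 𝔸(ULift.{u} (Fin n); Spec (CommRingCat.of k))),
        Dense (U : Set X) ∧ g ≫ (𝔸(ULift.{u} (Fin n); Spec (CommRingCat.of k)) ↘ Spec (CommRingCat.of k)) = U.ι ≫ f ∧ IsFinite g ∧ Function.Surjective g.base) := by
  -- the easy directions
  have hA1 : (∃ (U : X.Opens) (g : (U : Scheme.{u}) ⟶ 𝔸(ULift.{u} (Fin n); Spec (CommRingCat.of k))),
        Dense (U : Set X) ∧ g ≫ (𝔸(ULift.{u} (Fin n); Spec (CommRingCat.of k)) ↘ Spec (CommRingCat.of k)) = U.ι ≫ f ∧ Function.Surjective g.base) →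
      (n : WithBot ℕ∞) ≤ topologicalKrullDim (X : Type u) := by
    rintro ⟨U, g, -, hg, hs⟩
    exact le_dim_of_surjective f n U g hg hs
  have hA2 : (∃ (U : X.Opens) (g : (U : Scheme.{u}) ⟶ 𝔸(ULift.{u} (Fin n); Spec (CommRingCat.of k))),
        Dense (U : Set X) ∧ g ≫ (𝔸(ULift.{u} (Fin n); Spec (CommRingCat.of k)) ↘ Spec (CommRingCat.of k)) = U.ι ≫ f ∧ IsFinite g) →
      topologicalKrullDim (X : Type u) ≤ n := by
    rintro ⟨U, g, hU, hg, hfin⟩
    exact dim_le_of_finite f n U hU g hg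
  have hA3 : (∃ (U : X.Opens) (g : (U : Scheme.{u}) ⟶ 𝔸(ULift.{u} (Fin n); Spec (CommRingCat.of k))),
        Dense (U : Set X) ∧ g ≫ (𝔸(ULift.{u} (Fin n); Spec (CommRingCat.of k)) ↘ Spec (CommRingCat.of k)) = U.ι ≫ f ∧ IsFinite g ∧ Function.Surjective g.base) →
      topologicalKrullDim (X : Type u) = n := by
    rintro ⟨U, g, hU, hg, hfin, hs⟩
    exact le_antisymm (hA2 ⟨U, g, hU, hg, hfin⟩) (hA1 ⟨U, g, hU, hg, hs⟩)
  -- a dense affine open
  haveI : IsLocallyNoetherian X := LocallyOfFiniteType.isLocallyNoetherian f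
  haveI : CompactSpace X := QuasiCompact.compactSpace_of_compactSpace f
  haveI : IsNoetherian X := {}
  obtain ⟨U, hU, hUd⟩ := exists_dense_affineOpen X
  letI alg : Algebra k Γ(X, U) := (Spec.preimage (hU.fromSpec ≫ f)).hom.toAlgebra
  have halg : algebraMap k Γ(X, U) = (Spec.preimage (hU.fromSpec ≫ f)).hom := rfl
  haveI hft : Algebra.FiniteType k Γ(X, U) := by
    have h1 : LocallyOfFiniteType (Spec.map (Spec.preimage (hU.fromSpec ≫ f))) := by
      rw [Spec.map_preimage]; infer_instance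
    have h2 : (Spec.preimage (hU.fromSpec ≫ f)).hom.FiniteType :=
      (HasRingHomProperty.Spec_iff (P := @LocallyOfFiniteType)).mp h1
    exact h2
  -- morphisms from algebra maps
  have hD : ∀ (m : ℕ) (φ : MvPolynomial (ULift.{u} (Fin m)) k →ₐ[k] Γ(X, U)),
      ∃ g : (U : Scheme.{u}) ⟶ 𝔸(ULift.{u} (Fin m); Spec (CommRingCat.of k)),
        g ≫ (𝔸(ULift.{u} (Fin m); Spec (CommRingCat.of k)) ↘ Spec (CommRingCat.of k)) = U.ι ≫ f ∧
        (φ.toRingHom.Finite → IsFinite g) ∧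
        (Function.Surjective (PrimeSpectrum.comap φ.toRingHom) → Function.Surjective g.base) := by
    intro m φ
    refine exists_hom_of_ringHom f hU _ φ.toRingHom ?_
    rw [← halg]
    ext a
    simp
  by_cases hnt : Nontrivial Γ(X, U)
  · obtain ⟨s, φ, hinj, hfin⟩ := exists_normalization k Γ(X, U)
    have hsurj : Function.Surjective (PrimeSpectrum.comap φ.toRingHom) :=
      RingHom.IsIntegral.comap_surjective hfin.to_isIntegral hinj
    obtain ⟨gs, hgs, hgs1, hgs2⟩ := hD s φ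
    have hdim : topologicalKrullDim (X : Type u) = s := by
      haveI := hgs1 hfin
      exact le_antisymm (dim_le_of_finite f s U hUd gs hgs)
        (le_dim_of_surjective f s U gs hgs (hgs2 hsurj))
    refine ⟨⟨fun h => ?_, hA1⟩, ⟨fun h => ?_, hA2⟩, ⟨fun h => ?_, hA3⟩⟩
    · rw [hdim] at h
      have hns : n ≤ s := by exact_mod_cast h
      obtain ⟨φ', hφ'⟩ := surj_of_le hns φ hinj hfin
      obtain ⟨g, hg, -, hg2⟩ := hD n φ'
      exact ⟨U, g, hUd, hg, hg2 hφ'⟩
    · rw [hdim] at h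
      have hns : s ≤ n := by exact_mod_cast h
      obtain ⟨φ', hφ'⟩ := finite_of_ge hns φ hfin
      obtain ⟨g, hg, hg1, -⟩ := hD n φ'
      exact ⟨U, g, hUd, hg, hg1 hφ'⟩
    · rw [hdim] at h
      have hns : s = n := by exact_mod_cast h
      subst hns
      exact ⟨U, gs, hUd, hgs, hgs1 hfin, hgs2 hsurj⟩
  · rw [not_nontrivial_iff_subsingleton] at hnt
    -- `X` is empty
    have hUe : IsEmpty ↥U := by
      haveI h0 : IsEmpty (PrimeSpectrum Γ(X, U)) := inferInstance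
      haveI : IsEmpty ↥(Spec Γ(X, U)) := h0
      exact hU.isoSpec.hom.homeomorph.isEmpty
    have hXe : IsEmpty X := by
      by_contra hne
      rw [not_isEmpty_iff] at hne
      obtain ⟨x, hx⟩ := (hUd.nonempty_iff.mpr hne)
      exact hUe.false ⟨x, hx⟩
    have hdim : topologicalKrullDim (X : Type u) ≤ ⊥ :=
      (dim_le_iff f ⊥).mpr (fun x => (hXe.false x).elim)
    refine ⟨⟨fun h => ?_, hA1⟩, ⟨fun h => ?_, hA2⟩, ⟨fun h => ?_, hA3⟩⟩
    · exact absurd (h.trans hdim) (by simp)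
    · have hfin : (MvPolynomial.aeval (R := k) (σ := ULift.{u} (Fin n))
          (fun _ => (0 : Γ(X, U)))).toRingHom.Finite :=
        RingHom.Finite.of_surjective _ (fun b => ⟨0, Subsingleton.elim _ _⟩)
      obtain ⟨g, hg, hg1, -⟩ := hD n (MvPolynomial.aeval (fun _ => (0 : Γ(X, U))))
      exact ⟨U, g, hUd, hg, hg1 hfin⟩
    · rw [h] at hdim
      exact absurd hdim (by simp)

end Groth.Agent.Lib.Helper91.NNDim
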