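import Mathlib
import Groth.Prelude
import Groth.Agent.Lib.Helper91.HartogsAlg3
import Groth.Agent.Lib.Helper91.DepthOneNormal

/-!
# Principal ideals in a normal noetherian domain are detected at DVR localizations (helper91)
-/

set_option autoImplicit false

namespace Groth.Agent.Lib.Helper91.NormalDiv

universe u

open Groth.Agent.Lib.Helper91.Hartogs

/-- if `e ∉ d A` in a noetherian normal domain, there is a prime `q` with `A_q` a DVR and
`e ∉ d A_q`. -/
theorem exists_dvr_prime {A : Type u} [CommRing A] [IsDomain A] [IsNoetherianRing A]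
    [IsIntegrallyClosed A] (d e : A) (hd : d ≠ 0) (he : ¬ ∃ x, e = d * x) :
    ∃ (q : Ideal A) (_ : q.IsPrime), ∀ (R : Type u) [CommRing R] [IsDomain R] [Algebra A R]
      [IsLocalization.AtPrime R q],
      IsDiscreteValuationRing R ∧ algebraMap A R e ∉ Ideal.span {algebraMap A R d} := by
  obtain ⟨q, hq, c, hc, hea⟩ := exists_ass_quot d e he
  refine ⟨q, hq, ?_⟩
  intro R _ _ _ _
  have hM : q.primeCompl ≤ nonZeroDivisors A := q.primeCompl_le_nonZeroDivisors
  haveI : IsLocalRing R := IsLocalization.AtPrime.isLocalRing R q
  haveI : IsNoetherianRing R := IsLocalization.isNoetherianRing q.primeCompl R inferInstance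
  haveI : IsIntegrallyClosed R := isIntegrallyClosed_of_isLocalization R q.primeCompl hM
  have hinjAR : Function.Injective (algebraMap A R) := IsLocalization.injective R hM
  let K := FractionRing A
  let g : R →+* K := IsLocalization.map _ (T := nonZeroDivisors A) (RingHom.id A) hM
  letI := g.toAlgebra
  haveI : IsScalarTower A R K := IsScalarTower.of_algebraMap_eq'
    (by rw [RingHom.algebraMap_toAlgebra, IsLocalization.map_comp, RingHomCompTriple.comp_eq])
  haveI := IsFractionRing.isFractionRing_of_isDomain_of_isLocalization q.primeCompl R K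
  have hinjRK : Function.Injective (algebraMap R K) := IsFractionRing.injective R K
  have hinjAK : Function.Injective (algebraMap A K) := IsFractionRing.injective A K
  have hdK : algebraMap A K d ≠ 0 := fun h => hd (hinjAK (by rw [h, map_zero]))
  have hdR : algebraMap A R d ≠ 0 := fun h => hd (hinjAR (by rw [h, map_zero]))
  have hsK : ∀ s : A, s ∉ q → algebraMap A K s ≠ 0 := by
    intro s hs h
    have : s = 0 := hinjAK (by rw [h, map_zero])
    exact hs (this ▸ q.zero_mem)
  refine ⟨?_, ?_⟩
  · apply Groth.Agent.Lib.Helper91.DepthOne.isDiscreteValuationRing_of_fraction (K := K)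
      (g := algebraMap A K c / algebraMap A K d)
    · rintro ⟨r, hr⟩
      obtain ⟨a, s, rfl⟩ := IsLocalization.exists_mk'_eq q.primeCompl r
      have h1 : algebraMap R K (IsLocalization.mk' R a s) * algebraMap A K s = algebraMap A K a := by
        rw [IsScalarTower.algebraMap_apply A R K, IsScalarTower.algebraMap_apply A R K a, ← map_mul,
          IsLocalization.mk'_spec]
      rw [hr, div_mul_eq_mul_div, div_eq_iff hdK] at h1
      have h2 : (s : A) * c = d * a := by
        apply hinjAK
        rw [map_mul, map_mul, mul_comm, h1, mul_comm]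
      exact s.2 ((hc s).mp ⟨a, h2⟩)
    · intro t ht
      obtain ⟨a, ha, s, hs, has⟩ := exists_num_of_mem_maximalIdeal q R ht
      obtain ⟨x, hx⟩ := (hc a).mpr ha
      refine ⟨IsLocalization.mk' R x (⟨s, hs⟩ : q.primeCompl), ?_⟩
      have h1 : algebraMap R K (IsLocalization.mk' R x (⟨s, hs⟩ : q.primeCompl)) * algebraMap A K s =
          algebraMap A K x := by
        rw [IsScalarTower.algebraMap_apply A R K, IsScalarTower.algebraMap_apply A R K x, ← map_mul]
        congr 1
        exact IsLocalization.mk'_spec R x (⟨s, hs⟩ : q.primeCompl)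
      have h2 : algebraMap R K t * algebraMap A K s = algebraMap A K a := by
        rw [IsScalarTower.algebraMap_apply A R K, IsScalarTower.algebraMap_apply A R K a, ← map_mul,
          has]
      have hs0 := hsK s hs
      have h3 : algebraMap A K a * algebraMap A K c = algebraMap A K d * algebraMap A K x := by
        rw [← map_mul, ← map_mul, hx]
      have e1 : algebraMap R K (IsLocalization.mk' R x (⟨s, hs⟩ : q.primeCompl)) =
          algebraMap A K x / algebraMap A K s := by
        rw [eq_div_iff hs0, h1]
      have e2 : algebraMap R K t = algebraMap A K a / algebraMap A K s := by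
        rw [eq_div_iff hs0, h2]
      rw [e1, e2, div_mul_div_comm, div_eq_div_iff hs0 (mul_ne_zero hs0 hdK)]
      linear_combination (-(algebraMap A K s)) * h3
  · intro hmem
    obtain ⟨r, hr⟩ := Ideal.mem_span_singleton'.mp hmem
    obtain ⟨a, s, rfl⟩ := IsLocalization.exists_mk'_eq q.primeCompl r
    have h1 : algebraMap A R ((s : A) * e) = algebraMap A R (d * a) := by
      rw [map_mul, map_mul, ← hr, ← IsLocalization.mk'_spec R a s]
      ring
    have h2 := hinjAR h1
    exact s.2 (hea s ⟨a, h2⟩)

end Groth.Agent.Lib.Helper91.NormalDiv
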