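import Mathlib
import Groth.Prelude
import Groth.Agent.Lib.Helper91.NormalDiv1
import Groth.Agent.Lib.Helper91.StalkIdeal
import Groth.Agent.Lib.Helper91.GenPrime2

/-!
# Effective Cartier divisors on a normal locally noetherian scheme are detected at DVR points
(helper91)
-/

set_option autoImplicit false

namespace Groth.Agent.Lib.Helper91.NormalDiv

universe u

open AlgebraicGeometry CategoryTheory Groth.Agent.Lib.Helper91.StalkIdeal
  Groth.Agent.Lib.Helper91.GenPrime

variable {X : Scheme.{u}}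

theorem le_of_dvr [IsLocallyNoetherian X]
    (hnorm : ∀ x : X, IsDomain (X.presheaf.stalk x) ∧ IsIntegrallyClosed (X.presheaf.stalk x))
    (D E : X.IdealSheafData) (hD : BlowUp.IsEffCartierIdeal D) (hE : BlowUp.IsEffCartierIdeal E)
    (h : ∀ ξ : X, (∃ _ : IsDomain (X.presheaf.stalk ξ),
      IsDiscreteValuationRing (X.presheaf.stalk ξ)) → stalkIdeal E ξ ≤ stalkIdeal D ξ) :
    E ≤ D := by
  apply le_of_forall_stalkIdeal_le
  intro x
  haveI := (hnorm x).1
  haveI := (hnorm x).2
  obtain ⟨d, hd, hDd⟩ := exists_generator hD x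
  obtain ⟨e, he, hEe⟩ := exists_generator hE x
  rw [hDd, hEe, Ideal.span_singleton_le_span_singleton]
  by_contra hcon
  have hne : ¬ ∃ y, e = d * y := by
    rintro ⟨y, hy⟩
    exact hcon ⟨y, hy⟩
  have hd0 : d ≠ 0 := nonZeroDivisors.ne_zero hd
  obtain ⟨q, hq, hR⟩ := exists_dvr_prime d e hd0 hne
  obtain ⟨ζ, hζ, rfl⟩ := exists_specializes_primeOf_eq x q
  letI := (X.presheaf.stalkSpecializes hζ).hom.toAlgebra
  haveI := isLocalization_stalkSpecializes hζ
  haveI : IsDomain (X.presheaf.stalk ζ) := isDomain_of_specializes hζ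
  obtain ⟨hdvr, hnot⟩ := hR (X.presheaf.stalk ζ)
  apply hnot
  have h1 := h ζ ⟨inferInstance, hdvr⟩
  rw [← map_stalkSpecializes D hζ, ← map_stalkSpecializes E hζ, hDd, hEe, Ideal.map_span,
    Ideal.map_span, Set.image_singleton, Set.image_singleton] at h1
  exact h1 (Ideal.mem_span_singleton_self _)

end Groth.Agent.Lib.Helper91.NormalDiv
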