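import Mathlib
import Groth.Prelude
import Groth.Agent.Lib.Helper91.StalkIdeal

/-!
# Locally proportional effective Cartier divisors on a connected support (helper91)
-/

set_option autoImplicit false

namespace Groth.Agent.Lib.Helper91.PropDiv

universe u

open AlgebraicGeometry CategoryTheory Groth.Agent.Lib.Helper91.StalkIdeal

section alg

variable {R : Type*} [CommRing R]

theorem false_of_span_pow_eq_of_lt (t : R) (ht : t ∈ nonZeroDivisors R) (hu : ¬ IsUnit t) {p q : ℕ}
    (hpq : p < q) (h : Ideal.span {t} ^ p = Ideal.span {t} ^ q) : False := by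
  rw [Ideal.span_singleton_pow, Ideal.span_singleton_pow] at h
  have h1 : t ^ p ∈ Ideal.span {t ^ q} := by
    rw [← h]; exact Ideal.mem_span_singleton_self _
  obtain ⟨c, hc⟩ := Ideal.mem_span_singleton'.mp h1
  obtain ⟨k, rfl⟩ := Nat.exists_eq_add_of_lt hpq
  have h2 : (c * t ^ (k + 1) - 1) * t ^ p = 0 := by
    have : c * t ^ (p + k + 1) = c * t ^ (k + 1) * t ^ p := by ring
    rw [this] at hc
    rw [sub_mul, hc, one_mul, sub_self]
  have h3 := (mem_nonZeroDivisors_iff_right.mp (pow_mem ht p)) _ h2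
  have h4 : t * (t ^ k * c) = 1 := by
    have : c * t ^ (k + 1) = 1 := sub_eq_zero.mp h3
    rw [← this]; ring
  exact hu (IsUnit.of_mul_eq_one _ h4)

theorem eq_of_span_pow_eq (t : R) (ht : t ∈ nonZeroDivisors R) (hu : ¬ IsUnit t) {p q : ℕ}
    (h : Ideal.span {t} ^ p = Ideal.span {t} ^ q) : p = q := by
  rcases lt_trichotomy p q with h1 | h1 | h1
  · exact (false_of_span_pow_eq_of_lt t ht hu h1 h).elim
  · exact h1
  · exact (false_of_span_pow_eq_of_lt t ht hu h1 h.symm).elim

theorem cross_eq (I J : Ideal R) (d e : R) (hd : d ∈ nonZeroDivisors R) (he : e ∈ nonZeroDivisors R)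
    (hI : I = Ideal.span {d}) (hJ : J = Ideal.span {e}) (hT : I ≠ ⊤ ∨ J ≠ ⊤)
    {a b a' b' : ℕ} (h1 : I ^ a = J ^ b) (h2 : I ^ a' = J ^ b') : a * b' = a' * b := by
  by_cases hJt : J = ⊤
  · have hIt : I ≠ ⊤ := hT.resolve_right (not_not.mpr hJt)
    have hu : ¬ IsUnit d := by
      intro hu
      exact hIt (hI ▸ Ideal.span_singleton_eq_top.mpr hu)
    have h3 : I ^ (a * b') = I ^ (a' * b) := by
      rw [pow_mul, h1, pow_mul, h2, ← pow_mul, ← pow_mul, mul_comm]
    rw [hI] at h3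
    exact eq_of_span_pow_eq d hd hu h3
  · have hu : ¬ IsUnit e := by
      intro hu
      exact hJt (hJ ▸ Ideal.span_singleton_eq_top.mpr hu)
    have h3 : J ^ (b * a') = J ^ (b' * a) := by
      rw [pow_mul, ← h1, pow_mul, ← h2, ← pow_mul, ← pow_mul, mul_comm]
    rw [hJ] at h3
    have := eq_of_span_pow_eq e he hu h3
    linarith [this, mul_comm b a', mul_comm b' a]

theorem nat_prop_trans {a b a' b' a'' b'' : ℕ} (h1 : a * b' = a' * b) (h2 : a' * b'' = a'' * b')
    (hne : (a', b') ≠ (0, 0)) : a * b'' = a'' * b := by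
  have ha : a' * (a * b'') = a' * (a'' * b) := by
    calc a' * (a * b'') = a * (a' * b'') := by ring
      _ = a * (a'' * b') := by rw [h2]
      _ = a'' * (a * b') := by ring
      _ = a'' * (a' * b) := by rw [h1]
      _ = a' * (a'' * b) := by ring
  have hb : b' * (a * b'') = b' * (a'' * b) := by
    calc b' * (a * b'') = b'' * (a * b') := by ring
      _ = b'' * (a' * b) := by rw [h1]
      _ = b * (a' * b'') := by ring
      _ = b * (a'' * b') := by rw [h2]
      _ = b' * (a'' * b) := by ring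
  by_cases ha' : a' = 0
  · have hb' : b' ≠ 0 := by
      intro hb'
      exact hne (by rw [ha', hb'])
    exact Nat.eq_of_mul_eq_mul_left (Nat.pos_of_ne_zero hb') hb
  · exact Nat.eq_of_mul_eq_mul_left (Nat.pos_of_ne_zero ha') ha

end alg

variable {X : Scheme.{u}}

theorem stalk_pow_eq_of_ideal_pow_eq (D E : X.IdealSheafData) (U : X.affineOpens) {m n : ℕ}
    (h : D.ideal U ^ m = E.ideal U ^ n) {y : X} (hy : y ∈ U.1) :
    stalkIdeal D y ^ m = stalkIdeal E y ^ n := by
  rw [stalkIdeal_eq D U hy, stalkIdeal_eq E U hy, ← Ideal.map_pow, ← Ideal.map_pow, h]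

theorem cross_at (D E : X.IdealSheafData) (hD : BlowUp.IsEffCartierIdeal D)
    (hE : BlowUp.IsEffCartierIdeal E) (y : X)
    (hy : y ∈ (D.support : Set X) ∪ (E.support : Set X)) {a b a' b' : ℕ}
    (h1 : stalkIdeal D y ^ a = stalkIdeal E y ^ b)
    (h2 : stalkIdeal D y ^ a' = stalkIdeal E y ^ b') : a * b' = a' * b := by
  obtain ⟨d, hd, hId⟩ := exists_generator hD y
  obtain ⟨e, he, hIe⟩ := exists_generator hE y
  refine cross_eq _ _ d e hd he hId hIe ?_ h1 h2
  rcases hy with hy | hy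
  · left
    intro h
    exact ((stalkIdeal_eq_top_iff D y).mp h) hy
  · right
    intro h
    exact ((stalkIdeal_eq_top_iff E y).mp h) hy

theorem main [CompactSpace X] (D E : X.IdealSheafData) (hD : BlowUp.IsEffCartierIdeal D)
    (hE : BlowUp.IsEffCartierIdeal E)
    (hconn : IsPreconnected ((D.support : Set X) ∪ (E.support : Set X)))
    (hloc : ∀ x : X, ∃ U : X.affineOpens, x ∈ U.1 ∧
      ∃ m n : ℕ, (m, n) ≠ (0, 0) ∧ D.ideal U ^ m = E.ideal U ^ n) :
    ∃ m n : ℕ, (m, n) ≠ (0, 0) ∧ ∀ y : X, stalkIdeal D y ^ m = stalkIdeal E y ^ n := by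
  classical
  choose U hxU m n hne hpow using hloc
  set T : Set X := (D.support : Set X) ∪ (E.support : Set X) with hT
  have hnotT : ∀ y, y ∉ T → stalkIdeal D y = ⊤ ∧ stalkIdeal E y = ⊤ := by
    intro y hy
    constructor
    · rw [stalkIdeal_eq_top_iff]
      intro h; exact hy (Or.inl h)
    · rw [stalkIdeal_eq_top_iff]
      intro h; exact hy (Or.inr h)
  have hP : ∀ x y, y ∈ (U x).1 → stalkIdeal D y ^ m x = stalkIdeal E y ^ n x := fun x y hy =>
    stalk_pow_eq_of_ideal_pow_eq D E (U x) (hpow x) hy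
  by_cases hTne : T.Nonempty
  swap
  · refine ⟨1, 1, by simp, fun y => ?_⟩
    have hy : y ∉ T := fun hy => hTne ⟨y, hy⟩
    rw [(hnotT y hy).1, (hnotT y hy).2]
  obtain ⟨t₀, ht₀⟩ := hTne
  set m₀ := m t₀ with hm₀
  set n₀ := n t₀ with hn₀
  -- every chart meeting `T` has a pair proportional to `(m₀, n₀)`
  have hkey : ∀ y ∈ T, ∀ x, y ∈ (U x).1 → m x * n₀ = m₀ * n x := by
    let u : Set X := ⋃ (x : X) (_ : m x * n₀ = m₀ * n x), ((U x).1 : Set X)
    let v : Set X := ⋃ (x : X) (_ : m x * n₀ ≠ m₀ * n x), ((U x).1 : Set X)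
    have hu : IsOpen u := isOpen_iUnion fun x => isOpen_iUnion fun _ => (U x).1.isOpen
    have hv : IsOpen v := isOpen_iUnion fun x => isOpen_iUnion fun _ => (U x).1.isOpen
    have hcover : T ⊆ u ∪ v := by
      intro y _
      by_cases h : m y * n₀ = m₀ * n y
      · left; exact Set.mem_iUnion₂.mpr ⟨y, h, hxU y⟩
      · right; exact Set.mem_iUnion₂.mpr ⟨y, h, hxU y⟩
    have hdisj : T ∩ (u ∩ v) = ∅ := by
      rw [Set.eq_empty_iff_forall_notMem]
      rintro y ⟨hyT, hyu, hyv⟩
      obtain ⟨x, hx, hyx⟩ := Set.mem_iUnion₂.mp hyu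
      obtain ⟨x', hx', hyx'⟩ := Set.mem_iUnion₂.mp hyv
      have hc := cross_at D E hD hE y hyT (hP x' y hyx') (hP x y hyx)
      exact hx' (nat_prop_trans hc hx (hne x))
    have ht₀u : t₀ ∈ u := Set.mem_iUnion₂.mpr ⟨t₀, rfl, hxU t₀⟩
    have hTu : T ⊆ u := by
      rcases isPreconnected_iff_subset_of_disjoint.mp hconn u v hu hv hcover hdisj with h | h
      · exact h
      · exfalso
        have : t₀ ∈ T ∩ (u ∩ v) := ⟨ht₀, ht₀u, h ht₀⟩
        rw [hdisj] at this
        exact this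
    intro y hy x hyx
    obtain ⟨x₁, hx₁, hyx₁⟩ := Set.mem_iUnion₂.mp (hTu hy)
    have hc := cross_at D E hD hE y hy (hP x y hyx) (hP x₁ y hyx₁)
    exact nat_prop_trans hc hx₁ (hne x₁)
  obtain ⟨t, ht⟩ := isCompact_univ.elim_finite_subcover (fun x => ((U x).1 : Set X))
    (fun x => (U x).1.isOpen) (fun y _ => Set.mem_iUnion.mpr ⟨y, hxU y⟩)
  set S : ℕ := ∏ x ∈ t, (m x + n x) with hS
  have hpos : ∀ x, 0 < m x + n x := by
    intro x
    rcases Nat.eq_zero_or_pos (m x + n x) with h | h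
    · exfalso
      apply hne x
      have h1 : m x = 0 := by omega
      have h2 : n x = 0 := by omega
      rw [h1, h2]
    · exact h
  have hSpos : 0 < S := Finset.prod_pos fun x _ => hpos x
  refine ⟨S * m₀, S * n₀, ?_, fun y => ?_⟩
  · intro h
    have h1 : S * m₀ = 0 := (Prod.mk.inj h).1
    have h2 : S * n₀ = 0 := (Prod.mk.inj h).2
    have h3 : m₀ = 0 := by
      rcases Nat.mul_eq_zero.mp h1 with h | h
      · omega
      · exact h
    have h4 : n₀ = 0 := by
      rcases Nat.mul_eq_zero.mp h2 with h | h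
      · omega
      · exact h
    apply hne t₀
    rw [← hm₀, ← hn₀, h3, h4]
  · by_cases hy : y ∈ T
    · obtain ⟨x, hxt, hyx⟩ := Set.mem_iUnion₂.mp (ht (Set.mem_univ y))
      have hprop := hkey y hy x hyx
      obtain ⟨c, hc⟩ : (m x + n x) ∣ S := Finset.dvd_prod_of_mem _ hxt
      have e1 : S * m₀ = m x * (c * (m₀ + n₀)) := by
        rw [hc]
        calc (m x + n x) * c * m₀ = c * (m x * m₀ + m₀ * n x) := by ring
          _ = c * (m x * m₀ + m x * n₀) := by rw [hprop]
          _ = m x * (c * (m₀ + n₀)) := by ring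
      have e2 : S * n₀ = n x * (c * (m₀ + n₀)) := by
        rw [hc]
        calc (m x + n x) * c * n₀ = c * (m x * n₀ + n x * n₀) := by ring
          _ = c * (m₀ * n x + n x * n₀) := by rw [hprop]
          _ = n x * (c * (m₀ + n₀)) := by ring
      rw [e1, e2, pow_mul (stalkIdeal D y) (m x), pow_mul (stalkIdeal E y) (n x), hP x y hyx]
    · rw [(hnotT y hy).1, (hnotT y hy).2, Ideal.top_pow, Ideal.top_pow]

end Groth.Agent.Lib.Helper91.PropDiv
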