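import Mathlib
import Groth.Prelude
import Groth.Agent.Lib.Helper91.StalkIdeal
import Groth.Agent.Lib.Helper91.MaxPoint
import Groth.Agent.Lib.Helper91.PropDiv1
import Groth.Agent.Lib.Helper70.AffineStalk

/-!
# Pullback of a local equation is a nonzerodivisor when the preimage of the complement of the
support is schematically dense; a DVR lemma (helper91)
-/

set_option autoImplicit false

namespace Groth.Agent.Lib.Helper91.NormalDiv

universe u

open AlgebraicGeometry CategoryTheory Opposite TopologicalSpace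

variable {S S' : Scheme.{u}}

theorem inf_le_basicOpen (U : S.Opens) (D : S.IdealSheafData)
    (hDU : (D.support : Set S) ⊆ (U : Set S)ᶜ) (V : S.affineOpens) (g : Γ(S, V.1))
    (hg : D.ideal V = Ideal.span {g}) : V.1 ⊓ U ≤ S.basicOpen g := by
  rintro x ⟨hxV, hxU⟩
  rw [Groth.Agent.Lib.Helper91.MaxPoint.mem_basicOpen_iff_notMem_primeIdealOf V.2 g x hxV]
  intro hgx
  have : x ∈ D.support := by
    rw [Groth.Agent.Lib.Helper70.mem_support_iff_le_primeIdealOf D V x hxV, hg,
      Ideal.span_singleton_le_iff_mem]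
    exact hgx
  exact hDU this hxU

theorem mem_nonZeroDivisors_of_le_basicOpen (W : S'.Opens)
    (hW : CInt.IsSchematicallyDense W) (V' : S'.Opens) (g' : Γ(S', V'))
    (hle : V' ⊓ W ≤ S'.basicOpen g') : g' ∈ nonZeroDivisors Γ(S', V') := by
  rw [mem_nonZeroDivisors_iff_right]
  intro h hh
  apply hW V'
  rw [map_zero]
  have hunit := S'.toRingedSpace.isUnit_res_basicOpen g'
  have hunit2 : IsUnit (S'.presheaf.map (homOfLE (inf_le_left : V' ⊓ W ≤ V')).op g') := by
    have : S'.presheaf.map (homOfLE (inf_le_left : V' ⊓ W ≤ V')).op g' =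
        S'.presheaf.map (homOfLE hle).op
          (S'.presheaf.map (homOfLE (S'.basicOpen_le g')).op g') := by
      rw [← CommRingCat.comp_apply, ← Functor.map_comp]
      rfl
    rw [this]
    exact hunit.map _
  have h0 : S'.presheaf.map (homOfLE (inf_le_left : V' ⊓ W ≤ V')).op (h * g') = 0 := by
    rw [hh, map_zero]
  rw [map_mul] at h0
  exact (hunit2.mul_left_eq_zero).mp h0

theorem appLE_mem_nonZeroDivisors (f : S' ⟶ S) (U : S.Opens)
    (hU' : CInt.IsSchematicallyDense (f ⁻¹ᵁ U)) (D : S.IdealSheafData)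
    (hDU : (D.support : Set S) ⊆ (U : Set S)ᶜ) (V : S.affineOpens) (g : Γ(S, V.1))
    (hg : D.ideal V = Ideal.span {g}) (V' : S'.Opens) (hV' : V' ≤ f ⁻¹ᵁ V.1) :
    (f.appLE V.1 V' hV').hom g ∈ nonZeroDivisors Γ(S', V') := by
  apply mem_nonZeroDivisors_of_le_basicOpen (f ⁻¹ᵁ U) hU'
  have h0 : S'.basicOpen ((f.appLE V.1 V' hV').hom g) = V' ⊓ f ⁻¹ᵁ (S.basicOpen g) :=
    Scheme.basicOpen_appLE f V' V.1 hV' g
  rw [h0]
  refine le_inf inf_le_left ?_
  intro x hx
  have h1 : f x ∈ V.1 ⊓ U := ⟨hV' hx.1, hx.2⟩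
  exact inf_le_basicOpen U D hDU V g hg h1

/-- a DVR lemma: principal ideals whose images under a local homomorphism are equal and
generated by nonzerodivisors are equal. -/
theorem span_eq_of_map_eq {O O' : Type*} [CommRing O] [IsDomain O] [IsDiscreteValuationRing O]
    [CommRing O'] [IsLocalRing O'] (φ : O →+* O') [IsLocalHom φ] (d e : O) (hd : d ≠ 0) (he : e ≠ 0)
    (hφd : φ d ∈ nonZeroDivisors O') (hφe : φ e ∈ nonZeroDivisors O')
    (h : Ideal.span {φ d} = Ideal.span {φ e}) : Ideal.span {d} = Ideal.span {e} := by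
  obtain ⟨π, hπ⟩ := IsDiscreteValuationRing.exists_irreducible O
  obtain ⟨a, u, rfl⟩ := IsDiscreteValuationRing.eq_unit_mul_pow_irreducible hd hπ
  obtain ⟨b, v, rfl⟩ := IsDiscreteValuationRing.eq_unit_mul_pow_irreducible he hπ
  have hsp : ∀ (w : Oˣ) (n : ℕ), Ideal.span {(w : O) * π ^ n} = Ideal.span {π} ^ n := by
    intro w n
    rw [Ideal.span_singleton_pow]
    exact Ideal.span_singleton_mul_left_unit w.isUnit _
  have hsp' : ∀ (w : Oˣ) (n : ℕ), Ideal.span {φ ((w : O) * π ^ n)} = Ideal.span {φ π} ^ n := by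
    intro w n
    rw [Ideal.span_singleton_pow, map_mul, map_pow]
    exact Ideal.span_singleton_mul_left_unit (w.isUnit.map φ) _
  rw [hsp u a, hsp v b]
  by_cases hab : a = b
  · rw [hab]
  exfalso
  rw [hsp' u a, hsp' v b] at h
  have hnu : ¬ IsUnit (φ π) := fun hu => hπ.not_isUnit ((isUnit_map_iff φ π).mp hu)
  have hnzd : φ π ∈ nonZeroDivisors O' := by
    have key : ∀ (w : Oˣ) (n : ℕ), 0 < n → φ ((w : O) * π ^ n) ∈ nonZeroDivisors O' →
        φ π ∈ nonZeroDivisors O' := by
      intro w n hn hw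
      rw [map_mul, map_pow] at hw
      have h1 := (mul_mem_nonZeroDivisors.mp hw).2
      obtain ⟨k, rfl⟩ := Nat.exists_eq_succ_of_ne_zero hn.ne'
      rw [pow_succ] at h1
      exact (mul_mem_nonZeroDivisors.mp h1).2
    rcases Nat.eq_zero_or_pos a with ha | ha
    · have hb : 0 < b := by omega
      exact key v b hb hφe
    · exact key u a ha hφd
  exact hab (Groth.Agent.Lib.Helper91.PropDiv.eq_of_span_pow_eq (φ π) hnzd hnu h)

end Groth.Agent.Lib.Helper91.NormalDiv
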