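import Mathlib

/-!
# Valuation rings dominating a local ring in which a given element becomes "the" nonzero parameter
-/

set_option autoImplicit false
universe u

namespace Groth.Agent.Lib.Helper91.ValTest

/-- a prime maximal among the ideals avoiding the powers of an element -/
theorem exists_maximal_prime_disjoint {A : Type*} [CommRing A] (α : A)
    (hα : ¬ IsNilpotent α) :
    ∃ P : Ideal A, P.IsPrime ∧ α ∉ P ∧ ∀ Q : Ideal A, Q.IsPrime → P ≤ Q → α ∉ Q → Q ≤ P := by
  have h0 : Disjoint ((⊥ : Ideal A) : Set A) (Submonoid.powers α) := by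
    rw [Set.disjoint_left]
    rintro x hx ⟨n, rfl⟩
    exact hα ⟨n, hx⟩
  have hchain : ∀ c ⊆ {p : Ideal A | Disjoint (p : Set A) (Submonoid.powers α)},
      IsChain (· ≤ ·) c → ∀ y ∈ c,
        ∃ ub ∈ {p : Ideal A | Disjoint (p : Set A) (Submonoid.powers α)}, ∀ z ∈ c, z ≤ ub := by
    intro c hc hc' x hx
    refine ⟨sSup c, Set.disjoint_left.mpr fun y hy ↦ ?_, fun _ ↦ le_sSup⟩
    haveI : Nonempty c := ⟨⟨x, hx⟩⟩
    have ⟨p, hp⟩ := (Submodule.mem_iSup_of_directed _ hc'.directed).mp (sSup_eq_iSup' c ▸ hy)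
    exact Set.disjoint_left.mp (hc p.2) hp
  obtain ⟨p, -, hp⟩ := zorn_le_nonempty₀ {p : Ideal A | Disjoint (p : Set A) (Submonoid.powers α)}
    hchain ⊥ h0
  refine ⟨p, Ideal.isPrime_of_maximally_disjoint _ _ hp.1 (fun _ ↦ hp.not_prop_of_gt), ?_, ?_⟩
  · exact fun h => Set.disjoint_left.mp hp.1 h (Submonoid.mem_powers α)
  · intro Q hQ hPQ hαQ
    have hQd : Disjoint (Q : Set A) (Submonoid.powers α) := by
      rw [Set.disjoint_left]
      rintro x hx ⟨n, rfl⟩
      exact hαQ (hQ.mem_of_pow_mem n hx)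
    exact hp.2 hQd hPQ

/-- the test valuation ring -/
theorem exists_valuationRing_test (O : Type u) [CommRing O] [IsLocalRing O] (a : O)
    (ha : ¬ IsNilpotent a) :
    ∃ (R : Type u) (_ : CommRing R) (_ : IsDomain R) (_ : ValuationRing R) (ψ : O →+* R),
      IsLocalHom ψ ∧ ψ a ≠ 0 ∧ ∀ P : Ideal R, P.IsPrime → P ≠ ⊥ → ψ a ∈ P := by
  obtain ⟨q, hq, hqa, -⟩ := exists_maximal_prime_disjoint a ha
  let K := FractionRing (O ⧸ q)
  let f : O →+* K := (algebraMap (O ⧸ q) K).comp (Ideal.Quotient.mk q)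
  have hfa : f a ≠ 0 := by
    intro h0
    have h1 : Ideal.Quotient.mk q a = 0 :=
      (IsFractionRing.injective (O ⧸ q) K) (by rw [map_zero]; exact h0)
    exact hqa (Ideal.Quotient.eq_zero_iff_mem.mp h1)
  obtain ⟨A, h, hloc⟩ := IsLocalRing.exists_factor_valuationRing f
  let g : O →+* A := f.codRestrict A.toSubring h
  have hga : g a ≠ 0 := by
    intro h0
    apply hfa
    have := congrArg (Subtype.val) h0
    exact this
  have hgan : ¬ IsNilpotent (g a) := fun hn => hga (hn.eq_zero)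
  obtain ⟨P, hP, hPa, hPmax⟩ := exists_maximal_prime_disjoint (g a) hgan
  haveI : IsLocalHom (Ideal.Quotient.mk P) := by
    apply isLocalHom_of_le_jacobson_bot
    rw [IsLocalRing.jacobson_eq_maximalIdeal ⊥ bot_ne_top]
    exact IsLocalRing.le_maximalIdeal hP.ne_top
  haveI : IsLocalHom g := hloc
  refine ⟨A ⧸ P, inferInstance, inferInstance,
    Function.Surjective.valuationRing (Ideal.Quotient.mk P) Ideal.Quotient.mk_surjective,
    (Ideal.Quotient.mk P).comp g, ?_, ?_, ?_⟩
  · exact RingHom.isLocalHom_comp _ _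
  · intro h0
    exact hPa (Ideal.Quotient.eq_zero_iff_mem.mp h0)
  · intro Q hQ hQ0
    by_contra hcon
    have hQ' : (Q.comap (Ideal.Quotient.mk P)).IsPrime := Ideal.comap_isPrime _ _
    have hPQ : P ≤ Q.comap (Ideal.Quotient.mk P) := by
      intro x hx
      rw [Ideal.mem_comap, Ideal.Quotient.eq_zero_iff_mem.mpr hx]
      exact Q.zero_mem
    have h1 := hPmax _ hQ' hPQ hcon
    apply hQ0
    rw [eq_bot_iff]
    intro y hy
    obtain ⟨x, rfl⟩ := Ideal.Quotient.mk_surjective y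
    rw [Ideal.mem_bot, Ideal.Quotient.eq_zero_iff_mem]
    exact h1 hy

end Groth.Agent.Lib.Helper91.ValTest
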