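import Mathlib
import Groth.Prelude
import Groth.Agent.Lib.Helper91.ValTest1
import Groth.Agent.Lib.Helper91.RelDivLe2
import Groth.Agent.Lib.Helper91.StalkIdeal

/-!
# Testing effective Cartier ideal sheaves on valuation rings
-/

set_option autoImplicit false
universe u

open CategoryTheory CategoryTheory.Limits AlgebraicGeometry TopologicalSpace Opposite
open Groth.Agent.Lib.Helper91.StalkIdeal Groth.Agent.Lib.Helper91.RelDivLe

namespace Groth.Agent.Lib.Helper91.ValTest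

variable {X : Scheme.{u}}

theorem map_eq_map_of_comap_eq {𝓘 𝓙 : X.IdealSheafData} (U : X.affineOpens)
    {R : CommRingCat.{u}} (ψ : Γ(X, U.1) ⟶ R)
    (h : 𝓘.comap (Spec.map ψ ≫ U.2.fromSpec) = 𝓙.comap (Spec.map ψ ≫ U.2.fromSpec)) :
    (𝓘.ideal U).map ψ.hom = (𝓙.ideal U).map ψ.hom :=
  le_antisymm (map_le_map_of_comap_le U ψ h.le) (map_le_map_of_comap_le U ψ h.ge)

theorem mem_support_comap_iff (𝓘 : X.IdealSheafData) (U : X.affineOpens)
    {R : CommRingCat.{u}} (ψ : Γ(X, U.1) ⟶ R) (y : Spec R) :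
    y ∈ (𝓘.comap (Spec.map ψ ≫ U.2.fromSpec)).support ↔ (𝓘.ideal U).map ψ.hom ≤ y.asIdeal := by
  rw [Scheme.IdealSheafData.support_comap]
  show (Spec.map ψ ≫ U.2.fromSpec) y ∈ 𝓘.support ↔ _
  rw [Scheme.Hom.comp_apply]
  rw [Groth.Agent.Lib.Helper70.mem_support_iff_le_primeIdealOf 𝓘 U _
    (Groth.Agent.Lib.Helper70.fromSpec_mem U.2 _),
    Groth.Agent.Lib.Helper70.primeIdealOf_fromSpec U.2, Ideal.map_le_iff_le_comap]
  rfl

theorem isEffCartierIdeal_comap (𝓘 : X.IdealSheafData) (U : X.affineOpens)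
    {R : CommRingCat.{u}} (ψ : Γ(X, U.1) ⟶ R) (r : R) (hr : r ∈ nonZeroDivisors R)
    (h : (𝓘.ideal U).map ψ.hom = Ideal.span {r}) :
    BlowUp.IsEffCartierIdeal (𝓘.comap (Spec.map ψ ≫ U.2.fromSpec)) := by
  intro y
  refine ⟨⟨⊤, isAffineOpen_top (Spec R)⟩, trivial, (Scheme.ΓSpecIso R).inv.hom r, ?_, ?_⟩
  · rw [mem_nonZeroDivisors_iff_right]
    intro b hb
    have h1 : (Scheme.ΓSpecIso R).hom.hom (b * (Scheme.ΓSpecIso R).inv.hom r) = 0 := by
      rw [hb, map_zero]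
    rw [map_mul] at h1
    have h2 : (Scheme.ΓSpecIso R).hom.hom ((Scheme.ΓSpecIso R).inv.hom r) = r := by
      rw [← CommRingCat.comp_apply, Iso.inv_hom_id]
      rfl
    rw [h2] at h1
    have h3 := (mem_nonZeroDivisors_iff_right.mp hr) _ h1
    have h4 : (Scheme.ΓSpecIso R).inv.hom ((Scheme.ΓSpecIso R).hom.hom b) = b := by
      rw [← CommRingCat.comp_apply, Iso.hom_inv_id]
      rfl
    rw [← h4, h3, map_zero]
  · rw [ideal_comap_SpecMap_fromSpec, h, Ideal.map_span, Set.image_singleton]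

end Groth.Agent.Lib.Helper91.ValTest
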