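import Mathlib
import Groth.Agent.Lib.Helper91.ValTest2

/-!
# Valuative tests for effective Cartier ideal sheaves
-/

set_option autoImplicit false
universe u

open CategoryTheory CategoryTheory.Limits AlgebraicGeometry TopologicalSpace Opposite
open Groth.Agent.Lib.Helper91.StalkIdeal Groth.Agent.Lib.Helper91.RelDivLe

namespace Groth.Agent.Lib.Helper91.ValTest

variable {X : Scheme.{u}}

theorem germ_mem_nonZeroDivisors (U : X.affineOpens) (x : X) (hxU : x ∈ U.1) (f : Γ(X, U.1))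
    (hf : f ∈ nonZeroDivisors Γ(X, U.1)) :
    X.presheaf.germ U.1 x hxU f ∈ nonZeroDivisors (X.presheaf.stalk x) := by
  letI ax : Algebra Γ(X, U.1) (X.presheaf.stalk x) :=
    TopCat.Presheaf.algebra_section_stalk X.presheaf ⟨x, hxU⟩
  haveI lx : IsLocalization.AtPrime (X.presheaf.stalk x) (U.2.primeIdealOf ⟨x, hxU⟩).asIdeal :=
    U.2.isLocalization_stalk ⟨x, hxU⟩
  exact IsLocalization.map_nonZeroDivisors_le (U.2.primeIdealOf ⟨x, hxU⟩).asIdeal.primeCompl
    (X.presheaf.stalk x) ⟨f, hf, rfl⟩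

theorem not_isNilpotent_of_mem_nonZeroDivisors {O : Type*} [CommRing O] [Nontrivial O] (a : O)
    (ha : a ∈ nonZeroDivisors O) : ¬ IsNilpotent a := by
  rintro ⟨n, hn⟩
  have h1 : a ^ n ∈ nonZeroDivisors O := pow_mem ha n
  rw [hn] at h1
  exact zero_notMem_nonZeroDivisors h1

theorem stalkIdeal_le_of_valuative (I J : X.IdealSheafData)
    (hI : BlowUp.IsEffCartierIdeal I) (hJ : BlowUp.IsEffCartierIdeal J) (hJI : J ≤ I)
    (h : ∀ (R : Type u) [CommRing R] [IsDomain R] [ValuationRing R]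
      (p : Spec (CommRingCat.of R) ⟶ X), BlowUp.IsEffCartierIdeal (I.comap p) →
        (∀ x : Spec (CommRingCat.of R),
          x ∈ (ModPair.interior (I.comap p) : Set (Spec (CommRingCat.of R))) ↔ x.asIdeal = ⊥) →
        I.comap p = J.comap p) (x : X) :
    stalkIdeal I x ≤ stalkIdeal J x := by
  obtain ⟨U, hxU, f, hf, hfI⟩ := hI x
  obtain ⟨π, hπ, hJπ⟩ := exists_generator hJ x
  have hIa : stalkIdeal I x = Ideal.span {X.presheaf.germ U.1 x hxU f} := by
    rw [stalkIdeal_eq I U hxU, hfI, Ideal.map_span, Set.image_singleton]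
  have ha_nn := not_isNilpotent_of_mem_nonZeroDivisors _ (germ_mem_nonZeroDivisors U x hxU f hf)
  have hπa : π ∈ Ideal.span {X.presheaf.germ U.1 x hxU f} := by
    rw [← hIa]
    apply stalkIdeal_mono hJI x
    rw [hJπ]
    exact Ideal.mem_span_singleton_self π
  obtain ⟨c, hc⟩ := Ideal.mem_span_singleton'.mp hπa
  obtain ⟨R, instR, instD, instV, ψ', hloc, hψa, hprime⟩ :=
    exists_valuationRing_test (X.presheaf.stalk x) _ ha_nn
  have hmapI : (I.ideal U).map
      (X.presheaf.germ U.1 x hxU ≫ CommRingCat.ofHom ψ').hom =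
        Ideal.span {ψ' (X.presheaf.germ U.1 x hxU f)} := by
    rw [hfI, Ideal.map_span, Set.image_singleton]
    rfl
  have hmapJ : (J.ideal U).map
      (X.presheaf.germ U.1 x hxU ≫ CommRingCat.ofHom ψ').hom = Ideal.span {ψ' π} := by
    have h1 : (X.presheaf.germ U.1 x hxU ≫ CommRingCat.ofHom ψ').hom =
        ψ'.comp (X.presheaf.germ U.1 x hxU).hom := rfl
    rw [h1, ← Ideal.map_map, ← stalkIdeal_eq J U hxU, hJπ, Ideal.map_span, Set.image_singleton]
  have hEff := isEffCartierIdeal_comap I U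
    (X.presheaf.germ U.1 x hxU ≫ CommRingCat.ofHom ψ') (ψ' (X.presheaf.germ U.1 x hxU f))
    (mem_nonZeroDivisors_of_ne_zero hψa) hmapI
  have hInt : ∀ y : Spec (CommRingCat.of R),
      y ∈ (ModPair.interior (I.comap (Spec.map (X.presheaf.germ U.1 x hxU ≫
        CommRingCat.ofHom ψ') ≫ U.2.fromSpec)) : Set (Spec (CommRingCat.of R))) ↔
        y.asIdeal = ⊥ := by
    intro y
    show ¬ (y ∈ (I.comap (Spec.map (X.presheaf.germ U.1 x hxU ≫
        CommRingCat.ofHom ψ') ≫ U.2.fromSpec)).support) ↔ _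
    rw [mem_support_comap_iff, hmapI, Ideal.span_singleton_le_iff_mem]
    constructor
    · intro hn
      by_contra hne
      exact hn (hprime y.asIdeal y.isPrime hne)
    · intro hy hmem
      rw [hy] at hmem
      exact hψa ((Ideal.mem_bot).mp hmem)
  have heq := h R _ hEff hInt
  have hmaps := map_eq_map_of_comap_eq U _ heq
  rw [hmapI, hmapJ] at hmaps
  have hmem : ψ' (X.presheaf.germ U.1 x hxU f) ∈ Ideal.span {ψ' π} := by
    rw [← hmaps]
    exact Ideal.mem_span_singleton_self _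
  obtain ⟨t, ht⟩ := Ideal.mem_span_singleton'.mp hmem
  rw [← hc, map_mul] at ht
  have h2 : (t * ψ' c) * ψ' (X.presheaf.germ U.1 x hxU f) =
      1 * ψ' (X.presheaf.germ U.1 x hxU f) := by
    rw [one_mul, mul_assoc]
    exact ht
  have h1 := mul_right_cancel₀ hψa h2
  have hcu : IsUnit (ψ' c) := IsUnit.of_mul_eq_one t ((mul_comm _ _).trans h1)
  have hc_unit : IsUnit c := isUnit_of_map_unit ψ' c hcu
  rw [hIa, hJπ, Ideal.span_singleton_le_span_singleton]
  obtain ⟨u, hu⟩ := hc_unit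
  refine ⟨(↑u⁻¹ : (X.presheaf.stalk x)ˣ), ?_⟩
  rw [← hc, ← hu, mul_comm, ← mul_assoc, Units.inv_mul, one_mul]

theorem eq_top_of_valuative (I : X.IdealSheafData) (hI : BlowUp.IsEffCartierIdeal I)
    (h : ∀ (R : Type u) [CommRing R] [IsDomain R] [ValuationRing R]
      (p : Spec (CommRingCat.of R) ⟶ X), BlowUp.IsEffCartierIdeal (I.comap p) →
        I.comap p = ⊤) : I = ⊤ := by
  apply eq_of_forall_stalkIdeal_eq
  intro x
  obtain ⟨U, hxU, f, hf, hfI⟩ := hI x
  have hIa : stalkIdeal I x = Ideal.span {X.presheaf.germ U.1 x hxU f} := by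
    rw [stalkIdeal_eq I U hxU, hfI, Ideal.map_span, Set.image_singleton]
  have ha_nn := not_isNilpotent_of_mem_nonZeroDivisors _ (germ_mem_nonZeroDivisors U x hxU f hf)
  obtain ⟨R, instR, instD, instV, ψ', hloc, hψa, hprime⟩ :=
    exists_valuationRing_test (X.presheaf.stalk x) _ ha_nn
  have hmapI : (I.ideal U).map
      (X.presheaf.germ U.1 x hxU ≫ CommRingCat.ofHom ψ').hom =
        Ideal.span {ψ' (X.presheaf.germ U.1 x hxU f)} := by
    rw [hfI, Ideal.map_span, Set.image_singleton]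
    rfl
  have hEff := isEffCartierIdeal_comap I U
    (X.presheaf.germ U.1 x hxU ≫ CommRingCat.ofHom ψ') (ψ' (X.presheaf.germ U.1 x hxU f))
    (mem_nonZeroDivisors_of_ne_zero hψa) hmapI
  have heq := h R _ hEff
  rw [← Scheme.IdealSheafData.comap_top (Spec.map (X.presheaf.germ U.1 x hxU ≫
    CommRingCat.ofHom ψ') ≫ U.2.fromSpec)] at heq
  have hmaps := map_eq_map_of_comap_eq U _ heq
  have htop : (⊤ : X.IdealSheafData).ideal U = (⊤ : Ideal Γ(X, U.1)) := rfl
  rw [hmapI, htop] at hmaps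
  have h1 : (⊤ : Ideal Γ(X, U.1)).map
      (X.presheaf.germ U.1 x hxU ≫ CommRingCat.ofHom ψ').hom = ⊤ := by
    rw [Ideal.eq_top_iff_one]
    have : (1 : R) = (X.presheaf.germ U.1 x hxU ≫ CommRingCat.ofHom ψ').hom 1 := (map_one _).symm
    rw [this]
    exact Ideal.mem_map_of_mem _ Submodule.mem_top
  rw [h1, Ideal.span_singleton_eq_top] at hmaps
  have hau : IsUnit (X.presheaf.germ U.1 x hxU f) := isUnit_of_map_unit ψ' _ hmaps
  rw [hIa, stalkIdeal_eq _ U hxU, htop]
  rw [Ideal.span_singleton_eq_top.mpr hau]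
  symm
  rw [Ideal.eq_top_iff_one]
  have : (1 : X.presheaf.stalk x) = (X.presheaf.germ U.1 x hxU).hom 1 := (map_one _).symm
  rw [this]
  exact Ideal.mem_map_of_mem _ Submodule.mem_top

end Groth.Agent.Lib.Helper91.ValTest
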