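import Mathlib
import Groth.Prelude
import Groth.Agent.Lib.Helper91.NormalDiv2
import Groth.Agent.Lib.Helper91.NormalDiv3
import Groth.Agent.Lib.Helper91.StalkIdealComap
import Groth.Agent.Lib.Helper91.ValTest3

/-!
# Effective Cartier divisors on a normal scheme with equal pullbacks along a proper dominant
morphism are equal (helper91)
-/

set_option autoImplicit false

namespace Groth.Agent.Lib.Helper91.NormalDiv

universe u

open AlgebraicGeometry CategoryTheory Opposite TopologicalSpace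
  Groth.Agent.Lib.Helper91.StalkIdeal

variable {S S' : Scheme.{u}}

theorem stalkIdeal_eq_of_comap_eq (f : S' ⟶ S) (U : S.Opens)
    (hU' : CInt.IsSchematicallyDense (f ⁻¹ᵁ U)) (D E : S.IdealSheafData)
    (hD : BlowUp.IsEffCartierIdeal D) (hE : BlowUp.IsEffCartierIdeal E)
    (hDU : (D.support : Set S) ⊆ (U : Set S)ᶜ) (hEU : (E.support : Set S) ⊆ (U : Set S)ᶜ)
    (h : D.comap f = E.comap f) (ξ' : S') [IsDomain (S.presheaf.stalk (f ξ'))]
    [IsDiscreteValuationRing (S.presheaf.stalk (f ξ'))] :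
    stalkIdeal D (f ξ') = stalkIdeal E (f ξ') := by
  -- a common treatment of `D` and `E`
  have aux : ∀ (F : S.IdealSheafData), BlowUp.IsEffCartierIdeal F →
      (F.support : Set S) ⊆ (U : Set S)ᶜ →
      ∃ d : S.presheaf.stalk (f ξ'), d ≠ 0 ∧ stalkIdeal F (f ξ') = Ideal.span {d} ∧
        (f.stalkMap ξ').hom d ∈ nonZeroDivisors (S'.presheaf.stalk ξ') ∧
        stalkIdeal (F.comap f) ξ' = Ideal.span {(f.stalkMap ξ').hom d} := by
    intro F hF hFU
    obtain ⟨V, hV, g, hg, hFg⟩ := hF (f ξ')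
    obtain ⟨_, ⟨V', hV'aff, rfl⟩, hξV', hV'V⟩ :=
      (S'.isBasis_affineOpens).exists_subset_of_mem_open
        (show ξ' ∈ ((f ⁻¹ᵁ V.1 : S'.Opens) : Set S') from hV) (f ⁻¹ᵁ V.1).isOpen
    have hFd : stalkIdeal F (f ξ') = Ideal.span {S.presheaf.germ V.1 (f ξ') hV g} := by
      rw [stalkIdeal_eq F V hV, hFg, Ideal.map_span, Set.image_singleton]
    have hnz := Groth.Agent.Lib.Helper91.ValTest.germ_mem_nonZeroDivisors V (f ξ') hV g hg
    have hφ : (f.stalkMap ξ').hom (S.presheaf.germ V.1 (f ξ') hV g) =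
        S'.presheaf.germ V' ξ' hξV' ((f.appLE V.1 V' hV'V).hom g) := by
      have := congr($(appLE_germ f V.1 V' hV'V ξ' hξV') g)
      exact this.symm
    refine ⟨_, nonZeroDivisors.ne_zero hnz, hFd, ?_, ?_⟩
    · rw [hφ]
      exact Groth.Agent.Lib.Helper91.ValTest.germ_mem_nonZeroDivisors ⟨V', hV'aff⟩ ξ' hξV' _
        (appLE_mem_nonZeroDivisors f U hU' F hFU V g hFg V' hV'V)
    · rw [stalkIdeal_comap, hFd, Ideal.map_span, Set.image_singleton]
  obtain ⟨d, hd0, hDd, hφd, hDc⟩ := aux D hD hDU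
  obtain ⟨e, he0, hEe, hφe, hEc⟩ := aux E hE hEU
  rw [hDd, hEe]
  have heq : Ideal.span {(f.stalkMap ξ').hom d} = Ideal.span {(f.stalkMap ξ').hom e} := by
    rw [← hDc, ← hEc, h]
  exact span_eq_of_map_eq (f.stalkMap ξ').hom d e hd0 he0 hφd hφe heq

theorem eq_of_comap_eq [IsLocallyNoetherian S]
    (hnorm : ∀ x : S, IsDomain (S.presheaf.stalk x) ∧ IsIntegrallyClosed (S.presheaf.stalk x))
    (f : S' ⟶ S) [IsProper f] (hdom : f.ker = ⊥) (U : S.Opens)
    (hU' : CInt.IsSchematicallyDense (f ⁻¹ᵁ U)) (D E : S.IdealSheafData)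
    (hD : BlowUp.IsEffCartierIdeal D) (hE : BlowUp.IsEffCartierIdeal E)
    (hDU : (D.support : Set S) ⊆ (U : Set S)ᶜ) (hEU : (E.support : Set S) ⊆ (U : Set S)ᶜ)
    (h : D.comap f = E.comap f) : D = E := by
  have hsurj : Function.Surjective f := by
    have h1 : (f.ker.support : Set S) = closure (Set.range f) := by
      rw [Scheme.Hom.support_ker]
    rw [hdom, Scheme.IdealSheafData.support_bot] at h1
    have hcl : IsClosed (Set.range f) := f.isClosedMap.isClosed_range
    rw [hcl.closure_eq] at h1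
    intro y
    have : y ∈ Set.range f := by
      rw [← h1]; trivial
    exact this
  have key : ∀ ξ : S, (∃ _ : IsDomain (S.presheaf.stalk ξ),
      IsDiscreteValuationRing (S.presheaf.stalk ξ)) → stalkIdeal D ξ = stalkIdeal E ξ := by
    rintro ξ ⟨hdom, hdvr⟩
    obtain ⟨ξ', rfl⟩ := hsurj ξ
    exact stalkIdeal_eq_of_comap_eq f U hU' D E hD hE hDU hEU h ξ'
  exact le_antisymm (le_of_dvr hnorm E D hE hD fun ξ hξ => (key ξ hξ).le)
    (le_of_dvr hnorm D E hD hE fun ξ hξ => (key ξ hξ).ge)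

end Groth.Agent.Lib.Helper91.NormalDiv
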