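import Mathlib.RingTheory.PowerSeries.Derivative
import Mathlib.RingTheory.PowerSeries.Substitution
import Mathlib.RingTheory.MvPowerSeries.Derivative

/-! Chain rule for partial derivatives of a one-variable power series substituted
into a multivariate one. -/

namespace Groth.Agent.Lib.Helper91

open PowerSeries

variable {R : Type*} [CommRing R] {τ : Type*}

/-- for a substitutable `a`, coefficients of high powers vanish uniformly below a given degree -/
theorem exists_forall_coeff_pow_eq_zero {a : MvPowerSeries τ R} (ha : PowerSeries.HasSubst a)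
    (N : ℕ) : ∃ m : ℕ, ∀ d, m ≤ d → ∀ e : τ →₀ ℕ, e.degree ≤ N →
      MvPowerSeries.coeff e (a ^ d) = 0 := by
  obtain ⟨k, hk⟩ := id ha
  refine ⟨k + N, fun d hd e he => ?_⟩
  exact MvPowerSeries.coeff_eq_zero_of_constantCoeff_nilpotent hk (by omega)

private theorem pderiv_subst_coe (s : τ) {a : MvPowerSeries τ R} (ha : PowerSeries.HasSubst a)
    (p : Polynomial R) :
    MvPowerSeries.pderiv R s ((p : PowerSeries R).subst a) =
      (PowerSeries.derivative R (p : PowerSeries R)).subst a * MvPowerSeries.pderiv R s a := by
  simp [subst_coe ha, derivative_coe, Derivation.comp_aeval_eq (a := a) (MvPowerSeries.pderiv R s) p,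
    smul_eq_mul]

theorem pderiv_subst (s : τ) {a : MvPowerSeries τ R} (ha : PowerSeries.HasSubst a)
    (f : PowerSeries R) :
    MvPowerSeries.pderiv R s (f.subst a) =
      (PowerSeries.derivative R f).subst a * MvPowerSeries.pderiv R s a := by
  classical
  ext n
  obtain ⟨m, hm⟩ := exists_forall_coeff_pow_eq_zero ha (n.degree + 1)
  have key : MvPowerSeries.coeff (n + Finsupp.single s 1) (f.subst a) =
      MvPowerSeries.coeff (n + Finsupp.single s 1)
        ((↑(trunc (m + 1) f) : PowerSeries R).subst a) := by
    rw [coeff_subst ha, coeff_subst ha]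
    refine finsum_congr fun d ↦ ?_
    obtain hd | hd := lt_or_ge d m
    · rw [coeff_coe_trunc_of_lt (by omega)]
    · rw [hm d hd _ (by rw [map_add, Finsupp.degree_single]), smul_zero, smul_zero]
  rw [MvPowerSeries.coeff_pderiv, key, ← MvPowerSeries.coeff_pderiv, pderiv_subst_coe s ha,
    MvPowerSeries.coeff_mul, MvPowerSeries.coeff_mul]
  refine Finset.sum_congr rfl fun ⟨i, j⟩ hij ↦ ?_
  congr 1
  have hi : i.degree ≤ n.degree + 1 := by
    have : i + j = n := by simpa using hij
    rw [← this, map_add]; omega
  simp only [coeff_subst ha, coeff_derivative, Polynomial.coeff_coe, coeff_trunc]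
  refine finsum_congr fun d ↦ ?_
  split_ifs with h
  · rfl
  · rw [hm d (by omega) i hi]; simp

end Groth.Agent.Lib.Helper91
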