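import Mathlib

/-!
# Plücker inequality for finite-dimensional spaces of polynomials (characteristic zero)

For a subspace `V` of `k[X]` of dimension `r + 1` consisting of polynomials of degree `≤ d`,
the sum of the "vanishing sums" at finitely many points `a ∈ S` and at infinity is bounded:
`∑_{a ∈ S} sA V a d + sB V d + r(r+1)/2 ≤ (r+1) d + |S| r(r+1)/2`
(after possibly enlarging `S`). The proof is by induction on `r` using the map
`g ↦ g' f₀ - g f₀'`.
-/

namespace Groth.Agent.Lib.Helper91.PolyPlucker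

open Polynomial Module

section linalg

variable {k E E' : Type*} [Field k] [AddCommGroup E] [Module k E] [AddCommGroup E'] [Module k E']

theorem finrank_le_map_add (ω : E →ₗ[k] E') (U : Submodule k E) [FiniteDimensional k U]
    (K₀ : Submodule k E) (hker : ∀ u ∈ U, ω u = 0 → u ∈ K₀) :
    finrank k U ≤ finrank k (U.map ω) + finrank k ↥(K₀ ⊓ U) := by
  have h1 := LinearMap.finrank_range_add_finrank_ker (ω.domRestrict U)
  rw [LinearMap.range_domRestrict] at h1
  have h2 : finrank k ↥(LinearMap.ker (ω.domRestrict U)) ≤ finrank k ↥(K₀ ⊓ U) := by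
    have hinj : Function.Injective U.subtype := U.injective_subtype
    have h3 := LinearEquiv.finrank_eq
      (Submodule.equivMapOfInjective U.subtype hinj (LinearMap.ker (ω.domRestrict U)))
    rw [h3]
    have : FiniteDimensional k ↥(K₀ ⊓ U) := Submodule.finiteDimensional_of_le inf_le_right
    apply Submodule.finrank_mono
    rintro _ ⟨⟨u, hu⟩, hmem, rfl⟩
    rw [SetLike.mem_coe, LinearMap.mem_ker, LinearMap.domRestrict_apply] at hmem
    exact ⟨hker u hu hmem, hu⟩
  omega

end linalg

variable {k : Type*} [Field k]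

/-- multiples of `(X - a)^n` as a `k`-submodule -/
noncomputable def I (a : k) (n : ℕ) : Submodule k k[X] :=
  (Ideal.span {(X - C a) ^ n}).restrictScalars k

theorem mem_I {a : k} {n : ℕ} {p : k[X]} : p ∈ I a n ↔ (X - C a) ^ n ∣ p := by
  unfold I
  rw [Submodule.restrictScalars_mem, Ideal.mem_span_singleton]

/-- the Wronskian-type map `g ↦ g' f₀ - g f₀'` -/
noncomputable def om (f₀ : k[X]) : k[X] →ₗ[k] k[X] :=
  (LinearMap.mulRight k f₀).comp (derivative : k[X] →ₗ[k] k[X]) -
    LinearMap.mulRight k (derivative f₀)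

theorem om_apply (f₀ g : k[X]) : om f₀ g = derivative g * f₀ - g * derivative f₀ := by
  simp [om]

theorem om_self (f₀ : k[X]) : om f₀ f₀ = 0 := by
  rw [om_apply, mul_comm, sub_self]

theorem om_dvd (f₀ g : k[X]) (a : k) (n c : ℕ) (hg : (X - C a) ^ n ∣ g)
    (hf : (X - C a) ^ c ∣ f₀) : (X - C a) ^ (n + c - 1) ∣ om f₀ g := by
  rw [om_apply]
  apply dvd_sub
  · have h1 := pow_sub_one_dvd_derivative_of_pow_dvd hg
    have h2 := mul_dvd_mul h1 hf
    rw [← pow_add] at h2
    exact (pow_dvd_pow _ (by omega)).trans h2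
  · have h1 := pow_sub_one_dvd_derivative_of_pow_dvd hf
    have h2 := mul_dvd_mul hg h1
    rw [← pow_add] at h2
    exact (pow_dvd_pow _ (by omega)).trans h2

theorem om_mem_degreeLT (f₀ g : k[X]) (m e : ℕ) (he : 1 ≤ e) (hf : natDegree f₀ ≤ e)
    (hg : g ∈ degreeLT k (m + 1)) : om f₀ g ∈ degreeLT k (m + e) := by
  rw [mem_degreeLT] at hg ⊢
  rw [om_apply]
  have hgm : natDegree g ≤ m := by
    by_cases hg0 : g = 0
    · rw [hg0]; simp
    · have := (natDegree_lt_iff_degree_lt hg0).mpr hg
      omega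
  have hbound : ∀ p : k[X], natDegree p ≤ m + e - 1 → degree p < ((m + e : ℕ) : WithBot ℕ) := by
    intro p hp
    by_cases hp0 : p = 0
    · rw [hp0, degree_zero]; exact WithBot.bot_lt_coe _
    · rw [← natDegree_lt_iff_degree_lt hp0]; omega
  apply hbound
  refine (natDegree_sub_le _ _).trans (max_le ?_ ?_)
  · by_cases hd : derivative g = 0
    · rw [hd, zero_mul]; simp
    · have h1 : natDegree (derivative g) ≤ natDegree g - 1 := natDegree_derivative_le g
      have h2 : natDegree g ≠ 0 := by
        intro h0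
        apply hd
        rw [eq_C_of_natDegree_eq_zero h0, derivative_C]
      exact natDegree_mul_le.trans (by omega)
  · have h1 : natDegree (derivative f₀) ≤ natDegree f₀ - 1 := natDegree_derivative_le f₀
    exact natDegree_mul_le.trans (by omega)

theorem natDegree_eq_of_om_eq_zero [CharZero k] {f₀ g : k[X]} (hf : f₀ ≠ 0) (hg : g ≠ 0)
    (h : om f₀ g = 0) : natDegree g = natDegree f₀ := by
  rw [om_apply, sub_eq_zero] at h
  have h1 := congrArg leadingCoeff h
  rw [leadingCoeff_mul, leadingCoeff_mul, leadingCoeff_derivative, leadingCoeff_derivative] at h1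
  have hlg : leadingCoeff g ≠ 0 := leadingCoeff_ne_zero.mpr hg
  have hlf : leadingCoeff f₀ ≠ 0 := leadingCoeff_ne_zero.mpr hf
  have h2 : (leadingCoeff g * leadingCoeff f₀) * ((natDegree g : k) - (natDegree f₀ : k)) = 0 := by
    linear_combination h1
  rcases mul_eq_zero.mp h2 with h3 | h3
  · exact absurd h3 (mul_ne_zero hlg hlf)
  · exact Nat.cast_injective (sub_eq_zero.mp h3)

theorem om_ker [CharZero k] {f₀ g : k[X]} (hf : f₀ ≠ 0) (h : om f₀ g = 0) :
    g ∈ Submodule.span k {f₀} := by
  rw [Submodule.mem_span_singleton]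
  by_cases hg : g = 0
  · exact ⟨0, by rw [hg, zero_smul]⟩
  have hdeg := natDegree_eq_of_om_eq_zero hf hg h
  have hlf : leadingCoeff f₀ ≠ 0 := leadingCoeff_ne_zero.mpr hf
  set c : k := leadingCoeff g / leadingCoeff f₀ with hc
  refine ⟨c, ?_⟩
  by_contra hne
  have hg1 : g - c • f₀ ≠ 0 := fun h0 => hne (sub_eq_zero.mp h0).symm
  have hom : om f₀ (g - c • f₀) = 0 := by
    rw [map_sub, map_smul, om_self, smul_zero, sub_zero, h]
  have hdeg1 := natDegree_eq_of_om_eq_zero hf hg1 hom
  have hc0 : c ≠ 0 := div_ne_zero (leadingCoeff_ne_zero.mpr hg) hlf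
  have hd : degree g = degree (c • f₀) := by
    rw [degree_smul_of_smul_regular f₀ (IsSMulRegular.of_ne_zero hc0)]
    rw [degree_eq_natDegree hg, degree_eq_natDegree hf, hdeg]
  have hlc : leadingCoeff g = leadingCoeff (c • f₀) := by
    rw [leadingCoeff_smul_of_smul_regular f₀ (IsSMulRegular.of_ne_zero hc0), hc, smul_eq_mul,
      div_mul_cancel₀ _ hlf]
  have hlt := degree_sub_lt_left hd hg hlc
  rw [degree_eq_natDegree hg1, degree_eq_natDegree hg, hdeg1, hdeg] at hlt
  exact lt_irrefl _ hlt

theorem finrank_span_inf_I_le {f : k[X]} (hf : f ≠ 0) (a : k) (n : ℕ) :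
    finrank k ↥(Submodule.span k {f} ⊓ I a n) ≤ if n ≤ rootMultiplicity a f then 1 else 0 := by
  split_ifs with h
  · calc finrank k ↥(Submodule.span k {f} ⊓ I a n) ≤ finrank k ↥(Submodule.span k {f}) :=
          Submodule.finrank_mono inf_le_left
      _ ≤ 1 := (finrank_span_singleton hf).le
  · have hbot : Submodule.span k {f} ⊓ I a n = ⊥ := by
      rw [eq_bot_iff]
      rintro p ⟨hp1, hp2⟩
      obtain ⟨c, rfl⟩ := Submodule.mem_span_singleton.mp hp1
      rw [SetLike.mem_coe, mem_I] at hp2
      rw [Submodule.mem_bot]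
      by_contra hne
      have hc : c ≠ 0 := by
        rintro rfl
        exact hne (zero_smul _ _)
      apply h
      rw [le_rootMultiplicity_iff hf]
      rw [smul_eq_C_mul] at hp2
      exact (IsUnit.dvd_mul_left (isUnit_C.mpr (Ne.isUnit hc))).mp hp2
    rw [hbot, finrank_bot]

theorem finrank_span_inf_degreeLT_le {f : k[X]} (hf : f ≠ 0) (m : ℕ) :
    finrank k ↥(Submodule.span k {f} ⊓ degreeLT k (m + 1)) ≤ if natDegree f ≤ m then 1 else 0 := by
  split_ifs with h
  · calc finrank k ↥(Submodule.span k {f} ⊓ degreeLT k (m + 1)) ≤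
          finrank k ↥(Submodule.span k {f}) := Submodule.finrank_mono inf_le_left
      _ ≤ 1 := (finrank_span_singleton hf).le
  · have hbot : Submodule.span k {f} ⊓ degreeLT k (m + 1) = ⊥ := by
      rw [eq_bot_iff]
      rintro p ⟨hp1, hp2⟩
      obtain ⟨c, rfl⟩ := Submodule.mem_span_singleton.mp hp1
      rw [SetLike.mem_coe, mem_degreeLT] at hp2
      rw [Submodule.mem_bot]
      by_contra hne
      have hc : c ≠ 0 := by
        rintro rfl
        exact hne (zero_smul _ _)
      apply h
      rw [degree_smul_of_smul_regular f (IsSMulRegular.of_ne_zero hc)] at hp2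
      have := (natDegree_lt_iff_degree_lt hf).mpr hp2
      omega
    rw [hbot, finrank_bot]

/-- `D1`: the dimension count at a finite point. -/
theorem A_le [CharZero k] (V : Submodule k k[X]) [FiniteDimensional k V] {f₀ : k[X]}
    (hf : f₀ ≠ 0) (a : k) (n : ℕ) :
    finrank k ↥(V ⊓ I a n) ≤
      finrank k ↥(V.map (om f₀) ⊓ I a (n + rootMultiplicity a f₀ - 1)) +
        (if n ≤ rootMultiplicity a f₀ then 1 else 0) := by
  have hU : FiniteDimensional k ↥(V ⊓ I a n) := Submodule.finiteDimensional_of_le inf_le_left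
  have h1 := finrank_le_map_add (om f₀) (V ⊓ I a n) (Submodule.span k {f₀})
    (fun u _ hu0 => om_ker hf hu0)
  have hV1 : FiniteDimensional k ↥(V.map (om f₀)) := inferInstance
  have hV1' : FiniteDimensional k ↥(V.map (om f₀) ⊓ I a (n + rootMultiplicity a f₀ - 1)) :=
    Submodule.finiteDimensional_of_le inf_le_left
  have h2 : finrank k ↥((V ⊓ I a n).map (om f₀)) ≤
      finrank k ↥(V.map (om f₀) ⊓ I a (n + rootMultiplicity a f₀ - 1)) := by
    apply Submodule.finrank_mono
    rintro _ ⟨g, ⟨hgV, hgI⟩, rfl⟩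
    refine ⟨⟨g, hgV, rfl⟩, ?_⟩
    rw [SetLike.mem_coe, mem_I] at hgI ⊢
    exact om_dvd f₀ g a n _ hgI (pow_rootMultiplicity_dvd f₀ a)
  have hS : FiniteDimensional k ↥(Submodule.span k {f₀} ⊓ I a n) :=
    Submodule.finiteDimensional_of_le inf_le_left
  have h3 : finrank k ↥(Submodule.span k {f₀} ⊓ (V ⊓ I a n)) ≤
      finrank k ↥(Submodule.span k {f₀} ⊓ I a n) :=
    Submodule.finrank_mono (inf_le_inf_left _ inf_le_right)
  have h4 := finrank_span_inf_I_le hf a n
  omega

/-- `D2`: the dimension count at infinity. -/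
theorem B_le [CharZero k] (V : Submodule k k[X]) [FiniteDimensional k V] {f₀ : k[X]}
    (hf : f₀ ≠ 0) (he : 1 ≤ natDegree f₀) (m : ℕ) :
    finrank k ↥(V ⊓ degreeLT k (m + 1)) ≤
      finrank k ↥(V.map (om f₀) ⊓ degreeLT k (m + natDegree f₀)) +
        (if natDegree f₀ ≤ m then 1 else 0) := by
  have hU : FiniteDimensional k ↥(V ⊓ degreeLT k (m + 1)) :=
    Submodule.finiteDimensional_of_le inf_le_left
  have h1 := finrank_le_map_add (om f₀) (V ⊓ degreeLT k (m + 1)) (Submodule.span k {f₀})
    (fun u _ hu0 => om_ker hf hu0)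
  have hV1 : FiniteDimensional k ↥(V.map (om f₀)) := inferInstance
  have hV1' : FiniteDimensional k ↥(V.map (om f₀) ⊓ degreeLT k (m + natDegree f₀)) :=
    Submodule.finiteDimensional_of_le inf_le_left
  have h2 : finrank k ↥((V ⊓ degreeLT k (m + 1)).map (om f₀)) ≤
      finrank k ↥(V.map (om f₀) ⊓ degreeLT k (m + natDegree f₀)) := by
    apply Submodule.finrank_mono
    rintro _ ⟨g, ⟨hgV, hgI⟩, rfl⟩
    exact ⟨⟨g, hgV, rfl⟩, om_mem_degreeLT f₀ g m _ he le_rfl hgI⟩
  have hS : FiniteDimensional k ↥(Submodule.span k {f₀} ⊓ degreeLT k (m + 1)) :=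
    Submodule.finiteDimensional_of_le inf_le_left
  have h3 : finrank k ↥(Submodule.span k {f₀} ⊓ (V ⊓ degreeLT k (m + 1))) ≤
      finrank k ↥(Submodule.span k {f₀} ⊓ degreeLT k (m + 1)) :=
    Submodule.finrank_mono (inf_le_inf_left _ inf_le_right)
  have h4 := finrank_span_inf_degreeLT_le hf m
  omega

/-- sum of the dimensions of `V(-n a)`, `1 ≤ n ≤ d` -/
noncomputable def sA (V : Submodule k k[X]) (a : k) (d : ℕ) : ℕ :=
  ∑ n ∈ Finset.range d, finrank k ↥(V ⊓ I a (n + 1))

/-- sum of the dimensions of `V ∩ {deg ≤ m}`, `0 ≤ m < d` -/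
noncomputable def sB (V : Submodule k k[X]) (d : ℕ) : ℕ :=
  ∑ m ∈ Finset.range d, finrank k ↥(V ⊓ degreeLT k (m + 1))

theorem sum_ind_le (c d : ℕ) :
    (∑ n ∈ Finset.range d, if n + 1 ≤ c then 1 else 0) ≤ c := by
  rw [Finset.sum_boole]
  have : (Finset.range d).filter (fun n => n + 1 ≤ c) ⊆ Finset.range c := by
    intro n hn
    rw [Finset.mem_filter] at hn
    rw [Finset.mem_range]
    omega
  simpa using Finset.card_le_card this

theorem sum_ind_ge_le (e d : ℕ) :
    (∑ m ∈ Finset.range d, if e ≤ m then 1 else 0) ≤ d - e := by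
  rw [Finset.sum_boole]
  have : (Finset.range d).filter (fun m => e ≤ m) ⊆ Finset.Ico e d := by
    intro n hn
    rw [Finset.mem_filter, Finset.mem_range] at hn
    rw [Finset.mem_Ico]
    omega
  simpa using Finset.card_le_card this

/-- `(†a)` -/
theorem sA_le [CharZero k] (V : Submodule k k[X]) [FiniteDimensional k V] {f₀ : k[X]}
    (hf : f₀ ≠ 0) (he : 1 ≤ natDegree f₀) (a : k) (d ρ : ℕ) (hρ1 : 1 ≤ ρ)
    (hρ : finrank k ↥(V.map (om f₀)) = ρ) :
    sA V a d + (ρ - 1) * rootMultiplicity a f₀ ≤
      sA (V.map (om f₀)) a (d + natDegree f₀ - 1) + ρ := by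
  have hdvd := pow_rootMultiplicity_dvd f₀ a
  have hAle := fun n => A_le V hf a n
  have hce : rootMultiplicity a f₀ ≤ natDegree f₀ := by
    have h2 := natDegree_le_of_dvd hdvd hf
    rw [natDegree_pow, natDegree_X_sub_C, mul_one] at h2
    exact h2
  generalize rootMultiplicity a f₀ = c at *
  generalize natDegree f₀ = e at *
  have hV1 : FiniteDimensional k ↥(V.map (om f₀)) := inferInstance
  -- A₁ ≤ ρ
  have hA1le : ∀ n, finrank k ↥(V.map (om f₀) ⊓ I a n) ≤ ρ := by
    intro n
    rw [← hρ]
    exact Submodule.finrank_mono inf_le_left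
  -- A₁ n = ρ for n < c
  have hA1eq : ∀ n, n + 1 ≤ c → finrank k ↥(V.map (om f₀) ⊓ I a n) = ρ := by
    intro n hn
    have hle : V.map (om f₀) ≤ I a n := by
      rintro _ ⟨g, _, rfl⟩
      rw [mem_I]
      have h1 := om_dvd f₀ g a 0 c (by simp) hdvd
      exact (pow_dvd_pow _ (by omega)).trans h1
    rw [inf_eq_left.mpr hle, hρ]
  -- first estimate
  have h1 : sA V a d ≤ (∑ n ∈ Finset.range d, finrank k ↥(V.map (om f₀) ⊓ I a (n + c))) + c := by
    unfold sA
    calc ∑ n ∈ Finset.range d, finrank k ↥(V ⊓ I a (n + 1))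
        ≤ ∑ n ∈ Finset.range d, (finrank k ↥(V.map (om f₀) ⊓ I a (n + c)) +
            (if n + 1 ≤ c then 1 else 0)) := by
          apply Finset.sum_le_sum
          intro n _
          have := hAle (n + 1)
          have e1 : n + 1 + c - 1 = n + c := by omega
          rw [e1] at this
          exact this
      _ = (∑ n ∈ Finset.range d, finrank k ↥(V.map (om f₀) ⊓ I a (n + c))) +
            ∑ n ∈ Finset.range d, (if n + 1 ≤ c then 1 else 0) := Finset.sum_add_distrib
      _ ≤ _ := Nat.add_le_add_left (sum_ind_le c d) _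
  rcases Nat.eq_zero_or_pos c with hc0 | hcpos
  · -- c = 0
    subst hc0
    rw [mul_zero, add_zero]
    have h1' : sA V a d ≤ ∑ n ∈ Finset.range d, finrank k ↥(V.map (om f₀) ⊓ I a n) := h1
    refine h1'.trans ?_
    rcases Nat.eq_zero_or_pos d with hd0 | hdpos
    · rw [hd0]; simp
    · obtain ⟨d', rfl⟩ : ∃ d', d = d' + 1 := ⟨d - 1, by omega⟩
      rw [Finset.sum_range_succ']
      have h2 : (∑ n ∈ Finset.range d', finrank k ↥(V.map (om f₀) ⊓ I a (n + 1))) ≤
          sA (V.map (om f₀)) a (d' + 1 + e - 1) := by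
        unfold sA
        exact Finset.sum_le_sum_of_subset (Finset.range_mono (by omega))
      have h3 := hA1le 0
      omega
  · -- c ≥ 1
    obtain ⟨c', rfl⟩ : ∃ c', c = c' + 1 := ⟨c - 1, by omega⟩
    obtain ⟨ρ', rfl⟩ : ∃ ρ', ρ = ρ' + 1 := ⟨ρ - 1, by omega⟩
    have hd1 : d + e - 1 = c' + (d + (e - (c' + 1))) := by omega
    have h2 : c' * (ρ' + 1) +
        (∑ n ∈ Finset.range d, finrank k ↥(V.map (om f₀) ⊓ I a (n + (c' + 1)))) ≤
        sA (V.map (om f₀)) a (d + e - 1) := by
      unfold sA
      rw [hd1, Finset.sum_range_add]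
      apply Nat.add_le_add
      · have : ∑ x ∈ Finset.range c', finrank k ↥(V.map (om f₀) ⊓ I a (x + 1)) =
            ∑ x ∈ Finset.range c', (ρ' + 1) := by
          apply Finset.sum_congr rfl
          intro x hx
          rw [Finset.mem_range] at hx
          exact hA1eq (x + 1) (by omega)
        rw [this, Finset.sum_const, Finset.card_range, smul_eq_mul]
      · refine le_trans ?_ (Finset.sum_le_sum_of_subset (Finset.range_mono
          (show d ≤ d + (e - (c' + 1)) by omega)))
        apply le_of_eq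
        apply Finset.sum_congr rfl
        intro x _
        have : c' + x + 1 = x + (c' + 1) := by omega
        rw [this]
    simp only [Nat.add_sub_cancel]
    have e1 : ρ' * (c' + 1) + (c' + 1) = c' * (ρ' + 1) + (ρ' + 1) := by ring
    omega

/-- `(†∞)` -/
theorem sB_le [CharZero k] (V : Submodule k k[X]) [FiniteDimensional k V] {f₀ : k[X]}
    (hf : f₀ ≠ 0) (he : 1 ≤ natDegree f₀) (d : ℕ) :
    sB V d ≤ sB (V.map (om f₀)) (d + natDegree f₀ - 1) + (d - natDegree f₀) := by
  have hBle := fun m => B_le V hf he m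
  generalize natDegree f₀ = e at *
  obtain ⟨e', rfl⟩ : ∃ e', e = e' + 1 := ⟨e - 1, by omega⟩
  have h1 : sB V d ≤ (∑ m ∈ Finset.range d,
      finrank k ↥(V.map (om f₀) ⊓ degreeLT k (e' + m + 1))) + (d - (e' + 1)) := by
    unfold sB
    calc ∑ m ∈ Finset.range d, finrank k ↥(V ⊓ degreeLT k (m + 1))
        ≤ ∑ m ∈ Finset.range d, (finrank k ↥(V.map (om f₀) ⊓ degreeLT k (e' + m + 1)) +
            (if e' + 1 ≤ m then 1 else 0)) := by
          apply Finset.sum_le_sum
          intro m _
          have := hBle m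
          have e1 : m + (e' + 1) = e' + m + 1 := by omega
          rw [e1] at this
          exact this
      _ = (∑ m ∈ Finset.range d, finrank k ↥(V.map (om f₀) ⊓ degreeLT k (e' + m + 1))) +
            ∑ m ∈ Finset.range d, (if e' + 1 ≤ m then 1 else 0) := Finset.sum_add_distrib
      _ ≤ _ := Nat.add_le_add_left (sum_ind_ge_le (e' + 1) d) _
  have h2 : (∑ m ∈ Finset.range d, finrank k ↥(V.map (om f₀) ⊓ degreeLT k (e' + m + 1))) ≤
      sB (V.map (om f₀)) (d + (e' + 1) - 1) := by
    unfold sB
    have hd1 : d + (e' + 1) - 1 = e' + d := by omega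
    rw [hd1, Finset.sum_range_add]
    exact Nat.le_add_left _ _
  omega

theorem tri_succ (r : ℕ) : (r + 1) * (r + 1 + 1) / 2 = r * (r + 1) / 2 + (r + 1) := by
  have h1 : (r + 1) * (r + 1 + 1) = r * (r + 1) + 2 * (r + 1) := by ring
  rw [h1, Nat.add_mul_div_left _ _ (by norm_num : 0 < 2)]

theorem sum_rootMultiplicity_eq [IsAlgClosed k] [DecidableEq k] {f : k[X]} (S : Finset k)
    (hS : f.roots.toFinset ⊆ S) : ∑ a ∈ S, rootMultiplicity a f = natDegree f := by
  have h1 : ∑ a ∈ S, rootMultiplicity a f = ∑ a ∈ S, f.roots.count a := by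
    apply Finset.sum_congr rfl
    intro a _
    rw [count_roots]
  rw [h1, Multiset.sum_count_eq_card (fun a ha => hS (Multiset.mem_toFinset.mpr ha))]
  exact splits_iff_card_roots.mp (IsAlgClosed.splits f)

theorem sum_rootMultiplicity_le [IsAlgClosed k] [DecidableEq k] {f : k[X]} (S : Finset k) :
    ∑ a ∈ S, rootMultiplicity a f ≤ natDegree f := by
  rw [← sum_rootMultiplicity_eq (f := f) (S ∪ f.roots.toFinset) Finset.subset_union_right]
  exact Finset.sum_le_sum_of_subset Finset.subset_union_left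

theorem finrank_degreeLT (n : ℕ) : finrank k ↥(degreeLT k n) = n := by
  rw [LinearEquiv.finrank_eq (degreeLTEquiv k n), Module.finrank_fin_fun]

theorem natDegree_le_of_mem_degreeLT {p : k[X]} {d : ℕ} (hp : p ∈ degreeLT k (d + 1)) :
    natDegree p ≤ d := by
  by_cases hp0 : p = 0
  · rw [hp0]; simp
  · rw [mem_degreeLT] at hp
    have := (natDegree_lt_iff_degree_lt hp0).mpr hp
    omega

/-- **Plücker inequality for polynomial spaces** (after enlarging the finite set of points). -/
theorem plucker [IsAlgClosed k] [CharZero k] [DecidableEq k] :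
    ∀ (r : ℕ) (V : Submodule k k[X]) (d : ℕ) (S : Finset k), V ≤ degreeLT k (d + 1) →
      finrank k ↥V = r + 1 →
      ∃ S' : Finset k, S ⊆ S' ∧
        (∑ a ∈ S', sA V a d) + sB V d + r * (r + 1) / 2 ≤
          (r + 1) * d + S'.card * (r * (r + 1) / 2) := by
  intro r
  induction r with
  | zero =>
    intro V d S hVd hV
    refine ⟨S, Finset.Subset.refl _, ?_⟩
    obtain ⟨⟨f, hfV⟩, hf0, hspan⟩ := finrank_eq_one_iff'.mp hV
    have hf : f ≠ 0 := fun h => hf0 (Subtype.ext h)
    have hle : V ≤ Submodule.span k {f} := by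
      intro w hw
      obtain ⟨c, hc⟩ := hspan ⟨w, hw⟩
      rw [Submodule.mem_span_singleton]
      exact ⟨c, congrArg Subtype.val hc⟩
    have hed : natDegree f ≤ d := natDegree_le_of_mem_degreeLT (hVd hfV)
    have hA : ∀ a, sA V a d ≤ rootMultiplicity a f := by
      intro a
      unfold sA
      refine le_trans (Finset.sum_le_sum (fun n _ => ?_)) (sum_ind_le (rootMultiplicity a f) d)
      have hfin : FiniteDimensional k ↥(Submodule.span k {f} ⊓ I a (n + 1)) :=
        Submodule.finiteDimensional_of_le inf_le_left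
      exact (Submodule.finrank_mono (inf_le_inf_right _ hle)).trans (finrank_span_inf_I_le hf a _)
    have hB : sB V d ≤ d - natDegree f := by
      unfold sB
      refine le_trans (Finset.sum_le_sum (fun m _ => ?_)) (sum_ind_ge_le (natDegree f) d)
      have hfin : FiniteDimensional k ↥(Submodule.span k {f} ⊓ degreeLT k (m + 1)) :=
        Submodule.finiteDimensional_of_le inf_le_left
      exact (Submodule.finrank_mono (inf_le_inf_right _ hle)).trans
        (finrank_span_inf_degreeLT_le hf m)
    have hsum : ∑ a ∈ S, sA V a d ≤ natDegree f :=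
      (Finset.sum_le_sum (fun a _ => hA a)).trans (sum_rootMultiplicity_le S)
    simp only [zero_add, one_mul, zero_mul, Nat.zero_div, mul_zero, add_zero]
    omega
  | succ r ih =>
    intro V d S hVd hV
    have hVfin : FiniteDimensional k ↥V := Module.finite_of_finrank_pos (by omega)
    -- a nonconstant member
    obtain ⟨f₀, hf₀V, he⟩ : ∃ f₀ ∈ V, 1 ≤ natDegree f₀ := by
      by_contra hcon
      push Not at hcon
      have hle : V ≤ degreeLT k 1 := by
        intro p hp
        have h0 : natDegree p = 0 := by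
          have := hcon p hp
          omega
        rw [mem_degreeLT]
        rw [eq_C_of_natDegree_eq_zero h0]
        exact lt_of_le_of_lt degree_C_le (by norm_num)
      have := Submodule.finrank_mono hle
      rw [finrank_degreeLT] at this
      omega
    have hf : f₀ ≠ 0 := by
      rintro rfl
      simp at he
    -- dimension of (V.map (om f₀))
    have hdim : finrank k ↥(V.map (om f₀)) = r + 1 := by
      have h1 := LinearMap.finrank_range_add_finrank_ker ((om f₀).domRestrict V)
      rw [LinearMap.range_domRestrict] at h1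
      have h2 := finrank_le_map_add (om f₀) V (Submodule.span k {f₀}) (fun u _ hu0 => om_ker hf hu0)
      have h3 : finrank k ↥(Submodule.span k {f₀} ⊓ V) ≤ 1 :=
        (Submodule.finrank_mono inf_le_left).trans (finrank_span_singleton hf).le
      have h4 : 0 < finrank k ↥(LinearMap.ker ((om f₀).domRestrict V)) := by
        have hmem : (⟨f₀, hf₀V⟩ : ↥V) ∈ LinearMap.ker ((om f₀).domRestrict V) := by
          rw [LinearMap.mem_ker, LinearMap.domRestrict_apply]
          exact om_self f₀
        rw [Nat.pos_iff_ne_zero]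
        intro h0
        rw [Submodule.finrank_eq_zero] at h0
        rw [h0, Submodule.mem_bot] at hmem
        exact hf (congrArg Subtype.val hmem)
      omega
    obtain ⟨e', he'⟩ : ∃ e', natDegree f₀ = e' + 1 := ⟨natDegree f₀ - 1, by omega⟩
    have hV1d : (V.map (om f₀)) ≤ degreeLT k (d + e' + 1) := by
      rintro _ ⟨g, hg, rfl⟩
      have := om_mem_degreeLT f₀ g d (e' + 1) (by omega) he'.le (hVd hg)
      exact this
    obtain ⟨S', hS', hineq⟩ := ih (V.map (om f₀)) (d + e') (S ∪ f₀.roots.toFinset) hV1d hdim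
    refine ⟨S', Finset.subset_union_left.trans hS', ?_⟩
    have hsA : ∀ a, sA V a d + r * rootMultiplicity a f₀ ≤ sA (V.map (om f₀)) a (d + e') + (r + 1) := by
      intro a
      have := sA_le V hf he a d (r + 1) (by omega) hdim
      rw [he'] at this
      simpa using this
    have hsumA : (∑ a ∈ S', sA V a d) + r * (e' + 1) ≤
        (∑ a ∈ S', sA (V.map (om f₀)) a (d + e')) + S'.card * (r + 1) := by
      have h1 := Finset.sum_le_sum (fun a (_ : a ∈ S') => hsA a)
      rw [Finset.sum_add_distrib, Finset.sum_add_distrib, ← Finset.mul_sum, Finset.sum_const,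
        smul_eq_mul, sum_rootMultiplicity_eq S' (Finset.subset_union_right.trans hS'), he'] at h1
      exact h1
    have hsB := sB_le V hf he d
    rw [he'] at hsB
    have hd1 : d + (e' + 1) - 1 = d + e' := by omega
    rw [hd1] at hsB
    have hed : e' + 1 ≤ d := by
      rw [← he']
      exact natDegree_le_of_mem_degreeLT (hVd hf₀V)
    rw [tri_succ]
    have e1 : (r + 1) * (d + e') = (r + 1) * d + r * e' + e' := by ring
    have e2 : r * (e' + 1) = r * e' + r := by ring
    have e3 : (r + 1 + 1) * d = (r + 1) * d + d := by ring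
    have e4 : S'.card * (r * (r + 1) / 2 + (r + 1)) =
        S'.card * (r * (r + 1) / 2) + S'.card * (r + 1) := by ring
    omega

end Groth.Agent.Lib.Helper91.PolyPlucker
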