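import Mathlib
import Groth.Agent.Lib.Helper91.PolyPlucker
import Groth.Agent.Lib.Helper91.WeightBounds

/-!
# Plücker inequality on a function field of genus `0` (FunFld family)

Transfer of `PolyPlucker.plucker` to a function field `K/k` of genus `0` via a coordinate
function `x` with a simple pole at a chosen place `P∞`.
-/

namespace Groth.Agent.Lib.Helper91.Plucker

open FunFld Module Polynomial Groth.Agent.Lib.Helper55 Groth.Agent.Lib.Helper91.LimLin
  Groth.Agent.Lib.Helper91.Cusp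

variable {k K : Type*} [Field k] [Field K] [Algebra k K]

/-- in genus `0`, every divisor of degree `0` is principal -/
theorem exists_div_eq_of_deg_zero [IsAlgClosed k] (hK : IsFunctionField k K)
    (hg0 : genus k K = 0) (E : Divisor k K) (hdeg : E.deg = 0) :
    ∃ t : K, t ≠ 0 ∧ FunFld.div k t = E := by
  have hdeg' : (-E).deg = 0 := by rw [ff_deg_neg, hdeg, neg_zero]
  have hell := ff_ell_eq_of_deg_ge hK (-E) (by rw [hg0, hdeg']; norm_num)
  rw [hdeg', hg0] at hell
  have hne : L (-E) ≠ ⊥ := by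
    intro h
    unfold ell at hell
    rw [h, finrank_bot] at hell
    norm_num at hell
  obtain ⟨t, ht0, ht⟩ := (ff_L_ne_bot_iff hK (-E)).mp hne
  refine ⟨t, ht0, ?_⟩
  have hd0 : (0 : Divisor k K).deg = (-E + FunFld.div k t).deg := by
    rw [ff_deg_zero, ff_deg_add, ff_deg_div hK, hdeg', add_zero]
  have h1 := ff_eq_of_le_of_deg_eq hK ht hd0
  have h2 : FunFld.div k t - E = 0 := by rw [h1]; abel
  exact sub_eq_zero.mp h2

/-- a coordinate function: nonconstant with at most a simple pole at `P∞` -/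
theorem exists_coord [IsAlgClosed k] (hK : IsFunctionField k K) (hg0 : genus k K = 0)
    (Pinf : Place k K) :
    ∃ x : K, x ∈ L (Finsupp.single Pinf 1 : Divisor k K) ∧ x ∉ Set.range (algebraMap k K) := by
  have hdeg : Divisor.deg (Finsupp.single Pinf 1 : Divisor k K) = 1 := by
    rw [ff_deg_single, ff_deg_eq_one_of_isAlgClosed hK Pinf]; rfl
  have h1 := ff_ell_eq_of_deg_ge hK (Finsupp.single Pinf 1) (by rw [hg0, hdeg]; norm_num)
  rw [hdeg, hg0] at h1
  have h2 : ell (Finsupp.single Pinf 1 : Divisor k K) = 2 := by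
    have : (ell (Finsupp.single Pinf 1 : Divisor k K) : ℤ) = 2 := by rw [h1]; norm_num
    exact_mod_cast this
  by_contra hcon
  push Not at hcon
  have hle : L (Finsupp.single Pinf 1 : Divisor k K) ≤ (1 : Submodule k K) := by
    intro x hx
    rw [Submodule.mem_one]
    exact hcon x hx
  have := Submodule.finrank_mono hle
  rw [ff_finrank_one] at this
  unfold ell at h2
  omega

section coord

variable [IsAlgClosed k] (hK : IsFunctionField k K) (Pinf : Place k K) (x : K)
  (hxL : x ∈ L (Finsupp.single Pinf 1 : Divisor k K))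
  (hxnc : x ∉ Set.range (algebraMap k K))

include hxL in
theorem val_x_le_one (Q : Place k K) (hQ : Q ≠ Pinf) : Q.1 x ≤ 1 := by
  classical
  have := hxL Q
  rw [Finsupp.single_apply, if_neg (Ne.symm hQ), WithZero.exp_zero] at this
  exact this

include hxL in
theorem val_x_le_inf : Pinf.1 x ≤ WithZero.exp (1 : ℤ) := by
  classical
  have := hxL Pinf
  rw [Finsupp.single_apply, if_pos rfl] at this
  exact this

include hxnc in
theorem sub_const_ne_zero (a : k) : x - algebraMap k K a ≠ 0 := by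
  intro h
  exact hxnc ⟨a, (sub_eq_zero.mp h).symm⟩

include hK hxL hxnc in
/-- the divisor of `x - a` is `R - P∞` for a place `R ≠ P∞` -/
theorem div_sub_const (a : k) : ∃ R : Place k K, R ≠ Pinf ∧
    FunFld.div k (x - algebraMap k K a) = Finsupp.single R 1 - Finsupp.single Pinf 1 := by
  classical
  have hy0 := sub_const_ne_zero x hxnc a
  have hyL : x - algebraMap k K a ∈ L (Finsupp.single Pinf 1 : Divisor k K) := by
    apply Submodule.sub_mem _ hxL
    intro Q
    refine (Q.2.1 a).trans ?_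
    rw [← WithZero.exp_zero, WithZero.exp_le_exp, Finsupp.single_apply]
    split_ifs <;> norm_num
  have h1 := (ff_mem_L_iff_div hK _ hy0).mp hyL
  have hdeg : Divisor.deg ((Finsupp.single Pinf 1 : Divisor k K) + FunFld.div k (x - algebraMap k K a)) = 1 := by
    rw [ff_deg_add, ff_deg_div hK, ff_deg_single, ff_deg_eq_one_of_isAlgClosed hK Pinf]; rfl
  obtain ⟨R, hR, -⟩ := ff_eq_single_of_deg_eq_one hK h1 hdeg
  have hdiv : FunFld.div k (x - algebraMap k K a) = Finsupp.single R 1 - Finsupp.single Pinf 1 := by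
    rw [← hR]; abel
  refine ⟨R, ?_, hdiv⟩
  rintro rfl
  rw [sub_self] at hdiv
  obtain ⟨c, -, hc⟩ := const_of_div_eq_zero hK hy0 hdiv
  exact hxnc ⟨c + a, by rw [map_add, ← hc]; ring⟩

include hK hxL hxnc in
/-- a zero of `x - a` away from `P∞` is simple -/
theorem val_sub_const (Q : Place k K) (hQ : Q ≠ Pinf) (a : k)
    (ha : Q.1 (x - algebraMap k K a) < 1) :
    Q.1 (x - algebraMap k K a) = WithZero.exp (-1 : ℤ) := by
  classical
  have hy0 := sub_const_ne_zero x hxnc a
  obtain ⟨R, hR, hdiv⟩ := div_sub_const hK Pinf x hxL hxnc a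
  have hord : Q.ord (x - algebraMap k K a) = if R = Q then 1 else 0 := by
    rw [← ff_div_apply hK, hdiv]
    simp [Finsupp.single_apply, Ne.symm hQ]
  have hpos := (ff_ord_pos_iff Q hy0).mpr ha
  rw [ff_val_eq_exp_neg_ord Q hy0, hord]
  split_ifs at hord hpos ⊢ with h
  · rfl
  · rw [hord] at hpos; exact absurd hpos (lt_irrefl _)

include hK hxL hxnc in
/-- two places (≠ P∞) with the same coordinate coincide -/
theorem place_eq_of_coord_eq (Q Q' : Place k K) (hQ : Q ≠ Pinf) (hQ' : Q' ≠ Pinf) (a : k)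
    (ha : Q.1 (x - algebraMap k K a) < 1) (ha' : Q'.1 (x - algebraMap k K a) < 1) : Q = Q' := by
  classical
  have hy0 := sub_const_ne_zero x hxnc a
  obtain ⟨R, hR, hdiv⟩ := div_sub_const hK Pinf x hxL hxnc a
  have key : ∀ Q₁ : Place k K, Q₁ ≠ Pinf → Q₁.1 (x - algebraMap k K a) < 1 → R = Q₁ := by
    intro Q₁ hQ₁ h₁
    have hord : Q₁.ord (x - algebraMap k K a) = if R = Q₁ then 1 else 0 := by
      rw [← ff_div_apply hK, hdiv]
      simp [Finsupp.single_apply, Ne.symm hQ₁]
    have hpos := (ff_ord_pos_iff Q₁ hy0).mpr h₁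
    by_contra hne
    rw [hord, if_neg hne] at hpos
    exact lt_irrefl _ hpos
  rw [← key Q hQ ha, ← key Q' hQ' ha']

include hK hxL hxnc in
/-- every `a : k` is the coordinate of a place -/
theorem exists_place_of_coord (a : k) : ∃ R : Place k K, R ≠ Pinf ∧
    R.1 (x - algebraMap k K a) < 1 := by
  classical
  have hy0 := sub_const_ne_zero x hxnc a
  obtain ⟨R, hR, hdiv⟩ := div_sub_const hK Pinf x hxL hxnc a
  refine ⟨R, hR, ?_⟩
  rw [← ff_ord_pos_iff R hy0, ← ff_div_apply hK, hdiv]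
  simp [Finsupp.single_apply, hR]

include hK hxL hxnc in
/-- the valuation of a polynomial in `x` at a finite place is given by the root multiplicity -/
theorem val_aeval (Q : Place k K) (hQ : Q ≠ Pinf) (a : k)
    (ha : Q.1 (x - algebraMap k K a) < 1) (p : k[X]) (hp : p ≠ 0) :
    Q.1 (aeval x p) = WithZero.exp (-(rootMultiplicity a p : ℤ)) := by
  classical
  obtain ⟨q, hpq, hq⟩ := exists_eq_pow_rootMultiplicity_mul_and_not_dvd p hp a
  have hqa : q.eval a ≠ 0 := by
    intro h
    exact hq (dvd_iff_isRoot.mpr h)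
  have hdecomp : q = C (q.eval a) + (X - C a) * (q /ₘ (X - C a)) := by
    rw [← modByMonic_X_sub_C_eq_C_eval]
    exact (modByMonic_add_div q (X - C a)).symm
  have hxQ : Q.1 x ≤ 1 := val_x_le_one Pinf x hxL Q hQ
  have h1 : Q.1 (aeval x q) = 1 := by
    have e1 : aeval x q = algebraMap k K (q.eval a) +
        (x - algebraMap k K a) * aeval x (q /ₘ (X - C a)) := by
      conv_lhs => rw [hdecomp]
      simp only [map_add, map_mul, map_sub, aeval_C, aeval_X]
    rw [e1]
    have hc := ff_val_const Q hqa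
    have hlt : Q.1 ((x - algebraMap k K a) * aeval x (q /ₘ (X - C a))) <
        Q.1 (algebraMap k K (q.eval a)) := by
      rw [hc, map_mul]
      have h2 : Q.1 (aeval x (q /ₘ (X - C a))) ≤ 1 := ff_aeval_mem_O Q hxQ _
      calc Q.1 (x - algebraMap k K a) * Q.1 (aeval x (q /ₘ (X - C a)))
          ≤ Q.1 (x - algebraMap k K a) * 1 := mul_le_mul' le_rfl h2
        _ = Q.1 (x - algebraMap k K a) := mul_one _
        _ < 1 := ha
    rw [Valuation.map_add_eq_of_lt_left _ hlt, hc]
  have e2 : aeval x p = (x - algebraMap k K a) ^ rootMultiplicity a p * aeval x q := by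
    conv_lhs => rw [hpq]
    simp only [map_mul, map_pow, map_sub, aeval_C, aeval_X]
  rw [e2, map_mul, map_pow, h1, mul_one, val_sub_const hK Pinf x hxL hxnc Q hQ a ha,
    ← WithZero.exp_nsmul]
  congr 1
  simp

include hK hxL hxnc in
/-- `(ι2)`: vanishing to order `n` at `Q` means divisibility by `(X - a)^n` -/
theorem dvd_of_val_le (Q : Place k K) (hQ : Q ≠ Pinf) (a : k)
    (ha : Q.1 (x - algebraMap k K a) < 1) (p : k[X]) (n : ℕ)
    (hv : Q.1 (aeval x p) ≤ WithZero.exp (-(n : ℤ))) : (X - C a) ^ n ∣ p := by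
  by_cases hp : p = 0
  · rw [hp]; exact dvd_zero _
  rw [val_aeval hK Pinf x hxL hxnc Q hQ a ha p hp, WithZero.exp_le_exp] at hv
  rw [← le_rootMultiplicity_iff hp]
  omega

include hxL in
theorem aeval_mem_L (m : ℕ) (p : k[X]) (hp : p ∈ degreeLT k (m + 1)) :
    aeval x p ∈ L (Finsupp.single Pinf (m : ℤ) : Divisor k K) := by
  classical
  intro R
  by_cases hR : R = Pinf
  · subst hR
    rw [Finsupp.single_apply, if_pos rfl]
    have hdeg : natDegree p < m + 1 := by
      have := PolyPlucker.natDegree_le_of_mem_degreeLT hp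
      omega
    rw [aeval_eq_sum_range' hdeg]
    apply Valuation.map_sum_le
    intro i hi
    rw [Finset.mem_range] at hi
    rw [Algebra.smul_def, map_mul, map_pow]
    have h1 : R.1 (algebraMap k K (p.coeff i)) ≤ 1 := R.2.1 _
    have h2 : R.1 x ^ i ≤ WithZero.exp ((i : ℕ) : ℤ) := by
      have := pow_le_pow_left' (val_x_le_inf R x hxL) i
      rwa [← WithZero.exp_nsmul, nsmul_eq_mul, mul_one] at this
    calc R.1 (algebraMap k K (p.coeff i)) * R.1 x ^ i ≤ 1 * WithZero.exp ((i : ℕ) : ℤ) :=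
          mul_le_mul' h1 h2
      _ = WithZero.exp ((i : ℕ) : ℤ) := one_mul _
      _ ≤ WithZero.exp (m : ℤ) := by
          rw [WithZero.exp_le_exp]
          omega
  · rw [Finsupp.single_apply, if_neg (Ne.symm hR), WithZero.exp_zero]
    exact ff_aeval_mem_O R (val_x_le_one Pinf x hxL R hR) p

include hxnc hK in
theorem aeval_injective : Function.Injective ((aeval x : k[X] →ₐ[k] K).toLinearMap) :=
  transcendental_iff_injective.mp (ff_transcendental_of_not_mem_range hK hxnc)

end coord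

section coord0

variable [IsAlgClosed k] (hK : IsFunctionField k K) (hg0 : genus k K = 0) (Pinf : Place k K) (x : K)
  (hxL : x ∈ L (Finsupp.single Pinf 1 : Divisor k K))
  (hxnc : x ∉ Set.range (algebraMap k K))

include hK hg0 hxL hxnc in
/-- `L(m P∞)` is the space of polynomials in `x` of degree `≤ m` -/
theorem L_inf_eq (m : ℕ) : L (Finsupp.single Pinf (m : ℤ) : Divisor k K) =
    (degreeLT k (m + 1)).map (aeval x : k[X] →ₐ[k] K).toLinearMap := by
  symm
  have := ff_L_finiteDimensional hK (Finsupp.single Pinf (m : ℤ) : Divisor k K)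
  apply Submodule.eq_of_le_of_finrank_eq
  · rintro _ ⟨p, hp, rfl⟩
    exact aeval_mem_L Pinf x hxL m p hp
  · rw [LinearEquiv.finrank_eq (Submodule.equivMapOfInjective _
      (aeval_injective hK x hxnc) (degreeLT k (m + 1))).symm, PolyPlucker.finrank_degreeLT]
    have hdeg : Divisor.deg (Finsupp.single Pinf (m : ℤ) : Divisor k K) = m := by
      rw [ff_deg_single, ff_deg_eq_one_of_isAlgClosed hK Pinf]; simp
    have h1 := ff_ell_eq_of_deg_ge hK (Finsupp.single Pinf (m : ℤ)) (by rw [hg0, hdeg]; omega)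
    rw [hdeg, hg0] at h1
    unfold ell at h1
    omega

end coord0

/-- **Plücker inequality** on a function field of genus `0`: for a `g^r_d` `(D, V)`, a place
`P∞` and a finite set `S` of other places,
`∑_{Q ∈ S} s_Q(V) + s_{P∞}(V) + r(r+1)/2 ≤ (r+1)d + |S| r(r+1)/2`. -/
theorem plucker_K [IsAlgClosed k] [CharZero k] (hK : IsFunctionField k K) (hg0 : genus k K = 0)
    (d r : ℕ) (D : Divisor k K) (hD : D.deg = d)
    (V : Submodule k K) (hV : V ≤ L D) (hVr : finrank k ↥V = r + 1)
    (Pinf : Place k K) (S : Finset (Place k K)) (hS : Pinf ∉ S) :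
    (∑ Q ∈ S, ∑ n ∈ Finset.range d, finrank k ↥(V ⊓ L (D - Finsupp.single Q ((n : ℤ) + 1)))) +
      (∑ n ∈ Finset.range d, finrank k ↥(V ⊓ L (D - Finsupp.single Pinf ((n : ℤ) + 1)))) +
      r * (r + 1) / 2 ≤ (r + 1) * d + S.card * (r * (r + 1) / 2) := by
  classical
  obtain ⟨x, hxL, hxnc⟩ := exists_coord hK hg0 Pinf
  have hdeg0 : (D - Finsupp.single Pinf (d : ℤ)).deg = 0 := by
    rw [ff_deg_sub, ff_deg_single, hD, ff_deg_eq_one_of_isAlgClosed hK Pinf]
    push_cast; ring
  obtain ⟨h, hh0, hdivh⟩ := exists_div_eq_of_deg_zero hK hg0 _ hdeg0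
  have hVfin : Module.Finite k V := Module.finite_of_finrank_pos (by omega)
  set ψ : k[X] →ₗ[k] K := (aeval x : k[X] →ₐ[k] K).toLinearMap with hψ
  have hψinj : Function.Injective ψ := aeval_injective hK x hxnc
  set μ : K →ₗ[k] K := LinearMap.mulLeft k h with hμ
  have hμinj : Function.Injective μ := fun f g hfg => mul_left_cancel₀ hh0 hfg
  -- membership transfer
  have hmem : ∀ (F : Divisor k K) (f : K), f ∈ L (D - F) →
      h * f ∈ L (Finsupp.single Pinf (d : ℤ) - F) := by
    intro F f hf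
    rw [ff_mul_mem_L_iff hK _ h f hh0, hdivh]
    have : Finsupp.single Pinf (d : ℤ) - F + (D - Finsupp.single Pinf (d : ℤ)) = D - F := by abel
    rw [this]
    exact hf
  -- the transfer of subspaces
  have hrange : ∀ U : Submodule k K, U ≤ L D → U.map μ ≤ LinearMap.range ψ := by
    intro U hU
    rintro _ ⟨f, hf, rfl⟩
    have h1 := hmem 0 f (by rw [sub_zero]; exact hU hf)
    rw [sub_zero, L_inf_eq hK hg0 Pinf x hxL hxnc d] at h1
    obtain ⟨p, -, hp⟩ := h1
    exact ⟨p, hp⟩
  have hTfin : ∀ U : Submodule k K, U ≤ V →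
      finrank k ↥((U.map μ).comap ψ) = finrank k ↥U := by
    intro U hU
    rw [LinearEquiv.finrank_eq (Submodule.equivMapOfInjective ψ hψinj ((U.map μ).comap ψ)),
      Submodule.map_comap_eq_of_le (hrange U (hU.trans hV)),
      ← LinearEquiv.finrank_eq (Submodule.equivMapOfInjective μ hμinj U)]
  set Vp : Submodule k k[X] := (V.map μ).comap ψ with hVp
  have hVpdim : finrank k ↥Vp = r + 1 := by rw [hVp, hTfin V le_rfl, hVr]
  have hVpfin : Module.Finite k Vp := Module.finite_of_finrank_pos (by omega)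
  have hVpdeg : Vp ≤ degreeLT k (d + 1) := by
    intro p hp
    obtain ⟨f, hf, hfp⟩ := hp
    have h1 := hmem 0 f (by rw [sub_zero]; exact hV hf)
    rw [sub_zero, L_inf_eq hK hg0 Pinf x hxL hxnc d] at h1
    obtain ⟨p', hp', hpp'⟩ := h1
    have : p' = p := hψinj (hpp'.trans hfp)
    rw [← this]
    exact hp'
  -- (ι2)
  have hι2 : ∀ (Q : Place k K) (hQ : Q ≠ Pinf) (a : k) (ha : Q.1 (x - algebraMap k K a) < 1)
      (n : ℕ), finrank k ↥(V ⊓ L (D - Finsupp.single Q (n : ℤ))) ≤
        finrank k ↥(Vp ⊓ PolyPlucker.I a n) := by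
    intro Q hQ a ha n
    rw [← hTfin _ inf_le_left]
    have : FiniteDimensional k ↥(Vp ⊓ PolyPlucker.I a n) :=
      Submodule.finiteDimensional_of_le inf_le_left
    apply Submodule.finrank_mono
    rintro p ⟨f, ⟨hfV, hfL⟩, hfp⟩
    refine ⟨⟨f, hfV, hfp⟩, ?_⟩
    rw [SetLike.mem_coe, PolyPlucker.mem_I]
    apply dvd_of_val_le hK Pinf x hxL hxnc Q hQ a ha p n
    have h1 := hmem _ f hfL Q
    have e1 : (Finsupp.single Pinf (d : ℤ) - Finsupp.single Q (n : ℤ) : Divisor k K) Q =
        -(n : ℤ) := by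
      simp [Finsupp.single_apply, Ne.symm hQ]
    rw [e1] at h1
    have e2 : (aeval x p : K) = h * f := hfp.symm
    rw [e2]
    exact h1
  -- (ι3)
  have hι3 : ∀ n : ℕ, n ≤ d → finrank k ↥(V ⊓ L (D - Finsupp.single Pinf (n : ℤ))) ≤
      finrank k ↥(Vp ⊓ degreeLT k (d - n + 1)) := by
    intro n hn
    rw [← hTfin _ inf_le_left]
    have : FiniteDimensional k ↥(Vp ⊓ degreeLT k (d - n + 1)) :=
      Submodule.finiteDimensional_of_le inf_le_left
    apply Submodule.finrank_mono
    rintro p ⟨f, ⟨hfV, hfL⟩, hfp⟩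
    refine ⟨⟨f, hfV, hfp⟩, ?_⟩
    have h1 := hmem _ f hfL
    have e1 : (Finsupp.single Pinf (d : ℤ) - Finsupp.single Pinf (n : ℤ) : Divisor k K) =
        Finsupp.single Pinf (((d - n : ℕ)) : ℤ) := by
      rw [← Finsupp.single_sub]
      congr 1
      omega
    rw [e1, L_inf_eq hK hg0 Pinf x hxL hxnc (d - n)] at h1
    obtain ⟨p', hp', hpp'⟩ := h1
    have : p' = p := hψinj (hpp'.trans hfp)
    rw [← this]
    exact hp'
  -- coordinates of the places in `S`
  have hcoord : ∀ Q : Place k K, ∃ a : k, Q ≠ Pinf → Q.1 (x - algebraMap k K a) < 1 := by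
    intro Q
    by_cases hQ : Q = Pinf
    · exact ⟨0, fun h => absurd hQ h⟩
    · obtain ⟨a, ha⟩ := exists_const_sub Q (ff_deg_eq_one_of_isAlgClosed hK Q)
        (val_x_le_one Pinf x hxL Q hQ)
      exact ⟨a, fun _ => ha⟩
  choose a ha using hcoord
  have hSne : ∀ Q ∈ S, Q ≠ Pinf := fun Q hQ h => hS (h ▸ hQ)
  have hinj : Set.InjOn a (S : Set (Place k K)) := by
    intro Q hQ Q' hQ' hqq
    have h1 := ha Q (hSne Q hQ)
    have h2 := ha Q' (hSne Q' hQ')
    rw [← hqq] at h2
    exact place_eq_of_coord_eq hK Pinf x hxL hxnc Q Q' (hSne Q hQ) (hSne Q' hQ') (a Q) h1 h2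
  -- the sums
  have hsQ : ∀ (Q : Place k K) (hQ : Q ≠ Pinf) (b : k) (hb : Q.1 (x - algebraMap k K b) < 1),
      (∑ n ∈ Finset.range d, finrank k ↥(V ⊓ L (D - Finsupp.single Q ((n : ℤ) + 1)))) ≤
        PolyPlucker.sA Vp b d := by
    intro Q hQ b hb
    unfold PolyPlucker.sA
    apply Finset.sum_le_sum
    intro n _
    have := hι2 Q hQ b hb (n + 1)
    push_cast at this
    exact this
  have hsInf : (∑ n ∈ Finset.range d, finrank k ↥(V ⊓ L (D - Finsupp.single Pinf ((n : ℤ) + 1)))) ≤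
      PolyPlucker.sB Vp d := by
    unfold PolyPlucker.sB
    rw [← Finset.sum_range_reflect (fun m => finrank k ↥(Vp ⊓ degreeLT k (m + 1))) d]
    apply Finset.sum_le_sum
    intro n hn
    rw [Finset.mem_range] at hn
    have := hι3 (n + 1) (by omega)
    push_cast at this
    have e : d - (n + 1) + 1 = d - 1 - n + 1 := by omega
    rw [e] at this
    exact this
  obtain ⟨S', hS', hineq⟩ := PolyPlucker.plucker r Vp d (S.image a) hVpdeg hVpdim
  -- lower bound at the extra points
  have hextra : ∀ b ∈ S' \ S.image a, r * (r + 1) / 2 ≤ PolyPlucker.sA Vp b d := by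
    intro b _
    obtain ⟨R, hR, hRb⟩ := exists_place_of_coord hK Pinf x hxL hxnc b
    exact (s_lower hK d r D hD V hV hVr R).trans (hsQ R hR b hRb)
  have h1 : ∑ b ∈ S', PolyPlucker.sA Vp b d =
      (∑ b ∈ S' \ S.image a, PolyPlucker.sA Vp b d) + ∑ b ∈ S.image a, PolyPlucker.sA Vp b d :=
    (Finset.sum_sdiff hS').symm
  have h2 : ∑ b ∈ S.image a, PolyPlucker.sA Vp b d = ∑ Q ∈ S, PolyPlucker.sA Vp (a Q) d :=
    Finset.sum_image hinj
  have h3 : (∑ Q ∈ S, ∑ n ∈ Finset.range d,
      finrank k ↥(V ⊓ L (D - Finsupp.single Q ((n : ℤ) + 1)))) ≤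
      ∑ Q ∈ S, PolyPlucker.sA Vp (a Q) d :=
    Finset.sum_le_sum (fun Q hQ => hsQ Q (hSne Q hQ) (a Q) (ha Q (hSne Q hQ)))
  have h4 : (S' \ S.image a).card * (r * (r + 1) / 2) ≤
      ∑ b ∈ S' \ S.image a, PolyPlucker.sA Vp b d := by
    have := Finset.card_nsmul_le_sum (S' \ S.image a) (fun b => PolyPlucker.sA Vp b d)
      (r * (r + 1) / 2) hextra
    rwa [smul_eq_mul] at this
  have h5 : (S' \ S.image a).card + S.card = S'.card := by
    rw [← Finset.card_image_of_injOn hinj]
    exact Finset.card_sdiff_add_card_eq_card hS'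
  have h6 : S'.card * (r * (r + 1) / 2) =
      (S' \ S.image a).card * (r * (r + 1) / 2) + S.card * (r * (r + 1) / 2) := by
    rw [← h5, add_mul]
  omega

end Groth.Agent.Lib.Helper91.Plucker
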