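import Mathlib
import Groth.Prelude.Def_W4c1limliniiiiRamP1

/-!
# Pencils of polynomials with prescribed ramification: elementary lemmas
-/

set_option autoImplicit false

open Polynomial

namespace Groth.Agent.Lib.Helper91.RamP1

variable {k : Type*} [Field k]

/-- `W(hA, hB) = h² W(A, B)` -/
theorem wronskian_mul_mul (h A B : k[X]) : wronskian (h * A) (h * B) = h ^ 2 * wronskian A B := by
  simp only [wronskian, derivative_mul]
  ring

/-- bilinearity: `W(aF + bG, cF + eG) = (ae - bc) W(F, G)` -/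
theorem wronskian_comb (a b c e : k) (F G : k[X]) :
    wronskian (a • F + b • G) (c • F + e • G) = (a * e - b * c) • wronskian F G := by
  simp only [wronskian, derivative_add, smul_eq_C_mul, C_sub, C_mul, derivative_mul, derivative_C,
    zero_mul, zero_add]
  ring

/-- **Lemma A**: if `(X - a)^m ∣ s` then `(X - a)^(m-1) ∣ W(s, t)` -/
theorem pow_pred_dvd_wronskian {a : k} {m : ℕ} {s : k[X]} (hs : (X - C a) ^ m ∣ s) (t : k[X]) :
    (X - C a) ^ (m - 1) ∣ wronskian s t := by
  obtain ⟨u, rfl⟩ := hs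
  rcases Nat.eq_zero_or_pos m with hm | hm
  · subst hm; simp
  have h1 : (X - C a) ^ (m - 1) ∣ (X - C a) ^ m * u :=
    Dvd.dvd.mul_right (pow_dvd_pow _ (Nat.sub_le m 1)) u
  have h2 : (X - C a) ^ (m - 1) ∣ derivative ((X - C a) ^ m * u) := by
    rw [derivative_mul, derivative_X_sub_C_pow]
    apply dvd_add
    · exact Dvd.dvd.mul_right (Dvd.dvd.mul_left (dvd_refl _) _) u
    · exact Dvd.dvd.mul_right (pow_dvd_pow _ (Nat.sub_le m 1)) _
  unfold wronskian
  exact dvd_sub (Dvd.dvd.mul_right h1 _) (Dvd.dvd.mul_right h2 _)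

theorem pow_pred_dvd_wronskian' {a : k} {m : ℕ} {s : k[X]} (hs : (X - C a) ^ m ∣ s) (t : k[X]) :
    (X - C a) ^ (m - 1) ∣ wronskian t s := by
  rw [← wronskian_neg_eq]
  exact (dvd_neg).mpr (pow_pred_dvd_wronskian hs t)

/-- **Lemma A'**: if `(X - a)^m ∣ s` and `(X - a) ∣ t` then `(X - a)^m ∣ W(s, t)` -/
theorem pow_dvd_wronskian_of_dvd {a : k} {m : ℕ} {s t : k[X]} (hs : (X - C a) ^ m ∣ s)
    (ht : (X - C a) ∣ t) : (X - C a) ^ m ∣ wronskian s t := by
  rcases Nat.eq_zero_or_pos m with hm | hm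
  · subst hm; simp
  obtain ⟨u, rfl⟩ := hs
  obtain ⟨v, rfl⟩ := ht
  have h2 : (X - C a) ^ m ∣ derivative ((X - C a) ^ m * u) * ((X - C a) * v) := by
    rw [derivative_mul, derivative_X_sub_C_pow]
    have : (X - C a) ^ m = (X - C a) ^ (m - 1) * (X - C a) := by
      rw [← pow_succ, Nat.sub_add_cancel hm]
    rw [add_mul]
    apply dvd_add
    · rw [this]
      exact ⟨C (m : k) * u * v, by ring⟩
    · exact ⟨derivative u * ((X - C a) * v), by ring⟩
  unfold wronskian
  exact dvd_sub (Dvd.dvd.mul_right (dvd_mul_right _ _) _) h2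

open scoped Function in
/-- **Lemma B**: a polynomial divisible by `∏ (X - a i)^(m i)` (distinct `a i`) of degree less
than `∑ m i` vanishes. -/
theorem eq_zero_of_pow_dvd {ι : Type*} [Fintype ι] (a : ι → k) (ha : Function.Injective a)
    (m : ι → ℕ) (f : k[X]) (hdvd : ∀ i, (X - C (a i)) ^ (m i) ∣ f)
    (hdeg : f.natDegree < ∑ i, m i) : f = 0 := by
  by_contra hf
  have hcop : Pairwise (IsCoprime on fun i : ι => (X - C (a i)) ^ (m i)) := by
    intro i j hij
    exact (pairwise_coprime_X_sub_C ha hij).pow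
  have hprod : (∏ i, (X - C (a i)) ^ (m i)) ∣ f := Fintype.prod_dvd_of_coprime hcop hdvd
  have hle := natDegree_le_of_dvd hprod hf
  have hmonic : ∀ i ∈ (Finset.univ : Finset ι), ((X - C (a i)) ^ (m i)).Monic :=
    fun i _ => (monic_X_sub_C _).pow _
  rw [natDegree_prod_of_monic _ _ hmonic] at hle
  simp only [natDegree_pow, natDegree_X_sub_C, mul_one] at hle
  omega

open scoped Function in
/-- the product `∏ (X - a i)^(m i)` divides `f` -/
theorem prod_pow_dvd {ι : Type*} [Fintype ι] (a : ι → k) (ha : Function.Injective a)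
    (m : ι → ℕ) (f : k[X]) (hdvd : ∀ i, (X - C (a i)) ^ (m i) ∣ f) :
    (∏ i, (X - C (a i)) ^ (m i)) ∣ f := by
  have hcop : Pairwise (IsCoprime on fun i : ι => (X - C (a i)) ^ (m i)) := by
    intro i j hij
    exact (pairwise_coprime_X_sub_C ha hij).pow
  exact Fintype.prod_dvd_of_coprime hcop hdvd

/-- **Lemma D(1)**: exactness away from the points -/
theorem eval_ne_zero_of_exact {n : ℕ} (P : Fin n → k) (hP : Function.Injective P)
    (m : Fin n → ℕ) (f : k[X]) (hf : f ≠ 0) (hdvd : ∀ i, (X - C (P i)) ^ (m i) ∣ f)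
    (hdeg : f.natDegree ≤ ∑ i, m i) (a : k) (ha : ∀ i, P i ≠ a) : f.eval a ≠ 0 := by
  intro h0
  apply hf
  have hXa : (X - C a) ∣ f := dvd_iff_isRoot.mpr h0
  apply eq_zero_of_pow_dvd (fun o : Option (Fin n) => o.elim a P) _
    (fun o : Option (Fin n) => o.elim 1 m) f
  · intro o
    cases o with
    | none => simpa using hXa
    | some i => simpa using hdvd i
  · rw [Fintype.sum_option]
    simp only [Option.elim]
    omega
  · intro o o' h
    cases o with
    | none =>
      cases o' with
      | none => rfl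
      | some j => exact absurd h.symm (ha j)
    | some i =>
      cases o' with
      | none => exact absurd h (ha i)
      | some j => exact congrArg some (hP h)

/-- **Lemma D(2)**: exactness at the points -/
theorem not_pow_succ_dvd_of_exact {n : ℕ} (P : Fin n → k) (hP : Function.Injective P)
    (m : Fin n → ℕ) (f : k[X]) (hf : f ≠ 0) (hdvd : ∀ i, (X - C (P i)) ^ (m i) ∣ f)
    (hdeg : f.natDegree ≤ ∑ i, m i) (i : Fin n) : ¬ (X - C (P i)) ^ (m i + 1) ∣ f := by
  intro h
  apply hf
  apply eq_zero_of_pow_dvd P hP (Function.update m i (m i + 1)) f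
  · intro j
    by_cases hj : j = i
    · subst hj; simpa using h
    · rw [Function.update_of_ne hj]; exact hdvd j
  · have : ∑ j, Function.update m i (m i + 1) j = ∑ j, m j + 1 := by
      rw [← Finset.add_sum_erase _ _ (Finset.mem_univ i), ← Finset.add_sum_erase _ m (Finset.mem_univ i)]
      rw [Function.update_self]
      have : ∑ j ∈ Finset.univ.erase i, Function.update m i (m i + 1) j =
          ∑ j ∈ Finset.univ.erase i, m j := by
        apply Finset.sum_congr rfl
        intro j hj
        rw [Function.update_of_ne (Finset.ne_of_mem_erase hj)]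
      rw [this]; ring
    omega

/-- **Lemma D(3)**: the degree is exact -/
theorem natDegree_eq_of_exact {n : ℕ} (P : Fin n → k) (hP : Function.Injective P)
    (m : Fin n → ℕ) (f : k[X]) (hf : f ≠ 0) (hdvd : ∀ i, (X - C (P i)) ^ (m i) ∣ f)
    (hdeg : f.natDegree ≤ ∑ i, m i) : f.natDegree = ∑ i, m i := by
  apply le_antisymm hdeg
  by_contra hlt
  exact hf (eq_zero_of_pow_dvd P hP m f hdvd (not_le.mp hlt))

end Groth.Agent.Lib.Helper91.RamP1
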