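import Mathlib
import Groth.Agent.Lib.Helper91.RamP1

/-!
# Pencils with three ramification points: normal form and the determinant trick
-/

set_option autoImplicit false

open Polynomial

namespace Groth.Agent.Lib.Helper91.RamP1

variable {k : Type*} [Field k]

/-- degree bound for the Wronskian of two polynomials of degree `≤ d` -/
theorem natDegree_wronskian_le {d : ℕ} (hd : 1 ≤ d) {F G : k[X]} (hF : F.natDegree ≤ d)
    (hG : G.natDegree ≤ d) : (wronskian F G).natDegree ≤ 2 * d - 2 := by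
  have hF' : (derivative F).natDegree ≤ d - 1 := (natDegree_derivative_le F).trans (by omega)
  have hG' : (derivative G).natDegree ≤ d - 1 := (natDegree_derivative_le G).trans (by omega)
  rw [natDegree_le_iff_coeff_eq_zero]
  intro N hN
  have h1 : (F * derivative G).natDegree ≤ d + (d - 1) := natDegree_mul_le_of_le hF hG'
  have h2 : (derivative F * G).natDegree ≤ (d - 1) + d := natDegree_mul_le_of_le hF' hG
  unfold wronskian
  rw [coeff_sub]
  rcases Nat.lt_or_ge (d + (d - 1)) N with hlt | hge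
  · rw [coeff_eq_zero_of_natDegree_lt (lt_of_le_of_lt h1 hlt),
      coeff_eq_zero_of_natDegree_lt (lt_of_le_of_lt h2 (by omega)), sub_zero]
  · have hNeq : N = d + (d - 1) := by omega
    have hNeq' : N = (d - 1) + d := by omega
    have e1 : (F * derivative G).coeff N = F.coeff d * (derivative G).coeff (d - 1) := by
      rw [hNeq]; exact coeff_mul_add_eq_of_natDegree_le hF hG'
    have e2 : (derivative F * G).coeff N = (derivative F).coeff (d - 1) * G.coeff d := by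
      rw [hNeq']; exact coeff_mul_add_eq_of_natDegree_le hF' hG
    rw [e1, e2, coeff_derivative, coeff_derivative]
    have : d - 1 + 1 = d := by omega
    rw [this]
    ring

/-- two-point bound -/
theorem two_point_bound {d : ℕ} {s : k[X]} (hs : s ≠ 0) (hd : s.natDegree ≤ d) {a b : k}
    (hab : a ≠ b) {m n : ℕ} (ha : (X - C a) ^ m ∣ s) (hb : (X - C b) ^ n ∣ s) : m + n ≤ d := by
  by_contra hlt
  apply hs
  apply eq_zero_of_pow_dvd (fun i : Fin 2 => ![a, b] i) _ (fun i : Fin 2 => ![m, n] i) s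
  · intro i
    fin_cases i
    · simpa using ha
    · simpa using hb
  · simp only [Fin.sum_univ_two, Matrix.cons_val_zero, Matrix.cons_val_one]
    omega
  · intro i j h
    fin_cases i <;> fin_cases j <;> simp_all

theorem natDegree_le_of_mem {d : ℕ} {V : Submodule k k[X]} (hV : V ≤ degreeLE k d) {s : k[X]}
    (hs : s ∈ V) : s.natDegree ≤ d := by
  have := hV hs
  rw [mem_degreeLE] at this
  exact natDegree_le_iff_degree_le.mpr this

/-- two nonzero polynomials of degree `≤ d` vanishing to orders `e₀`, `e₁` at distinct points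
with `e₀ + e₁ > d` are linearly independent -/
theorem linearIndependent_pair_of_two_point {d : ℕ} {a₀ a₁ : k} (h01 : a₀ ≠ a₁) {e₀ e₁ : ℕ}
    (he01 : d < e₀ + e₁) {t₀ t₁ : k[X]} (ht₀ : t₀ ≠ 0) (ht₁ : t₁ ≠ 0) (hdeg₁ : t₁.natDegree ≤ d)
    (hd₀ : (X - C a₀) ^ e₀ ∣ t₀) (hd₁ : (X - C a₁) ^ e₁ ∣ t₁) :
    LinearIndependent k ![t₀, t₁] := by
  rw [LinearIndependent.pair_iff]
  intro x y hxy
  by_contra hne
  rw [not_and_or] at hne
  have hy : y ≠ 0 := by
    intro hy0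
    rw [hy0, zero_smul, add_zero] at hxy
    rcases hne with hx | hy'
    · exact hx ((smul_eq_zero.mp hxy).resolve_right ht₀)
    · exact hy' hy0
  have ht₁eq : t₁ = (-(x / y)) • t₀ := by
    have : y • t₁ = -(x • t₀) := eq_neg_of_add_eq_zero_right hxy
    calc t₁ = y⁻¹ • (y • t₁) := by rw [smul_smul, inv_mul_cancel₀ hy, one_smul]
      _ = y⁻¹ • (-(x • t₀)) := by rw [this]
      _ = (-(x / y)) • t₀ := by rw [smul_neg, smul_smul, neg_smul]; congr 2; field_simp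
  have hdvd : (X - C a₀) ^ e₀ ∣ t₁ := by
    rw [ht₁eq, smul_eq_C_mul]; exact Dvd.dvd.mul_left hd₀ _
  have := two_point_bound ht₁ hdeg₁ h01 hdvd hd₁
  omega

/-- **normal form** for a two-dimensional space of polynomials of degree `≤ d` having members
vanishing to orders `e₀, e₁, e₂` at three distinct points with pairwise sums `> d`. -/
theorem exists_normal_form {d : ℕ} {V : Submodule k k[X]} (hV : V ≤ degreeLE k d)
    (hfr : Module.finrank k V = 2) {a₀ a₁ a₂ : k} (h01 : a₀ ≠ a₁) (h02 : a₀ ≠ a₂) (h12 : a₁ ≠ a₂)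
    {e₀ e₁ e₂ : ℕ} (he01 : d < e₀ + e₁) (he02 : d < e₀ + e₂) (he12 : d < e₁ + e₂)
    (h0 : ∃ s ∈ V, s ≠ 0 ∧ (X - C a₀) ^ e₀ ∣ s) (h1 : ∃ s ∈ V, s ≠ 0 ∧ (X - C a₁) ^ e₁ ∣ s)
    (h2 : ∃ s ∈ V, s ≠ 0 ∧ (X - C a₂) ^ e₂ ∣ s) :
    ∃ s₀ s₁ : k[X], s₀ ∈ V ∧ s₁ ∈ V ∧ s₀ ≠ 0 ∧ s₁ ≠ 0 ∧ (X - C a₀) ^ e₀ ∣ s₀ ∧
      (X - C a₁) ^ e₁ ∣ s₁ ∧ (X - C a₂) ^ e₂ ∣ (s₀ + s₁) ∧
      (∀ v ∈ V, ∃ x y : k, v = x • s₀ + y • s₁) := by
  obtain ⟨t₀, ht₀V, ht₀, hd₀⟩ := h0
  obtain ⟨t₁, ht₁V, ht₁, hd₁⟩ := h1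
  obtain ⟨t₂, ht₂V, ht₂, hd₂⟩ := h2
  have hfin : FiniteDimensional k V := Module.finite_of_finrank_pos (by rw [hfr]; norm_num)
  -- independence of t₀, t₁
  have hli : LinearIndependent k ![t₀, t₁] :=
    linearIndependent_pair_of_two_point h01 he01 ht₀ ht₁ (natDegree_le_of_mem hV ht₁V) hd₀ hd₁
  -- span {t₀, t₁} = V
  have hspan : Submodule.span k (Set.range ![t₀, t₁]) = V := by
    apply Submodule.eq_of_le_of_finrank_eq
    · rw [Submodule.span_le]
      rintro _ ⟨i, rfl⟩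
      fin_cases i
      · exact ht₀V
      · exact ht₁V
    · rw [finrank_span_eq_card hli, hfr]; simp
  have hrange : Set.range ![t₀, t₁] = {t₀, t₁} := by
    ext z
    simp only [Set.mem_range, Fin.exists_fin_two, Matrix.cons_val_zero, Matrix.cons_val_one,
      Set.mem_insert_iff, Set.mem_singleton_iff]
    constructor
    · rintro (h | h)
      · exact Or.inl h.symm
      · exact Or.inr h.symm
    · rintro (h | h)
      · exact Or.inl h.symm
      · exact Or.inr h.symm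
  rw [hrange] at hspan
  have hmem : ∀ v ∈ V, ∃ x y : k, v = x • t₀ + y • t₁ := by
    intro v hv
    rw [← hspan, Submodule.mem_span_pair] at hv
    obtain ⟨x, y, h⟩ := hv
    exact ⟨x, y, h.symm⟩
  obtain ⟨α, β, hαβ⟩ := hmem t₂ ht₂V
  have hα : α ≠ 0 := by
    intro h0
    rw [h0, zero_smul, zero_add] at hαβ
    have hdvd : (X - C a₁) ^ e₁ ∣ t₂ := by
      rw [hαβ, smul_eq_C_mul]; exact Dvd.dvd.mul_left hd₁ _
    have := two_point_bound ht₂ (natDegree_le_of_mem hV ht₂V) h12 hdvd hd₂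
    omega
  have hβ : β ≠ 0 := by
    intro h0
    rw [h0, zero_smul, add_zero] at hαβ
    have hdvd : (X - C a₀) ^ e₀ ∣ t₂ := by
      rw [hαβ, smul_eq_C_mul]; exact Dvd.dvd.mul_left hd₀ _
    have := two_point_bound ht₂ (natDegree_le_of_mem hV ht₂V) h02 hdvd hd₂
    omega
  refine ⟨α • t₀, β • t₁, V.smul_mem _ ht₀V, V.smul_mem _ ht₁V, smul_ne_zero hα ht₀,
    smul_ne_zero hβ ht₁, ?_, ?_, ?_, ?_⟩
  · rw [smul_eq_C_mul]; exact Dvd.dvd.mul_left hd₀ _
  · rw [smul_eq_C_mul]; exact Dvd.dvd.mul_left hd₁ _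
  · rw [← hαβ]; exact hd₂
  · intro v hv
    obtain ⟨x, y, h⟩ := hmem v hv
    refine ⟨x / α, y / β, ?_⟩
    rw [h, smul_smul, smul_smul, div_mul_cancel₀ _ hα, div_mul_cancel₀ _ hβ]

/-- **determinant trick** -/
theorem det_trick {d : ℕ} {a₀ a₁ a₂ : k} (h01 : a₀ ≠ a₁) (h02 : a₀ ≠ a₂) (h12 : a₁ ≠ a₂)
    {e₀ e₁ e₂ : ℕ} (he : 2 * d < e₀ + e₁ + e₂)
    {s₀ s₁ t₀ t₁ : k[X]} (hs₀ : s₀.natDegree ≤ d) (hs₁ : s₁.natDegree ≤ d)
    (ht₀ : t₀.natDegree ≤ d) (ht₁ : t₁.natDegree ≤ d)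
    (hs₀d : (X - C a₀) ^ e₀ ∣ s₀) (hs₁d : (X - C a₁) ^ e₁ ∣ s₁) (hs₂d : (X - C a₂) ^ e₂ ∣ (s₀ + s₁))
    (ht₀d : (X - C a₀) ^ e₀ ∣ t₀) (ht₁d : (X - C a₁) ^ e₁ ∣ t₁) (ht₂d : (X - C a₂) ^ e₂ ∣ (t₀ + t₁)) :
    s₀ * t₁ = t₀ * s₁ := by
  rw [← sub_eq_zero]
  apply eq_zero_of_pow_dvd (fun i : Fin 3 => ![a₀, a₁, a₂] i) _ (fun i : Fin 3 => ![e₀, e₁, e₂] i)
  · intro i
    fin_cases i
    · simp only [Fin.zero_eta, Matrix.cons_val_zero]
      exact dvd_sub (Dvd.dvd.mul_right hs₀d _) (Dvd.dvd.mul_right ht₀d _)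
    · simp only [Fin.mk_one, Matrix.cons_val_one, Matrix.cons_val_zero]
      exact dvd_sub (Dvd.dvd.mul_left ht₁d _) (Dvd.dvd.mul_left hs₁d _)
    · have : s₀ * t₁ - t₀ * s₁ = s₀ * (t₀ + t₁) - t₀ * (s₀ + s₁) := by ring
      rw [this]
      simp only [Fin.reduceFinMk, Matrix.cons_val_two, Matrix.tail_cons, Matrix.head_cons]
      exact dvd_sub (Dvd.dvd.mul_left ht₂d _) (Dvd.dvd.mul_left hs₂d _)
  · have h1 : (s₀ * t₁).natDegree ≤ d + d := natDegree_mul_le_of_le hs₀ ht₁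
    have h2 : (t₀ * s₁).natDegree ≤ d + d := natDegree_mul_le_of_le ht₀ hs₁
    have h3 := natDegree_sub_le (s₀ * t₁) (t₀ * s₁)
    simp only [Fin.sum_univ_three, Matrix.cons_val_zero, Matrix.cons_val_one, Matrix.cons_val_two,
      Matrix.tail_cons, Matrix.head_cons]
    omega
  · intro i j h
    fin_cases i <;> fin_cases j <;> simp_all

end Groth.Agent.Lib.Helper91.RamP1
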