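import Mathlib
import Groth.Agent.Lib.Helper91.RamP1b

/-!
# Three ramification points: uniqueness and the inseparable obstruction
-/

set_option autoImplicit false

open Polynomial W4c1limliniiii

namespace Groth.Agent.Lib.Helper91.RamP1

variable {k : Type*} [Field k]

theorem exists_dvd_of_hasRamIdx {V : Submodule k k[X]} {a : k} {e : ℕ} (h : HasRamIdx V a e) :
    ∃ s ∈ V, s ≠ 0 ∧ (X - C a) ^ e ∣ s := by
  obtain ⟨⟨s, hsV, hs0, hle⟩, -⟩ := h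
  exact ⟨s, hsV, hs0, (le_rootMultiplicity_iff hs0).mp hle⟩

theorem exists_dvd_of_le_rootMultiplicity {V : Submodule k k[X]} {a : k} {e : ℕ}
    (h : ∃ s ∈ V, s ≠ 0 ∧ e ≤ rootMultiplicity a s) :
    ∃ s ∈ V, s ≠ 0 ∧ (X - C a) ^ e ∣ s := by
  obtain ⟨s, hsV, hs0, hle⟩ := h
  exact ⟨s, hsV, hs0, (le_rootMultiplicity_iff hs0).mp hle⟩

/-- numerical consequences of admissibility for three points -/
theorem admissible_three {p d : ℕ} {e : Fin 3 → ℕ} (he : Admissible p d e) :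
    e 0 + e 1 + e 2 = 2 * d + 1 ∧ (∀ i, 2 ≤ e i) ∧ (∀ i, e i ≤ d) := by
  obtain ⟨h1, h2⟩ := he
  rw [Fin.sum_univ_three] at h2
  exact ⟨by omega, fun i => (h1 i).1, fun i => (h1 i).2.1⟩

/-- in a base-point-free space spanned by `s₀, s₁` the generators are coprime -/
theorem isCoprime_of_bpf [IsAlgClosed k] {V : Submodule k k[X]} {s₀ s₁ : k[X]}
    (hspan : ∀ v ∈ V, ∃ x y : k, v = x • s₀ + y • s₁)
    (hbpf : ∀ a : k, ∃ s ∈ V, s.eval a ≠ 0) : IsCoprime s₀ s₁ := by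
  rw [Polynomial.isCoprime_iff_aeval_ne_zero_of_isAlgClosed (k := k) (K := k)]
  intro a
  obtain ⟨s, hsV, hsa⟩ := hbpf a
  obtain ⟨x, y, rfl⟩ := hspan s hsV
  by_contra hcon
  rw [not_or, not_not, not_not] at hcon
  apply hsa
  rw [eval_add, eval_smul, eval_smul]
  have h0 : s₀.eval a = 0 := by simpa using hcon.1
  have h1 : s₁.eval a = 0 := by simpa using hcon.2
  rw [h0, h1, smul_zero, smul_zero, add_zero]

/-- the key comparison: a normal-form space `V'` (generators `t₀, t₁`) and a base-point-free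
normal-form space `V` (generators `s₀, s₁`) satisfy `tᵢ = h sᵢ` -/
theorem exists_mul_eq [IsAlgClosed k] {d : ℕ} {a₀ a₁ a₂ : k} (h01 : a₀ ≠ a₁) (h02 : a₀ ≠ a₂)
    (h12 : a₁ ≠ a₂) {e₀ e₁ e₂ : ℕ} (he : 2 * d < e₀ + e₁ + e₂)
    {V : Submodule k k[X]} {s₀ s₁ t₀ t₁ : k[X]} (hs₀0 : s₀ ≠ 0)
    (hspan : ∀ v ∈ V, ∃ x y : k, v = x • s₀ + y • s₁)
    (hbpf : ∀ a : k, ∃ s ∈ V, s.eval a ≠ 0)
    (hs₀ : s₀.natDegree ≤ d) (hs₁ : s₁.natDegree ≤ d)
    (ht₀ : t₀.natDegree ≤ d) (ht₁ : t₁.natDegree ≤ d)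
    (hs₀d : (X - C a₀) ^ e₀ ∣ s₀) (hs₁d : (X - C a₁) ^ e₁ ∣ s₁) (hs₂d : (X - C a₂) ^ e₂ ∣ (s₀ + s₁))
    (ht₀d : (X - C a₀) ^ e₀ ∣ t₀) (ht₁d : (X - C a₁) ^ e₁ ∣ t₁) (ht₂d : (X - C a₂) ^ e₂ ∣ (t₀ + t₁)) :
    ∃ h : k[X], t₀ = h * s₀ ∧ t₁ = h * s₁ := by
  have hdet := det_trick h01 h02 h12 he hs₀ hs₁ ht₀ ht₁ hs₀d hs₁d hs₂d ht₀d ht₁d ht₂d
  have hcop := isCoprime_of_bpf hspan hbpf
  have hdvd : s₀ ∣ t₀ := by
    apply hcop.dvd_of_dvd_mul_right
    rw [← hdet]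
    exact dvd_mul_right _ _
  obtain ⟨h, hh⟩ := hdvd
  refine ⟨h, by rw [hh]; ring, ?_⟩
  have : s₀ * t₁ = s₀ * (h * s₁) := by rw [hdet, hh]; ring
  exact mul_left_cancel₀ hs₀0 this

/-- **uniqueness** of the pencil with three prescribed ramification points -/
theorem ramMaps_subsingleton [IsAlgClosed k] {p d : ℕ} {P : Fin 3 → k} (hP : Function.Injective P)
    {e : Fin 3 → ℕ} (he : Admissible p d e) : (ramMaps d P e).Subsingleton := by
  obtain ⟨hsum, he2, hed⟩ := admissible_three he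
  have h01 : P 0 ≠ P 1 := fun h => by simpa using hP h
  have h02 : P 0 ≠ P 2 := fun h => by simpa using hP h
  have h12 : P 1 ≠ P 2 := fun h => by simpa using hP h
  have hd0 := hed 0
  have hd1 := hed 1
  have hd2 := hed 2
  -- it suffices to prove one inclusion
  have key : ∀ V ∈ ramMaps d P e, ∀ V' ∈ ramMaps d P e, V' ≤ V := by
    intro V hV V' hV'
    obtain ⟨⟨hle, hfr, hdeg, hbpf⟩, hsep, hram⟩ := hV
    obtain ⟨⟨hle', hfr', hdeg', hbpf'⟩, hsep', hram'⟩ := hV'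
    obtain ⟨s₀, s₁, hs₀V, hs₁V, hs₀0, hs₁0, hs₀d, hs₁d, hs₂d, hspan⟩ :=
      exists_normal_form hle hfr h01 h02 h12 (by omega) (by omega) (by omega)
        (exists_dvd_of_hasRamIdx (hram 0)) (exists_dvd_of_hasRamIdx (hram 1))
        (exists_dvd_of_hasRamIdx (hram 2))
    obtain ⟨t₀, t₁, ht₀V, ht₁V, ht₀0, ht₁0, ht₀d, ht₁d, ht₂d, hspan'⟩ :=
      exists_normal_form hle' hfr' h01 h02 h12 (by omega) (by omega) (by omega)
        (exists_dvd_of_hasRamIdx (hram' 0)) (exists_dvd_of_hasRamIdx (hram' 1))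
        (exists_dvd_of_hasRamIdx (hram' 2))
    obtain ⟨h, hh₀, hh₁⟩ := exists_mul_eq h01 h02 h12 (by omega) hs₀0 hspan hbpf
      (natDegree_le_of_mem hle hs₀V) (natDegree_le_of_mem hle hs₁V)
      (natDegree_le_of_mem hle' ht₀V) (natDegree_le_of_mem hle' ht₁V)
      hs₀d hs₁d hs₂d ht₀d ht₁d ht₂d
    -- h is constant by degree
    obtain ⟨s, hsV, hsdeg⟩ := hdeg
    obtain ⟨x, y, hsxy⟩ := hspan s hsV
    have hh0 : h ≠ 0 := by
      intro h0; rw [h0, zero_mul] at hh₀; exact ht₀0 hh₀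
    have hs0 : s ≠ 0 := by
      intro h0
      have h2 := he2 0
      rw [h0, natDegree_zero] at hsdeg
      omega
    have hmem : h * s ∈ V' := by
      have : h * s = x • t₀ + y • t₁ := by
        rw [hsxy, hh₀, hh₁, smul_eq_C_mul, smul_eq_C_mul, smul_eq_C_mul, smul_eq_C_mul]; ring
      rw [this]
      exact V'.add_mem (V'.smul_mem _ ht₀V) (V'.smul_mem _ ht₁V)
    have hdeg_hs := natDegree_le_of_mem hle' hmem
    rw [natDegree_mul hh0 hs0, hsdeg] at hdeg_hs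
    have hhdeg : h.natDegree = 0 := by omega
    obtain ⟨c, hc⟩ : ∃ c : k, h = C c := ⟨h.coeff 0, eq_C_of_natDegree_eq_zero hhdeg⟩
    intro v hv
    obtain ⟨x', y', rfl⟩ := hspan' v hv
    rw [hh₀, hh₁, hc]
    have : x' • (C c * s₀) + y' • (C c * s₁) = (x' * c) • s₀ + (y' * c) • s₁ := by
      simp only [smul_eq_C_mul, C_mul]; ring
    rw [this]
    exact V.add_mem (V.smul_mem _ hs₀V) (V.smul_mem _ hs₁V)
  intro V hV V' hV'
  exact le_antisymm (key V' hV' V hV) (key V hV V' hV')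

/-- **obstruction**: an inseparable space with the required vanishing excludes all pencils -/
theorem ramMaps_eq_empty_of_inseparable [IsAlgClosed k] {p d : ℕ} {P : Fin 3 → k}
    (hP : Function.Injective P) {e : Fin 3 → ℕ} (he : Admissible p d e)
    (V₀ : Submodule k k[X]) (hle₀ : V₀ ≤ degreeLE k d) (hfr₀ : Module.finrank k V₀ = 2)
    (hins : ¬ IsSeparable V₀)
    (hmem : ∀ i, ∃ s ∈ V₀, s ≠ 0 ∧ e i ≤ rootMultiplicity (P i) s) :
    ramMaps d P e = ∅ := by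
  obtain ⟨hsum, he2, hed⟩ := admissible_three he
  have h01 : P 0 ≠ P 1 := fun h => by simpa using hP h
  have h02 : P 0 ≠ P 2 := fun h => by simpa using hP h
  have h12 : P 1 ≠ P 2 := fun h => by simpa using hP h
  have hd0 := hed 0
  have hd1 := hed 1
  have hd2 := hed 2
  rw [Set.eq_empty_iff_forall_notMem]
  intro V hV
  obtain ⟨⟨hle, hfr, hdeg, hbpf⟩, hsep, hram⟩ := hV
  obtain ⟨s₀, s₁, hs₀V, hs₁V, hs₀0, hs₁0, hs₀d, hs₁d, hs₂d, hspan⟩ :=
    exists_normal_form hle hfr h01 h02 h12 (by omega) (by omega) (by omega)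
      (exists_dvd_of_hasRamIdx (hram 0)) (exists_dvd_of_hasRamIdx (hram 1))
      (exists_dvd_of_hasRamIdx (hram 2))
  obtain ⟨t₀, t₁, ht₀V, ht₁V, ht₀0, ht₁0, ht₀d, ht₁d, ht₂d, hspan'⟩ :=
    exists_normal_form hle₀ hfr₀ h01 h02 h12 (by omega) (by omega) (by omega)
      (exists_dvd_of_le_rootMultiplicity (hmem 0)) (exists_dvd_of_le_rootMultiplicity (hmem 1))
      (exists_dvd_of_le_rootMultiplicity (hmem 2))
  obtain ⟨h, hh₀, hh₁⟩ := exists_mul_eq h01 h02 h12 (by omega) hs₀0 hspan hbpf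
    (natDegree_le_of_mem hle hs₀V) (natDegree_le_of_mem hle hs₁V)
    (natDegree_le_of_mem hle₀ ht₀V) (natDegree_le_of_mem hle₀ ht₁V)
    hs₀d hs₁d hs₂d ht₀d ht₁d ht₂d
  have hh0 : h ≠ 0 := by
    intro h0; rw [h0, zero_mul] at hh₀; exact ht₀0 hh₀
  -- W(t₀, t₁) = 0
  have hW₀ : wronskian t₀ t₁ = 0 := by
    by_contra hne
    exact hins ⟨t₀, ht₀V, t₁, ht₁V, hne⟩
  rw [hh₀, hh₁, wronskian_mul_mul] at hW₀
  have hW : wronskian s₀ s₁ = 0 := by
    rcases mul_eq_zero.mp hW₀ with h1 | h1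
    · exact absurd (eq_zero_of_pow_eq_zero h1) hh0
    · exact h1
  obtain ⟨F, hFV, G, hGV, hFG⟩ := hsep
  obtain ⟨a, b, rfl⟩ := hspan F hFV
  obtain ⟨c, e', rfl⟩ := hspan G hGV
  rw [wronskian_comb, hW, smul_zero] at hFG
  exact hFG rfl

end Groth.Agent.Lib.Helper91.RamP1
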