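import Mathlib
import Groth.Agent.Lib.Helper91.RamP1c

/-!
# Three ramification points: existence by a dimension count
-/

set_option autoImplicit false

open Polynomial W4c1limliniiii

namespace Groth.Agent.Lib.Helper91.RamP1

variable {k : Type*} [Field k]

/-- polynomial with given coefficient vector -/
noncomputable def polyOf (n : ℕ) : (Fin n → k) →ₗ[k] k[X] :=
  (degreeLT k n).subtype ∘ₗ (degreeLTEquiv k n).symm.toLinearMap

theorem polyOf_injective (n : ℕ) : Function.Injective (polyOf (k := k) n) := by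
  unfold polyOf
  exact (Submodule.injective_subtype _).comp (degreeLTEquiv k n).symm.injective

theorem polyOf_mem (n : ℕ) (c : Fin n → k) : polyOf n c ∈ degreeLT k n := by
  unfold polyOf
  exact ((degreeLTEquiv k n).symm c).2

theorem finrank_degreeLT (n : ℕ) : Module.finrank k (degreeLT k n) = n := by
  rw [(degreeLTEquiv k n).finrank_eq, Module.finrank_fin_fun]

/-- the linear map `(u₀, u₁, u₂) ↦ ∑ gᵢ uᵢ` on coefficient vectors -/
noncomputable def tripleMap (g₀ g₁ g₂ : k[X]) (n₀ n₁ n₂ : ℕ) :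
    ((Fin n₀ → k) × (Fin n₁ → k) × (Fin n₂ → k)) →ₗ[k] k[X] :=
  (LinearMap.mulLeft k g₀) ∘ₗ polyOf n₀ ∘ₗ LinearMap.fst k _ _ +
  (LinearMap.mulLeft k g₁) ∘ₗ polyOf n₁ ∘ₗ LinearMap.fst k _ _ ∘ₗ LinearMap.snd k _ _ +
  (LinearMap.mulLeft k g₂) ∘ₗ polyOf n₂ ∘ₗ LinearMap.snd k _ _ ∘ₗ LinearMap.snd k _ _

theorem tripleMap_apply (g₀ g₁ g₂ : k[X]) (n₀ n₁ n₂ : ℕ)
    (c : (Fin n₀ → k) × (Fin n₁ → k) × (Fin n₂ → k)) :
    tripleMap g₀ g₁ g₂ n₀ n₁ n₂ c =
      g₀ * polyOf n₀ c.1 + g₁ * polyOf n₁ c.2.1 + g₂ * polyOf n₂ c.2.2 := by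
  simp [tripleMap]

theorem mul_mem_degreeLT {g u : k[X]} {m n N : ℕ} (hg : g.natDegree ≤ m) (hu : u ∈ degreeLT k n)
    (hN : m + n ≤ N) : g * u ∈ degreeLT k N := by
  rw [mem_degreeLT] at hu ⊢
  rcases eq_or_ne u 0 with rfl | hu0
  · simp
  rcases eq_or_ne g 0 with rfl | hg0
  · simp
  rw [degree_mul, degree_eq_natDegree hg0, degree_eq_natDegree hu0]
  rw [degree_eq_natDegree hu0] at hu
  have hu' : u.natDegree < n := by exact_mod_cast hu
  have : g.natDegree + u.natDegree < N := by omega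
  exact_mod_cast this

/-- **existence of a nontrivial triple** -/
theorem exists_triple {d : ℕ} (a₀ a₁ a₂ : k) {e₀ e₁ e₂ : ℕ} (hsum : e₀ + e₁ + e₂ = 2 * d + 1)
    (h0 : e₀ ≤ d) (h1 : e₁ ≤ d) (h2 : e₂ ≤ d) :
    ∃ u₀ u₁ u₂ : k[X], (u₀ ≠ 0 ∨ u₁ ≠ 0 ∨ u₂ ≠ 0) ∧
      ((X - C a₀) ^ e₀ * u₀).natDegree ≤ d ∧ ((X - C a₁) ^ e₁ * u₁).natDegree ≤ d ∧
      ((X - C a₂) ^ e₂ * u₂).natDegree ≤ d ∧
      (X - C a₀) ^ e₀ * u₀ + (X - C a₁) ^ e₁ * u₁ + (X - C a₂) ^ e₂ * u₂ = 0 := by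
  set n₀ := d + 1 - e₀ with hn₀
  set n₁ := d + 1 - e₁ with hn₁
  set n₂ := d + 1 - e₂ with hn₂
  set Φ := tripleMap ((X - C a₀) ^ e₀) ((X - C a₁) ^ e₁) ((X - C a₂) ^ e₂) n₀ n₁ n₂ with hΦ
  have hdegpow : ∀ (a : k) (e : ℕ), ((X - C a) ^ e).natDegree ≤ e := by
    intro a e
    rw [natDegree_pow, natDegree_X_sub_C, mul_one]
  have hrange : LinearMap.range Φ ≤ degreeLT k (d + 1) := by
    rintro _ ⟨c, rfl⟩
    rw [hΦ, tripleMap_apply]
    refine Submodule.add_mem _ (Submodule.add_mem _ ?_ ?_) ?_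
    · exact mul_mem_degreeLT (hdegpow a₀ e₀) (polyOf_mem n₀ c.1) (by omega)
    · exact mul_mem_degreeLT (hdegpow a₁ e₁) (polyOf_mem n₁ c.2.1) (by omega)
    · exact mul_mem_degreeLT (hdegpow a₂ e₂) (polyOf_mem n₂ c.2.2) (by omega)
  have hdom : Module.finrank k ((Fin n₀ → k) × (Fin n₁ → k) × (Fin n₂ → k)) = n₀ + n₁ + n₂ := by
    rw [Module.finrank_prod, Module.finrank_prod, Module.finrank_fin_fun, Module.finrank_fin_fun,
      Module.finrank_fin_fun]
    ring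
  have hker : LinearMap.ker Φ ≠ ⊥ := by
    have h₁ := Φ.finrank_range_add_finrank_ker
    have h₂ : Module.finrank k (LinearMap.range Φ) ≤ d + 1 := by
      have hfin : FiniteDimensional k (degreeLT k (d + 1)) :=
        Module.Finite.equiv (degreeLTEquiv k (d + 1)).symm
      have := Submodule.finrank_mono hrange
      rwa [finrank_degreeLT] at this
    have hpos : 0 < Module.finrank k (LinearMap.ker Φ) := by
      rw [hdom] at h₁
      omega
    exact Submodule.one_le_finrank_iff.mp hpos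
  obtain ⟨c, hc, hc0⟩ := Submodule.exists_mem_ne_zero_of_ne_bot hker
  rw [LinearMap.mem_ker, hΦ, tripleMap_apply] at hc
  refine ⟨polyOf n₀ c.1, polyOf n₁ c.2.1, polyOf n₂ c.2.2, ?_, ?_, ?_, ?_, hc⟩
  · by_contra hall
    rw [not_or, not_or, not_not, not_not, not_not] at hall
    apply hc0
    have e0 : c.1 = 0 := polyOf_injective n₀ (by rw [hall.1, map_zero])
    have e1 : c.2.1 = 0 := polyOf_injective n₁ (by rw [hall.2.1, map_zero])
    have e2 : c.2.2 = 0 := polyOf_injective n₂ (by rw [hall.2.2, map_zero])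
    ext <;> simp [e0, e1, e2]
  · have := mul_mem_degreeLT (hdegpow a₀ e₀) (polyOf_mem n₀ c.1) (N := d + 1) (by omega)
    rw [degreeLT_succ_eq_degreeLE, mem_degreeLE] at this
    exact natDegree_le_iff_degree_le.mpr this
  · have := mul_mem_degreeLT (hdegpow a₁ e₁) (polyOf_mem n₁ c.2.1) (N := d + 1) (by omega)
    rw [degreeLT_succ_eq_degreeLE, mem_degreeLE] at this
    exact natDegree_le_iff_degree_le.mpr this
  · have := mul_mem_degreeLT (hdegpow a₂ e₂) (polyOf_mem n₂ c.2.2) (N := d + 1) (by omega)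
    rw [degreeLT_succ_eq_degreeLE, mem_degreeLE] at this
    exact natDegree_le_iff_degree_le.mpr this

end Groth.Agent.Lib.Helper91.RamP1
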