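import Mathlib
import Groth.Agent.Lib.Helper91.RamP1d

/-!
# Three ramification points: the space built from a triple is a pencil when separable
-/

set_option autoImplicit false

open Polynomial W4c1limliniiii

namespace Groth.Agent.Lib.Helper91.RamP1

variable {k : Type*} [Field k]

theorem zero_of_two {d : ℕ} {s t : k[X]} (hst : s + t = 0) (hs : s.natDegree ≤ d) {a b : k}
    (hab : a ≠ b) {m n : ℕ} (hmn : d < m + n) (ha : (X - C a) ^ m ∣ s) (hb : (X - C b) ^ n ∣ t) :
    s = 0 ∧ t = 0 := by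
  have ht : t = -s := eq_neg_of_add_eq_zero_right hst
  have hs0 : s = 0 := by
    by_contra hne
    have hb' : (X - C b) ^ n ∣ s := by
      have : s = -t := by rw [ht, neg_neg]
      rw [this]; exact (dvd_neg).mpr hb
    have := two_point_bound hne hs hab ha hb'
    omega
  exact ⟨hs0, by rw [ht, hs0, neg_zero]⟩

theorem eval_wronskian_eq_zero {a : k} {A B : k[X]} (hA : eval a A = 0) (hB : eval a B = 0) :
    eval a (wronskian A B) = 0 := by
  unfold wronskian
  rw [eval_sub, eval_mul, eval_mul, hA, hB]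
  ring

/-- **existence**: a two-dimensional space with the required vanishing, which is a pencil in
`ramMaps` as soon as it is separable -/
theorem exists_space {p d : ℕ} {P : Fin 3 → k} (hP : Function.Injective P)
    {e : Fin 3 → ℕ} (he : Admissible p d e) :
    ∃ V₀ : Submodule k k[X], V₀ ≤ degreeLE k d ∧ Module.finrank k V₀ = 2 ∧
      (∀ i, ∃ s ∈ V₀, s ≠ 0 ∧ e i ≤ rootMultiplicity (P i) s) ∧
      (IsSeparable V₀ → V₀ ∈ ramMaps d P e) := by
  obtain ⟨hsum, he2, hed⟩ := admissible_three he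
  have h01 : P 0 ≠ P 1 := fun h => by simpa using hP h
  have h02 : P 0 ≠ P 2 := fun h => by simpa using hP h
  have h12 : P 1 ≠ P 2 := fun h => by simpa using hP h
  have hd0 := hed 0
  have hd1 := hed 1
  have hd2 := hed 2
  have he20 := he2 0
  have he21 := he2 1
  have he22 := he2 2
  obtain ⟨u₀, u₁, u₂, hne, hdeg₀, hdeg₁, hdeg₂, hrel⟩ :=
    exists_triple (P 0) (P 1) (P 2) hsum hd0 hd1 hd2
  set s₀ := (X - C (P 0)) ^ e 0 * u₀ with hs₀
  set s₁ := (X - C (P 1)) ^ e 1 * u₁ with hs₁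
  set s₂ := (X - C (P 2)) ^ e 2 * u₂ with hs₂
  have hs₀d : (X - C (P 0)) ^ e 0 ∣ s₀ := dvd_mul_right _ _
  have hs₁d : (X - C (P 1)) ^ e 1 ∣ s₁ := dvd_mul_right _ _
  have hs₂d' : (X - C (P 2)) ^ e 2 ∣ s₂ := dvd_mul_right _ _
  have hpow : ∀ (a : k) (n : ℕ), (X - C a) ^ n ≠ 0 := fun a n => pow_ne_zero _ (X_sub_C_ne_zero a)
  have hall : s₀ = 0 ∧ s₁ = 0 ∧ s₂ = 0 → False := by
    rintro ⟨e0, e1, e2⟩
    rcases hne with h | h | h
    · exact h ((mul_eq_zero.mp e0).resolve_left (hpow _ _))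
    · exact h ((mul_eq_zero.mp e1).resolve_left (hpow _ _))
    · exact h ((mul_eq_zero.mp e2).resolve_left (hpow _ _))
  have hs₀0 : s₀ ≠ 0 := by
    intro h0
    have h' : s₁ + s₂ = 0 := by rw [← hrel, h0, zero_add]
    obtain ⟨e1, e2⟩ := zero_of_two h' hdeg₁ h12 (by omega) hs₁d hs₂d'
    exact hall ⟨h0, e1, e2⟩
  have hs₁0 : s₁ ≠ 0 := by
    intro h0
    have h' : s₀ + s₂ = 0 := by rw [← hrel, h0, add_zero]
    obtain ⟨e1, e2⟩ := zero_of_two h' hdeg₀ h02 (by omega) hs₀d hs₂d'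
    exact hall ⟨e1, h0, e2⟩
  have hs₂0 : s₂ ≠ 0 := by
    intro h0
    have h' : s₀ + s₁ = 0 := by rw [← hrel, h0, add_zero]
    obtain ⟨e1, e2⟩ := zero_of_two h' hdeg₀ h01 (by omega) hs₀d hs₁d
    exact hall ⟨e1, e2, h0⟩
  have hs01 : s₀ + s₁ = -s₂ := eq_neg_of_add_eq_zero_left hrel
  have hs01ne : s₀ + s₁ ≠ 0 := by rw [hs01]; exact neg_ne_zero.mpr hs₂0
  have hs₂d : (X - C (P 2)) ^ e 2 ∣ s₀ + s₁ := by rw [hs01]; exact (dvd_neg).mpr hs₂d'
  have hli : LinearIndependent k ![s₀, s₁] :=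
    linearIndependent_pair_of_two_point h01 (by omega) hs₀0 hs₁0 hdeg₁ hs₀d hs₁d
  have hrange : Set.range ![s₀, s₁] = {s₀, s₁} := by
    ext z
    simp only [Set.mem_range, Fin.exists_fin_two, Matrix.cons_val_zero, Matrix.cons_val_one,
      Set.mem_insert_iff, Set.mem_singleton_iff]
    constructor
    · rintro (h | h)
      · exact Or.inl h.symm
      · exact Or.inr h.symm
    · rintro (h | h)
      · exact Or.inl h.symm
      · exact Or.inr h.symm
  set V₀ : Submodule k k[X] := Submodule.span k {s₀, s₁} with hV₀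
  have hs₀V : s₀ ∈ V₀ := Submodule.subset_span (by simp)
  have hs₁V : s₁ ∈ V₀ := Submodule.subset_span (by simp)
  have hle : V₀ ≤ degreeLE k d := by
    rw [hV₀, Submodule.span_le]
    rintro z (rfl | rfl)
    · exact mem_degreeLE.mpr (natDegree_le_iff_degree_le.mp hdeg₀)
    · exact mem_degreeLE.mpr (natDegree_le_iff_degree_le.mp hdeg₁)
  have hfr : Module.finrank k V₀ = 2 := by
    rw [hV₀, ← hrange, finrank_span_eq_card hli]; simp
  have hspan : ∀ v ∈ V₀, ∃ x y : k, v = x • s₀ + y • s₁ := by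
    intro v hv
    rw [hV₀, Submodule.mem_span_pair] at hv
    obtain ⟨x, y, h⟩ := hv
    exact ⟨x, y, h.symm⟩
  have hmem : ∀ i, ∃ s ∈ V₀, s ≠ 0 ∧ (X - C (P i)) ^ e i ∣ s := by
    intro i
    fin_cases i
    · exact ⟨s₀, hs₀V, hs₀0, hs₀d⟩
    · exact ⟨s₁, hs₁V, hs₁0, hs₁d⟩
    · exact ⟨s₀ + s₁, V₀.add_mem hs₀V hs₁V, hs01ne, hs₂d⟩
  refine ⟨V₀, hle, hfr, ?_, ?_⟩
  · intro i
    obtain ⟨s, hsV, hs0, hd⟩ := hmem i
    exact ⟨s, hsV, hs0, (le_rootMultiplicity_iff hs0).mpr hd⟩
  intro hsep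
  -- the Wronskian of the generators
  set W := wronskian s₀ s₁ with hW
  have hW0 : W ≠ 0 := by
    obtain ⟨F, hFV, G, hGV, hFG⟩ := hsep
    obtain ⟨a, b, rfl⟩ := hspan F hFV
    obtain ⟨c, e', rfl⟩ := hspan G hGV
    rw [wronskian_comb] at hFG
    intro h0
    rw [← hW, h0, smul_zero] at hFG
    exact hFG rfl
  have hWd : ∀ i, (X - C (P i)) ^ (e i - 1) ∣ W := by
    intro i
    fin_cases i
    · exact pow_pred_dvd_wronskian hs₀d s₁
    · exact pow_pred_dvd_wronskian' hs₁d s₀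
    · have : W = wronskian s₀ (s₀ + s₁) := by
        rw [wronskian_add_right, wronskian_self_eq_zero, zero_add]
      rw [this]
      exact pow_pred_dvd_wronskian' hs₂d s₀
  have hmsum : ∑ i : Fin 3, (e i - 1) = 2 * d - 2 := by
    rw [Fin.sum_univ_three]; omega
  have hWdeg : W.natDegree ≤ ∑ i : Fin 3, (e i - 1) := by
    rw [hmsum]; exact natDegree_wronskian_le (by omega) hdeg₀ hdeg₁
  have hD1 := eval_ne_zero_of_exact P hP (fun i => e i - 1) W hW0 hWd hWdeg
  have hD2 := not_pow_succ_dvd_of_exact P hP (fun i => e i - 1) W hW0 hWd hWdeg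
  have hD3 := natDegree_eq_of_exact P hP (fun i => e i - 1) W hW0 hWd hWdeg
  have hD2' : ∀ i, ¬ (X - C (P i)) ^ (e i) ∣ W := by
    intro i
    have := hD2 i
    have h2 := he2 i
    have e1 : e i - 1 + 1 = e i := by omega
    simpa only [e1] using this
  refine ⟨⟨hle, hfr, ?_, ?_⟩, hsep, ?_⟩
  · -- a member of degree exactly d
    by_contra hcon
    push Not at hcon
    have hlt₀ : s₀.natDegree ≤ d - 1 := by
      have := hcon s₀ hs₀V
      omega
    have hlt₁ : s₁.natDegree ≤ d - 1 := by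
      have := hcon s₁ hs₁V
      omega
    have := natDegree_wronskian_le (d := d - 1) (by omega) hlt₀ hlt₁
    rw [← hW, hD3, hmsum] at this
    omega
  · -- base point free
    intro a
    by_contra hcon
    push Not at hcon
    have ha₀ : (X - C a) ∣ s₀ := dvd_iff_isRoot.mpr (hcon s₀ hs₀V)
    have ha₁ : (X - C a) ∣ s₁ := dvd_iff_isRoot.mpr (hcon s₁ hs₁V)
    by_cases haP : ∀ i, P i ≠ a
    · apply hD1 a haP
      exact eval_wronskian_eq_zero (hcon s₀ hs₀V) (hcon s₁ hs₁V)
    · push Not at haP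
      obtain ⟨i, rfl⟩ := haP
      fin_cases i
      · exact hD2' 0 (pow_dvd_wronskian_of_dvd hs₀d ha₁)
      · apply hD2' 1
        rw [hW, ← wronskian_neg_eq]
        exact (dvd_neg).mpr (pow_dvd_wronskian_of_dvd hs₁d ha₀)
      · apply hD2' 2
        have : W = -wronskian (s₀ + s₁) s₀ := by
          rw [wronskian_neg_eq, wronskian_add_right, wronskian_self_eq_zero, zero_add]
        rw [this]
        exact (dvd_neg).mpr (pow_dvd_wronskian_of_dvd hs₂d ha₀)
  · -- exact ramification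
    intro i
    refine ⟨?_, ?_⟩
    · obtain ⟨s, hsV, hs0, hd⟩ := hmem i
      exact ⟨s, hsV, hs0, (le_rootMultiplicity_iff hs0).mpr hd⟩
    · intro s hsV hs0
      by_contra hcon
      push Not at hcon
      have hdvd : (X - C (P i)) ^ (e i + 1) ∣ s := (le_rootMultiplicity_iff hs0).mp hcon
      obtain ⟨x, y, rfl⟩ := hspan s hsV
      have e1 : e i + 1 - 1 = e i := by omega
      by_cases hx : x = 0
      · have hy : y ≠ 0 := by
          intro hy; apply hs0; rw [hx, hy, zero_smul, zero_smul, add_zero]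
        have h1 := pow_pred_dvd_wronskian hdvd s₀
        rw [e1] at h1
        have h2 : wronskian (x • s₀ + y • s₁) s₀ = (-y) • W := by
          have := wronskian_comb x y 1 0 s₀ s₁
          rw [one_smul, zero_smul, add_zero] at this
          rw [this]; congr 1; ring
        rw [h2, smul_eq_C_mul] at h1
        have hu : IsUnit (C (-y) : k[X]) := isUnit_C.mpr (neg_ne_zero.mpr hy).isUnit
        exact hD2' i ((hu.dvd_mul_left).mp h1)
      · have h1 := pow_pred_dvd_wronskian hdvd s₁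
        rw [e1] at h1
        have h2 : wronskian (x • s₀ + y • s₁) s₁ = x • W := by
          have := wronskian_comb x y 0 1 s₀ s₁
          rw [one_smul, zero_smul, zero_add] at this
          rw [this]; congr 1; ring
        rw [h2, smul_eq_C_mul] at h1
        have hu : IsUnit (C x : k[X]) := isUnit_C.mpr (Ne.isUnit hx)
        exact hD2' i ((hu.dvd_mul_left).mp h1)

end Groth.Agent.Lib.Helper91.RamP1
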