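import Mathlib
import Groth.Agent.Lib.Helper91.RamP1e

/-!
# Separability in small degree, and the inseparable obstruction `⟨g, g X^p⟩`
-/

set_option autoImplicit false

open Polynomial W4c1limliniiii

namespace Groth.Agent.Lib.Helper91.RamP1

variable {k : Type*} [Field k]

/-- a polynomial of degree `< p` (or any degree, if `p = 0`) with zero derivative is constant -/
theorem eq_C_of_derivative_eq_zero' (p : ℕ) [CharP k p] {f : k[X]}
    (hp : p = 0 ∨ f.natDegree < p) (hf : derivative f = 0) : f = C (f.coeff 0) := by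
  ext n
  rcases n with _ | n
  · simp
  · rw [coeff_C_succ]
    by_cases hn : f.natDegree < n + 1
    · exact coeff_eq_zero_of_natDegree_lt hn
    · have h1 : (derivative f).coeff n = 0 := by rw [hf, coeff_zero]
      rw [coeff_derivative] at h1
      have h2 : ((n : k) + 1) ≠ 0 := by
        have : ((n + 1 : ℕ) : k) ≠ 0 := by
          rw [Ne, CharP.cast_eq_zero_iff k p]
          intro hdvd
          rcases hp with hp | hp
          · subst hp; simp at hdvd
          · have := Nat.le_of_dvd (Nat.succ_pos n) hdvd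
            omega
        simpa using this
      exact (mul_eq_zero.mp h1).resolve_right h2

/-- two polynomials of small degree with vanishing Wronskian are proportional -/
theorem exists_smul_eq_of_wronskian_eq_zero (p : ℕ) [CharP k p] {d : ℕ} (hp : p = 0 ∨ d < p)
    {F G : k[X]} (hF : F.natDegree ≤ d) (hG : G.natDegree ≤ d) (hG0 : G ≠ 0)
    (hW : wronskian F G = 0) : ∃ c : k, F = c • G := by
  classical
  by_cases hF0 : F = 0
  · exact ⟨0, by rw [hF0, zero_smul]⟩
  set D := EuclideanDomain.gcd F G with hD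
  have hD0 : D ≠ 0 := by
    intro h0
    rw [hD, EuclideanDomain.gcd_eq_zero_iff] at h0
    exact hG0 h0.2
  obtain ⟨f, hf⟩ := EuclideanDomain.gcd_dvd_left F G
  obtain ⟨g, hg⟩ := EuclideanDomain.gcd_dvd_right F G
  rw [← hD] at hf hg
  have hcop : IsCoprime f g := by
    refine ⟨EuclideanDomain.gcdA F G, EuclideanDomain.gcdB F G, ?_⟩
    have h1 := EuclideanDomain.gcd_eq_gcd_ab F G
    rw [← hD] at h1
    generalize EuclideanDomain.gcdA F G = A at h1 ⊢
    generalize EuclideanDomain.gcdB F G = B at h1 ⊢
    have h2 : D * (A * f + B * g) = F * A + G * B := by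
      rw [hf, hg]
      ring
    rw [← h1] at h2
    exact mul_left_cancel₀ hD0 (by rw [h2, mul_one])
  have hW' : wronskian f g = 0 := by
    have := wronskian_mul_mul D f g
    rw [← hf, ← hg, hW] at this
    have h3 := mul_eq_zero.mp this.symm
    exact h3.resolve_left (pow_ne_zero 2 hD0)
  obtain ⟨hf', hg'⟩ := hcop.wronskian_eq_zero_iff.mp hW'
  have hf0 : f ≠ 0 := by
    intro h0; exact hF0 (by rw [hf, h0, mul_zero])
  have hg0 : g ≠ 0 := by
    intro h0; exact hG0 (by rw [hg, h0, mul_zero])
  have hfd : f.natDegree ≤ d := by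
    have : F.natDegree = D.natDegree + f.natDegree := by rw [hf, natDegree_mul hD0 hf0]
    omega
  have hgd : g.natDegree ≤ d := by
    have : G.natDegree = D.natDegree + g.natDegree := by rw [hg, natDegree_mul hD0 hg0]
    omega
  have hfC := eq_C_of_derivative_eq_zero' p (hp.imp id (fun h => lt_of_le_of_lt hfd h)) hf'
  have hgC := eq_C_of_derivative_eq_zero' p (hp.imp id (fun h => lt_of_le_of_lt hgd h)) hg'
  have hb : g.coeff 0 ≠ 0 := by
    intro h0; apply hg0; rw [hgC, h0, C_0]
  refine ⟨f.coeff 0 / g.coeff 0, ?_⟩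
  rw [hf, hg, hfC, hgC, smul_eq_C_mul]
  simp only [coeff_C_zero]
  rw [div_eq_mul_inv, C_mul]
  have : C (g.coeff 0)⁻¹ * C (g.coeff 0) = (1 : k[X]) := by
    rw [← C_mul, inv_mul_cancel₀ hb, C_1]
  calc D * C (f.coeff 0) = D * C (f.coeff 0) * 1 := by rw [mul_one]
    _ = D * C (f.coeff 0) * (C (g.coeff 0)⁻¹ * C (g.coeff 0)) := by rw [this]
    _ = C (f.coeff 0) * C (g.coeff 0)⁻¹ * (D * C (g.coeff 0)) := by ring

/-- a two-dimensional space of polynomials of small degree is separable -/
theorem isSeparable_of_finrank_two (p : ℕ) [CharP k p] {d : ℕ} (hp : p = 0 ∨ d < p)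
    {V : Submodule k k[X]} (hle : V ≤ degreeLE k d) (hfr : Module.finrank k V = 2) :
    IsSeparable V := by
  have hfin : FiniteDimensional k V := Module.finite_of_finrank_pos (by rw [hfr]; norm_num)
  let b := Module.finBasisOfFinrankEq k V hfr
  refine ⟨b 0, (b 0).2, b 1, (b 1).2, ?_⟩
  intro hW
  have hb1 : (b 1 : k[X]) ≠ 0 := by
    intro h0
    exact b.ne_zero 1 (Subtype.ext h0)
  obtain ⟨c, hc⟩ := exists_smul_eq_of_wronskian_eq_zero p hp (natDegree_le_of_mem hle (b 0).2)
    (natDegree_le_of_mem hle (b 1).2) hb1 hW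
  have hli := b.linearIndependent
  have hpair : LinearIndependent k ![b 0, b 1] := by
    convert hli using 1
    ext i
    fin_cases i <;> rfl
  rw [LinearIndependent.pair_iff] at hpair
  have := hpair 1 (-c) (by
    apply Subtype.ext
    rw [one_smul, neg_smul]
    push_cast
    rw [hc]
    simp)
  exact one_ne_zero this.1

end Groth.Agent.Lib.Helper91.RamP1
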