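import Mathlib
import Groth.Agent.Lib.Helper91.RamP1f

/-!
# The inseparable obstruction `⟨g, g X^p⟩`
-/

set_option autoImplicit false

open Polynomial W4c1limliniiii

namespace Groth.Agent.Lib.Helper91.RamP1

variable {k : Type*} [Field k]

theorem wronskian_mul_X_pow_char (p : ℕ) [CharP k p] (g : k[X]) :
    wronskian g (g * X ^ p) = 0 := by
  have h := wronskian_mul_mul g 1 (X ^ p)
  rw [mul_one] at h
  rw [h]
  have : wronskian (1 : k[X]) (X ^ p) = 0 := by
    unfold wronskian
    rw [derivative_one, zero_mul, sub_zero, one_mul, derivative_X_pow]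
    have : (C (p : k) : k[X]) = 0 := by rw [CharP.cast_eq_zero, C_0]
    rw [this, zero_mul]
  rw [this, mul_zero]

theorem not_isSeparable_span_pair {F G : k[X]} (h : wronskian F G = 0) :
    ¬ IsSeparable (Submodule.span k {F, G}) := by
  rintro ⟨A, hA, B, hB, hne⟩
  rw [Submodule.mem_span_pair] at hA hB
  obtain ⟨a, b, rfl⟩ := hA
  obtain ⟨c, e, rfl⟩ := hB
  apply hne
  rw [wronskian_comb, h, smul_zero]

/-- the inseparable space `⟨g, g X^p⟩` with `g = (X - P₂)^(e₂ - p)` -/
theorem exists_insep_space (p : ℕ) [CharP k p] (hp0 : p ≠ 0) {d : ℕ} (hpd : p ≤ d)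
    (P : Fin 3 → k) {e : Fin 3 → ℕ} (he0 : e 0 < p) (he1 : e 1 < p) (hed : e 2 ≤ d) :
    ∃ V₀ : Submodule k k[X], V₀ ≤ degreeLE k d ∧ Module.finrank k V₀ = 2 ∧ ¬ IsSeparable V₀ ∧
      ∀ i, ∃ s ∈ V₀, s ≠ 0 ∧ e i ≤ rootMultiplicity (P i) s := by
  have hprime : p.Prime := (CharP.char_is_prime_or_zero k p).resolve_right hp0
  haveI : Fact p.Prime := ⟨hprime⟩
  set g : k[X] := (X - C (P 2)) ^ (e 2 - p) with hg
  have hg0 : g ≠ 0 := pow_ne_zero _ (X_sub_C_ne_zero _)
  have hgdeg : g.natDegree = e 2 - p := by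
    rw [hg, natDegree_pow, natDegree_X_sub_C, mul_one]
  have hgXdeg : (g * X ^ p).natDegree = (e 2 - p) + p := by
    rw [natDegree_mul hg0 (pow_ne_zero _ X_ne_zero), hgdeg, natDegree_X_pow]
  refine ⟨Submodule.span k {g, g * X ^ p}, ?_, ?_, ?_, ?_⟩
  · rw [Submodule.span_le]
    intro s hs
    rcases hs with rfl | hs
    · change g ∈ degreeLE k d
      rw [mem_degreeLE]
      apply natDegree_le_iff_degree_le.mp
      omega
    · rw [Set.mem_singleton_iff] at hs
      subst hs
      change g * X ^ p ∈ degreeLE k d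
      rw [mem_degreeLE]
      apply natDegree_le_iff_degree_le.mp
      omega
  · have hli : LinearIndependent k ![g, g * X ^ p] := by
      rw [LinearIndependent.pair_iff]
      intro x y hxy
      have hy : y = 0 := by
        have h1 := congrArg (fun q : k[X] => q.coeff ((e 2 - p) + p)) hxy
        simp only [coeff_add, coeff_smul, smul_eq_mul, coeff_zero] at h1
        rw [coeff_eq_zero_of_natDegree_lt (by rw [hgdeg]; have := hprime.pos; omega), mul_zero,
          zero_add] at h1
        have h2 : (g * X ^ p).coeff ((e 2 - p) + p) ≠ 0 := by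
          rw [← hgXdeg]
          exact leadingCoeff_ne_zero.mpr (mul_ne_zero hg0 (pow_ne_zero _ X_ne_zero))
        exact (mul_eq_zero.mp h1).resolve_right h2
      rw [hy, zero_smul, add_zero] at hxy
      exact ⟨(smul_eq_zero.mp hxy).resolve_right hg0, hy⟩
    have hrange : Set.range ![g, g * X ^ p] = {g, g * X ^ p} := by
      ext z
      simp only [Set.mem_range, Fin.exists_fin_two, Matrix.cons_val_zero, Matrix.cons_val_one,
        Set.mem_insert_iff, Set.mem_singleton_iff]
      constructor
      · rintro (h | h)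
        · exact Or.inl h.symm
        · exact Or.inr h.symm
      · rintro (h | h)
        · exact Or.inl h.symm
        · exact Or.inr h.symm
    rw [← hrange, finrank_span_eq_card hli]
    simp
  · exact not_isSeparable_span_pair (wronskian_mul_X_pow_char p g)
  · -- members `g (X - a)^p`
    have hmem : ∀ a : k, g * (X - C a) ^ p ∈ Submodule.span k {g, g * X ^ p} := by
      intro a
      rw [Submodule.mem_span_pair]
      refine ⟨-(a ^ p), 1, ?_⟩
      rw [sub_pow_char, one_smul, smul_eq_C_mul, C_neg, C_pow]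
      ring
    have hne : ∀ a : k, g * (X - C a) ^ p ≠ 0 :=
      fun a => mul_ne_zero hg0 (pow_ne_zero _ (X_sub_C_ne_zero _))
    intro i
    refine ⟨g * (X - C (P i)) ^ p, hmem _, hne _, ?_⟩
    rw [le_rootMultiplicity_iff (hne _)]
    fin_cases i
    · exact Dvd.dvd.mul_left (pow_dvd_pow _ he0.le) _
    · exact Dvd.dvd.mul_left (pow_dvd_pow _ he1.le) _
    · change (X - C (P 2)) ^ e 2 ∣ g * (X - C (P 2)) ^ p
      rw [hg, ← pow_add]
      exact pow_dvd_pow _ (by omega)

end Groth.Agent.Lib.Helper91.RamP1
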