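import Mathlib

/-!
# Flatness over a reduced noetherian base: vanishing tested on the fibres at minimal primes
-/

set_option autoImplicit false
universe u v

open TensorProduct

namespace Groth.Agent.Lib.Helper91.RelDivLe

/-- an element of a flat module over a reduced noetherian ring is zero as soon as it dies in the
"fibres" at the minimal primes -/
theorem eq_zero_of_forall_tmul_eq_zero {A : Type u} {N : Type v} [CommRing A] [IsNoetherianRing A]
    [IsReduced A] [AddCommGroup N] [Module A N] [Module.Flat A N] (n : N)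
    (K : minimalPrimes A → Type v) [∀ p, CommRing (K p)] [∀ p, Algebra A (K p)]
    (hK : ∀ p, RingHom.ker (algebraMap A (K p)) ≤ p.1)
    (h : ∀ p, (n ⊗ₜ[A] (1 : K p)) = 0) : n = 0 := by
  classical
  haveI : Finite (minimalPrimes A) := (minimalPrimes.finite_of_isNoetherianRing A).to_subtype
  haveI : Fintype (minimalPrimes A) := Fintype.ofFinite _
  let g : A →ₗ[A] (∀ p : minimalPrimes A, K p) :=
    LinearMap.pi (fun p => Algebra.linearMap A (K p))
  have hg : Function.Injective g := by
    rw [← LinearMap.ker_eq_bot, eq_bot_iff]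
    intro a ha
    rw [LinearMap.mem_ker] at ha
    have h1 : ∀ p : minimalPrimes A, a ∈ p.1 := by
      intro p
      apply hK p
      rw [RingHom.mem_ker]
      have := congrFun ha p
      exact this
    have h2 : a ∈ sInf (minimalPrimes A) := by
      rw [Ideal.mem_sInf]
      intro p hp
      exact h1 ⟨p, hp⟩
    have h3 : sInf (minimalPrimes A) = (⊥ : Ideal A) := by
      show sInf ((⊥ : Ideal A).minimalPrimes) = ⊥
      rw [Ideal.sInf_minimalPrimes]
      exact (nilradical_eq_zero A)
    rw [h3] at h2
    exact h2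
  have hinj := Module.Flat.lTensor_preserves_injective_linearMap (M := N) g hg
  have h0 : (n ⊗ₜ[A] (1 : A)) = 0 := by
    apply hinj
    rw [map_zero]
    apply (TensorProduct.piRight A A N K).injective
    rw [map_zero, LinearMap.lTensor_tmul]
    funext p
    rw [TensorProduct.piRight_apply, TensorProduct.piRightHom_tmul]
    show n ⊗ₜ[A] (g 1 p) = 0
    have : g 1 p = 1 := by
      show algebraMap A (K p) 1 = 1
      exact map_one _
    rw [this]
    exact h p
  have h1 := congrArg (TensorProduct.rid A N) h0
  rw [TensorProduct.rid_tmul, map_zero, one_smul] at h1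
  exact h1

/-- membership in the kernel of `B → N`, for `N` flat over a reduced noetherian `A`, tested on the
fibres at the minimal primes -/
theorem mem_of_flat_of_forall_fibre {A B N : Type u} [CommRing A] [CommRing B] [CommRing N]
    [Algebra A B] [Algebra A N] [Algebra B N] [IsScalarTower A B N] [IsNoetherianRing A]
    [IsReduced A] [Module.Flat A N] (I' : Ideal B) (hI' : RingHom.ker (algebraMap B N) = I')
    (f : B) (K : minimalPrimes A → Type u) [∀ p, CommRing (K p)] [∀ p, Algebra A (K p)]
    (hK : ∀ p, RingHom.ker (algebraMap A (K p)) ≤ p.1)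
    (h : ∀ p, (f ⊗ₜ[A] (1 : K p)) ∈
      I'.map (Algebra.TensorProduct.includeLeftRingHom : B →+* B ⊗[A] K p)) : f ∈ I' := by
  rw [← hI', RingHom.mem_ker]
  apply eq_zero_of_forall_tmul_eq_zero (algebraMap B N f) K hK
  intro p
  let Ψ : B ⊗[A] K p →ₐ[A] N ⊗[A] K p :=
    Algebra.TensorProduct.map (IsScalarTower.toAlgHom A B N) (AlgHom.id A (K p))
  have hΨ : I'.map (Algebra.TensorProduct.includeLeftRingHom : B →+* B ⊗[A] K p) ≤
      RingHom.ker Ψ.toRingHom := by
    rw [Ideal.map_le_iff_le_comap]
    intro b hb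
    rw [Ideal.mem_comap, RingHom.mem_ker]
    show Ψ (b ⊗ₜ[A] (1 : K p)) = 0
    rw [Algebra.TensorProduct.map_tmul]
    have hb0 : algebraMap B N b = 0 := by
      rw [← RingHom.mem_ker, hI']
      exact hb
    show (algebraMap B N b) ⊗ₜ[A] (1 : K p) = 0
    rw [hb0, TensorProduct.zero_tmul]
  have h1 := hΨ (h p)
  rw [RingHom.mem_ker] at h1
  have h2 : Ψ (f ⊗ₜ[A] (1 : K p)) = (algebraMap B N f) ⊗ₜ[A] (1 : K p) := by
    rw [Algebra.TensorProduct.map_tmul]
    rfl
  rw [← h2]
  exact h1

end Groth.Agent.Lib.Helper91.RelDivLe
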