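import Mathlib
import Groth.Agent.Lib.Helper91.RelDivLe1
import Groth.Agent.Lib.Helper91.RelDivLe2
import Groth.Agent.Lib.Helper91.StalkIdeal

/-!
# Containment of relative divisors tested on fibres, over a reduced locally noetherian base
-/

set_option autoImplicit false
universe u

open CategoryTheory CategoryTheory.Limits AlgebraicGeometry TopologicalSpace Opposite TensorProduct

namespace Groth.Agent.Lib.Helper91.RelDivLe

variable {𝒞 T : Scheme.{u}}

/-- the test morphism from `Spec (B ⊗ κ(t))` to the fibre gives the containment after tensoring -/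
theorem map_includeLeft_le (π : 𝒞 ⟶ T) (D D' : 𝒞.IdealSheafData) (U : 𝒞.affineOpens)
    (V : T.affineOpens) (e : U.1 ≤ π ⁻¹ᵁ V.1) (t : T) (ht : t ∈ V.1)
    (hfib : D.comap (pullback.fst π (T.fromSpecResidueField t)) ≤
      D'.comap (pullback.fst π (T.fromSpecResidueField t))) :
    letI : Algebra Γ(T, V.1) Γ(𝒞, U.1) := (π.appLE V.1 U.1 e).hom.toAlgebra
    letI : Algebra Γ(T, V.1) (T.residueField t) := (T.evaluation V.1 t ht).hom.toAlgebra
    (D.ideal U).map (Algebra.TensorProduct.includeLeftRingHom :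
        Γ(𝒞, U.1) →+* Γ(𝒞, U.1) ⊗[Γ(T, V.1)] (T.residueField t)) ≤
      (D'.ideal U).map (Algebra.TensorProduct.includeLeftRingHom :
        Γ(𝒞, U.1) →+* Γ(𝒞, U.1) ⊗[Γ(T, V.1)] (T.residueField t)) := by
  letI : Algebra Γ(T, V.1) Γ(𝒞, U.1) := (π.appLE V.1 U.1 e).hom.toAlgebra
  letI : Algebra Γ(T, V.1) (T.residueField t) := (T.evaluation V.1 t ht).hom.toAlgebra
  let R : CommRingCat.{u} := CommRingCat.of (Γ(𝒞, U.1) ⊗[Γ(T, V.1)] (T.residueField t))
  let ψR : Γ(𝒞, U.1) ⟶ R := CommRingCat.ofHom (Algebra.TensorProduct.includeLeftRingHom)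
  let βR : T.residueField t ⟶ R := CommRingCat.ofHom
    (Algebra.TensorProduct.includeRight :
      T.residueField t →ₐ[Γ(T, V.1)] Γ(𝒞, U.1) ⊗[Γ(T, V.1)] (T.residueField t)).toRingHom
  have hsq : π.appLE V.1 U.1 e ≫ ψR = T.evaluation V.1 t ht ≫ βR := by
    ext a
    exact RingHom.congr_fun (Algebra.TensorProduct.includeLeftRingHom_comp_algebraMap
      (R := Γ(T, V.1)) (A := Γ(𝒞, U.1)) (B := T.residueField t)) a
  have compat : (Spec.map ψR ≫ U.2.fromSpec) ≫ π = Spec.map βR ≫ T.fromSpecResidueField t := by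
    rw [fromSpecResidueField_eq V.2 t ht, Category.assoc,
      ← IsAffineOpen.SpecMap_appLE_fromSpec π V.2 U.2 e, ← Category.assoc, ← Category.assoc,
      ← Spec.map_comp, ← Spec.map_comp, hsq]
  have h1 := Scheme.IdealSheafData.comap_mono (pullback.lift _ _ compat) hfib
  simp only at h1
  rw [← Scheme.IdealSheafData.comap_comp, ← Scheme.IdealSheafData.comap_comp,
    pullback.lift_fst] at h1
  exact map_le_map_of_comap_le U ψR h1

variable [IsLocallyNoetherian T] [AlgebraicGeometry.IsReduced T]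

theorem ideal_le_of_fibres (π : 𝒞 ⟶ T) (D D' : 𝒞.IdealSheafData)
    [Flat (D'.subschemeι ≫ π)]
    (hfib : ∀ t : T, D.comap (pullback.fst π (T.fromSpecResidueField t)) ≤
      D'.comap (pullback.fst π (T.fromSpecResidueField t)))
    (U : 𝒞.affineOpens) (V : T.affineOpens) (e : U.1 ≤ π ⁻¹ᵁ V.1) :
    D.ideal U ≤ D'.ideal U := by
  intro f hf
  have hW' : IsAffineOpen (D'.subschemeι ⁻¹ᵁ U.1) := U.2.preimage D'.subschemeι
  letI : Algebra Γ(T, V.1) Γ(𝒞, U.1) := (π.appLE V.1 U.1 e).hom.toAlgebra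
  letI : Algebra Γ(𝒞, U.1) Γ(D'.subscheme, D'.subschemeι ⁻¹ᵁ U.1) :=
    (D'.subschemeι.app U.1).hom.toAlgebra
  letI : Algebra Γ(T, V.1) Γ(D'.subscheme, D'.subschemeι ⁻¹ᵁ U.1) :=
    ((D'.subschemeι.app U.1).hom.comp (π.appLE V.1 U.1 e).hom).toAlgebra
  haveI : IsScalarTower Γ(T, V.1) Γ(𝒞, U.1) Γ(D'.subscheme, D'.subschemeι ⁻¹ᵁ U.1) :=
    IsScalarTower.of_algebraMap_eq' rfl
  haveI : IsNoetherianRing Γ(T, V.1) := IsLocallyNoetherian.component_noetherian V
  haveI : IsReduced Γ(T, V.1) := inferInstance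
  haveI : Module.Flat Γ(T, V.1) Γ(D'.subscheme, D'.subschemeι ⁻¹ᵁ U.1) := by
    have e'' : D'.subschemeι ⁻¹ᵁ U.1 ≤ (D'.subschemeι ≫ π) ⁻¹ᵁ V.1 := by
      intro x hx
      show (D'.subschemeι ≫ π) x ∈ V.1
      rw [Scheme.Hom.comp_apply]
      exact e hx
    have h1 : ((D'.subschemeι ≫ π).appLE V.1 (D'.subschemeι ⁻¹ᵁ U.1) e'').hom.Flat :=
      HasRingHomProperty.appLE (P := @Flat) (D'.subschemeι ≫ π) inferInstance V ⟨_, hW'⟩ e''
    have h2 : (D'.subschemeι ≫ π).appLE V.1 (D'.subschemeι ⁻¹ᵁ U.1) e'' =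
        π.appLE V.1 U.1 e ≫ D'.subschemeι.app U.1 := by
      rw [Scheme.Hom.app_eq_appLE, Scheme.Hom.appLE_comp_appLE]
    rw [h2] at h1
    exact h1
  let pt : minimalPrimes Γ(T, V.1) → PrimeSpectrum Γ(T, V.1) := fun p => ⟨p.1, p.2.1.1⟩
  letI : ∀ p : minimalPrimes Γ(T, V.1),
      Algebra Γ(T, V.1) (T.residueField (V.2.fromSpec (pt p))) := fun p =>
    (T.evaluation V.1 (V.2.fromSpec (pt p))
      (Groth.Agent.Lib.Helper70.fromSpec_mem V.2 (pt p))).hom.toAlgebra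
  apply mem_of_flat_of_forall_fibre (D'.ideal U) (D'.ker_subschemeι_app U) f
    (fun p => T.residueField (V.2.fromSpec (pt p)))
    (fun p => ker_evaluation_fromSpec_le V.2 (pt p))
  intro p
  have h3 := map_includeLeft_le π D D' U V e (V.2.fromSpec (pt p))
    (Groth.Agent.Lib.Helper70.fromSpec_mem V.2 (pt p)) (hfib _)
  exact h3 (Ideal.mem_map_of_mem _ hf)

end Groth.Agent.Lib.Helper91.RelDivLe
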