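/-
Helper library (helper91): for a surjection `B → C` of `A`-algebras with `B` standard smooth of
relative dimension one over `A` and `C` formally étale over `A`, a basis of the conormal module
`I/I²` (`I` the kernel) has exactly one element.
-/
import Mathlib

set_option autoImplicit false
universe u

namespace Groth.Agent.Lib.Helper91.SecCart

open TensorProduct KaehlerDifferential

theorem card_eq_one (A B C : Type u) [CommRing A] [CommRing B] [CommRing C]
    [Algebra A B] [Algebra B C] [Algebra A C] [IsScalarTower A B C]
    [Algebra.IsStandardSmoothOfRelativeDimension 1 A B]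
    [Algebra.FormallySmooth A C] [Algebra.FormallyUnramified A C] [Nontrivial C]
    (hs : Function.Surjective (algebraMap B C)) (n : ℕ)
    (b : Module.Basis (Fin n) (B ⧸ RingHom.ker (algebraMap B C))
      (RingHom.ker (algebraMap B C)).Cotangent) : n = 1 := by
  haveI : Nontrivial B := (algebraMap B C).domain_nontrivial
  haveI : Nontrivial (B ⧸ RingHom.ker (algebraMap B C)) :=
    (RingHom.quotientKerEquivOfSurjective hs).toRingHom.domain_nontrivial
  haveI : Algebra.IsStandardSmooth A B :=
    Algebra.IsStandardSmoothOfRelativeDimension.isStandardSmooth 1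
  haveI : Algebra.FormallySmooth A B := inferInstance
  obtain ⟨l, hl⟩ := (Algebra.FormallySmooth.iff_split_injection (R := A) (P := B) (A := C) hs).mp
    inferInstance
  have hinj : Function.Injective (kerCotangentToTensor A B C) := by
    intro x y hxy
    have := congr(l $hxy)
    rwa [← LinearMap.comp_apply, ← LinearMap.comp_apply, hl] at this
  have hsurj : Function.Surjective (kerCotangentToTensor A B C) := by
    intro y
    have hex := exact_kerCotangentToTensor_mapBaseChange A B C hs
    exact (hex y).mp (Subsingleton.elim _ _)
  let e1 : (RingHom.ker (algebraMap B C)).Cotangent ≃ₗ[B] C ⊗[B] Ω[B⁄A] :=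
    LinearEquiv.ofBijective _ ⟨hinj, hsurj⟩
  have h1 : Module.rank (B ⧸ RingHom.ker (algebraMap B C))
      (RingHom.ker (algebraMap B C)).Cotangent = n := by
    rw [rank_eq_card_basis b]; simp
  have h2 : Module.rank C (C ⊗[B] Ω[B⁄A]) = 1 := by
    rw [Module.rank_baseChange,
      Algebra.IsStandardSmoothOfRelativeDimension.rank_kaehlerDifferential 1]
    simp
  have h3 := rank_eq_of_equiv_equiv
    (RingHom.quotientKerEquivOfSurjective hs : B ⧸ RingHom.ker (algebraMap B C) → C)
    e1.toAddEquiv (RingHom.quotientKerEquivOfSurjective hs).bijective (by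
      intro r m
      obtain ⟨r, rfl⟩ := Ideal.Quotient.mk_surjective r
      have hrm : (Ideal.Quotient.mk (RingHom.ker (algebraMap B C)) r) • m = r • m := rfl
      rw [hrm]
      change e1 (r • m) = _
      rw [map_smul, RingHom.quotientKerEquivOfSurjective_apply_mk, algebraMap_smul]
      rfl)
  rw [h1, h2] at h3
  exact_mod_cast h3

end Groth.Agent.Lib.Helper91.SecCart
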