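/-
Helper library (helper91): a section of a separated smooth morphism of relative dimension one
is a relative effective Cartier divisor.
-/
import Mathlib
import Groth.Prelude.Def_RegImm
import Groth.Prelude.Def_BlowUp2
import Groth.Agent.S8656
import Groth.Agent.S18939
import Groth.Agent.Lib.Helper9.RootLCI2
import Groth.Agent.Lib.Helper91.KRegComp1
import Groth.Agent.Lib.Helper91.KosReg1
import Groth.Agent.Lib.Helper91.SecCart1

set_option autoImplicit false
set_option linter.style.haveILetI false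
universe u

open CategoryTheory CategoryTheory.Limits AlgebraicGeometry TopologicalSpace Opposite

namespace Groth.Agent.Lib.Helper91.SecCart

variable {X Y : Scheme.{u}}

theorem isClosedImmersion_section (f : X ⟶ Y) [IsSeparated f] (σ : Y ⟶ X) (hσ : σ ≫ f = 𝟙 Y) :
    IsClosedImmersion σ := by
  haveI : IsClosedImmersion (σ ≫ f) := by rw [hσ]; infer_instance
  exact IsClosedImmersion.of_comp σ f

/-- algebraic core: a Koszul-regular generating list of the kernel of `B → C` has length one and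
its element is a nonzerodivisor -/
theorem alg_core (A B C : Type u) [CommRing A] [CommRing B] [CommRing C]
    [Algebra A B] [Algebra B C] [Algebra A C] [IsScalarTower A B C]
    [Algebra.IsStandardSmoothOfRelativeDimension 1 A B]
    [Algebra.FormallySmooth A C] [Algebra.FormallyUnramified A C] [Nontrivial C]
    (hs : Function.Surjective (algebraMap B C)) (rs : List B)
    (hseq : LCI.IsKoszulRegularSeq B rs)
    (hker : RingHom.ker (algebraMap B C) = Ideal.ofList rs) :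
    ∃ t : B, t ∈ nonZeroDivisors B ∧ RingHom.ker (algebraMap B C) = Ideal.span {t} := by
  have hne : RingHom.ker (algebraMap B C) ≠ ⊤ := by
    intro htop
    have h1 : (1 : B) ∈ RingHom.ker (algebraMap B C) := by rw [htop]; trivial
    rw [RingHom.mem_ker, map_one] at h1
    exact one_ne_zero h1
  have hmem : ∀ i : Fin rs.length, rs.get i ∈ RingHom.ker (algebraMap B C) := by
    intro i
    rw [hker]
    exact Ideal.subset_span (List.get_mem rs i)
  obtain ⟨b, -⟩ := Groth.Agent.S18939.result hne rs.length (fun i => ⟨rs.get i, hmem i⟩)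
    (by
      have : List.ofFn (fun i : Fin rs.length => rs.get i) = rs := List.ofFn_get rs
      simpa [this] using hseq)
    (by
      refine Eq.trans ?_ hker.symm
      show Ideal.span (Set.range (fun i : Fin rs.length => rs.get i)) = Ideal.ofList rs
      have : (Set.range fun i : Fin rs.length => rs.get i) = { x | x ∈ rs } :=
        Set.range_list_get rs
      rw [this])
  have hlen : rs.length = 1 := card_eq_one A B C hs rs.length b
  obtain ⟨t, rfl⟩ := List.length_eq_one_iff.mp hlen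
  refine ⟨t, ?_, by rw [hker, Ideal.ofList_singleton]⟩
  rw [mem_nonZeroDivisors_iff_right]
  intro c hc
  exact Groth.Agent.Lib.Helper91.KosReg.eq_zero_of_koszul [t] (by simp) hseq c
    (by intro x hx; rw [List.mem_singleton] at hx; rw [hx]; exact hc)

/-- the local statement at a point in the image of `σ` -/
theorem at_image (f : X ⟶ Y) [IsSeparated f] [SmoothOfRelativeDimension 1 f]
    (σ : Y ⟶ X) (hσ : σ ≫ f = 𝟙 Y) (y : Y) :
    ∃ U : X.affineOpens, σ y ∈ U.1 ∧ ∃ t : Γ(X, U.1), t ∈ nonZeroDivisors Γ(X, U.1) ∧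
      σ.ker.ideal U = Ideal.span {t} := by
  haveI : Smooth f := SmoothOfRelativeDimension.smooth 1 f
  haveI : IsClosedImmersion σ := isClosedImmersion_section f σ hσ
  have hK : RegImm.IsRegularImmersion .koszul σ :=
    Groth.Agent.S8656.result (𝟙 Y)
      (fun y => Groth.Agent.Lib.Helper9.RootLCI2.isKoszulAt_of_smooth (𝟙 Y) y) f σ hσ
  obtain ⟨U₀, hyU₀, hcl₀, rs, hseq, hker⟩ := hK.2 y
  obtain ⟨V₂, hV₂, U₂, hU₂, hxU₂, e₂, hstd⟩ :=
    SmoothOfRelativeDimension.exists_isStandardSmoothOfRelativeDimension (n := 1) (f := f) (σ y)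
  obtain ⟨V, U, -, hUU₀, hxU, e, hP⟩ := exists_affineOpens_le_appLE_of_appLE
    (RingHom.isStandardSmoothOfRelativeDimension_stableUnderCompositionWithLocalizationAway 1).right
    (RingHom.isStandardSmoothOfRelativeDimension_localizationPreserves 1).away
    (σ y) ⊤ ⟨V₂, hV₂⟩ U₀.1 ⟨U₂, hU₂⟩ hyU₀ hxU₂ e₂ hstd trivial
  obtain ⟨hcl, hseq', hker'⟩ :=
    Groth.Agent.Lib.Helper91.KRegComp.shrink σ .koszul U₀ hcl₀ rs hseq hker U hUU₀ y hxU
  have hW : IsAffineOpen (σ ⁻¹ᵁ U.1) := U.2.preimage σ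
  have e' : σ ⁻¹ᵁ U.1 ≤ (σ ≫ f) ⁻¹ᵁ V.1 := fun w hw => e hw
  haveI : Etale (σ ≫ f) := by rw [hσ]; infer_instance
  have het : ((σ ≫ f).appLE V.1 (σ ⁻¹ᵁ U.1) e').hom.Etale := (σ ≫ f).etale_appLE V.2 hW e'
  letI : Algebra Γ(Y, V.1) Γ(X, U.1) := (f.appLE V.1 U.1 e).hom.toAlgebra
  letI : Algebra Γ(X, U.1) Γ(Y, σ ⁻¹ᵁ U.1) := (σ.app U.1).hom.toAlgebra
  letI : Algebra Γ(Y, V.1) Γ(Y, σ ⁻¹ᵁ U.1) := ((σ ≫ f).appLE V.1 (σ ⁻¹ᵁ U.1) e').hom.toAlgebra
  haveI : IsScalarTower Γ(Y, V.1) Γ(X, U.1) Γ(Y, σ ⁻¹ᵁ U.1) := by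
    refine IsScalarTower.of_algebraMap_eq' ?_
    show ((σ ≫ f).appLE V.1 (σ ⁻¹ᵁ U.1) e').hom = (σ.app U.1).hom.comp (f.appLE V.1 U.1 e).hom
    rw [← CommRingCat.hom_comp, Scheme.Hom.app_eq_appLE, Scheme.Hom.appLE_comp_appLE]
  haveI : Algebra.IsStandardSmoothOfRelativeDimension 1 Γ(Y, V.1) Γ(X, U.1) := hP
  haveI : Algebra.Etale Γ(Y, V.1) Γ(Y, σ ⁻¹ᵁ U.1) := het
  haveI : Nonempty ↥(σ ⁻¹ᵁ U.1) := ⟨⟨y, hxU⟩⟩
  haveI : Nontrivial Γ(Y, σ ⁻¹ᵁ U.1) := inferInstance
  obtain ⟨t, ht, hkt⟩ := alg_core Γ(Y, V.1) Γ(X, U.1) Γ(Y, σ ⁻¹ᵁ U.1)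
    (σ.app_surjective U.1 U.2) _ hseq' hker'
  refine ⟨U, hxU, t, ht, ?_⟩
  rw [Scheme.Hom.ker_apply]
  exact hkt

/-- away from the image of `σ` the kernel ideal is the unit ideal -/
theorem off_image (σ : Y ⟶ X) [IsClosedImmersion σ] (x : X) (hx : x ∉ Set.range σ) :
    ∃ U : X.affineOpens, x ∈ U.1 ∧ ∃ t : Γ(X, U.1), t ∈ nonZeroDivisors Γ(X, U.1) ∧
      σ.ker.ideal U = Ideal.span {t} := by
  have hcl : IsClosed (Set.range σ) := σ.isClosedEmbedding.isClosed_range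
  obtain ⟨U, hU, hxU, hUle⟩ := exists_isAffineOpen_mem_and_subset
    (x := x) (U := ⟨(Set.range σ)ᶜ, hcl.isOpen_compl⟩) hx
  have hbot : σ ⁻¹ᵁ U = ⊥ := by
    ext w
    constructor
    · intro hw
      exact (hUle hw ⟨w, rfl⟩).elim
    · intro hw
      exact hw.elim
  haveI : Subsingleton Γ(Y, σ ⁻¹ᵁ U) := by rw [hbot]; infer_instance
  refine ⟨⟨U, hU⟩, hxU, 1, one_mem _, ?_⟩
  rw [Scheme.Hom.ker_apply, Ideal.span_singleton_one]
  exact (Ideal.eq_top_iff_one _).mpr (Subsingleton.elim _ _)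

theorem flat_part (f : X ⟶ Y) [IsSeparated f] (σ : Y ⟶ X) (hσ : σ ≫ f = 𝟙 Y) :
    Flat (σ.ker.subschemeι ≫ f) := by
  haveI : IsClosedImmersion σ := isClosedImmersion_section f σ hσ
  have h1 : σ.toImage ≫ (σ.ker.subschemeι ≫ f) = 𝟙 Y := by
    rw [← Category.assoc]
    have : σ.toImage ≫ σ.ker.subschemeι = σ := σ.toImage_imageι
    rw [this, hσ]
  have h2 : σ.ker.subschemeι ≫ f = inv σ.toImage := by
    rw [← cancel_epi σ.toImage, h1, IsIso.hom_inv_id]
  rw [h2]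
  infer_instance

theorem main (f : X ⟶ Y) [IsSeparated f] [SmoothOfRelativeDimension 1 f]
    (σ : Y ⟶ X) (hσ : σ ≫ f = 𝟙 Y) :
    BlowUp.IsEffCartierIdeal σ.ker ∧ Flat (σ.ker.subschemeι ≫ f) := by
  haveI : IsClosedImmersion σ := isClosedImmersion_section f σ hσ
  refine ⟨fun x => ?_, flat_part f σ hσ⟩
  by_cases hx : x ∈ Set.range σ
  · obtain ⟨y, rfl⟩ := hx
    obtain ⟨U, hU, t, ht, hk⟩ := at_image f σ hσ y
    exact ⟨U, hU, t, ht, hk⟩
  · obtain ⟨U, hU, t, ht, hk⟩ := off_image σ x hx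
    exact ⟨U, hU, t, ht, hk⟩

end Groth.Agent.Lib.Helper91.SecCart
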