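import Mathlib
import Groth.Prelude.Def_CAlg
import Groth.Agent.Lib.Helper49.Serre4

/-!
# Depth, dimension and Serre's conditions modulo a regular element
-/

set_option autoImplicit false
universe u

open IsLocalRing
open Groth.Agent.Lib.Helper29 Groth.Agent.Lib.Helper29.DepthLib Groth.Agent.Lib.Helper29.CMLib
  Groth.Agent.Lib.Helper49.Serre

namespace Groth.Agent.Lib.Helper91.SkQuot

variable {R : Type u} [CommRing R] [IsLocalRing R] [IsNoetherianRing R]

theorem isLocalHom_mk (I : Ideal R) [IsLocalRing (R ⧸ I)] :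
    IsLocalHom (algebraMap R (R ⧸ I)) := by
  constructor
  intro a ha
  by_contra hna
  have ham : a ∈ maximalIdeal R := by rwa [mem_maximalIdeal, mem_nonunits_iff]
  have hmax : ((maximalIdeal (R ⧸ I)).comap (Ideal.Quotient.mk I)).IsMaximal :=
    Ideal.comap_isMaximal_of_surjective (Ideal.Quotient.mk I) Ideal.Quotient.mk_surjective
  have heq := IsLocalRing.eq_maximalIdeal hmax
  rw [← heq] at ham
  have h2 : Ideal.Quotient.mk I a ∈ maximalIdeal (R ⧸ I) := ham
  rw [mem_maximalIdeal, mem_nonunits_iff] at h2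
  exact h2 ha

theorem depth_quotient_add_one {f : R} [IsLocalRing (R ⧸ Ideal.span {f})]
    (hfm : f ∈ maximalIdeal R) (hf : f ∈ nonZeroDivisors R) :
    LocCoh.depth (R ⧸ Ideal.span {f}) (R ⧸ Ideal.span {f}) + 1 = LocCoh.depth R R := by
  have hreg : IsSMulRegular R f := Module.Flat.isSMulRegular_of_nonZeroDivisors hf
  rw [← depth_quotSMulTop_add_one R R hfm hreg]
  congr 1
  haveI := isLocalHom_mk (Ideal.span {f})
  rw [← Groth.Agent.Lib.Helper29.DepthFinite.depth_eq_of_isLocalHom R (R ⧸ Ideal.span {f})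
    (R ⧸ Ideal.span {f})]
  exact depth_congr (quotientSpanEquivQuotSMulTop f)

theorem le_of_add_one_le_add_one (m : WithBot ℕ∞) (d : ℕ∞)
    (h : m + 1 ≤ (d : WithBot ℕ∞) + 1) : m ≤ d := by
  induction m using WithBot.recBotCoe with
  | bot => exact bot_le
  | coe m' =>
    have h1 : ((m' + 1 : ℕ∞) : WithBot ℕ∞) ≤ ((d + 1 : ℕ∞) : WithBot ℕ∞) := by
      push_cast; exact h
    have h2 : m' + 1 ≤ d + 1 := WithBot.coe_le_coe.mp h1
    have h3 : m' ≤ d := by
      exact (ENat.add_le_add_iff_right (by simp)).mp h2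
    exact WithBot.coe_le_coe.mpr h3

/-- Serre's condition `(S_k)` for `R` gives `(S_{k-1})` for `R/fR`, at the closed point -/
theorem sk_quotient {f : R} [IsLocalRing (R ⧸ Ideal.span {f})]
    (hfm : f ∈ maximalIdeal R) (hf : f ∈ nonZeroDivisors R) (k : ℕ)
    (hR : min (k : WithBot ℕ∞) (ringKrullDim R) ≤ ((LocCoh.depth R R : ℕ∞) : WithBot ℕ∞)) :
    min ((k - 1 : ℕ) : WithBot ℕ∞) (ringKrullDim (R ⧸ Ideal.span {f})) ≤
      ((LocCoh.depth (R ⧸ Ideal.span {f}) (R ⧸ Ideal.span {f}) : ℕ∞) : WithBot ℕ∞) := by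
  have hdim := ringKrullDim_quotient_span_singleton_succ_eq_ringKrullDim_of_mem_nonZeroDivisors hf hfm
  have hdepth := depth_quotient_add_one hfm hf
  rcases k with _ | k'
  · refine le_trans (min_le_left _ _) ?_
    have : ((0 : ℕ∞) : WithBot ℕ∞) ≤
        ((LocCoh.depth (R ⧸ Ideal.span {f}) (R ⧸ Ideal.span {f}) : ℕ∞) : WithBot ℕ∞) :=
      WithBot.coe_le_coe.mpr bot_le
    simpa using this
  · apply le_of_add_one_le_add_one
    rw [← hdim, ← hdepth] at hR
    have hk : (((k' + 1 : ℕ)) : WithBot ℕ∞) = (k' : WithBot ℕ∞) + 1 := by push_cast; rfl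
    have hd : ((LocCoh.depth (R ⧸ Ideal.span {f}) (R ⧸ Ideal.span {f}) + 1 : ℕ∞) : WithBot ℕ∞) =
        ((LocCoh.depth (R ⧸ Ideal.span {f}) (R ⧸ Ideal.span {f}) : ℕ∞) : WithBot ℕ∞) + 1 := by
      push_cast; rfl
    rw [hk, min_add_add_right, hd] at hR
    have h2 : ((k' + 1 - 1 : ℕ) : WithBot ℕ∞) = ((k' : ℕ) : WithBot ℕ∞) := by
      simp
    rw [h2]
    exact hR

end Groth.Agent.Lib.Helper91.SkQuot
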