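import Mathlib
import Groth.Prelude.Def_CInt
import Groth.Agent.Lib.Helper29.RegHom
import Groth.Agent.Lib.Helper21.FibreDimFormula
import Groth.Agent.Lib.Helper21.MaximalPoints
import Groth.Agent.Lib.Helper21.FieldDimBC
import Groth.Agent.Lib.Helper73.SmoothFibreDim2

/-!
# Codimension of a smooth closed subscheme of a smooth scheme: fibrewise equals absolute
-/

set_option autoImplicit false
set_option linter.style.haveILetI false
universe u

open CategoryTheory CategoryTheory.Limits AlgebraicGeometry TopologicalSpace IsLocalRing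

namespace Groth.Agent.Lib.Helper91.SmCodim

open Groth.Agent.Lib.Helper21 Groth.Agent.Lib.Helper21.FieldDim

variable {X S : Scheme.{u}}

theorem fiberStalk_dim (f : X ⟶ S) (x : X) :
    ringKrullDim ↑(CInt.fiberStalk f x) = ringKrullDim (X.presheaf.stalk x ⧸
      (maximalIdeal (S.presheaf.stalk (f x))).map (f.stalkMap x).hom) := by
  obtain ⟨π, hπ, hker⟩ := Groth.Agent.Lib.Helper33.GorComp.exists_fibre_proj f x
  let e : (X.presheaf.stalk x ⧸
      (maximalIdeal (S.presheaf.stalk (f x))).map (f.stalkMap x).hom) ≃+*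
      (f.fiber (f x)).presheaf.stalk (f.asFiber x) :=
    (Ideal.quotEquivOfEq hker.symm).trans (RingHom.quotientKerEquivOfSurjective hπ)
  exact (ringKrullDim_eq_of_ringEquiv e).symm

theorem fiberStalk_dim_le (f : X ⟶ S) (x : X) :
    ringKrullDim ↑(CInt.fiberStalk f x) ≤ ringKrullDim (X.presheaf.stalk x) := by
  obtain ⟨π, hπ, -⟩ := Groth.Agent.Lib.Helper33.GorComp.exists_fibre_proj f x
  exact ringKrullDim_le_of_surjective π hπ

theorem stalk_dim_zero_of_maximal (x : X) (hx : ∀ z : X, z ⤳ x → x ⤳ z) :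
    ringKrullDim (X.presheaf.stalk x) = 0 := by
  have hsub : Subsingleton (PrimeSpectrum (X.presheaf.stalk x)) := by
    refine ⟨fun p q => ?_⟩
    have key : ∀ r : PrimeSpectrum (X.presheaf.stalk x), X.fromSpecStalk x r = x := by
      intro r
      have h1 : X.fromSpecStalk x r ∈ Set.range (X.fromSpecStalk x) := ⟨r, rfl⟩
      rw [Scheme.range_fromSpecStalk] at h1
      exact (Specializes.antisymm h1 (hx _ h1)).eq
    exact (X.fromSpecStalk x).isEmbedding.injective ((key p).trans (key q).symm)
  show Order.krullDim (PrimeSpectrum (X.presheaf.stalk x)) = 0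
  exact Order.krullDim_eq_zero

theorem le_of_add_nat_le (a b : WithBot ℕ∞) (m : ℕ) (h : a + (m : WithBot ℕ∞) ≤ b + (m : WithBot ℕ∞)) :
    a ≤ b := by
  induction a using WithBot.recBotCoe with
  | bot => exact bot_le
  | coe a =>
    induction b using WithBot.recBotCoe with
    | bot =>
      rw [WithBot.bot_add] at h
      exact absurd h (by
        rw [le_bot_iff]
        exact WithBot.add_ne_bot.mpr ⟨WithBot.coe_ne_bot, WithBot.coe_ne_bot⟩)
    | coe b =>
      have h' : ((a + (m : ℕ∞) : ℕ∞) : WithBot ℕ∞) ≤ ((b + (m : ℕ∞) : ℕ∞) : WithBot ℕ∞) := by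
        exact_mod_cast h
      rw [WithBot.coe_le_coe] at h'
      rw [WithBot.coe_le_coe]
      exact (WithTop.add_le_add_iff_right (ENat.coe_ne_top m)).mp h'

end Groth.Agent.Lib.Helper91.SmCodim
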