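import Mathlib
import Groth.Agent.Lib.Helper91.SmCodim1

/-!
# Codimension of a smooth closed subscheme of a smooth scheme: fibrewise equals absolute (main)
-/

set_option autoImplicit false
set_option linter.style.haveILetI false
universe u

open CategoryTheory CategoryTheory.Limits AlgebraicGeometry TopologicalSpace IsLocalRing

namespace Groth.Agent.Lib.Helper91.SmCodim

open Groth.Agent.Lib.Helper21 Groth.Agent.Lib.Helper21.FieldDim
  Groth.Agent.Lib.Helper73.SmoothFibreDim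

variable {X S : Scheme.{u}}

theorem quot_nontrivial (f : X ⟶ S) (x : X) :
    Nontrivial (X.presheaf.stalk x ⧸
      (maximalIdeal (S.presheaf.stalk (f x))).map (f.stalkMap x).hom) := by
  rw [Ideal.Quotient.nontrivial_iff]
  intro h
  have h1 : (maximalIdeal (S.presheaf.stalk (f x))).map (f.stalkMap x).hom ≤
      maximalIdeal (X.presheaf.stalk x) := IsLocalRing.map_maximalIdeal_le (f.stalkMap x).hom
  rw [h] at h1
  exact (maximalIdeal.isMaximal _).ne_top (top_le_iff.mp h1)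

theorem exists_le [IsLocallyNoetherian X] [IsLocallyNoetherian S] (f : X ⟶ S) [Smooth f]
    {Y : Scheme.{u}} (i : Y ⟶ X) [IsClosedImmersion i] [Smooth (i ≫ f)] (w₀ : Y) :
    ∃ w' : Y, ringKrullDim (X.presheaf.stalk (i w')) ≤
      ringKrullDim ↑(CInt.fiberStalk f (i w₀)) := by
  haveI : IsLocallyNoetherian Y := LocallyOfFiniteType.isLocallyNoetherian i
  obtain ⟨w', hw'max, hw'⟩ := exists_maximal_specializes w₀
  refine ⟨w', ?_⟩
  obtain ⟨n, hn⟩ := exists_smoothOfRelDimAt f (i w₀)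
  obtain ⟨m, hm⟩ := exists_smoothOfRelDimAt (i ≫ f) w₀
  have hn' : SmoothOfRelDimAt n f (i w') := by
    obtain ⟨U, hU, V, hV, hx, e, hstd⟩ := hn
    exact ⟨U, hU, V, hV, (hw'.map i.continuous).mem_open V.isOpen hx, e, hstd⟩
  have hm' : SmoothOfRelDimAt m (i ≫ f) w' := by
    obtain ⟨U, hU, V, hV, hx, e, hstd⟩ := hm
    exact ⟨U, hU, V, hV, hw'.mem_open V.isOpen hx, e, hstd⟩
  have e1 := fibreDimAt_eq_of_smoothOfRelDimAt n f (i w₀) hn
  have e2 := fibreDimAt_eq_of_smoothOfRelDimAt n f (i w') hn'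
  have e3 := fibreDimAt_eq_of_smoothOfRelDimAt m (i ≫ f) w₀ hm
  have e4 := fibreDimAt_eq_of_smoothOfRelDimAt m (i ≫ f) w' hm'
  rw [fibreDimAt_eq_ringKrullDim_add] at e1 e2 e3 e4
  have t0 : tdR (i ≫ f) w₀ = tdR f (i w₀) := tdR_comp_of_surjectiveOnStalks f i w₀
  have t1 : tdR (i ≫ f) w' = tdR f (i w') := tdR_comp_of_surjectiveOnStalks f i w'
  rw [t0] at e3
  rw [t1] at e4
  rw [← fiberStalk_dim] at e1
  -- at `w'`: the local ring of `Y` has dimension zero
  have hY0 : ringKrullDim (Y.presheaf.stalk w') = 0 := stalk_dim_zero_of_maximal w' hw'max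
  have hQY : ringKrullDim (Y.presheaf.stalk w' ⧸
      (maximalIdeal (S.presheaf.stalk ((i ≫ f) w'))).map ((i ≫ f).stalkMap w').hom) = 0 := by
    haveI := quot_nontrivial (i ≫ f) w'
    apply le_antisymm
    · rw [← hY0]
      exact ringKrullDim_le_of_surjective _ Ideal.Quotient.mk_surjective
    · exact ringKrullDim_nonneg_of_nontrivial
  rw [hQY, zero_add] at e4
  have htm : tdR f (i w') = m := by exact_mod_cast e4
  rw [htm] at e2
  -- at `w₀`
  have ht0 : tdR f (i w₀) ≤ m := by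
    haveI := quot_nontrivial (i ≫ f) w₀
    have h0 : (0 : WithBot ℕ∞) ≤ ringKrullDim (Y.presheaf.stalk w₀ ⧸
      (maximalIdeal (S.presheaf.stalk ((i ≫ f) w₀))).map ((i ≫ f).stalkMap w₀).hom) :=
      ringKrullDim_nonneg_of_nontrivial
    have h1 : ((tdR f (i w₀) : ℕ) : WithBot ℕ∞) ≤ (m : WithBot ℕ∞) := by
      rw [← e3]
      calc ((tdR f (i w₀) : ℕ) : WithBot ℕ∞) = 0 + ((tdR f (i w₀) : ℕ) : WithBot ℕ∞) := by
            rw [zero_add]
        _ ≤ _ := add_le_add h0 le_rfl
    exact_mod_cast h1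
  -- the base point is maximal
  have hsmax : ∀ t : S, t ⤳ (i ≫ f) w' → (i ≫ f) w' ⤳ t :=
    maximal_map_of_generalizingMap (Flat.generalizingMap (i ≫ f)) (i ≫ f).continuous hw'max
  have hS0 : ringKrullDim (S.presheaf.stalk (f (i w'))) = 0 :=
    stalk_dim_zero_of_maximal (f (i w')) hsmax
  -- flat dimension formula
  letI : Algebra (S.presheaf.stalk (f (i w'))) (X.presheaf.stalk (i w')) :=
    (f.stalkMap (i w')).hom.toAlgebra
  haveI : IsLocalHom (algebraMap (S.presheaf.stalk (f (i w'))) (X.presheaf.stalk (i w'))) :=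
    inferInstanceAs (IsLocalHom (f.stalkMap (i w')).hom)
  haveI : Module.Flat (S.presheaf.stalk (f (i w'))) (X.presheaf.stalk (i w')) :=
    Flat.stalkMap f (i w')
  have hdim := Groth.Agent.Lib.Helper29.RegHom.ringKrullDim_eq_add
    (S.presheaf.stalk (f (i w'))) (X.presheaf.stalk (i w'))
  rw [hS0, zero_add] at hdim
  have hdim' : ringKrullDim (X.presheaf.stalk (i w')) = ringKrullDim (X.presheaf.stalk (i w') ⧸
      (maximalIdeal (S.presheaf.stalk (f (i w')))).map (f.stalkMap (i w')).hom) := hdim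
  rw [hdim']
  apply le_of_add_nat_le _ _ m
  rw [e2, ← e1]
  exact add_le_add le_rfl (by exact_mod_cast ht0)

theorem main [IsLocallyNoetherian X] [IsLocallyNoetherian S] (f : X ⟶ S) [Smooth f]
    {Y : Scheme.{u}} (i : Y ⟶ X) [IsClosedImmersion i] [Smooth (i ≫ f)] :
    (⨅ y : Set.range i.base, ringKrullDim ↑(CInt.fiberStalk f y.1)) =
      ⨅ y : Set.range i.base, ringKrullDim ↑(X.presheaf.stalk y.1) := by
  apply le_antisymm
  · exact iInf_mono (fun y => fiberStalk_dim_le f y.1)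
  · refine le_iInf (fun y => ?_)
    obtain ⟨w₀, hw₀⟩ := y.2
    obtain ⟨w', hw'⟩ := exists_le f i w₀
    have hy : y.1 = i w₀ := hw₀.symm
    rw [hy]
    exact (iInf_le (fun y : Set.range i.base => ringKrullDim ↑(X.presheaf.stalk y.1))
      ⟨i w', w', rfl⟩).trans hw'

end Groth.Agent.Lib.Helper91.SmCodim
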