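import Mathlib
import Groth.Prelude.Def_CAlgX
import Groth.Prelude.Def_RegImm
import Groth.Agent.Lib.Helper91.H1Desc4
import Groth.Agent.Lib.Helper9.KoszulQuot

/-!
# Generic properties of kinds of sequences, and the quotient of a locally `k`-regular ideal by
independent elements (generic version of helper9's `quotient_koszulRegularIdeal`)
-/

set_option autoImplicit false
set_option linter.style.haveILetI false
universe u

namespace Groth.Agent.Lib.Helper91.SmDesc

open Groth.Agent.Lib.Helper91.H1Desc Groth.Agent.Lib.Helper9 Groth.Agent.Lib.Helper9.KoszulExch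
  Groth.Agent.Lib.Helper9.KoszulIndep Groth.Agent.Lib.Helper9.KoszulQuot

/-- the formal properties of a kind of sequence used in this development -/
structure Good (k : RegImm.Kind) : Prop where
  flat : ∀ {R T : Type u} [CommRing R] [CommRing T] (φ : R →+* T), φ.Flat → ∀ l : List R,
    k.Seq R l → k.Seq T (l.map φ)
  len : ∀ {R : Type u} [CommRing R] (g f : List R), k.Seq R g →
    Ideal.ofList f = Ideal.ofList g → f.length = g.length → k.Seq R f
  quot : ∀ {R R' : Type u} [CommRing R] [CommRing R'] (π : R →+* R'), Function.Surjective π →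
    ∀ w e : List R, RingHom.ker π = Ideal.ofList w → k.Seq R (w ++ e) → k.Seq R' (e.map π)

variable {k : RegImm.Kind} {S : Type u} [CommRing S]

/-- `k`-regularity on a basic open passes to any flat algebra where the function is a unit -/
theorem seq_map_of_away (hk : Good.{u} k) (s : S) (l : List S)
    (h : k.Seq (Localization.Away s) (l.map (algebraMap S (Localization.Away s))))
    (T : Type u) [CommRing T] [Algebra S T] [Module.Flat S T]
    (hs : IsUnit (algebraMap S T s)) :
    k.Seq T (l.map (algebraMap S T)) := by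
  letI : Algebra (Localization.Away s) T := (IsLocalization.Away.lift s hs).toAlgebra
  haveI : IsScalarTower S (Localization.Away s) T :=
    IsScalarTower.of_algebraMap_eq (fun x => (IsLocalization.Away.lift_eq s hs x).symm)
  haveI : Module.Flat (Localization.Away s) T :=
    (Module.flat_iff_of_isLocalization (Localization.Away s) (Submonoid.powers s) _).mpr
      inferInstance
  have h1 := hk.flat (algebraMap (Localization.Away s) T)
    (RingHom.flat_algebraMap_iff.mpr inferInstance) _ h
  rw [List.map_map] at h1
  have h2 : (algebraMap (Localization.Away s) T) ∘ (algebraMap S (Localization.Away s)) =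
      algebraMap S T := by
    funext x
    exact (IsScalarTower.algebraMap_apply S (Localization.Away s) T x).symm
  rwa [h2] at h1

/-- lifting a `k`-regular generating list on a basic open to elements of the ideal -/
theorem exists_lift_list (hk : Good.{u} k) (J : Ideal S) (s : S) (l₀ : List (Localization.Away s))
    (hl : k.Seq (Localization.Away s) l₀)
    (hJ : J.map (algebraMap S (Localization.Away s)) = Ideal.ofList l₀) :
    ∃ l : List S, (∀ a ∈ l, a ∈ J) ∧
      k.Seq (Localization.Away s) (l.map (algebraMap S (Localization.Away s))) ∧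
      J.map (algebraMap S (Localization.Away s)) =
        Ideal.ofList (l.map (algebraMap S (Localization.Away s))) := by
  classical
  have hex : ∀ x : Localization.Away s, x ∈ l₀ → ∃ n : S, n ∈ J ∧
      ∃ e : (Localization.Away s)ˣ, algebraMap S (Localization.Away s) n = e * x := by
    intro x hx
    have h1 : x ∈ J.map (algebraMap S (Localization.Away s)) := by
      rw [hJ]; exact Ideal.subset_span hx
    rw [IsLocalization.mem_map_algebraMap_iff (Submonoid.powers s)] at h1
    obtain ⟨⟨⟨n, hn⟩, u⟩, hnu⟩ := h1
    simp only at hnu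
    refine ⟨n, hn, (IsLocalization.map_units (Localization.Away s) u).unit, ?_⟩
    rw [← hnu, mul_comm]
    rfl
  let ψ : Localization.Away s → S := fun x => if hx : x ∈ l₀ then (hex x hx).choose else 0
  have hψJ : ∀ x ∈ l₀, ψ x ∈ J := fun x hx => by
    simp only [ψ, dif_pos hx]; exact (hex x hx).choose_spec.1
  have hψe : ∀ x ∈ l₀, ∃ e : (Localization.Away s)ˣ,
      algebraMap S (Localization.Away s) (ψ x) = e * x := fun x hx => by
    simp only [ψ, dif_pos hx]; exact (hex x hx).choose_spec.2
  have hideal : J.map (algebraMap S (Localization.Away s)) =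
      Ideal.ofList ((l₀.map ψ).map (algebraMap S (Localization.Away s))) := by
    rw [hJ]
    apply le_antisymm
    · change sp l₀ ≤ _
      rw [sp_le_iff]
      intro x hx
      obtain ⟨e, he⟩ := hψe x hx
      have : x = ((e⁻¹ : (Localization.Away s)ˣ) : Localization.Away s) *
          algebraMap S (Localization.Away s) (ψ x) := by
        rw [he, ← mul_assoc, Units.inv_mul, one_mul]
      rw [this]
      refine Ideal.mul_mem_left _ _ (Ideal.subset_span ?_)
      simp only [List.mem_map, Set.mem_ofPred_eq]
      exact ⟨ψ x, ⟨x, hx, rfl⟩, rfl⟩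
    · change sp _ ≤ _
      rw [sp_le_iff]
      intro y hy
      simp only [List.mem_map] at hy
      obtain ⟨_, ⟨x, hx, rfl⟩, rfl⟩ := hy
      obtain ⟨e, he⟩ := hψe x hx
      rw [he]
      exact Ideal.mul_mem_left _ _ (Ideal.subset_span hx)
  refine ⟨l₀.map ψ, ?_, ?_, hideal⟩
  · intro a ha
    simp only [List.mem_map] at ha
    obtain ⟨x, hx, rfl⟩ := ha
    exact hψJ x hx
  · exact hk.len l₀ _ hl (hideal.symm.trans hJ) (by simp)

/-- **Quotient of a locally `k`-regular ideal by independent elements.** -/
theorem quotient_locK (hk : Good.{u} k) {S' : Type u} [CommRing S'] (π : S →+* S')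
    (hπ : Function.Surjective π) (w : List S) (hker : RingHom.ker π = Ideal.ofList w)
    (J : Ideal S) (hwJ : ∀ a ∈ w, a ∈ J)
    (hJ : LocK k J)
    (hind : ∀ 𝔮 : Ideal S, 𝔮.IsPrime → J ≤ 𝔮 → IndepAt J 𝔮 [] w) :
    LocK k (J.map π) := by
  classical
  intro 𝔮' h𝔮'
  haveI h𝔮prime : (𝔮'.asIdeal.comap π).IsPrime := inferInstance
  have hJ𝔮 : J ≤ 𝔮'.asIdeal.comap π := Ideal.map_le_iff_le_comap.mp h𝔮'
  obtain ⟨s, hs, l₀, hl₀, hJl₀⟩ := hJ ⟨𝔮'.asIdeal.comap π, inferInstance⟩ hJ𝔮
  obtain ⟨lam, hlamJ, hlamP, hlamI⟩ := exists_lift_list hk J s l₀ hl₀ hJl₀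
  generalize h𝔮 : 𝔮'.asIdeal.comap π = 𝔮 at *
  have hsD : IsUnit (algebraMap S (Localization.AtPrime 𝔮) s) :=
    IsLocalization.map_units (Localization.AtPrime 𝔮) (⟨s, hs⟩ : 𝔮.primeCompl)
  have hJ' : Ideal.ofList lam ≤ J := Ideal.span_le.mpr hlamJ
  have hle : J.map (algebraMap S (Localization.Away s)) ≤
      (Ideal.ofList lam).map (algebraMap S (Localization.Away s)) := by
    rw [Ideal.map_ofList, ← hlamI]
  have hJD : sp (lam.map (algebraMap S (Localization.AtPrime 𝔮))) =
      J.map (algebraMap S (Localization.AtPrime 𝔮)) := by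
    rw [map_eq_of_away J (Ideal.ofList lam) hJ' s hle _ hsD, Ideal.map_ofList]
    rfl
  have hindD := (hind 𝔮 inferInstance hJ𝔮).map
  obtain ⟨m', hm'sub, hm'len, hm'sp⟩ :=
    partial_exchange (J.map (algebraMap S (Localization.AtPrime 𝔮)))
      (w.map (algebraMap S (Localization.AtPrime 𝔮))) []
      (lam.map (algebraMap S (Localization.AtPrime 𝔮))) (by simpa using hJD)
      (by
        intro x hx
        simp only [List.mem_map] at hx
        obtain ⟨a, ha, rfl⟩ := hx
        exact Ideal.mem_map_of_mem _ (hwJ a ha))
      (by simpa using hindD)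
  have hex : ∀ y ∈ m', ∃ a ∈ lam, algebraMap S (Localization.AtPrime 𝔮) a = y := fun y hy => by
    have := hm'sub y hy
    simpa [List.mem_map] using this
  let φ : Localization.AtPrime 𝔮 → S := fun y => if hy : y ∈ m' then (hex y hy).choose else 0
  have hεmap : (m'.map φ).map (algebraMap S (Localization.AtPrime 𝔮)) = m' := by
    rw [List.map_map]
    conv_rhs => rw [← List.map_id m']
    apply List.map_congr_left
    intro y hy
    simp only [Function.comp_apply, φ, dif_pos hy, id_eq]
    exact (hex y hy).choose_spec.2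
  have hεsub : ∀ a ∈ m'.map φ, a ∈ lam := by
    intro a ha
    simp only [List.mem_map] at ha
    obtain ⟨y, hy, rfl⟩ := ha
    simp only [φ, dif_pos hy]
    exact (hex y hy).choose_spec.1
  have hεlen : (m'.map φ).length + w.length = lam.length := by simpa using hm'len
  generalize m'.map φ = ε at hεmap hεsub hεlen
  have hND : J.map (algebraMap S (Localization.AtPrime 𝔮)) ≤
      (Ideal.ofList (w ++ ε)).map (algebraMap S (Localization.AtPrime 𝔮)) := by
    rw [Ideal.map_ofList, List.map_append, hεmap]
    have : sp (w.map (algebraMap S (Localization.AtPrime 𝔮)) ++ m') =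
        J.map (algebraMap S (Localization.AtPrime 𝔮)) := by simpa using hm'sp
    rw [← this]
    exact le_of_eq rfl
  obtain ⟨s₂, hs₂, hs₂N⟩ := exists_mul_mem_of_map_le (Ideal.ofList lam) (Ideal.ofList (w ++ ε))
    (fg_ofList lam) 𝔮 (le_trans (Ideal.map_mono hJ') hND)
  have hu : IsUnit (algebraMap S (Localization.Away (s * s₂)) (s * s₂)) :=
    IsLocalization.Away.algebraMap_isUnit (s * s₂)
  rw [map_mul] at hu
  have hsS₁ : IsUnit (algebraMap S (Localization.Away (s * s₂)) s) := isUnit_of_mul_isUnit_left hu
  have hs₂S₁ : IsUnit (algebraMap S (Localization.Away (s * s₂)) s₂) :=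
    isUnit_of_mul_isUnit_right hu
  have hP₁ := seq_map_of_away hk s lam hlamP (Localization.Away (s * s₂)) hsS₁
  have hJ₁ : J.map (algebraMap S (Localization.Away (s * s₂))) =
      Ideal.ofList (lam.map (algebraMap S (Localization.Away (s * s₂)))) := by
    rw [map_eq_of_away J (Ideal.ofList lam) hJ' s hle _ hsS₁, Ideal.map_ofList]
  have hN₁ : Ideal.ofList ((w ++ ε).map (algebraMap S (Localization.Away (s * s₂)))) =
      J.map (algebraMap S (Localization.Away (s * s₂))) := by
    apply le_antisymm
    · rw [← Ideal.map_ofList]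
      apply Ideal.map_mono
      refine Ideal.span_le.mpr ?_
      intro a ha
      rcases List.mem_append.mp ha with ha | ha
      · exact hwJ a ha
      · exact hlamJ a (hεsub a ha)
    · rw [hJ₁]
      change sp _ ≤ _
      rw [sp_le_iff]
      intro y hy
      simp only [List.mem_map] at hy
      obtain ⟨a, ha, rfl⟩ := hy
      rw [← Ideal.unit_mul_mem_iff_mem _ hs₂S₁, ← map_mul, ← Ideal.map_ofList]
      exact Ideal.mem_map_of_mem _ (hs₂N a (Ideal.subset_span ha))
  have hP₂ := hk.len _
    ((w ++ ε).map (algebraMap S (Localization.Away (s * s₂)))) hP₁ (hN₁.trans hJ₁)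
    (by simp only [List.length_map, List.length_append]; omega)
  have hker₁ : RingHom.ker (Localization.awayMap π (s * s₂)) =
      Ideal.ofList (w.map (algebraMap S (Localization.Away (s * s₂)))) := by
    rw [ker_awayMap, hker, Ideal.map_ofList]
  rw [List.map_append] at hP₂
  have hP₃ := hk.quot (Localization.awayMap π (s * s₂))
    (awayMap_surjective π hπ _) _ _ hker₁ hP₂
  refine ⟨π (s * s₂), ?_, _, hP₃, ?_⟩
  · have hs' : s ∉ 𝔮 := hs
    intro hmem
    have : s * s₂ ∈ 𝔮 := by rw [← h𝔮]; exact hmem
    exact (Ideal.IsPrime.mem_or_mem inferInstance this).elim hs' hs₂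
  · rw [Ideal.map_map]
    have hcomm : (algebraMap S' (Localization.Away (π (s * s₂)))).comp π =
        (Localization.awayMap π (s * s₂)).comp (algebraMap S (Localization.Away (s * s₂))) := by
      ext x
      simp [Localization.awayMap, IsLocalization.Away.map, IsLocalization.map_eq]
    rw [hcomm, ← Ideal.map_map, ← hN₁, Ideal.map_ofList, List.map_append, List.map_append]
    change sp (_ ++ _) = sp _
    rw [sp_append]
    have h0 : sp ((w.map (algebraMap S (Localization.Away (s * s₂)))).map
        (Localization.awayMap π (s * s₂))) = ⊥ := by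
      rw [eq_bot_iff, sp_le_iff]
      intro a ha
      simp only [List.mem_map] at ha
      obtain ⟨_, ⟨b, hb, rfl⟩, rfl⟩ := ha
      have : algebraMap S (Localization.Away (s * s₂)) b ∈
          RingHom.ker (Localization.awayMap π (s * s₂)) := by
        rw [hker₁]
        exact Ideal.subset_span (List.mem_map_of_mem hb)
      exact this
    rw [h0, bot_sup_eq]

end Groth.Agent.Lib.Helper91.SmDesc
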