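import Mathlib
import Groth.Prelude.Def_CAlgX
import Groth.Prelude.Def_RegImm
import Groth.Agent.Lib.Helper91.SmDesc1
import Groth.Agent.Lib.Helper77.QuasiRegReg

/-!
# The kind `quasi` is good
-/

set_option autoImplicit false
set_option linter.style.haveILetI false
universe u

namespace Groth.Agent.Lib.Helper91.SmDesc

open Groth.Agent.Lib.Helper91.RegBC MvPolynomial

section sub

variable {R : Type u} [CommRing R] {n : ℕ}

/-- linear substitution -/
noncomputable def sub (M : Fin n → Fin n → R) :
    MvPolynomial (Fin n) R →ₐ[R] MvPolynomial (Fin n) R :=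
  aeval fun i => ∑ j, C (M i j) * X j

theorem sub_X (M : Fin n → Fin n → R) (i : Fin n) : sub M (X i) = ∑ j, C (M i j) * X j := by
  simp [sub]

theorem sub_C (M : Fin n → Fin n → R) (a : R) : sub M (C a) = C a := by
  simp [sub]

theorem sub_isHomogeneous (M : Fin n → Fin n → R) (P : MvPolynomial (Fin n) R) (d : ℕ)
    (hP : P.IsHomogeneous d) : (sub M P).IsHomogeneous d := by
  have := hP.aeval (S := R) (fun i => ∑ j, C (M i j) * X j) (n := 1) (fun i => by
    refine IsHomogeneous.sum _ _ _ fun j _ => ?_
    have := (isHomogeneous_C (Fin n) (M i j)).mul (isHomogeneous_X R j)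
    simpa using this)
  simpa [sub] using this

theorem eval_sub (M : Fin n → Fin n → R) (g : Fin n → R) (P : MvPolynomial (Fin n) R) :
    eval g (sub M P) = eval (fun i => ∑ j, M i j * g j) P := by
  have : (eval g).comp (sub M).toRingHom = eval (fun i => ∑ j, M i j * g j) := by
    apply MvPolynomial.ringHom_ext
    · intro a
      simp [sub]
    · intro i
      simp [sub]
  exact congrFun (congrArg DFunLike.coe this) P

theorem sub_mem_map_C (M : Fin n → Fin n → R) (I : Ideal R) (P : MvPolynomial (Fin n) R)
    (hP : P ∈ Ideal.map (C : R →+* MvPolynomial (Fin n) R) I) :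
    sub M P ∈ Ideal.map (C : R →+* MvPolynomial (Fin n) R) I := by
  have hle : Ideal.map (C : R →+* MvPolynomial (Fin n) R) I ≤
      (Ideal.map (C : R →+* MvPolynomial (Fin n) R) I).comap (sub M).toRingHom := by
    rw [Ideal.map_le_iff_le_comap]
    intro a ha
    rw [Ideal.mem_comap, Ideal.mem_comap]
    have : (sub M).toRingHom (C a) = C a := by simp [sub]
    rw [this]
    exact Ideal.mem_map_of_mem _ ha
  exact hle hP

end sub

/-- a generating sequence of the same length as a quasi-regular generating sequence is
quasi-regular -/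
theorem isQuasiRegular_of_span_eq {R : Type u} [CommRing R] {n : ℕ} (f g : Fin n → R)
    (hfg : Ideal.span (Set.range f) = Ideal.span (Set.range g))
    (hg : CAlgX.IsQuasiRegular g) : CAlgX.IsQuasiRegular f := by
  classical
  obtain ⟨I, hI⟩ : ∃ I : Ideal R, I = Ideal.span (Set.range g) := ⟨_, rfl⟩
  rw [← hI] at hfg
  have hg' : ∀ (d : ℕ) (P : MvPolynomial (Fin n) R), P.IsHomogeneous d →
      eval g P ∈ I ^ (d + 1) → ∀ m : Fin n →₀ ℕ, P.coeff m ∈ I := by
    rw [hI]
    exact hg
  have hgI : ∀ i, g i ∈ I := fun i => hI ▸ Ideal.subset_span ⟨i, rfl⟩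
  have hfI : ∀ i, f i ∈ I := fun i => hfg ▸ Ideal.subset_span ⟨i, rfl⟩
  have hfT : ∀ i, ∃ c : Fin n → R, ∑ j, c j * g j = f i := fun i =>
    Ideal.mem_span_range_iff_exists_fun.mp (hI ▸ hfI i)
  choose T hT using hfT
  have hgU : ∀ i, ∃ c : Fin n → R, ∑ j, c j * f j = g i := fun i =>
    Ideal.mem_span_range_iff_exists_fun.mp (hfg ▸ hgI i)
  choose U hU using hgU
  -- `U T ≡ 1` modulo `I`
  have hlin : ∀ c : Fin n → R, ∑ j, c j * g j = 0 → ∀ j, c j ∈ I := by
    intro c hc j
    have hhom : (∑ j, C (c j) * X j : MvPolynomial (Fin n) R).IsHomogeneous 1 := by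
      refine IsHomogeneous.sum _ _ _ fun j _ => ?_
      have := (isHomogeneous_C (Fin n) (c j)).mul (isHomogeneous_X R j)
      simpa using this
    have := hg' 1 (∑ j, C (c j) * X j) hhom (by
      simp only [map_sum, map_mul, eval_C, eval_X]
      rw [hc]
      exact zero_mem _) (Finsupp.single j 1)
    simpa [coeff_sum, coeff_C_mul, coeff_X', Finsupp.single_left_inj] using this
  have hUT : ∀ i j, (∑ l, U i l * T l j) - (if i = j then 1 else 0) ∈ I := by
    intro i
    apply hlin
    have h1 : ∑ j, (∑ l, U i l * T l j) * g j = g i := by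
      calc ∑ j, (∑ l, U i l * T l j) * g j = ∑ l, U i l * ∑ j, T l j * g j := by
            simp only [Finset.sum_mul, Finset.mul_sum]
            rw [Finset.sum_comm]
            refine Finset.sum_congr rfl fun l _ => Finset.sum_congr rfl fun j _ => by ring
        _ = g i := by
            simp only [hT]
            exact hU i
    simp only [sub_mul, Finset.sum_sub_distrib, h1]
    simp
  -- matrices over the quotient
  let mk := Ideal.Quotient.mk I
  let Tb : Matrix (Fin n) (Fin n) (R ⧸ I) := fun i j => mk (T i j)
  let Ub : Matrix (Fin n) (Fin n) (R ⧸ I) := fun i j => mk (U i j)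
  have hUTb : Ub * Tb = 1 := by
    ext i j
    simp only [Matrix.mul_apply, Ub, Tb, Matrix.one_apply]
    rw [← sub_eq_zero]
    have := Ideal.Quotient.eq_zero_iff_mem.mpr (hUT i j)
    simpa [mk, map_sum, map_sub, map_mul, apply_ite] using this
  have hTUb : Tb * Ub = 1 := _root_.mul_eq_one_comm.mp hUTb
  -- main argument
  intro d P hP hev m
  rw [hfg]
  have hQhom := sub_isHomogeneous T P d hP
  have hQev : eval g (sub T P) = eval f P := by
    rw [eval_sub]
    have : (fun i => ∑ j, T i j * g j) = f := funext hT
    rw [this]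
  have hQ : sub T P ∈ Ideal.map (C : R →+* MvPolynomial (Fin n) R) I := by
    rw [MvPolynomial.mem_map_C_iff]
    intro m'
    exact hg' d (sub T P) hQhom (by rw [hQev, ← hfg]; exact hev) m'
  have hQ' := sub_mem_map_C U I _ hQ
  have hcomp : (MvPolynomial.map mk).comp ((sub U).toRingHom.comp (sub T).toRingHom) =
      MvPolynomial.map mk := by
    apply MvPolynomial.ringHom_ext
    · intro a
      simp [sub]
    · intro i
      have h1 : (MvPolynomial.map mk) ((sub U) ((sub T) (X i))) =
          ∑ l, C ((Tb * Ub) i l) * X l := by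
        simp only [sub_X, sub_C, map_sum, map_mul,
          MvPolynomial.map_C, MvPolynomial.map_X, Matrix.mul_apply, Tb, Ub]
        simp only [Finset.mul_sum, Finset.sum_mul]
        rw [Finset.sum_comm]
        refine Finset.sum_congr rfl fun l _ => Finset.sum_congr rfl fun j _ => by ring
      show (MvPolynomial.map mk) ((sub U) ((sub T) (X i))) = MvPolynomial.map mk (X i)
      rw [h1, hTUb]
      simp [Matrix.one_apply]
  have hker : MvPolynomial.map mk P = 0 := by
    have h1 : MvPolynomial.map mk (sub U (sub T P)) = 0 := by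
      have : sub U (sub T P) ∈ RingHom.ker (MvPolynomial.map mk :
          MvPolynomial (Fin n) R →+* MvPolynomial (Fin n) (R ⧸ I)) := by
        rw [MvPolynomial.ker_map, Ideal.mk_ker]
        exact hQ'
      exact this
    have h2 := congrFun (congrArg DFunLike.coe hcomp) P
    simp only [RingHom.comp_apply] at h2
    rw [← h2]
    exact h1
  have hmem : P ∈ RingHom.ker (MvPolynomial.map mk :
      MvPolynomial (Fin n) R →+* MvPolynomial (Fin n) (R ⧸ I)) := hker
  rw [MvPolynomial.ker_map, Ideal.mk_ker, MvPolynomial.mem_map_C_iff] at hmem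
  exact hmem m

/-- quotient of a quasi-regular sequence by a prefix -/
theorem isQuasiRegular_quot_list (m : ℕ) :
    ∀ {R R' : Type u} [CommRing R] [CommRing R'] (π : R →+* R'), Function.Surjective π →
    ∀ w e : List R, w.length = m → RingHom.ker π = Ideal.ofList w →
      CAlgX.IsQuasiRegular (w ++ e).get → CAlgX.IsQuasiRegular (e.map π).get := by
  induction m with
  | zero =>
    intro R R' _ _ π hπ w e hw hker h
    have hw' : w = [] := List.length_eq_zero_iff.mp hw
    subst hw'
    have hinj : Function.Injective π := by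
      rw [RingHom.injective_iff_ker_eq_bot, hker]
      simp [Ideal.ofList]
    have hflat : π.Flat := RingHom.Flat.of_bijective ⟨hinj, hπ⟩
    apply isQuasiRegular_list_map
    exact isQuasiRegular_map_of_flat π hflat _ (by simpa using h)
  | succ m ih =>
    intro R R' _ _ π hπ w e hw hker h
    obtain ⟨a, w', rfl⟩ := List.exists_cons_of_length_eq_add_one hw
    have hw' : w'.length = m := by simpa using hw
    let mk := Ideal.Quotient.mk (Ideal.span {a})
    have ha : a ∈ RingHom.ker π := by
      rw [hker]
      exact Ideal.subset_span (by simp)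
    have hle : Ideal.span {a} ≤ RingHom.ker π := (Ideal.span_singleton_le_iff_mem _).mpr ha
    let π₁ : R ⧸ Ideal.span {a} →+* R' := Ideal.Quotient.lift _ π (fun x hx => hle hx)
    have hπ₁ : Function.Surjective π₁ := by
      intro y
      obtain ⟨x, rfl⟩ := hπ y
      exact ⟨mk x, by simp [π₁, mk]⟩
    have hcomp : π₁.comp mk = π := by
      ext x
      simp [π₁, mk]
    have hker₁ : RingHom.ker π₁ = Ideal.ofList (w'.map mk) := by
      have h1 : RingHom.ker π₁ = (RingHom.ker π).map mk := by
        apply le_antisymm
        · intro y hy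
          obtain ⟨x, rfl⟩ := Ideal.Quotient.mk_surjective y
          have : π x = 0 := by
            have := RingHom.mem_ker.mp hy
            simpa [π₁] using this
          exact Ideal.mem_map_of_mem _ (RingHom.mem_ker.mpr this)
        · rw [Ideal.map_le_iff_le_comap]
          intro x hx
          rw [Ideal.mem_comap, RingHom.mem_ker]
          have : π₁ (mk x) = π x := by simp [π₁, mk]
          rw [this]
          exact hx
      rw [h1, hker, Ideal.map_ofList, List.map_cons]
      apply le_antisymm
      · refine Ideal.span_le.mpr ?_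
        intro y hy
        rcases List.mem_cons.mp hy with rfl | hy
        · have : mk a = 0 := Ideal.Quotient.eq_zero_iff_mem.mpr (Ideal.mem_span_singleton_self a)
          rw [this]
          exact zero_mem _
        · exact Ideal.subset_span hy
      · exact Ideal.span_mono (fun y hy => List.mem_cons_of_mem _ hy)
    -- quotient by `a`
    have h1 : CAlgX.IsQuasiRegular ((w' ++ e).map mk).get := by
      apply isQuasiRegular_list_map
      have h' : CAlgX.IsQuasiRegular (a :: (w' ++ e)).get := by simpa using h
      have h2 := Groth.Agent.Lib.Helper77.QuasiReg.isQuasiRegular_quot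
        (c := (w' ++ e).length) (a :: (w' ++ e)).get h'
      exact h2
    rw [List.map_append] at h1
    have h3 := ih π₁ hπ₁ (w'.map mk) (e.map mk) (by simpa using hw') hker₁ h1
    rw [List.map_map, ← RingHom.coe_comp, hcomp] at h3
    exact h3

/-- the kind `quasi` is good -/
theorem good_quasi : Good.{u} .quasi where
  flat := by
    intro R T _ _ φ hφ l h
    exact isQuasiRegular_list_map φ l (isQuasiRegular_map_of_flat φ hφ _ h)
  len := by
    intro R _ g f hg hfg hlen
    show CAlgX.IsQuasiRegular f.get
    have hg' : CAlgX.IsQuasiRegular g.get := hg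
    have h1 : CAlgX.IsQuasiRegular (g.get ∘ Fin.cast hlen) := (isQuasiRegular_cast hlen _).mpr hg'
    refine isQuasiRegular_of_span_eq f.get (g.get ∘ Fin.cast hlen) ?_ h1
    rw [span_range_get, hfg, ← span_range_get]
    congr 1
    ext x
    simp only [Set.mem_range, Function.comp_apply]
    constructor
    · rintro ⟨i, rfl⟩
      exact ⟨Fin.cast hlen.symm i, by simp⟩
    · rintro ⟨i, rfl⟩
      exact ⟨_, rfl⟩
  quot := by
    intro R R' _ _ π hπ w e hker h
    exact isQuasiRegular_quot_list w.length π hπ w e rfl hker h

end Groth.Agent.Lib.Helper91.SmDesc
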