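import Mathlib
import Groth.Prelude.Def_CAlgX
import Groth.Prelude.Def_RegImm
import Groth.Agent.Lib.Helper91.SmDesc2
import Groth.Agent.S2103

/-!
# The kind `h1` is good
-/

set_option autoImplicit false
set_option linter.style.haveILetI false
universe u

namespace Groth.Agent.Lib.Helper91.SmDesc

open Groth.Agent.Lib.Helper91.RegBC Groth.Agent.Lib.Helper91.H1Desc

/-- a generating sequence of the same length as an `H_1`-regular generating sequence is
`H_1`-regular -/
theorem isH1Regular_of_span_eq {R : Type u} [CommRing R] {n : ℕ} (f g : Fin n → R)
    (hfg : Ideal.span (Set.range f) = Ideal.span (Set.range g))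
    (hg : CAlgX.IsH1Regular g) : CAlgX.IsH1Regular f := by
  apply isH1Regular_of_localization_maximal
  intro P _
  have hflat : (algebraMap R (Localization.AtPrime P)).Flat :=
    RingHom.flat_algebraMap_iff.mpr inferInstance
  have hg' : CAlgX.IsH1Regular (algebraMap R (Localization.AtPrime P) ∘ g) :=
    isH1Regular_map_of_flat _ hflat g hg
  have hspan : Ideal.span (Set.range (algebraMap R (Localization.AtPrime P) ∘ f)) =
      Ideal.span (Set.range (algebraMap R (Localization.AtPrime P) ∘ g)) := by
    rw [Set.range_comp, Set.range_comp, ← Ideal.map_span, ← Ideal.map_span, hfg]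
  by_cases htop : Ideal.span (Set.range (algebraMap R (Localization.AtPrime P) ∘ f)) = ⊤
  · exact isH1Regular_of_span_eq_top _ htop
  · have hI := IsLocalRing.le_maximalIdeal htop
    have hq : CAlgX.IsQuasiRegular (algebraMap R (Localization.AtPrime P) ∘ f) :=
      isQuasiRegular_of_span_eq _ _ hspan (Groth.Agent.S2103.result _ hg')
    exact isH1Regular_local _ _ hspan hI hq hg'

/-- quotient of an `H_1`-regular sequence by a prefix -/
theorem isH1Regular_quot {R R' : Type u} [CommRing R] [CommRing R'] (π : R →+* R')
    (hπ : Function.Surjective π) {m r : ℕ} (w : Fin m → R) (e : Fin r → R)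
    (hker : RingHom.ker π = Ideal.span (Set.range w))
    (h : CAlgX.IsH1Regular (Fin.append w e)) : CAlgX.IsH1Regular (π ∘ e) := by
  classical
  intro a' ha'
  choose lift hlift using hπ
  let a : Fin r → R := fun i => lift (a' i)
  have h1 : ∑ i, a i * e i ∈ RingHom.ker π := by
    rw [RingHom.mem_ker, map_sum]
    simp only [map_mul, a, hlift]
    exact ha'
  rw [hker] at h1
  obtain ⟨b, hb⟩ := Ideal.mem_span_range_iff_exists_fun.mp h1
  let v : Fin (m + r) → R := Fin.append (fun j => - b j) a
  have hv : ∑ i, v i * Fin.append w e i = 0 := by
    rw [Fin.sum_univ_add]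
    simp only [v, Fin.append_left, Fin.append_right]
    rw [← hb]
    simp [neg_mul, Finset.sum_neg_distrib]
  have hmem := h v hv
  have hw0 : ∀ i, π (w i) = 0 := fun i => by
    have : w i ∈ RingHom.ker π := by rw [hker]; exact Ideal.subset_span ⟨i, rfl⟩
    exact this
  have key : ∀ x ∈ Submodule.span R {v : Fin (m + r) → R | ∃ i j : Fin (m + r),
        v = Pi.single i (Fin.append w e j) - Pi.single j (Fin.append w e i)},
      (fun i : Fin r => π (x (Fin.natAdd m i))) ∈ Submodule.span R'
        {v : Fin r → R' | ∃ i j : Fin r, v = Pi.single i ((π ∘ e) j) - Pi.single j ((π ∘ e) i)} := by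
    intro x hx
    induction hx using Submodule.span_induction with
    | mem x hx =>
      obtain ⟨i, j, rfl⟩ := hx
      induction i using Fin.addCases with
      | left i₀ =>
        induction j using Fin.addCases with
        | left j₀ =>
          have : (fun i : Fin r => π ((Pi.single (Fin.castAdd r i₀) (Fin.append w e (Fin.castAdd r j₀)) -
              Pi.single (Fin.castAdd r j₀) (Fin.append w e (Fin.castAdd r i₀)) : Fin (m + r) → R)
                (Fin.natAdd m i))) = 0 := by
            funext i
            simp only [Pi.sub_apply, Pi.single_apply, Fin.append_left, map_sub, Pi.zero_apply]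
            split_ifs <;> simp [hw0]
          rw [this]
          exact zero_mem _
        | right j₁ =>
          have : (fun i : Fin r => π ((Pi.single (Fin.castAdd r i₀) (Fin.append w e (Fin.natAdd m j₁)) -
              Pi.single (Fin.natAdd m j₁) (Fin.append w e (Fin.castAdd r i₀)) : Fin (m + r) → R)
                (Fin.natAdd m i))) = 0 := by
            funext i
            simp only [Pi.sub_apply, Pi.single_apply, Fin.append_left, Fin.append_right, map_sub,
              Pi.zero_apply]
            have h1 : Fin.natAdd m i ≠ Fin.castAdd r i₀ := by
              intro h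
              have := congrArg Fin.val h
              simp at this
              omega
            rw [if_neg h1]
            split_ifs <;> simp [hw0]
          rw [this]
          exact zero_mem _
      | right i₁ =>
        induction j using Fin.addCases with
        | left j₀ =>
          have : (fun i : Fin r => π ((Pi.single (Fin.natAdd m i₁) (Fin.append w e (Fin.castAdd r j₀)) -
              Pi.single (Fin.castAdd r j₀) (Fin.append w e (Fin.natAdd m i₁)) : Fin (m + r) → R)
                (Fin.natAdd m i))) = 0 := by
            funext i
            simp only [Pi.sub_apply, Pi.single_apply, Fin.append_left, Fin.append_right, map_sub,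
              Pi.zero_apply]
            have h1 : Fin.natAdd m i ≠ Fin.castAdd r j₀ := by
              intro h
              have := congrArg Fin.val h
              simp at this
              omega
            rw [if_neg h1]
            split_ifs <;> simp [hw0]
          rw [this]
          exact zero_mem _
        | right j₁ =>
          have : (fun i : Fin r => π ((Pi.single (Fin.natAdd m i₁) (Fin.append w e (Fin.natAdd m j₁)) -
              Pi.single (Fin.natAdd m j₁) (Fin.append w e (Fin.natAdd m i₁)) : Fin (m + r) → R)
                (Fin.natAdd m i))) =
              Pi.single i₁ ((π ∘ e) j₁) - Pi.single j₁ ((π ∘ e) i₁) := by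
            funext i
            simp only [Pi.sub_apply, Pi.single_apply, Fin.append_right, map_sub,
              Function.comp_apply, Fin.natAdd_inj]
            split_ifs <;> simp
          rw [this]
          exact Submodule.subset_span ⟨i₁, j₁, rfl⟩
    | zero =>
      have : (fun i : Fin r => π ((0 : Fin (m + r) → R) (Fin.natAdd m i))) = 0 := by
        funext i; simp
      rw [this]
      exact zero_mem _
    | add x y _ _ hx hy =>
      have : (fun i : Fin r => π ((x + y) (Fin.natAdd m i))) =
          (fun i : Fin r => π (x (Fin.natAdd m i))) + (fun i : Fin r => π (y (Fin.natAdd m i))) := by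
        funext i; simp
      rw [this]
      exact add_mem hx hy
    | smul c x _ hx =>
      have : (fun i : Fin r => π ((c • x) (Fin.natAdd m i))) =
          π c • (fun i : Fin r => π (x (Fin.natAdd m i))) := by
        funext i; simp
      rw [this]
      exact Submodule.smul_mem _ _ hx
  have h2 := key v hmem
  have h3 : (fun i : Fin r => π (v (Fin.natAdd m i))) = a' := by
    funext i
    simp [v, a, hlift]
  rw [h3] at h2
  exact h2

theorem get_append_eq {R : Type u} (w e : List R) :
    (w ++ e).get = Fin.append w.get e.get ∘ Fin.cast (List.length_append) := by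
  funext i
  simp only [Function.comp_apply, List.get_eq_getElem]
  by_cases h : i.1 < w.length
  · rw [List.getElem_append_left h]
    have : Fin.cast (List.length_append) i = Fin.castAdd e.length ⟨i.1, h⟩ := by
      ext; simp
    rw [this, Fin.append_left]
    rfl
  · have h' : w.length ≤ i.1 := not_lt.mp h
    rw [List.getElem_append_right h']
    have hlt : i.1 - w.length < e.length := by
      have := i.2
      simp only [List.length_append] at this
      omega
    have : Fin.cast (List.length_append) i = Fin.natAdd w.length ⟨i.1 - w.length, hlt⟩ := by
      ext; simp; omega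
    rw [this, Fin.append_right]
    rfl

/-- the kind `h1` is good -/
theorem good_h1 : Good.{u} .h1 where
  flat := by
    intro R T _ _ φ hφ l h
    exact isH1Regular_list_map φ l (isH1Regular_map_of_flat φ hφ _ h)
  len := by
    intro R _ g f hg hfg hlen
    show CAlgX.IsH1Regular f.get
    have hg' : CAlgX.IsH1Regular g.get := hg
    have h1 : CAlgX.IsH1Regular (g.get ∘ Fin.cast hlen) := (isH1Regular_cast hlen _).mpr hg'
    refine isH1Regular_of_span_eq f.get (g.get ∘ Fin.cast hlen) ?_ h1
    rw [span_range_get, hfg, ← span_range_get]
    congr 1
    ext x
    simp only [Set.mem_range, Function.comp_apply]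
    constructor
    · rintro ⟨i, rfl⟩
      exact ⟨Fin.cast hlen.symm i, by simp⟩
    · rintro ⟨i, rfl⟩
      exact ⟨_, rfl⟩
  quot := by
    intro R R' _ _ π hπ w e hker h
    show CAlgX.IsH1Regular (e.map π).get
    apply isH1Regular_list_map
    have h' : CAlgX.IsH1Regular (w ++ e).get := h
    rw [get_append_eq, isH1Regular_cast] at h'
    exact isH1Regular_quot π hπ w.get e.get (by rw [hker, span_range_get]) h'

end Groth.Agent.Lib.Helper91.SmDesc
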