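import Mathlib
import Groth.Prelude.Def_CAlgX
import Groth.Prelude.Def_RegImm
import Groth.Agent.Lib.Helper91.SmDesc1

/-!
# Locally `k`-regular ideals: flat base change, localisation, and descent along an étale map
-/

set_option autoImplicit false
set_option linter.style.haveILetI false
universe u

namespace Groth.Agent.Lib.Helper91.SmDesc

open Groth.Agent.Lib.Helper91.H1Desc Groth.Agent.Lib.Helper9 Groth.Agent.Lib.Helper9.KoszulExch
  Groth.Agent.Lib.Helper9.KoszulIndep Groth.Agent.Lib.Helper9.KoszulQuot

variable {k : RegImm.Kind}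

/-- an ideal generated by a `k`-regular sequence is locally `k`-regular -/
theorem locK_ofList (hk : Good.{u} k) {R : Type u} [CommRing R] (l : List R) (hl : k.Seq R l) :
    LocK k (Ideal.ofList l) := by
  intro 𝔭 _
  refine ⟨1, fun h => 𝔭.2.ne_top ((Ideal.eq_top_iff_one _).mpr h), _,
    hk.flat (algebraMap R (Localization.Away (1 : R)))
      (RingHom.flat_algebraMap_iff.mpr inferInstance) l hl, ?_⟩
  rw [Ideal.map_ofList]

/-- flat base change of locally `k`-regular ideals -/
theorem locK_map_of_flat (hk : Good.{u} k) {R R' : Type u} [CommRing R] [CommRing R']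
    (φ : R →+* R') (hφ : φ.Flat) (I : Ideal R) (h : LocK k I) : LocK k (I.map φ) := by
  intro 𝔭' h𝔭'
  have hI𝔭 : I ≤ 𝔭'.asIdeal.comap φ := Ideal.map_le_iff_le_comap.mp h𝔭'
  obtain ⟨s, hs, l₀, hl₀, hIl₀⟩ := h ⟨𝔭'.asIdeal.comap φ, inferInstance⟩ hI𝔭
  obtain ⟨lam, hlamI, hlamP, hlamE⟩ := exists_lift_list hk I s l₀ hl₀ hIl₀
  have hs' : φ s ∉ 𝔭'.asIdeal := hs
  letI : Algebra R (Localization.Away (φ s)) :=
    ((algebraMap R' (Localization.Away (φ s))).comp φ).toAlgebra
  have hflat : ((algebraMap R' (Localization.Away (φ s))).comp φ).Flat :=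
    RingHom.Flat.comp hφ (RingHom.flat_algebraMap_iff.mpr inferInstance)
  haveI : Module.Flat R (Localization.Away (φ s)) := hflat
  have hunit : IsUnit (algebraMap R (Localization.Away (φ s)) s) :=
    IsLocalization.Away.algebraMap_isUnit (φ s)
  have h1 := seq_map_of_away hk s lam hlamP (Localization.Away (φ s)) hunit
  have hJ' : Ideal.ofList lam ≤ I := Ideal.span_le.mpr hlamI
  have hle : I.map (algebraMap R (Localization.Away s)) ≤
      (Ideal.ofList lam).map (algebraMap R (Localization.Away s)) := by
    rw [Ideal.map_ofList, ← hlamE]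
  refine ⟨φ s, hs', _, h1, ?_⟩
  rw [Ideal.map_map]
  have := map_eq_of_away I (Ideal.ofList lam) hJ' s hle (Localization.Away (φ s)) hunit
  rw [Ideal.map_ofList] at this
  exact this

/-- a locally `k`-regular ideal of a basic open gives local `k`-regularity at its points -/
theorem locK_at_of_away (hk : Good.{u} k) {A : Type u} [CommRing A] (J : Ideal A) (a : A)
    (h : LocK k (J.map (algebraMap A (Localization.Away a)))) (𝔭 : PrimeSpectrum A)
    (hJ : J ≤ 𝔭.asIdeal) (ha : a ∉ 𝔭.asIdeal) :
    ∃ g : A, g ∉ 𝔭.asIdeal ∧ ∃ l : List (Localization.Away g), k.Seq (Localization.Away g) l ∧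
      J.map (algebraMap A (Localization.Away g)) = Ideal.ofList l := by
  have hdisj : Disjoint (Submonoid.powers a : Set A) (𝔭.asIdeal : Set A) :=
    (Ideal.disjoint_powers_iff_notMem_of_isPrime _).mpr ha
  haveI hprime : (𝔭.asIdeal.map (algebraMap A (Localization.Away a))).IsPrime :=
    IsLocalization.isPrime_of_isPrime_disjoint (Submonoid.powers a) _ _ 𝔭.2 hdisj
  have hcomap : (𝔭.asIdeal.map (algebraMap A (Localization.Away a))).comap
      (algebraMap A (Localization.Away a)) = 𝔭.asIdeal :=
    IsLocalization.comap_map_of_isPrime_disjoint (Submonoid.powers a) _ 𝔭.2 hdisj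
  obtain ⟨s₁, hs₁, l₀, hl₀, hIl₀⟩ := h ⟨_, hprime⟩ (Ideal.map_mono hJ)
  obtain ⟨⟨s, ⟨_, m, rfl⟩⟩, hsm⟩ := IsLocalization.surj (Submonoid.powers a) s₁
  simp only at hsm
  -- `s₁ * a^m = s`
  have hau : IsUnit (algebraMap A (Localization.Away a) (a ^ m)) := by
    rw [map_pow]
    exact (IsLocalization.Away.algebraMap_isUnit a).pow m
  have hs : s ∉ 𝔭.asIdeal := by
    intro hmem
    have h1 : algebraMap A (Localization.Away a) s ∈
        𝔭.asIdeal.map (algebraMap A (Localization.Away a)) := Ideal.mem_map_of_mem _ hmem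
    rw [← hsm] at h1
    exact hs₁ ((Ideal.mul_unit_mem_iff_mem _ hau).mp h1)
  have hassoc : Associated s₁ (algebraMap A (Localization.Away a) s) :=
    ⟨hau.unit, by rw [← hsm]; rfl⟩
  haveI : IsLocalization.Away (algebraMap A (Localization.Away a) s) (Localization.Away s₁) :=
    IsLocalization.Away.of_associated hassoc
  haveI : IsScalarTower A (Localization.Away a) (Localization.Away s₁) := inferInstance
  haveI : IsLocalization.Away (a * s) (Localization.Away s₁) :=
    IsLocalization.Away.mul' (Localization.Away a) (Localization.Away s₁) a s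
  let e : Localization.Away s₁ ≃ₐ[A] Localization.Away (a * s) :=
    IsLocalization.algEquiv (Submonoid.powers (a * s)) _ _
  have heflat : (e : Localization.Away s₁ →+* Localization.Away (a * s)).Flat :=
    RingHom.Flat.of_bijective e.bijective
  refine ⟨a * s, fun hmem => (𝔭.2.mem_or_mem hmem).elim ha hs, l₀.map e,
    hk.flat (e : Localization.Away s₁ →+* Localization.Away (a * s)) heflat l₀ hl₀, ?_⟩
  have h1 : (J.map (algebraMap A (Localization.Away s₁))).map
      (e : Localization.Away s₁ →+* Localization.Away (a * s)) =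
      J.map (algebraMap A (Localization.Away (a * s))) := by
    rw [Ideal.map_map]
    congr 1
    ext x
    exact e.commutes x
  rw [← h1, IsScalarTower.algebraMap_eq A (Localization.Away a) (Localization.Away s₁),
    ← Ideal.map_map, hIl₀, Ideal.map_ofList]
  rfl

/-- **Descent of locally `k`-regular ideals along an étale map**, for an ideal whose quotient is
also a quotient of the base -/
theorem etale_descent (hk : Good.{u} k) (hk' : k ≠ RegImm.Kind.regular)
    {A S C : Type u} [CommRing A] [CommRing S] [CommRing C]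
    [Algebra A S] [Algebra.Etale A S]
    (ψ : S →+* C) (hχ : Function.Surjective (ψ.comp (algebraMap A S)))
    (hfg : (RingHom.ker ψ).FG) (h : LocK k (RingHom.ker ψ)) :
    LocK k (RingHom.ker (ψ.comp (algebraMap A S))) := by
  classical
  set χ := ψ.comp (algebraMap A S) with hχdef
  set I := RingHom.ker ψ with hIdef
  set J := RingHom.ker χ with hJdef
  have hJI : J.map (algebraMap A S) ≤ I := by
    rw [Ideal.map_le_iff_le_comap]
    intro a ha
    exact ha
  -- Step 1: `I ≤ J S ⊔ I * I`
  have hstep1 : I ≤ J.map (algebraMap A S) ⊔ I • I := by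
    let K : Ideal S := I ^ 2 ⊔ J.map (algebraMap A S)
    let N : Ideal (S ⧸ K) := I.map (Ideal.Quotient.mk K)
    have hN : N ^ 2 = ⊥ := by
      rw [← Ideal.map_pow, eq_bot_iff, Ideal.map_le_iff_le_comap]
      intro x hx
      rw [Ideal.mem_comap, Ideal.mem_bot, Ideal.Quotient.eq_zero_iff_mem]
      exact Ideal.mem_sup_left hx
    have hle : RingHom.ker χ ≤ RingHom.ker (algebraMap A (S ⧸ K)) := by
      intro a ha
      rw [RingHom.mem_ker, IsScalarTower.algebraMap_apply A S (S ⧸ K),
        Ideal.Quotient.algebraMap_eq, Ideal.Quotient.eq_zero_iff_mem]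
      exact Ideal.mem_sup_right (Ideal.mem_map_of_mem _ ha)
    let σ : C →+* S ⧸ K := χ.liftOfSurjective hχ ⟨algebraMap A (S ⧸ K), hle⟩
    have hσ : ∀ a, σ (χ a) = algebraMap A (S ⧸ K) a := fun a =>
      RingHom.liftOfRightInverse_comp_apply _ _ _ _ a
    let f₁ : S →ₐ[A] S ⧸ K := Ideal.Quotient.mkₐ A K
    let f₂ : S →ₐ[A] S ⧸ K :=
      { toRingHom := σ.comp ψ
        commutes' := fun a => hσ a }
    have hf : f₁ = f₂ := by
      apply Algebra.FormallyUnramified.comp_injective N hN
      ext x
      obtain ⟨a, ha⟩ := hχ (ψ x)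
      have hy : x - algebraMap A S a ∈ I := by
        rw [hIdef, RingHom.mem_ker, map_sub, sub_eq_zero]
        exact ha.symm
      show Ideal.Quotient.mk N (Ideal.Quotient.mk K x) = Ideal.Quotient.mk N (σ (ψ x))
      rw [← ha, hσ a, Ideal.Quotient.eq, IsScalarTower.algebraMap_apply A S (S ⧸ K),
        Ideal.Quotient.algebraMap_eq, ← map_sub]
      exact Ideal.mem_map_of_mem _ hy
    intro y hy
    have h1 : f₁ y = f₂ y := by rw [hf]
    have h2 : f₂ y = 0 := by
      show σ (ψ y) = 0
      rw [show ψ y = 0 from hy, map_zero]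
    rw [h2] at h1
    have h3 : y ∈ K := Ideal.Quotient.eq_zero_iff_mem.mp h1
    have : K = J.map (algebraMap A S) ⊔ I • I := by
      show I ^ 2 ⊔ _ = _
      rw [sup_comm, pow_two, smul_eq_mul]
    rw [← this]
    exact h3
  obtain ⟨b, hb1, hbI⟩ := Submodule.exists_sub_one_mem_and_smul_le_of_fg_of_le_sup
    (I := I) (N := J.map (algebraMap A S)) (N' := I) (P := I) hfg le_rfl hstep1
  have hbI' : ∀ x ∈ I, b * x ∈ J.map (algebraMap A S) := fun x hx =>
    hbI (Submodule.smul_mem_pointwise_smul x b I hx)
  haveI : Module.Flat A S := inferInstance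
  haveI : Algebra.FinitePresentation A S := inferInstance
  have hopen := PrimeSpectrum.isOpenMap_comap_of_hasGoingDown_of_finitePresentation
    (R := A) (S := S)
  intro 𝔭 h𝔭
  -- the prime of `S` over `𝔭`
  have hker𝔭 : RingHom.ker χ ≤ 𝔭.asIdeal := h𝔭
  haveI hpbar : (𝔭.asIdeal.map χ).IsPrime := Ideal.map_isPrime_of_surjective hχ hker𝔭
  have hcomapχ : (𝔭.asIdeal.map χ).comap χ = 𝔭.asIdeal := by
    rw [Ideal.comap_map_of_surjective χ hχ, ← RingHom.ker_eq_comap_bot]
    exact sup_eq_left.mpr hker𝔭
  let 𝔮 : PrimeSpectrum S := ⟨(𝔭.asIdeal.map χ).comap ψ, inferInstance⟩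
  have hI𝔮 : I ≤ 𝔮.asIdeal := by
    intro x hx
    show ψ x ∈ 𝔭.asIdeal.map χ
    rw [show ψ x = 0 from hx]
    exact zero_mem _
  have hb𝔮 : b ∉ 𝔮.asIdeal := by
    intro hmem
    have : (1 : S) ∈ 𝔮.asIdeal := by
      have h1 : b - 1 ∈ 𝔮.asIdeal := hI𝔮 hb1
      have : (1 : S) = b - (b - 1) := by ring
      rw [this]
      exact sub_mem hmem h1
    exact 𝔮.2.ne_top ((Ideal.eq_top_iff_one _).mpr this)
  have h𝔮𝔭 : PrimeSpectrum.comap (algebraMap A S) 𝔮 = 𝔭 := by
    ext1
    show ((𝔭.asIdeal.map χ).comap ψ).comap (algebraMap A S) = 𝔭.asIdeal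
    rw [Ideal.comap_comap]
    exact hcomapχ
  have hW : IsOpen (PrimeSpectrum.comap (algebraMap A S) '' (PrimeSpectrum.basicOpen b : Set _)) :=
    hopen _ (PrimeSpectrum.basicOpen b).2
  have h𝔭W : 𝔭 ∈ PrimeSpectrum.comap (algebraMap A S) '' (PrimeSpectrum.basicOpen b : Set _) :=
    ⟨𝔮, hb𝔮, h𝔮𝔭⟩
  obtain ⟨_, ⟨a, rfl⟩, h𝔭a, haW⟩ :=
    PrimeSpectrum.isTopologicalBasis_basic_opens.exists_subset_of_mem_open h𝔭W hW
  have ha𝔭 : a ∉ 𝔭.asIdeal := h𝔭a
  -- the ring `T`
  let c : S := algebraMap A S a * b
  haveI : IsScalarTower A S (Localization.Away c) := inferInstance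
  haveI : Module.Flat A (Localization.Away c) := Module.Flat.trans A S (Localization.Away c)
  have hcu : IsUnit (algebraMap S (Localization.Away c) c) :=
    IsLocalization.Away.algebraMap_isUnit c
  have hau : IsUnit (algebraMap A (Localization.Away c) a) := by
    have : algebraMap S (Localization.Away c) c =
        algebraMap A (Localization.Away c) a * algebraMap S (Localization.Away c) b := by
      rw [map_mul, IsScalarTower.algebraMap_apply A S (Localization.Away c)]
    rw [this] at hcu
    exact isUnit_of_mul_isUnit_left hcu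
  have hbu : IsUnit (algebraMap S (Localization.Away c) b) := by
    have : algebraMap S (Localization.Away c) c =
        algebraMap A (Localization.Away c) a * algebraMap S (Localization.Away c) b := by
      rw [map_mul, IsScalarTower.algebraMap_apply A S (Localization.Away c)]
    rw [this] at hcu
    exact isUnit_of_mul_isUnit_right hcu
  letI : Algebra (Localization.Away a) (Localization.Away c) :=
    (IsLocalization.Away.lift a hau).toAlgebra
  haveI : IsScalarTower A (Localization.Away a) (Localization.Away c) :=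
    IsScalarTower.of_algebraMap_eq (fun x => (IsLocalization.Away.lift_eq a hau x).symm)
  haveI : Module.Flat (Localization.Away a) (Localization.Away c) :=
    (Module.flat_iff_of_isLocalization (Localization.Away a) (Submonoid.powers a) _).mpr
      inferInstance
  haveI : Module.FaithfullyFlat (Localization.Away a) (Localization.Away c) := by
    apply Module.FaithfullyFlat.of_comap_surjective
    intro P
    let 𝔭' : PrimeSpectrum A := PrimeSpectrum.comap (algebraMap A (Localization.Away a)) P
    have ha𝔭' : a ∉ 𝔭'.asIdeal := by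
      intro hmem
      have : algebraMap A (Localization.Away a) a ∈ P.asIdeal := hmem
      exact P.2.ne_top (Ideal.eq_top_of_isUnit_mem _ this (IsLocalization.Away.algebraMap_isUnit a))
    obtain ⟨𝔮', hb𝔮', h𝔮'𝔭'⟩ := haW (show 𝔭' ∈ (PrimeSpectrum.basicOpen a : Set _) from ha𝔭')
    have hb𝔮'' : b ∉ 𝔮'.asIdeal := hb𝔮'
    have ha𝔮' : algebraMap A S a ∉ 𝔮'.asIdeal := by
      intro hmem
      apply ha𝔭'
      rw [← h𝔮'𝔭']
      exact hmem
    have hc𝔮' : c ∉ 𝔮'.asIdeal := fun hmem => (𝔮'.2.mem_or_mem hmem).elim ha𝔮' hb𝔮''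
    have hdisj : Disjoint (Submonoid.powers c : Set S) (𝔮'.asIdeal : Set S) :=
      (Ideal.disjoint_powers_iff_notMem_of_isPrime _).mpr hc𝔮'
    haveI hQprime : (𝔮'.asIdeal.map (algebraMap S (Localization.Away c))).IsPrime :=
      IsLocalization.isPrime_of_isPrime_disjoint (Submonoid.powers c) _ _ 𝔮'.2 hdisj
    have hQcomap : (𝔮'.asIdeal.map (algebraMap S (Localization.Away c))).comap
        (algebraMap S (Localization.Away c)) = 𝔮'.asIdeal :=
      IsLocalization.comap_map_of_isPrime_disjoint (Submonoid.powers c) _ 𝔮'.2 hdisj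
    refine ⟨⟨_, hQprime⟩, ?_⟩
    ext1
    show (𝔮'.asIdeal.map (algebraMap S (Localization.Away c))).comap
      (algebraMap (Localization.Away a) (Localization.Away c)) = P.asIdeal
    have h1 : ((𝔮'.asIdeal.map (algebraMap S (Localization.Away c))).comap
        (algebraMap (Localization.Away a) (Localization.Away c))).comap
        (algebraMap A (Localization.Away a)) = 𝔭'.asIdeal := by
      rw [Ideal.comap_comap, ← IsScalarTower.algebraMap_eq,
        IsScalarTower.algebraMap_eq A S (Localization.Away c), ← Ideal.comap_comap, hQcomap]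
      exact congrArg PrimeSpectrum.asIdeal h𝔮'𝔭'
    have h2 := IsLocalization.map_comap (Submonoid.powers a) (Localization.Away a)
      ((𝔮'.asIdeal.map (algebraMap S (Localization.Away c))).comap
        (algebraMap (Localization.Away a) (Localization.Away c)))
    have h3 := IsLocalization.map_comap (Submonoid.powers a) (Localization.Away a) P.asIdeal
    rw [← h2]
    have h1' : Ideal.under A ((𝔮'.asIdeal.map (algebraMap S (Localization.Away c))).comap
        (algebraMap (Localization.Away a) (Localization.Away c))) = 𝔭'.asIdeal := h1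
    rw [h1']
    exact h3
  -- the ideal upstairs
  have hT1 : LocK k (I.map (algebraMap S (Localization.Away c))) :=
    locK_map_of_flat hk _ (RingHom.flat_algebraMap_iff.mpr inferInstance) I h
  have hIJ : I.map (algebraMap S (Localization.Away c)) =
      (J.map (algebraMap A (Localization.Away a))).map
        (algebraMap (Localization.Away a) (Localization.Away c)) := by
    rw [Ideal.map_map, ← IsScalarTower.algebraMap_eq,
      IsScalarTower.algebraMap_eq A S (Localization.Away c), ← Ideal.map_map]
    apply le_antisymm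
    · rw [Ideal.map_le_iff_le_comap]
      intro x hx
      rw [Ideal.mem_comap]
      have h1 : algebraMap S (Localization.Away c) (b * x) ∈
          (J.map (algebraMap A S)).map (algebraMap S (Localization.Away c)) :=
        Ideal.mem_map_of_mem _ (hbI' x hx)
      rw [map_mul] at h1
      exact (Ideal.unit_mul_mem_iff_mem _ hbu).mp h1
    · exact Ideal.map_mono hJI
  rw [hIJ] at hT1
  have hdesc := locK_descent k hk' (Localization.Away a) (Localization.Away c)
    (J.map (algebraMap A (Localization.Away a))) hT1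
  exact locK_at_of_away hk J a hdesc 𝔭 h𝔭 ha𝔭

end Groth.Agent.Lib.Helper91.SmDesc
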