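import Mathlib
import Groth.Agent.Lib.Helper9.KoszulIndep

/-!
# Slicing an algebra étale over a polynomial ring: partial derivatives, independence of the
slicing equations, étaleness of the slice
-/

set_option autoImplicit false
set_option linter.style.haveILetI false
universe u

namespace Groth.Agent.Lib.Helper91.SmDesc

open KaehlerDifferential MvPolynomial TensorProduct Groth.Agent.Lib.Helper9.KoszulIndep

section diff

variable (A : Type u) {B : Type u} [CommRing A] [CommRing B] (n : ℕ)
  [Algebra A B] [Algebra (MvPolynomial (Fin n) A) B] [IsScalarTower A (MvPolynomial (Fin n) A) B]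
  [Algebra.FormallyEtale (MvPolynomial (Fin n) A) B]

variable (B) in
/-- the basis `d x_i` of the differentials -/
noncomputable def kBasis : Module.Basis (Fin n) B Ω[B⁄A] :=
  ((KaehlerDifferential.mvPolynomialBasis A (Fin n)).baseChange B).map
    (KaehlerDifferential.tensorKaehlerEquivOfFormallyEtale A (MvPolynomial (Fin n) A) B)

theorem kBasis_apply (i : Fin n) :
    kBasis A B n i = D A B (algebraMap (MvPolynomial (Fin n) A) B (X i)) := by
  simp [kBasis, KaehlerDifferential.mapBaseChange_tmul]

/-- the partial derivatives -/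
noncomputable def pd (j : Fin n) (y : B) : B := (kBasis A B n).repr (D A B y) j

theorem pd_add (j : Fin n) (y z : B) : pd A n j (y + z) = pd A n j y + pd A n j z := by
  simp [pd]

theorem pd_zero (j : Fin n) : pd A n j (0 : B) = 0 := by
  simp [pd]

theorem pd_sub (j : Fin n) (y z : B) : pd A n j (y - z) = pd A n j y - pd A n j z := by
  simp [pd]

theorem pd_mul (j : Fin n) (y z : B) :
    pd A n j (y * z) = y * pd A n j z + z * pd A n j y := by
  simp [pd, Derivation.leibniz]

theorem pd_algebraMap (j : Fin n) (a : A) : pd A n j (algebraMap A B a) = 0 := by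
  simp [pd]

theorem pd_one (j : Fin n) : pd A n j (1 : B) = 0 := by
  simp [pd]

theorem pd_X (j i : Fin n) :
    pd A n j (algebraMap (MvPolynomial (Fin n) A) B (X i)) = if i = j then 1 else 0 := by
  rw [pd, ← kBasis_apply, Module.Basis.repr_self, Finsupp.single_apply]

theorem pd_sum {ι : Type*} (s : Finset ι) (j : Fin n) (y : ι → B) :
    pd A n j (∑ i ∈ s, y i) = ∑ i ∈ s, pd A n j (y i) := by
  simp [pd]

theorem pd_mem_of_mem_mul (j : Fin n) (𝔮 I : Ideal B) (hI : I ≤ 𝔮) (z : B) (hz : z ∈ 𝔮 * I) :
    pd A n j z ∈ 𝔮 := by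
  refine Submodule.mul_induction_on hz ?_ ?_
  · intro t ht y hy
    rw [pd_mul]
    exact add_mem (Ideal.mul_mem_right _ _ ht) (Ideal.mul_mem_right _ _ (hI hy))
  · intro x y hx hy
    rw [pd_add]
    exact add_mem hx hy

theorem indep_aux (g : Fin n → B) (I 𝔮 : Ideal B) [𝔮.IsPrime] (hI : I ≤ 𝔮) (hg : ∀ i, g i ∈ I)
    (hpd : ∀ i j, pd A n j (g i) = if i = j then 1 else 0) :
    ∀ (q₀ p₀ : List (Fin n)), (p₀ ++ q₀).Nodup → IndepAt I 𝔮 (p₀.map g) (q₀.map g) := by
  intro q₀
  induction q₀ with
  | nil => intro p₀ _; exact IndepAt.nil _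
  | cons j q₀ ih =>
    intro p₀ hnd
    rw [List.map_cons]
    refine IndepAt.cons _ _ _ ?_ ?_
    · intro u hu hmem
      obtain ⟨z₁, hz₁, z₂, hz₂, hsum⟩ := Submodule.mem_sup.mp hmem
      have hj : j ∉ p₀ := by
        intro hjp
        have := (List.nodup_append.mp hnd).2.2 j hjp j (by simp)
        exact this rfl
      have hB : ∀ z ∈ Ideal.ofList (p₀.map g), z ∈ 𝔮 ∧ pd A n j z ∈ 𝔮 := by
        intro z hz
        induction hz using Submodule.span_induction with
        | mem z hz =>
          obtain ⟨i, hi, rfl⟩ := List.mem_map.mp hz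
          refine ⟨hI (hg i), ?_⟩
          rw [hpd, if_neg (by rintro rfl; exact hj hi)]
          exact zero_mem _
        | zero => exact ⟨zero_mem _, by rw [pd_zero]; exact zero_mem _⟩
        | add x y _ _ hx hy =>
          exact ⟨add_mem hx.1 hy.1, by rw [pd_add]; exact add_mem hx.2 hy.2⟩
        | smul c x _ hx =>
          refine ⟨Ideal.mul_mem_left _ _ hx.1, ?_⟩
          rw [smul_eq_mul, pd_mul]
          exact add_mem (Ideal.mul_mem_left _ _ hx.2) (Ideal.mul_mem_right _ _ hx.1)
      have h1 : pd A n j (u * g j) = u + g j * pd A n j u := by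
        rw [pd_mul, hpd, if_pos rfl, mul_one]
      have h2 : pd A n j (u * g j) ∈ 𝔮 := by
        rw [← hsum, pd_add]
        exact add_mem (hB z₁ hz₁).2 (pd_mem_of_mem_mul A n j 𝔮 I hI z₂ hz₂)
      rw [h1] at h2
      have h3 : g j * pd A n j u ∈ 𝔮 := Ideal.mul_mem_right _ _ (hI (hg j))
      exact hu ((Submodule.add_mem_iff_left _ h3).mp h2)
    · have := ih (p₀ ++ [j]) (by simpa [List.append_assoc] using hnd)
      simpa [List.map_append] using this

/-- the slicing equations are independent at every prime containing the ideal -/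
theorem indepAt_ofFn (g : Fin n → B) (I 𝔮 : Ideal B) [𝔮.IsPrime] (hI : I ≤ 𝔮)
    (hg : ∀ i, g i ∈ I) (hpd : ∀ i j, pd A n j (g i) = if i = j then 1 else 0) :
    IndepAt I 𝔮 [] (List.ofFn g) := by
  have := indep_aux A n g I 𝔮 hI hg hpd (List.finRange n) []
    (by simpa using List.nodup_finRange n)
  simpa [List.ofFn_eq_map] using this

end diff

section etale

variable (A : Type u) {B : Type u} [CommRing A] [CommRing B] (n : ℕ)
  [Algebra A B] [Algebra (MvPolynomial (Fin n) A) B] [IsScalarTower A (MvPolynomial (Fin n) A) B]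
  [Algebra.Etale (MvPolynomial (Fin n) A) B]

theorem ofList_ofFn' {R : Type u} [CommRing R] {r : ℕ} (f : Fin r → R) :
    Ideal.ofList (List.ofFn f) = Ideal.span (Set.range f) := by
  show Ideal.span {x | x ∈ List.ofFn f} = _
  congr 1
  ext x
  simp [List.mem_ofFn]

/-- the slice is étale over the base -/
theorem etale_quot (g : Fin n → B)
    (hpd : ∀ i j, pd A n j (g i) = if i = j then 1 else 0) :
    Algebra.Etale A (B ⧸ Ideal.ofList (List.ofFn g)) := by
  classical
  set K : Ideal B := Ideal.ofList (List.ofFn g) with hKdef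
  have hgK : ∀ i, g i ∈ K := fun i => by
    rw [hKdef, ofList_ofFn']
    exact Ideal.subset_span ⟨i, rfl⟩
  haveI : Algebra.FinitePresentation A B :=
    Algebra.FinitePresentation.trans A (MvPolynomial (Fin n) A) B
  haveI : Algebra.FormallySmooth A B := Algebra.FormallySmooth.comp A (MvPolynomial (Fin n) A) B
  have hKfg : K.FG := by
    rw [hKdef, ofList_ofFn']
    exact ⟨Finset.univ.image g, by simp⟩
  haveI : Algebra.FinitePresentation A (B ⧸ K) := Algebra.FinitePresentation.quotient hKfg
  -- `d g_i = d x_i`
  have hDg : ∀ i, D A B (g i) = kBasis A B n i := by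
    intro i
    rw [← (kBasis A B n).sum_repr (D A B (g i))]
    have : ∀ j, (kBasis A B n).repr (D A B (g i)) j = if i = j then 1 else 0 := fun j => hpd i j
    simp only [this]
    simp
  -- unramified
  haveI hunr : Algebra.FormallyUnramified A (B ⧸ K) := by
    constructor
    have hsurj := KaehlerDifferential.mapBaseChange_surjective A B (B ⧸ K)
      Ideal.Quotient.mk_surjective
    have hzero : KaehlerDifferential.mapBaseChange A B (B ⧸ K) = 0 := by
      apply ((kBasis A B n).baseChange (B ⧸ K)).ext
      intro j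
      rw [Module.Basis.baseChange_apply, KaehlerDifferential.mapBaseChange_tmul, one_smul,
        ← hDg, KaehlerDifferential.map_D]
      have : algebraMap B (B ⧸ K) (g j) = 0 := by
        rw [Ideal.Quotient.algebraMap_eq, Ideal.Quotient.eq_zero_iff_mem]
        exact hgK j
      rw [this, map_zero]
      rfl
    refine subsingleton_of_forall_eq 0 fun ω => ?_
    obtain ⟨t, rfl⟩ := hsurj ω
    rw [hzero]
    rfl
  -- smooth
  haveI hsm : Algebra.FormallySmooth A (B ⧸ K) := by
    have hK' : RingHom.ker (Ideal.Quotient.mkₐ A K).toRingHom = K := Ideal.Quotient.mkₐ_ker A K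
    have hsumK : ∀ y : B, ∑ j, pd A n j y * g j ∈ K := fun y =>
      Ideal.sum_mem _ fun j _ => Ideal.mul_mem_left _ _ (hgK j)
    let θ : B →ₐ[A] B ⧸ RingHom.ker (Ideal.Quotient.mkₐ A K).toRingHom ^ 2 :=
      { toFun := fun y => Ideal.Quotient.mk _ (y - ∑ j, pd A n j y * g j)
        map_one' := by simp only [pd_one, zero_mul, Finset.sum_const_zero, sub_zero]; exact map_one _
        map_mul' := by
          intro y z
          rw [← map_mul, Ideal.Quotient.eq]
          have e1 : ∑ j, y * pd A n j z * g j = y * ∑ j, pd A n j z * g j := by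
            rw [Finset.mul_sum]
            exact Finset.sum_congr rfl fun _ _ => by ring
          have e2 : ∑ j, z * pd A n j y * g j = z * ∑ j, pd A n j y * g j := by
            rw [Finset.mul_sum]
            exact Finset.sum_congr rfl fun _ _ => by ring
          have : (y * z - ∑ j, pd A n j (y * z) * g j) -
              (y - ∑ j, pd A n j y * g j) * (z - ∑ j, pd A n j z * g j) =
              - ((∑ j, pd A n j y * g j) * (∑ j, pd A n j z * g j)) := by
            simp only [pd_mul, add_mul, Finset.sum_add_distrib]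
            rw [e1, e2]
            ring
          rw [this, hK', pow_two]
          exact neg_mem (Ideal.mul_mem_mul (hsumK y) (hsumK z))
        map_zero' := by simp only [pd_zero, zero_mul, Finset.sum_const_zero, sub_zero]; exact map_zero _
        map_add' := by
          intro y z
          rw [← map_add]
          congr 1
          simp only [pd_add, add_mul, Finset.sum_add_distrib]
          ring
        commutes' := by
          intro a
          simp only [pd_algebraMap, zero_mul, Finset.sum_const_zero, sub_zero]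
          rfl }
    have hθK : ∀ a ∈ K, θ a = 0 := by
      intro a ha
      rw [hKdef, ofList_ofFn'] at ha
      induction ha using Submodule.span_induction with
      | mem x hx =>
        obtain ⟨i, rfl⟩ := hx
        show Ideal.Quotient.mk _ (g i - ∑ j, pd A n j (g i) * g j) = 0
        have : ∑ j, pd A n j (g i) * g j = g i := by
          simp only [hpd]
          simp
        rw [this, sub_self, map_zero]
      | zero => exact map_zero θ
      | add x y _ _ hx hy => rw [map_add, hx, hy, add_zero]
      | smul c x _ hx => rw [smul_eq_mul, map_mul, hx, mul_zero]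
    let g' : B ⧸ K →ₐ[A] B ⧸ RingHom.ker (Ideal.Quotient.mkₐ A K).toRingHom ^ 2 :=
      Ideal.Quotient.liftₐ K θ hθK
    refine Algebra.FormallySmooth.of_split (Ideal.Quotient.mkₐ A K) g' ?_
    apply AlgHom.ext
    intro x
    obtain ⟨y, rfl⟩ := Ideal.Quotient.mk_surjective x
    show (Ideal.Quotient.mkₐ A K).kerSquareLift (g' (Ideal.Quotient.mk K y)) = _
    have h1 : g' (Ideal.Quotient.mk K y) = θ y := Ideal.Quotient.liftₐ_apply K θ hθK y
    rw [h1]
    show (Ideal.Quotient.mkₐ A K).kerSquareLift
      (Ideal.Quotient.mk _ (y - ∑ j, pd A n j y * g j)) = _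
    rw [AlgHom.kerSquareLift_mk]
    show Ideal.Quotient.mk K (y - ∑ j, pd A n j y * g j) = Ideal.Quotient.mk K y
    rw [map_sub, (Ideal.Quotient.eq_zero_iff_mem).mpr (hsumK y), sub_zero]
  haveI : Algebra.FormallyEtale A (B ⧸ K) :=
    Algebra.FormallyEtale.of_formallyUnramified_and_formallySmooth
  exact {}

end etale

end Groth.Agent.Lib.Helper91.SmDesc
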