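import Mathlib
import Groth.Agent.Lib.Helper91.SmDesc4
import Groth.Agent.Lib.Helper91.SmDesc5

/-!
# Ring-level theorem: `k`-regularity descends from an algebra étale over a polynomial ring
-/

set_option autoImplicit false
set_option linter.style.haveILetI false
universe u

namespace Groth.Agent.Lib.Helper91.SmDesc

open Groth.Agent.Lib.Helper91.H1Desc MvPolynomial

variable {k : RegImm.Kind}

theorem main_ring (hk : Good.{u} k) (hk' : k ≠ RegImm.Kind.regular)
    {A B C : Type u} [CommRing A] [CommRing B] [CommRing C] (n : ℕ)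
    [Algebra A B] [Algebra (MvPolynomial (Fin n) A) B] [IsScalarTower A (MvPolynomial (Fin n) A) B]
    [Algebra.Etale (MvPolynomial (Fin n) A) B]
    (ψ : B →+* C) (hχ : Function.Surjective (ψ.comp (algebraMap A B)))
    (hfg : (RingHom.ker ψ).FG) (h : LocK k (RingHom.ker ψ)) :
    LocK k (RingHom.ker (ψ.comp (algebraMap A B))) := by
  classical
  have hex : ∀ i : Fin n, ∃ a : A, ψ (algebraMap A B a) =
      ψ (algebraMap (MvPolynomial (Fin n) A) B (X i)) := fun i => hχ _
  choose a ha using hex
  let g : Fin n → B := fun i => algebraMap (MvPolynomial (Fin n) A) B (X i) - algebraMap A B (a i)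
  have hgI : ∀ i, g i ∈ RingHom.ker ψ := fun i => by
    rw [RingHom.mem_ker, map_sub, ha, sub_self]
  have hpd : ∀ i j, pd A n j (g i) = if i = j then 1 else 0 := by
    intro i j
    rw [pd_sub, pd_X, pd_algebraMap, sub_zero]
  set K : Ideal B := Ideal.ofList (List.ofFn g) with hKdef
  have hKI : K ≤ RingHom.ker ψ := by
    rw [hKdef, ofList_ofFn']
    exact Ideal.span_le.mpr (by rintro _ ⟨i, rfl⟩; exact hgI i)
  have h1 : LocK k ((RingHom.ker ψ).map (Ideal.Quotient.mk K)) := by
    refine quotient_locK hk (Ideal.Quotient.mk K) Ideal.Quotient.mk_surjective (List.ofFn g)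
      Ideal.mk_ker (RingHom.ker ψ) ?_ h ?_
    · intro x hx
      obtain ⟨i, rfl⟩ := (List.mem_ofFn' _ _).mp hx
      exact hgI i
    · intro 𝔮 h𝔮 hI𝔮
      haveI := h𝔮
      exact indepAt_ofFn A n g _ 𝔮 hI𝔮 hgI hpd
  haveI : Algebra.Etale A (B ⧸ K) := etale_quot A n g hpd
  let ψS : B ⧸ K →+* C := Ideal.Quotient.lift K ψ (fun x hx => hKI hx)
  have hkerS : RingHom.ker ψS = (RingHom.ker ψ).map (Ideal.Quotient.mk K) := by
    apply le_antisymm
    · intro y hy
      obtain ⟨x, rfl⟩ := Ideal.Quotient.mk_surjective y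
      have : ψ x = 0 := by
        have := RingHom.mem_ker.mp hy
        simpa [ψS] using this
      exact Ideal.mem_map_of_mem _ (RingHom.mem_ker.mpr this)
    · rw [Ideal.map_le_iff_le_comap]
      intro x hx
      rw [Ideal.mem_comap, RingHom.mem_ker]
      have : ψS (Ideal.Quotient.mk K x) = ψ x := by simp [ψS]
      rw [this]
      exact hx
  have hcomp : ψS.comp (algebraMap A (B ⧸ K)) = ψ.comp (algebraMap A B) := by
    ext x
    show ψS (algebraMap A (B ⧸ K) x) = ψ (algebraMap A B x)
    have : algebraMap A (B ⧸ K) x = Ideal.Quotient.mk K (algebraMap A B x) := rfl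
    rw [this]
    exact Ideal.Quotient.lift_mk K ψ _
  have hres := etale_descent hk hk' ψS (by rw [hcomp]; exact hχ)
    (by rw [hkerS]; exact Ideal.FG.map hfg _) (by rw [hkerS]; exact h1)
  rw [hcomp] at hres
  exact hres

end Groth.Agent.Lib.Helper91.SmDesc
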