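import Mathlib

/-!
# Localising an étale map from a polynomial ring
-/

set_option autoImplicit false
set_option linter.style.haveILetI false
universe u

namespace Groth.Agent.Lib.Helper91.SmDesc

open MvPolynomial

attribute [local instance] MvPolynomial.algebraMvPolynomial

theorem etale_poly_localize {A₀ B₁ : Type u} [CommRing A₀] [CommRing B₁] (φ : A₀ →+* B₁) (n : ℕ)
    (θ₀ : MvPolynomial (Fin n) A₀ →+* B₁) (hθ₀ : θ₀.comp C = φ) (het : θ₀.Etale) (a : A₀)
    (A₁ B₂ : Type u) [CommRing A₁] [CommRing B₂] [Algebra A₀ A₁] [IsLocalization.Away a A₁]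
    [Algebra B₁ B₂] [IsLocalization.Away (φ a) B₂] :
    ∃ θ₁ : MvPolynomial (Fin n) A₁ →+* B₂,
      θ₁.comp C = IsLocalization.Away.map A₁ B₂ φ a ∧ θ₁.Etale := by
  have hφ₁ : ∀ x, IsLocalization.Away.map A₁ B₂ φ a (algebraMap A₀ A₁ x) =
      algebraMap B₁ B₂ (φ x) := fun x => IsLocalization.map_eq _ x
  let θ₁ : MvPolynomial (Fin n) A₁ →+* B₂ :=
    eval₂Hom (IsLocalization.Away.map A₁ B₂ φ a) (fun i => algebraMap B₁ B₂ (θ₀ (X i)))
  have hθ₁C : θ₁.comp C = IsLocalization.Away.map A₁ B₂ φ a := by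
    ext x
    simp [θ₁]
  refine ⟨θ₁, hθ₁C, ?_⟩
  have hsq : θ₁.comp (MvPolynomial.map (algebraMap A₀ A₁)) = (algebraMap B₁ B₂).comp θ₀ := by
    apply MvPolynomial.ringHom_ext
    · intro x
      have h1 : θ₀ (C x) = φ x := by rw [← hθ₀]; rfl
      simp [θ₁, hφ₁, h1]
    · intro i
      simp [θ₁]
  letI : Algebra (MvPolynomial (Fin n) A₀) B₁ := θ₀.toAlgebra
  letI : Algebra (MvPolynomial (Fin n) A₁) B₂ := θ₁.toAlgebra
  letI : Algebra (MvPolynomial (Fin n) A₀) B₂ := ((algebraMap B₁ B₂).comp θ₀).toAlgebra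
  haveI : IsScalarTower (MvPolynomial (Fin n) A₀) B₁ B₂ :=
    IsScalarTower.of_algebraMap_eq (fun _ => rfl)
  haveI : IsScalarTower (MvPolynomial (Fin n) A₀) (MvPolynomial (Fin n) A₁) B₂ :=
    IsScalarTower.of_algebraMap_eq (fun x => (congrFun (congrArg DFunLike.coe hsq) x).symm)
  haveI : Algebra.Etale (MvPolynomial (Fin n) A₀) B₁ := het
  haveI : Algebra.Etale B₁ B₂ := Algebra.Etale.of_isLocalizationAway (φ a)
  haveI : Algebra.Etale (MvPolynomial (Fin n) A₀) B₂ :=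
    Algebra.Etale.comp (MvPolynomial (Fin n) A₀) B₁ B₂
  haveI : IsLocalization.Away (C a : MvPolynomial (Fin n) A₀) (MvPolynomial (Fin n) A₁) := by
    have := MvPolynomial.isLocalization (σ := Fin n) (Submonoid.powers a) A₁
    rwa [Submonoid.map_powers] at this
  haveI : Algebra.Etale (MvPolynomial (Fin n) A₀) (MvPolynomial (Fin n) A₁) :=
    Algebra.Etale.of_isLocalizationAway (C a : MvPolynomial (Fin n) A₀)
  have : Algebra.Etale (MvPolynomial (Fin n) A₁) B₂ :=
    Algebra.Etale.of_restrictScalars (MvPolynomial (Fin n) A₀) (MvPolynomial (Fin n) A₁) B₂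
  exact this

end Groth.Agent.Lib.Helper91.SmDesc
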