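import Mathlib
import Groth.Prelude.Def_RegImm
import Groth.Agent.Lib.Helper9.SmoothImm
import Groth.Agent.Lib.Helper91.SmDesc7

/-!
# A common chart for `j` and `j ≫ p`, `p` smooth, on which `p` is étale over an affine space
-/

set_option autoImplicit false
set_option linter.style.haveILetI false
universe u

open CategoryTheory CategoryTheory.Limits AlgebraicGeometry TopologicalSpace Opposite

namespace Groth.Agent.Lib.Helper91.SmDesc

open Groth.Agent.Lib.Helper9 Groth.Agent.Lib.Helper91 Groth.Agent.Lib.Helper91.KRegIdeal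

variable {X V V' : Scheme.{u}}

theorem exists_etale_chart (j : X ⟶ V') [IsImmersion j] (p : V' ⟶ V) [Smooth p]
    [IsImmersion (j ≫ p)]
    (z : X) (U : V.affineOpens) (hzU : (j ≫ p) z ∈ U.1) [IsClosedImmersion ((j ≫ p) ∣_ U.1)]
    (W' : V'.Opens) (hzW' : j z ∈ W') :
    ∃ (U₁ : V.affineOpens) (U'₁ : V'.affineOpens) (hle : U'₁.1 ≤ p ⁻¹ᵁ U₁.1),
      U₁.1 ≤ U.1 ∧ U'₁.1 ≤ W' ∧ (j ≫ p) z ∈ U₁.1 ∧ j z ∈ U'₁.1 ∧
      IsClosedImmersion ((j ≫ p) ∣_ U₁.1) ∧ IsClosedImmersion (j ∣_ U'₁.1) ∧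
      (j ≫ p) ⁻¹ᵁ U₁.1 = j ⁻¹ᵁ U'₁.1 ∧
      ∃ (n : ℕ) (θ : MvPolynomial (Fin n) Γ(V, U₁.1) →+* Γ(V', U'₁.1)),
        θ.comp MvPolynomial.C = (p.appLE U₁.1 U'₁.1 hle).hom ∧ θ.Etale := by
  have hzU' : j z ∈ p ⁻¹ᵁ U.1 := hzU
  obtain ⟨U'', hU'', hzU'', hle⟩ := exists_isAffineOpen_mem_and_subset (x := j z)
    (U := W' ⊓ p ⁻¹ᵁ U.1 ⊓ j.coborderRange)
    ⟨⟨hzW', hzU'⟩, ImmRestrict.mem_coborderRange j z⟩
  have hle1 : U'' ≤ W' := hle.trans (inf_le_left.trans inf_le_left)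
  have hle2 : U'' ≤ p ⁻¹ᵁ U.1 := hle.trans (inf_le_left.trans inf_le_right)
  have hle3 : U'' ≤ j.coborderRange := hle.trans inf_le_right
  -- the local structure of smooth algebras
  have hφ : (p.appLE U.1 U'' hle2).hom.Smooth := p.smooth_appLE U.2 hU'' hle2
  letI : Algebra Γ(V, U.1) Γ(V', U'') := (p.appLE U.1 U'' hle2).hom.toAlgebra
  haveI : Algebra.Smooth Γ(V, U.1) Γ(V', U'') := hφ
  let q₀ := hU''.primeIdealOf ⟨j z, hzU''⟩
  haveI : Algebra.IsSmoothAt Γ(V, U.1) q₀.asIdeal := by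
    have := Algebra.smoothLocus_eq_univ (R := Γ(V, U.1)) (A := Γ(V', U''))
    exact (Set.eq_univ_iff_forall.mp this) q₀
  obtain ⟨f, hf, n, alg, tower, hstd⟩ :=
    Algebra.IsSmoothAt.exists_isStandardEtale_mvPolynomial (R := Γ(V, U.1)) (S := Γ(V', U''))
      (p := q₀.asIdeal)
  letI := alg
  haveI := tower
  haveI := hstd
  have hU'₀ : IsAffineOpen (V'.basicOpen f) := hU''.basicOpen f
  have hzU'₀ : j z ∈ V'.basicOpen f := by
    have := (fromSpec_mem_basicOpen_iff hU'' q₀ f).mpr hf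
    rwa [hU''.fromSpec_primeIdealOf] at this
  have hle2' : V'.basicOpen f ≤ p ⁻¹ᵁ U.1 := (V'.basicOpen_le f).trans hle2
  haveI := hU''.isLocalization_basicOpen f
  let e : Localization.Away f ≃ₐ[Γ(V', U'')] Γ(V', V'.basicOpen f) :=
    IsLocalization.algEquiv (Submonoid.powers f) _ _
  let θ₀ : MvPolynomial (Fin n) Γ(V, U.1) →+* Γ(V', V'.basicOpen f) :=
    (e : Localization.Away f →+* Γ(V', V'.basicOpen f)).comp
      (algebraMap (MvPolynomial (Fin n) Γ(V, U.1)) (Localization.Away f))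
  have het₀ : θ₀.Etale := by
    refine RingHom.Etale.stableUnderComposition _ _ ?_ (RingHom.Etale.of_bijective e.bijective)
    exact RingHom.etale_algebraMap.mpr inferInstance
  have hθ₀ : θ₀.comp MvPolynomial.C = (p.appLE U.1 (V'.basicOpen f) hle2').hom := by
    ext x
    show e (algebraMap (MvPolynomial (Fin n) Γ(V, U.1)) (Localization.Away f)
      (MvPolynomial.C x)) = _
    have h1 : algebraMap (MvPolynomial (Fin n) Γ(V, U.1)) (Localization.Away f)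
        (MvPolynomial.C x) = algebraMap Γ(V', U'') (Localization.Away f)
          (algebraMap Γ(V, U.1) Γ(V', U'') x) := by
      rw [← MvPolynomial.algebraMap_eq, ← IsScalarTower.algebraMap_apply,
        ← IsScalarTower.algebraMap_apply]
    rw [h1, e.commutes]
    show (V'.presheaf.map (homOfLE (V'.basicOpen_le f)).op).hom
      ((p.appLE U.1 U'' hle2).hom x) = _
    rw [← CommRingCat.comp_apply, Scheme.Hom.appLE_map]
  -- the common chart
  obtain ⟨O, hO, hOeq⟩ := ((j ≫ p).isEmbedding.isInducing.isOpen_iff).mp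
    (j ⁻¹ᵁ V'.basicOpen f).2
  have hzO : (j ≫ p) z ∈ O := by
    have : z ∈ (j ≫ p) ⁻¹' O := by rw [hOeq]; exact hzU'₀
    exact this
  obtain ⟨a, ha, hza⟩ := U.2.exists_basicOpen_le (V := ⟨O, hO⟩) ⟨(j ≫ p) z, hzO⟩ hzU
  have hpre : (j ≫ p) ⁻¹ᵁ V.basicOpen a ≤ j ⁻¹ᵁ V'.basicOpen f := by
    intro x hx
    have h1 : (j ≫ p) x ∈ O := ha hx
    have h2 : x ∈ (j ≫ p) ⁻¹' O := h1
    rw [hOeq] at h2
    exact h2
  obtain ⟨hcl₁, -⟩ := KRegIdeal.chart_basicOpen (j ≫ p) U a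
  have hleb : V'.basicOpen (p.appLE U.1 (V'.basicOpen f) hle2' a) ≤ p ⁻¹ᵁ V.basicOpen a := by
    rw [Scheme.basicOpen_appLE]
    exact inf_le_right
  haveI := U.2.isLocalization_basicOpen a
  haveI := hU'₀.isLocalization_basicOpen (p.appLE U.1 (V'.basicOpen f) hle2' a)
  obtain ⟨θ₁, hθ₁, het₁⟩ := etale_poly_localize (p.appLE U.1 (V'.basicOpen f) hle2').hom n θ₀ hθ₀
    het₀ a Γ(V, V.basicOpen a) Γ(V', V'.basicOpen (p.appLE U.1 (V'.basicOpen f) hle2' a))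
  refine ⟨⟨V.basicOpen a, U.2.basicOpen a⟩,
    ⟨V'.basicOpen (p.appLE U.1 (V'.basicOpen f) hle2' a), hU'₀.basicOpen _⟩, hleb,
    V.basicOpen_le a, ?_, hza, ?_, hcl₁, ?_, ?_, n, θ₁, ?_, het₁⟩
  · exact (V'.basicOpen_le _).trans ((V'.basicOpen_le f).trans hle1)
  · show j z ∈ V'.basicOpen (p.appLE U.1 (V'.basicOpen f) hle2' a)
    rw [Scheme.basicOpen_appLE]
    exact ⟨hzU'₀, hza⟩
  · exact ImmRestrict.isClosedImmersion_restrict j _
      ((V'.basicOpen_le _).trans ((V'.basicOpen_le f).trans hle3))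
  · show _ = j ⁻¹ᵁ V'.basicOpen (p.appLE U.1 (V'.basicOpen f) hle2' a)
    rw [Scheme.basicOpen_appLE]
    apply le_antisymm
    · intro x hx
      exact ⟨hpre hx, hx⟩
    · intro x hx
      exact hx.2
  · rw [hθ₁]
    have := IsAffineOpen.appLE_eq_away_map p U.2 hU'₀ hle2' a
    exact (congrArg CommRingCat.Hom.hom this).symm

end Groth.Agent.Lib.Helper91.SmDesc
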