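import Mathlib
import Groth.Prelude.Def_RegImm
import Groth.Agent.Lib.Helper9.SmoothImm
import Groth.Agent.Lib.Helper91.SmDesc3
import Groth.Agent.Lib.Helper91.SmDesc6
import Groth.Agent.Lib.Helper91.SmDesc8
import Groth.Agent.Lib.Helper91.KDesc1
import Groth.Agent.Lib.Helper91.KRegComp1

/-!
# `k`-regular immersions descend along smooth morphisms (`k = H₁`, quasi)

`main_scheme` : if `j : X ⟶ V'` is a `k`-regular immersion and `p : V' ⟶ V` is smooth with
`j ≫ p` an immersion, then `j ≫ p` is a `k`-regular immersion.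
-/

set_option autoImplicit false
set_option linter.style.haveILetI false
universe u

open CategoryTheory CategoryTheory.Limits AlgebraicGeometry TopologicalSpace Opposite

namespace Groth.Agent.Lib.Helper91.SmDesc

open Groth.Agent.Lib.Helper9 Groth.Agent.Lib.Helper91 Groth.Agent.Lib.Helper91.KRegIdeal
  Groth.Agent.Lib.Helper91.H1Desc

variable {X V V' : Scheme.{u}} {k : RegImm.Kind}

theorem main_scheme (hk : Good.{u} k) (hk' : k ≠ RegImm.Kind.regular)
    (j : X ⟶ V') [IsImmersion j] (p : V' ⟶ V) [Smooth p] [IsImmersion (j ≫ p)]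
    (hj : RegImm.IsRegularImmersion k j) : RegImm.IsRegularImmersion k (j ≫ p) := by
  obtain ⟨-, hj⟩ := hj
  refine ⟨inferInstance, fun z => ?_⟩
  obtain ⟨U', hzU', hcl', rs, hrs, hker⟩ := hj z
  obtain ⟨U, hU, hzU, hUle⟩ := exists_isAffineOpen_mem_and_subset (x := (j ≫ p) z)
    (U := (j ≫ p).coborderRange) (ImmRestrict.mem_coborderRange _ z)
  haveI : IsClosedImmersion ((j ≫ p) ∣_ U) :=
    ImmRestrict.isClosedImmersion_restrict _ U hUle
  obtain ⟨U₁, U'₁, hle, -, hU'₁, hz₁, hz'₁, hcl₁, hcl'₁, hW, n, θ, hθ, het⟩ :=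
    exists_etale_chart j p z ⟨U, hU⟩ hzU U'.1 hzU'
  haveI := hcl₁
  haveI := hcl'₁
  obtain ⟨-, hseq, hker₁⟩ := KRegComp.shrink j k U' hcl' rs hrs hker U'₁ hU'₁ z hz'₁
  -- the ring-level data
  have hψ : Function.Surjective (j.app U'₁.1).hom := ImmStalk.app_surjective_of_restrict j U'₁
  have hi : Function.Surjective ((j ≫ p).app U₁.1).hom :=
    ImmStalk.app_surjective_of_restrict (j ≫ p) U₁
  have hcomp : p.appLE U₁.1 U'₁.1 hle ≫ j.app U'₁.1 =
      (j ≫ p).app U₁.1 ≫ X.presheaf.map (eqToHom hW.symm).op := by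
    rw [j.app_eq_appLE, Scheme.Hom.appLE_comp_appLE, Scheme.Hom.appLE]
    rfl
  haveI : IsIso (X.presheaf.map (eqToHom hW.symm).op) := inferInstance
  have hbij : Function.Bijective (X.presheaf.map (eqToHom hW.symm).op).hom :=
    ConcreteCategory.bijective_of_isIso (X.presheaf.map (eqToHom hW.symm).op)
  have hcomp' : (j.app U'₁.1).hom.comp (p.appLE U₁.1 U'₁.1 hle).hom =
      (X.presheaf.map (eqToHom hW.symm).op).hom.comp ((j ≫ p).app U₁.1).hom := by
    rw [← CommRingCat.hom_comp, ← CommRingCat.hom_comp, hcomp]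
  have hχ : Function.Surjective ((j.app U'₁.1).hom.comp (p.appLE U₁.1 U'₁.1 hle).hom) := by
    rw [hcomp']
    exact hbij.2.comp hi
  have hkerc : RingHom.ker ((j.app U'₁.1).hom.comp (p.appLE U₁.1 U'₁.1 hle).hom) =
      RingHom.ker ((j ≫ p).app U₁.1).hom := by
    rw [hcomp', RingHom.ker_comp_of_injective _ hbij.1]
  -- algebra structures
  letI : Algebra Γ(V, U₁.1) Γ(V', U'₁.1) := (p.appLE U₁.1 U'₁.1 hle).hom.toAlgebra
  letI : Algebra (MvPolynomial (Fin n) Γ(V, U₁.1)) Γ(V', U'₁.1) := θ.toAlgebra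
  haveI : IsScalarTower Γ(V, U₁.1) (MvPolynomial (Fin n) Γ(V, U₁.1)) Γ(V', U'₁.1) :=
    IsScalarTower.of_algebraMap_eq fun a => by
      rw [RingHom.algebraMap_toAlgebra, RingHom.algebraMap_toAlgebra, MvPolynomial.algebraMap_eq,
        ← hθ]
      rfl
  haveI : Algebra.Etale (MvPolynomial (Fin n) Γ(V, U₁.1)) Γ(V', U'₁.1) := het
  have hL : LocK k (RingHom.ker (j.app U'₁.1).hom) := by
    rw [hker₁]
    exact locK_ofList hk _ hseq
  have hfg : (RingHom.ker (j.app U'₁.1).hom).FG := by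
    rw [hker₁]
    exact KoszulQuot.fg_ofList _
  have hmain := main_ring hk hk' n (A := Γ(V, U₁.1)) (B := Γ(V', U'₁.1)) (j.app U'₁.1).hom hχ hfg hL
  have hK : LocK k (RingHom.ker ((j ≫ p).app U₁.1).hom) := by
    rw [← hkerc]
    exact hmain
  exact KDesc.isRegularImmersionAt_of_locK k (j ≫ p) U₁ hK z hz₁

end Groth.Agent.Lib.Helper91.SmDesc
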