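import Groth.Prelude.Def_ProEtW
import Mathlib.RingTheory.Spectrum.Prime.Topology
import Mathlib.Topology.Separation.Profinite

/-! The prime spectrum of a ring all of whose primes are incomparable is profinite. -/

universe u

namespace Groth.Agent.Lib.Helper91

open PrimeSpectrum

theorem exists_mul_pow_eq_zero {B : Type*} [CommRing B]
    (hB : ∀ q q' : PrimeSpectrum B, q.asIdeal ≤ q'.asIdeal → q = q')
    (q : PrimeSpectrum B) (f : B) (hf : f ∈ q.asIdeal) :
    ∃ s : B, s ∉ q.asIdeal ∧ ∃ n : ℕ, s * f ^ n = 0 := by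
  by_contra hcon
  push Not at hcon
  set S : Submonoid B := q.asIdeal.primeCompl ⊔ Submonoid.powers f with hS
  have hdisj : Disjoint ((⊥ : Ideal B) : Set B) (S : Set B) := by
    rw [Set.disjoint_left]
    intro x hx hxS
    have hx0 : x = 0 := hx
    rw [hx0] at hxS
    obtain ⟨y, hy, z, ⟨n, rfl⟩, hyz⟩ := Submonoid.mem_sup.mp hxS
    exact hcon y hy n hyz
  obtain ⟨P, hP, -, hPS⟩ := Ideal.exists_le_prime_disjoint ⊥ S hdisj
  have hPq : P ≤ q.asIdeal := by
    intro x hx
    by_contra hxq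
    exact Set.disjoint_left.mp hPS hx (Submonoid.mem_sup_left (show x ∈ q.asIdeal.primeCompl from hxq))
  have hPeq : (⟨P, hP⟩ : PrimeSpectrum B) = q := hB ⟨P, hP⟩ q hPq
  have hfP : f ∈ P := by
    have : f ∈ (⟨P, hP⟩ : PrimeSpectrum B).asIdeal := by rw [hPeq]; exact hf
    exact this
  exact Set.disjoint_left.mp hPS hfP (Submonoid.mem_sup_right (Submonoid.mem_powers f))

theorem t2Space_of_incomparable {B : Type*} [CommRing B]
    (hB : ∀ q q' : PrimeSpectrum B, q.asIdeal ≤ q'.asIdeal → q = q') :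
    T2Space (PrimeSpectrum B) := by
  refine ⟨fun q q' hne => ?_⟩
  have hnle : ¬ q.asIdeal ≤ q'.asIdeal := fun h => hne (hB q q' h)
  obtain ⟨f, hfq, hfq'⟩ := Set.not_subset.mp hnle
  obtain ⟨s, hs, n, hsn⟩ := exists_mul_pow_eq_zero hB q f hfq
  refine ⟨basicOpen s, basicOpen f, (basicOpen s).isOpen, (basicOpen f).isOpen, hs, hfq', ?_⟩
  have hnil : IsNilpotent (s * f) := by
    refine ⟨n + 1, ?_⟩
    calc (s * f) ^ (n + 1) = s ^ n * f * (s * f ^ n) := by ring
      _ = 0 := by rw [hsn, mul_zero]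
  rw [Set.disjoint_iff_inter_eq_empty, ← TopologicalSpace.Opens.coe_inf, ← basicOpen_mul,
    (basicOpen_eq_bot_iff (s * f)).mpr hnil]
  rfl

theorem isProfinite_of_incomparable {B : Type u} [CommRing B]
    (hB : ∀ q q' : PrimeSpectrum B, q.asIdeal ≤ q'.asIdeal → q = q') :
    ProEtW.IsProfinite (PrimeSpectrum B) := by
  have hT2 := t2Space_of_incomparable hB
  refine ⟨inferInstance, hT2, ?_⟩
  have hbasis : TopologicalSpace.IsTopologicalBasis {s : Set (PrimeSpectrum B) | IsClopen s} := by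
    refine TopologicalSpace.IsTopologicalBasis.of_isOpen_of_subset (fun u hu => hu.isOpen)
      (isTopologicalBasis_basic_opens (R := B)) ?_
    rintro _ ⟨r, rfl⟩
    exact ⟨(isCompact_basicOpen r).isClosed, (basicOpen r).isOpen⟩
  have := totallySeparatedSpace_of_t0_of_basis_clopen hbasis
  infer_instance

end Groth.Agent.Lib.Helper91
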